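import Mathlib

set_option autoImplicit false
universe u

open CategoryTheory CategoryTheory.Limits Opposite

namespace Groth.Agent.Lib.helper10.ModColim

variable {C : Type u} [SmallCategory C] {J : GrothendieckTopology C} (R : Sheaf J RingCat.{u})

/-- the forgetful functor from sheaves of modules to abelian sheaves preserves colimits -/
theorem toSheaf_preservesColimitsOfShape (K : Type u) [SmallCategory K] :
    PreservesColimitsOfShape K (SheafOfModules.toSheaf.{u} R) := by
  let L := PresheafOfModules.sheafification.{u} (𝟙 R.obj)
  let adj := PresheafOfModules.sheafificationAdjunction.{u} (𝟙 R.obj)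
  have hL : PreservesColimitsOfShape K (L ⋙ SheafOfModules.toSheaf R) :=
    preservesColimitsOfShape_of_natIso
      (PresheafOfModules.sheafificationCompToSheaf.{u} (𝟙 R.obj)).symm
  refine ⟨fun {F} => ?_⟩
  let e : F ≅ (F ⋙ SheafOfModules.forget R) ⋙ L :=
    Functor.isoWhiskerLeft F (asIso adj.counit).symm
  have : PreservesColimit ((F ⋙ SheafOfModules.forget R) ⋙ L) (SheafOfModules.toSheaf R) :=
    preservesColimit_of_preserves_colimit_cocone
      (isColimitOfPreserves L (colimit.isColimit (F ⋙ SheafOfModules.forget R)))
      (isColimitOfPreserves (L ⋙ SheafOfModules.toSheaf R) (colimit.isColimit _))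
  exact preservesColimit_of_iso_diagram _ e.symm

theorem toSheaf_preservesColimits :
    PreservesColimitsOfSize.{u, u} (SheafOfModules.toSheaf.{u} R) :=
  ⟨fun {K} _ => toSheaf_preservesColimitsOfShape R K⟩

/-- filtered colimits of sheaves of modules are exact -/
theorem hasExactColimitsOfShape (Λ : Type u) [SmallCategory Λ] [IsFiltered Λ] :
    HasExactColimitsOfShape Λ (SheafOfModules.{u} R) := by
  have := toSheaf_preservesColimitsOfShape R Λ
  have : ReflectsFiniteLimits (SheafOfModules.toSheaf.{u} R) :=
    ⟨fun K _ _ => reflectsLimitsOfShape_of_reflectsIsomorphisms⟩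
  exact HasExactColimitsOfShape.domain_of_functor Λ (SheafOfModules.toSheaf.{u} R)

end Groth.Agent.Lib.helper10.ModColim

namespace Groth.Agent.Lib.helper10.ModColim

variable {C : Type u} [SmallCategory C] {J : GrothendieckTopology C} (R : Sheaf J RingCat.{u})

/-- sheafified free modules on representables separate -/
theorem hasSeparator : HasSeparator (SheafOfModules.{u} R) := by
  let L := PresheafOfModules.sheafification.{u} (𝟙 R.obj)
  let adj := PresheafOfModules.sheafificationAdjunction.{u} (𝟙 R.obj)
  let f : C → SheafOfModules.{u} R :=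
    fun X => L.obj ((PresheafOfModules.free R.obj).obj (yoneda.obj X))
  have hS : ObjectProperty.IsSeparating (.ofObj f) := by
    intro M N φ ψ h
    apply (SheafOfModules.forget R ⋙ PresheafOfModules.restrictScalars (𝟙 R.obj)).map_injective
    apply PresheafOfModules.freeYoneda.isSeparating R.obj
    intro G hG g
    obtain ⟨X⟩ := hG
    have h1 := h (f X) ⟨X⟩ ((adj.homEquiv _ _).symm g)
    have h2 := congrArg (adj.homEquiv _ _) h1
    rw [Adjunction.homEquiv_naturality_right, Adjunction.homEquiv_naturality_right,
      Equiv.apply_symm_apply] at h2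
    exact h2
  exact ⟨∐ f, hS.isSeparator_coproduct⟩

theorem isGrothendieckAbelian : IsGrothendieckAbelian.{u} (SheafOfModules.{u} R) where
  ab5OfSize := ⟨fun Λ _ _ => hasExactColimitsOfShape R Λ⟩
  hasSeparator := hasSeparator R

theorem enoughInjectives : EnoughInjectives (SheafOfModules.{u} R) := by
  have := isGrothendieckAbelian R
  infer_instance

end Groth.Agent.Lib.helper10.ModColim
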