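import Mathlib

namespace Groth.Agent.Lib.helper10.AcycRes
open CategoryTheory Limits Opposite Abelian

universe w v u

variable {A : Type u} [Category.{v} A] [Abelian A] [HasExt.{w} A]

section
variable (P : ChainComplex A ℕ) (F : A)

/-- `B n = coker (d : P_{n+1} → P_n)` -/
noncomputable abbrev B (n : ℕ) : A := cokernel (P.d (n + 1) n)

noncomputable abbrev πB (n : ℕ) : P.X n ⟶ B P n := cokernel.π (P.d (n + 1) n)

noncomputable def ιB (n : ℕ) : B P (n + 1) ⟶ P.X n :=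
  cokernel.desc (P.d (n + 2) (n + 1)) (P.d (n + 1) n) (P.d_comp_d _ _ _)

lemma π_ι (n : ℕ) : πB P (n + 1) ≫ ιB P n = P.d (n + 1) n := cokernel.π_desc _ _ _

lemma ι_π (n : ℕ) : ιB P n ≫ πB P n = 0 := by
  rw [← cancel_epi (πB P (n + 1)), ← Category.assoc, π_ι, comp_zero]
  exact cokernel.condition _

noncomputable def T (n : ℕ) : ShortComplex A := ShortComplex.mk (ιB P n) (πB P n) (ι_π P n)

lemma T_shortExact (n : ℕ) (h : P.ExactAt (n + 1)) : (T P n).ShortExact := by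
  rw [HomologicalComplex.exactAt_iff' _ (n + 2) (n + 1) n (by simp) (by simp)] at h
  have hm : Mono (ιB P n) := (ShortComplex.exact_iff_mono_cokernel_desc _).1 h
  have he : Epi (πB P n) := inferInstance
  have hex : (T P n).Exact := by
    let S₁ : ShortComplex A := ShortComplex.mk (P.d (n + 1) n) (πB P n) (cokernel.condition _)
    have h1 : S₁.Exact := ShortComplex.exact_cokernel _
    let φ : S₁ ⟶ T P n :=
      { τ₁ := πB P (n + 1), τ₂ := 𝟙 _, τ₃ := 𝟙 _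
        comm₁₂ := by
          change πB P (n + 1) ≫ ιB P n = P.d (n + 1) n ≫ 𝟙 _
          rw [π_ι, Category.comp_id]
        comm₂₃ := by
          change 𝟙 _ ≫ πB P n = πB P n ≫ 𝟙 _
          rw [Category.id_comp, Category.comp_id] }
    have : Epi φ.τ₁ := by change Epi (πB P (n + 1)); infer_instance
    have : IsIso φ.τ₂ := by change IsIso (𝟙 _); infer_instance
    have : Mono φ.τ₃ := by change Mono (𝟙 _); infer_instance
    exact (ShortComplex.exact_iff_of_epi_of_isIso_of_mono φ).1 h1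
  exact { exact := hex, mono_f := hm, epi_g := he }


lemma subsingleton_ext_of_iso {X Y : A} (e : X ≅ Y) (n : ℕ)
    (h : Subsingleton (Ext Y F n)) : Subsingleton (Ext X F n) := by
  have h0 : ∀ a : Ext X F n, a = 0 := by
    intro a
    have h1 : (Ext.mk₀ e.hom).comp ((Ext.mk₀ e.inv).comp a (zero_add n)) (zero_add n) = a := by
      rw [Ext.mk₀_comp_mk₀_assoc, e.hom_inv_id, Ext.mk₀_id_comp]
    rw [← h1, Subsingleton.elim ((Ext.mk₀ e.inv).comp a (zero_add n)) 0, Ext.comp_zero]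
  exact ⟨fun a b => (h0 a).trans (h0 b).symm⟩

lemma H1 {S : ShortComplex A} (hS : S.ShortExact) (i : ℕ)
    (h3 : Subsingleton (Ext S.X₃ F (i + 1 + 1))) (h2 : Subsingleton (Ext S.X₂ F (i + 1))) :
    Subsingleton (Ext S.X₁ F (i + 1)) := by
  have h0 : ∀ x₁ : Ext S.X₁ F (i + 1), x₁ = 0 := by
    intro x₁
    have hx : hS.extClass.comp x₁ (show 1 + (i + 1) = i + 1 + 1 by omega) = 0 := h3.elim _ _
    obtain ⟨x₂, hx₂⟩ := Ext.contravariant_sequence_exact₁ hS F x₁ _ hx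
    rw [← hx₂, h2.elim x₂ 0, Ext.comp_zero]
  exact ⟨fun a b => (h0 a).trans (h0 b).symm⟩

lemma H2 {S : ShortComplex A} (hS : S.ShortExact) (h3 : Subsingleton (Ext S.X₃ F 1))
    (ψ : S.X₁ ⟶ F) : ∃ χ : S.X₂ ⟶ F, S.f ≫ χ = ψ := by
  have hx : hS.extClass.comp (Ext.mk₀ ψ) (rfl : 1 + 0 = 1) = 0 := h3.elim _ _
  obtain ⟨x₂, hx₂⟩ := Ext.contravariant_sequence_exact₁ hS F (Ext.mk₀ ψ) rfl hx
  obtain ⟨χ, rfl⟩ := (Ext.mk₀_bijective _ _).2 x₂
  rw [Ext.mk₀_comp_mk₀] at hx₂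
  exact ⟨χ, (Ext.mk₀_bijective _ _).1 hx₂⟩

variable (Z : A) (ε₀ : P.X 0 ⟶ Z) (hε : P.d 1 0 ≫ ε₀ = 0)

include hε in
lemma B0_isIso (hex0 : (ShortComplex.mk (P.d 1 0) ε₀ hε).Exact) [Epi ε₀] :
    IsIso (cokernel.desc (P.d 1 0) ε₀ hε) := by
  have hm : Mono (cokernel.desc (P.d 1 0) ε₀ hε) :=
    (ShortComplex.exact_iff_mono_cokernel_desc _).1 hex0
  have he : Epi (cokernel.desc (P.d 1 0) ε₀ hε) := by
    have : Epi (cokernel.π (P.d 1 0) ≫ cokernel.desc (P.d 1 0) ε₀ hε) := by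
      rw [cokernel.π_desc]; infer_instance
    exact epi_of_epi (cokernel.π (P.d 1 0)) _
  exact isIso_of_mono_of_epi _

include hε in
lemma ext_B (hex0 : (ShortComplex.mk (P.d 1 0) ε₀ hε).Exact) [Epi ε₀]
    (hP : ∀ n i, Subsingleton (Ext (P.X n) F (i + 1)))
    (hZ : ∀ i, Subsingleton (Ext Z F (i + 1))) (hex : ∀ n, P.ExactAt (n + 1)) :
    ∀ n i, Subsingleton (Ext (B P n) F (i + 1)) := by
  intro n
  induction n with
  | zero =>
    intro i
    have := B0_isIso P Z ε₀ hε hex0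
    exact subsingleton_ext_of_iso F (asIso (cokernel.desc (P.d 1 0) ε₀ hε)) (i + 1) (hZ i)
  | succ n ih =>
    intro i
    have hS := T_shortExact P n (hex n)
    exact H1 F hS i (ih (i + 1)) (hP n i)

include hε in
theorem lift (hex0 : (ShortComplex.mk (P.d 1 0) ε₀ hε).Exact) [Epi ε₀]
    (hP : ∀ n i, Subsingleton (Ext (P.X n) F (i + 1)))
    (hZ : ∀ i, Subsingleton (Ext Z F (i + 1))) (hex : ∀ n, P.ExactAt (n + 1))
    (q : ℕ) (φ : P.X (q + 1) ⟶ F) (hφ : P.d (q + 2) (q + 1) ≫ φ = 0) :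
    ∃ χ : P.X q ⟶ F, P.d (q + 1) q ≫ χ = φ := by
  let ψ : B P (q + 1) ⟶ F := cokernel.desc _ φ hφ
  have hS := T_shortExact P q (hex q)
  obtain ⟨χ, h2⟩ : ∃ χ : P.X q ⟶ F, ιB P q ≫ χ = ψ :=
    H2 F hS (ext_B P F Z ε₀ hε hex0 hP hZ hex q 0) ψ
  refine ⟨χ, ?_⟩
  rw [← π_ι, Category.assoc, h2]
  exact cokernel.π_desc _ _ _

end
end Groth.Agent.Lib.helper10.AcycRes
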