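import Mathlib
import Groth.Agent.Lib.helper10.AcycRes

namespace Groth.Agent.Lib.helper10.AcycRes2
open CategoryTheory Limits Opposite Abelian
open Groth.Agent.Lib.helper10.AcycRes

universe w v u

variable {A : Type u} [Category.{v} A] [Abelian A] [HasExt.{w} A]
lemma H3 {S : ShortComplex A} (hS : S.ShortExact) (F : A) (x₃ : Ext S.X₃ F 1)
    (hx : (Ext.mk₀ S.g).comp x₃ (zero_add 1) = 0) :
    ∃ ψ : S.X₁ ⟶ F, hS.extClass.comp (Ext.mk₀ ψ) (rfl : 1 + 0 = 1) = x₃ := by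
  obtain ⟨x₁, hx₁⟩ := Ext.contravariant_sequence_exact₃ hS F x₃ hx (rfl : 1 + 0 = 1)
  obtain ⟨ψ, rfl⟩ := (Ext.mk₀_bijective _ _).2 x₁
  exact ⟨ψ, hx₁⟩

lemma H4 {S : ShortComplex A} (hS : S.ShortExact) (F : A) (χ : S.X₂ ⟶ F) :
    hS.extClass.comp (Ext.mk₀ (S.f ≫ χ)) (rfl : 1 + 0 = 1) = 0 := by
  rw [← Ext.mk₀_comp_mk₀, ← Ext.comp_assoc _ _ _ (rfl : 1 + 0 = 1) (zero_add 0) (by rfl)]
  have : hS.extClass.comp (Ext.mk₀ S.f) (rfl : 1 + 0 = 1) = 0 := hS.extClass_comp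
  rw [this, Ext.zero_comp]

variable (P : ChainComplex A ℕ) (F : A) (Z : A) (ε₀ : P.X 0 ⟶ Z) (hε : P.d 1 0 ≫ ε₀ = 0)

include hε in
/-- if degree-one cocycles of `Hom(P, F)` are coboundaries, restriction `Ext¹(Z,F) → Ext¹(P₀,F)`
is injective. -/
theorem restr_injective (hex0 : (ShortComplex.mk (P.d 1 0) ε₀ hε).Exact) [Epi ε₀]
    (hex1 : P.ExactAt 1)
    (hl : ∀ φ : P.X 1 ⟶ F, P.d 2 1 ≫ φ = 0 → ∃ χ : P.X 0 ⟶ F, P.d 1 0 ≫ χ = φ)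
    (x : Ext Z F 1) (hx : (Ext.mk₀ ε₀).comp x (zero_add 1) = 0) : x = 0 := by
  have hiso := B0_isIso P Z ε₀ hε hex0
  let e : B P 0 ≅ Z := asIso (cokernel.desc (P.d 1 0) ε₀ hε)
  have hS := T_shortExact P 0 hex1
  -- transport `x` to `B P 0`
  let x' : Ext (B P 0) F 1 := (Ext.mk₀ e.hom).comp x (zero_add 1)
  have hx' : (Ext.mk₀ (πB P 0)).comp x' (zero_add 1) = 0 := by
    have : πB P 0 ≫ e.hom = ε₀ := cokernel.π_desc _ _ _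
    rw [Ext.mk₀_comp_mk₀_assoc, this]
    exact hx
  obtain ⟨ψ, hψ₁⟩ : ∃ ψ : B P 1 ⟶ F, hS.extClass.comp (Ext.mk₀ ψ) (rfl : 1 + 0 = 1) = x' :=
    H3 hS F x' hx'
  have hc : P.d 2 1 ≫ (πB P 1 ≫ ψ) = 0 := by
    rw [← Category.assoc]
    have : P.d 2 1 ≫ πB P 1 = 0 := cokernel.condition _
    rw [this, zero_comp]
  obtain ⟨χ, hχ⟩ := hl (πB P 1 ≫ ψ) hc
  have hψ : ψ = ιB P 0 ≫ χ := by
    rw [← cancel_epi (πB P 1), ← Category.assoc, π_ι, hχ]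
  have h0 : x' = 0 := by
    rw [← hψ₁, hψ]
    exact H4 hS F χ
  have : x = (Ext.mk₀ e.inv).comp x' (zero_add 1) := by
    rw [Ext.mk₀_comp_mk₀_assoc, e.inv_hom_id, Ext.mk₀_id_comp]
  rw [this, h0, Ext.comp_zero]

end Groth.Agent.Lib.helper10.AcycRes2
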