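import Mathlib.Tactic
import Groth.Prelude.Def_FibCat2

/-!
# The fibre product `𝒳 ×_C 𝒴` of two categories over `C` (helper10)
-/

set_option autoImplicit false
open CategoryTheory
universe v u v₂ u₂ v₃ u₃
open FibCat

namespace Groth.Agent.Lib.helper10.FpSelf

variable {C : Type u} [Category.{v} C]

/-- cartesian over `f` implies cartesian over the image. -/
lemma cart_map_of_cart {𝒵 : Type*} [Category 𝒵] (p : 𝒵 ⥤ C) {R S : C} (f : R ⟶ S) {a b : 𝒵}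
    (φ : a ⟶ b) (h : p.IsCartesian f φ) : p.IsCartesian (p.map φ) φ := by
  have hl : p.IsHomLift f φ := inferInstance
  obtain ⟨⟩ := hl
  exact h

/-- cartesian over the image and lifting `f` implies cartesian over `f`. -/
lemma cart_of_cart_map {𝒵 : Type*} [Category 𝒵] (p : 𝒵 ⥤ C) {R S : C} (f : R ⟶ S) {a b : 𝒵}
    (φ : a ⟶ b) [hl : p.IsHomLift f φ] (h : p.IsCartesian (p.map φ) φ) :
    p.IsCartesian f φ := by
  obtain ⟨⟩ := hl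
  exact h

/-- two morphisms of `C` lifting (for the identity functor) the same morphism are equal -/
lemma self_eq {R S : C} (w : R ⟶ S) {A B : C} (m₁ m₂ : A ⟶ B)
    [h1 : (FibCat.selfOver C).p.IsHomLift w m₁] [h2 : (FibCat.selfOver C).p.IsHomLift w m₂] :
    m₁ = m₂ :=
  (IsHomLift.fac' (FibCat.selfOver C).p w m₁).trans (IsHomLift.fac' (FibCat.selfOver C).p w m₂).symm

variable {𝒳 : BasedCategory.{v₂, u₂} C} {𝒴 : BasedCategory.{v₃, u₃} C}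

/-- the fibre product -/
abbrev FP (𝒳 : BasedCategory.{v₂, u₂} C) (𝒴 : BasedCategory.{v₃, u₃} C) :=
  FibCat.fp (FibCat.toSelf 𝒳) (FibCat.toSelf 𝒴)

lemma lift_iff {R S : C} (f : R ⟶ S) {a b : (FP 𝒳 𝒴).obj} (Ψ : a ⟶ b) :
    (FP 𝒳 𝒴).p.IsHomLift f Ψ ↔ 𝒳.p.IsHomLift f Ψ.hom.fst := by
  constructor
  · intro h
    have h1 := IsHomLift.domain_eq (FP 𝒳 𝒴).p f Ψ
    have h2 := IsHomLift.codomain_eq (FP 𝒳 𝒴).p f Ψ
    have h3 := IsHomLift.fac' (FP 𝒳 𝒴).p f Ψ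
    exact IsHomLift.of_fac' 𝒳.p f Ψ.hom.fst h1 h2 h3
  · intro h
    have h1 := IsHomLift.domain_eq 𝒳.p f Ψ.hom.fst
    have h2 := IsHomLift.codomain_eq 𝒳.p f Ψ.hom.fst
    have h3 := IsHomLift.fac' 𝒳.p f Ψ.hom.fst
    exact IsHomLift.of_fac' (FP 𝒳 𝒴).p f Ψ h1 h2 h3

lemma lift_snd {R S : C} (f : R ⟶ S) {a b : (FP 𝒳 𝒴).obj} (Ψ : a ⟶ b)
    (h : (FP 𝒳 𝒴).p.IsHomLift f Ψ) : 𝒴.p.IsHomLift f Ψ.hom.snd := by
  obtain ⟨⟩ := h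
  exact FibCat.fp_isHomLift_snd (FibCat.toSelf 𝒳) (FibCat.toSelf 𝒴) Ψ

lemma iso_lift (t : (FP 𝒳 𝒴).obj) :
    (FibCat.selfOver C).p.IsHomLift (𝟙 (𝒳.p.obj t.obj.fst)) t.obj.iso.hom := t.property

lemma snd_proj (t : (FP 𝒳 𝒴).obj) : 𝒴.p.obj t.obj.snd = 𝒳.p.obj t.obj.fst := by
  have h := iso_lift t
  exact @IsHomLift.codomain_eq _ _ _ _ (FibCat.selfOver C).p _ _ _ _ _ _ h

/-- the compatibility square is automatic -/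
lemma w_of_lift {R S : C} (f : R ⟶ S) (x y : (FP 𝒳 𝒴).obj) (a : x.obj.fst ⟶ y.obj.fst)
    (b : x.obj.snd ⟶ y.obj.snd) [𝒳.p.IsHomLift f a] [𝒴.p.IsHomLift f b] :
    (FibCat.toSelf 𝒳).map a ≫ y.obj.iso.hom = x.obj.iso.hom ≫ (FibCat.toSelf 𝒴).map b := by
  have hx := iso_lift x
  have hy := iso_lift y
  have h1 : (FibCat.selfOver C).p.IsHomLift f ((FibCat.toSelf 𝒳).map a) := inferInstance
  have h2 : (FibCat.selfOver C).p.IsHomLift f ((FibCat.toSelf 𝒴).map b) := inferInstance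
  have l1 : (FibCat.selfOver C).p.IsHomLift f ((FibCat.toSelf 𝒳).map a ≫ y.obj.iso.hom) :=
    IsHomLift.comp_lift_id_right' (FibCat.selfOver C).p f ((FibCat.toSelf 𝒳).map a)
      (𝒳.p.obj y.obj.fst) y.obj.iso.hom
  have l2 : (FibCat.selfOver C).p.IsHomLift f (x.obj.iso.hom ≫ (FibCat.toSelf 𝒴).map b) :=
    IsHomLift.comp_lift_id_left' (FibCat.selfOver C).p (𝒳.p.obj x.obj.fst) x.obj.iso.hom f
      ((FibCat.toSelf 𝒴).map b)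
  exact self_eq f _ _

/-- construct a morphism of the fibre product from two morphisms over the same `f` -/
def mkHom {R S : C} (f : R ⟶ S) (x y : (FP 𝒳 𝒴).obj) (a : x.obj.fst ⟶ y.obj.fst)
    (b : x.obj.snd ⟶ y.obj.snd) [𝒳.p.IsHomLift f a] [𝒴.p.IsHomLift f b] : x ⟶ y :=
  ObjectProperty.homMk
    ({ fst := a, snd := b, w := w_of_lift f x y a b } :
      Limits.CategoricalPullback.Hom (F := (FibCat.toSelf 𝒳).toFunctor)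
        (G := (FibCat.toSelf 𝒴).toFunctor) x.obj y.obj)

@[simp] lemma mkHom_fst {R S : C} (f : R ⟶ S) (x y : (FP 𝒳 𝒴).obj) (a : x.obj.fst ⟶ y.obj.fst)
    (b : x.obj.snd ⟶ y.obj.snd) [𝒳.p.IsHomLift f a] [𝒴.p.IsHomLift f b] :
    (mkHom f x y a b).hom.fst = a := rfl

@[simp] lemma mkHom_snd {R S : C} (f : R ⟶ S) (x y : (FP 𝒳 𝒴).obj) (a : x.obj.fst ⟶ y.obj.fst)
    (b : x.obj.snd ⟶ y.obj.snd) [𝒳.p.IsHomLift f a] [𝒴.p.IsHomLift f b] :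
    (mkHom f x y a b).hom.snd = b := rfl

/-- construct an object of the fibre product from two objects over the same object of `C` -/
def mkObj (x₁ : 𝒳.obj) (x₂ : 𝒴.obj) (h : 𝒳.p.obj x₁ = 𝒴.p.obj x₂) : (FP 𝒳 𝒴).obj :=
  ⟨⟨x₁, x₂, eqToIso h⟩, by
    change (FibCat.selfOver C).p.IsHomLift (𝟙 (𝒳.p.obj x₁)) (eqToHom h)
    exact IsHomLift.eqToHom_domain_lift_id h rfl⟩

@[simp] lemma mkObj_fst (x₁ : 𝒳.obj) (x₂ : 𝒴.obj) (h : 𝒳.p.obj x₁ = 𝒴.p.obj x₂) :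
    (mkObj x₁ x₂ h).obj.fst = x₁ := rfl

@[simp] lemma mkObj_snd (x₁ : 𝒳.obj) (x₂ : 𝒴.obj) (h : 𝒳.p.obj x₁ = 𝒴.p.obj x₂) :
    (mkObj x₁ x₂ h).obj.snd = x₂ := rfl

/-- componentwise cartesian implies cartesian -/
theorem isCartesian_of_components {R S : C} (f : R ⟶ S) {x y : (FP 𝒳 𝒴).obj} (φ : x ⟶ y)
    (h1 : 𝒳.p.IsCartesian f φ.hom.fst) (h2 : 𝒴.p.IsCartesian f φ.hom.snd) :
    (FP 𝒳 𝒴).p.IsCartesian f φ := by
  have hφ : (FP 𝒳 𝒴).p.IsHomLift f φ := (lift_iff f φ).2 inferInstance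
  refine { toIsHomLift := hφ, universal_property := ?_ }
  intro z ψ hψ
  have hψ1 : 𝒳.p.IsHomLift f ψ.hom.fst := (lift_iff f ψ).1 hψ
  have hψ2 : 𝒴.p.IsHomLift f ψ.hom.snd := lift_snd f ψ hψ
  let χ₁ : z.obj.fst ⟶ x.obj.fst := Functor.IsCartesian.map 𝒳.p f φ.hom.fst ψ.hom.fst
  let χ₂ : z.obj.snd ⟶ x.obj.snd := Functor.IsCartesian.map 𝒴.p f φ.hom.snd ψ.hom.snd
  have hχ₁ : 𝒳.p.IsHomLift (𝟙 R) χ₁ := Functor.IsCartesian.map_isHomLift 𝒳.p f φ.hom.fst ψ.hom.fst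
  have hχ₂ : 𝒴.p.IsHomLift (𝟙 R) χ₂ := Functor.IsCartesian.map_isHomLift 𝒴.p f φ.hom.snd ψ.hom.snd
  have e₁ : χ₁ ≫ φ.hom.fst = ψ.hom.fst := Functor.IsCartesian.fac 𝒳.p f φ.hom.fst ψ.hom.fst
  have e₂ : χ₂ ≫ φ.hom.snd = ψ.hom.snd := Functor.IsCartesian.fac 𝒴.p f φ.hom.snd ψ.hom.snd
  refine ⟨mkHom (𝟙 R) z x χ₁ χ₂, ⟨(lift_iff _ _).2 hχ₁, ?_⟩, ?_⟩
  · apply ObjectProperty.hom_ext
    apply Limits.CategoricalPullback.hom_ext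
    · exact e₁
    · exact e₂
  · rintro χ' ⟨hl, he⟩
    have hl1 : 𝒳.p.IsHomLift (𝟙 R) χ'.hom.fst := (lift_iff _ χ').1 hl
    have hl2 : 𝒴.p.IsHomLift (𝟙 R) χ'.hom.snd := lift_snd _ χ' hl
    have he1 : χ'.hom.fst ≫ φ.hom.fst = ψ.hom.fst := congrArg (fun m => m.hom.fst) he
    have he2 : χ'.hom.snd ≫ φ.hom.snd = ψ.hom.snd := congrArg (fun m => m.hom.snd) he
    apply ObjectProperty.hom_ext
    apply Limits.CategoricalPullback.hom_ext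
    · exact Functor.IsCartesian.map_uniq 𝒳.p f φ.hom.fst ψ.hom.fst χ'.hom.fst he1
    · exact Functor.IsCartesian.map_uniq 𝒴.p f φ.hom.snd ψ.hom.snd χ'.hom.snd he2

/-- first component of a cartesian morphism is cartesian -/
theorem fst_isCartesian {R S : C} (f : R ⟶ S) {x y : (FP 𝒳 𝒴).obj} (φ : x ⟶ y)
    (hc : (FP 𝒳 𝒴).p.IsCartesian f φ) : 𝒳.p.IsCartesian f φ.hom.fst := by
  have hφ1 : 𝒳.p.IsHomLift f φ.hom.fst := (lift_iff f φ).1 inferInstance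
  have hφ2 : 𝒴.p.IsHomLift f φ.hom.snd := lift_snd f φ inferInstance
  have hxR : 𝒳.p.obj x.obj.fst = R := IsHomLift.domain_eq 𝒳.p f φ.hom.fst
  refine { toIsHomLift := hφ1, universal_property := ?_ }
  intro z₁ ψ₁ hψ₁
  have hz : 𝒳.p.obj z₁ = 𝒴.p.obj x.obj.snd :=
    (IsHomLift.domain_eq 𝒳.p f ψ₁).trans (hxR.symm.trans (snd_proj x).symm)
  let z : (FP 𝒳 𝒴).obj := mkObj z₁ x.obj.snd hz
  let ψ : z ⟶ y := @mkHom _ _ _ _ _ _ f z y ψ₁ φ.hom.snd hψ₁ hφ2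
  have hψ : (FP 𝒳 𝒴).p.IsHomLift f ψ := (lift_iff f ψ).2 hψ₁
  obtain ⟨χ, ⟨hχ1, hχ2⟩, hχu⟩ := hc.universal_property ψ
  refine ⟨χ.hom.fst, ⟨(lift_iff _ χ).1 hχ1, congrArg (fun m => m.hom.fst) hχ2⟩, ?_⟩
  rintro χ₁' ⟨hl, he⟩
  have hid : 𝒴.p.IsHomLift (𝟙 R) (𝟙 x.obj.snd) := IsHomLift.id ((snd_proj x).trans hxR)
  let χ' : z ⟶ x := @mkHom _ _ _ _ _ _ (𝟙 R) z x χ₁' (𝟙 x.obj.snd) hl hid
  have hχ' : χ' = χ := by
    apply hχu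
    refine ⟨(lift_iff _ χ').2 hl, ?_⟩
    apply ObjectProperty.hom_ext
    apply Limits.CategoricalPullback.hom_ext
    · exact he
    · exact Category.id_comp _
  exact congrArg (fun m => m.hom.fst) hχ'

/-- second component of a cartesian morphism is cartesian -/
theorem snd_isCartesian {R S : C} (f : R ⟶ S) {x y : (FP 𝒳 𝒴).obj} (φ : x ⟶ y)
    (hc : (FP 𝒳 𝒴).p.IsCartesian f φ) : 𝒴.p.IsCartesian f φ.hom.snd := by
  have hφ1 : 𝒳.p.IsHomLift f φ.hom.fst := (lift_iff f φ).1 inferInstance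
  have hφ2 : 𝒴.p.IsHomLift f φ.hom.snd := lift_snd f φ inferInstance
  have hxR : 𝒳.p.obj x.obj.fst = R := IsHomLift.domain_eq 𝒳.p f φ.hom.fst
  refine { toIsHomLift := hφ2, universal_property := ?_ }
  intro z₂ ψ₂ hψ₂
  have hz : 𝒳.p.obj x.obj.fst = 𝒴.p.obj z₂ :=
    hxR.trans (IsHomLift.domain_eq 𝒴.p f ψ₂).symm
  let z : (FP 𝒳 𝒴).obj := mkObj x.obj.fst z₂ hz
  let ψ : z ⟶ y := @mkHom _ _ _ _ _ _ f z y φ.hom.fst ψ₂ hφ1 hψ₂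
  have hψ : (FP 𝒳 𝒴).p.IsHomLift f ψ := (lift_iff f ψ).2 hφ1
  obtain ⟨χ, ⟨hχ1, hχ2⟩, hχu⟩ := hc.universal_property ψ
  refine ⟨χ.hom.snd, ⟨lift_snd _ χ hχ1, congrArg (fun m => m.hom.snd) hχ2⟩, ?_⟩
  rintro χ₂' ⟨hl, he⟩
  have hid : 𝒳.p.IsHomLift (𝟙 R) (𝟙 x.obj.fst) := IsHomLift.id hxR
  let χ' : z ⟶ x := @mkHom _ _ _ _ _ _ (𝟙 R) z x (𝟙 x.obj.fst) χ₂' hid hl
  have hχ' : χ' = χ := by
    apply hχu
    refine ⟨(lift_iff _ χ').2 hid, ?_⟩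
    apply ObjectProperty.hom_ext
    apply Limits.CategoricalPullback.hom_ext
    · exact Category.id_comp _
    · exact he
  exact congrArg (fun m => m.hom.snd) hχ'

theorem isCartesian_iff {x y : (FP 𝒳 𝒴).obj} (φ : x ⟶ y) :
    (FP 𝒳 𝒴).p.IsCartesian ((FP 𝒳 𝒴).p.map φ) φ ↔
      𝒳.p.IsCartesian (𝒳.p.map φ.hom.fst) φ.hom.fst ∧
        𝒴.p.IsCartesian (𝒴.p.map φ.hom.snd) φ.hom.snd := by
  have hφ2 : 𝒴.p.IsHomLift (𝒳.p.map φ.hom.fst) φ.hom.snd :=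
    FibCat.fp_isHomLift_snd (FibCat.toSelf 𝒳) (FibCat.toSelf 𝒴) φ
  constructor
  · intro hc
    exact ⟨fst_isCartesian (𝒳.p.map φ.hom.fst) φ hc,
      cart_map_of_cart 𝒴.p _ _ (snd_isCartesian (𝒳.p.map φ.hom.fst) φ hc)⟩
  · rintro ⟨h1, h2⟩
    exact isCartesian_of_components (𝒳.p.map φ.hom.fst) φ h1
      (cart_of_cart_map 𝒴.p (𝒳.p.map φ.hom.fst) φ.hom.snd h2)

theorem isPreFibered (h𝒳 : 𝒳.p.IsPreFibered) (h𝒴 : 𝒴.p.IsPreFibered) :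
    (FP 𝒳 𝒴).p.IsPreFibered := by
  constructor
  intro y R f
  change R ⟶ 𝒳.p.obj y.obj.fst at f
  obtain ⟨x₁, φ₁, h₁⟩ := IsPreFibered.exists_isCartesian 𝒳.p (rfl : 𝒳.p.obj y.obj.fst = _) f
  obtain ⟨x₂, φ₂, h₂⟩ := IsPreFibered.exists_isCartesian 𝒴.p (snd_proj y) f
  have hx : 𝒳.p.obj x₁ = 𝒴.p.obj x₂ :=
    (IsHomLift.domain_eq 𝒳.p f φ₁).trans (IsHomLift.domain_eq 𝒴.p f φ₂).symm
  let x : (FP 𝒳 𝒴).obj := mkObj x₁ x₂ hx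
  let φ : x ⟶ y := @mkHom _ _ _ _ _ _ f x y φ₁ φ₂ h₁.toIsHomLift h₂.toIsHomLift
  exact ⟨x, φ, isCartesian_of_components f φ h₁ h₂⟩

theorem isFibered (h𝒳 : 𝒳.p.IsFibered) (h𝒴 : 𝒴.p.IsFibered) : (FP 𝒳 𝒴).p.IsFibered :=
  { toIsPreFibered := isPreFibered h𝒳.toIsPreFibered h𝒴.toIsPreFibered
    comp := fun {_ _ _} f g {a b c} φ ψ hφ hψ => by
      have a1 := fst_isCartesian f φ hφ
      have a2 := snd_isCartesian f φ hφ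
      have b1 := fst_isCartesian g ψ hψ
      have b2 := snd_isCartesian g ψ hψ
      have c1 : 𝒳.p.IsCartesian (f ≫ g) (φ.hom.fst ≫ ψ.hom.fst) := inferInstance
      have c2 : 𝒴.p.IsCartesian (f ≫ g) (φ.hom.snd ≫ ψ.hom.snd) := inferInstance
      exact isCartesian_of_components (f ≫ g) (φ ≫ ψ) c1 c2 }

end Groth.Agent.Lib.helper10.FpSelf
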