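import Mathlib.CategoryTheory.FiberedCategory.BasedCategory
import Mathlib.CategoryTheory.FiberedCategory.Fibered
import Mathlib.CategoryTheory.Equivalence
import Groth.Prelude.Def_FibCat2

/-!
# Equivalences over `C` (helper10 library)

Data extracted from `FibCat.IsEquivOver F`: the underlying functor is an equivalence of categories and
every object of the target is isomorphic, over an identity, to an object in the image.
-/

set_option autoImplicit false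
universe v u v₂ u₂ v₃ u₃

open CategoryTheory CategoryTheory.Functor

namespace Groth.Agent.Lib.helper10.EquivOver

variable {C : Type u} [Category.{v} C] {𝒳 : BasedCategory.{v₂, u₂} C} {𝒴 : BasedCategory.{v₃, u₃} C}

theorem isEquivalence (F : 𝒳 ⥤ᵇ 𝒴) (hF : FibCat.IsEquivOver F) : F.toFunctor.IsEquivalence := by
  obtain ⟨G, ⟨η⟩, ⟨ε⟩⟩ := hF
  let η' : F.toFunctor ⋙ G.toFunctor ≅ 𝟭 𝒳.obj := (BasedNatTrans.forgetful 𝒳 𝒳).mapIso η
  let ε' : G.toFunctor ⋙ F.toFunctor ≅ 𝟭 𝒴.obj := (BasedNatTrans.forgetful 𝒴 𝒴).mapIso ε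
  exact (CategoryTheory.Equivalence.mk F.toFunctor G.toFunctor η'.symm ε').isEquivalence_functor

theorem exists_iso (F : 𝒳 ⥤ᵇ 𝒴) (hF : FibCat.IsEquivOver F) (a' : 𝒴.obj) :
    ∃ (a₀ : 𝒳.obj) (θ : F.obj a₀ ≅ a'), 𝒴.p.IsHomLift (𝟙 (𝒴.p.obj a')) θ.hom := by
  obtain ⟨G, ⟨η⟩, ⟨ε⟩⟩ := hF
  let ε' : G.toFunctor ⋙ F.toFunctor ≅ 𝟭 𝒴.obj := (BasedNatTrans.forgetful 𝒴 𝒴).mapIso ε
  refine ⟨G.obj a', ε'.app a', ?_⟩
  exact ε.hom.isHomLift' a'

end Groth.Agent.Lib.helper10.EquivOver
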