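import Mathlib.Tactic
import Groth.Agent.Lib.helper10.EquivOver

/-!
# A fully faithful functor over `C` which is essentially surjective over identities is an
equivalence over `C` (helper10)
-/

set_option autoImplicit false
universe v u v₂ u₂ v₃ u₃

open CategoryTheory CategoryTheory.Functor

namespace Groth.Agent.Lib.helper10.EquivCore

variable {C : Type u} [Category.{v} C] {𝒳 : BasedCategory.{v₂, u₂} C} {𝒴 : BasedCategory.{v₃, u₃} C}

variable (F : 𝒳 ⥤ᵇ 𝒴) [F.toFunctor.Full] [F.toFunctor.Faithful]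
  (hes : ∀ y : 𝒴.obj, ∃ (x : 𝒳.obj) (e : F.obj x ≅ y), 𝒴.p.IsHomLift (𝟙 (𝒴.p.obj y)) e.hom)

/-- chosen preimage object -/
noncomputable def invObj (y : 𝒴.obj) : 𝒳.obj := (hes y).choose

/-- chosen isomorphism -/
noncomputable def invIso (y : 𝒴.obj) : F.obj (invObj F hes y) ≅ y :=
  (hes y).choose_spec.choose

instance invIso_lift (y : 𝒴.obj) : 𝒴.p.IsHomLift (𝟙 (𝒴.p.obj y)) (invIso F hes y).hom :=
  (hes y).choose_spec.choose_spec

instance invIso_lift_inv (y : 𝒴.obj) : 𝒴.p.IsHomLift (𝟙 (𝒴.p.obj y)) (invIso F hes y).inv :=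
  IsHomLift.lift_id_inv 𝒴.p (𝒴.p.obj y) (invIso F hes y)

lemma invObj_proj (y : 𝒴.obj) : 𝒳.p.obj (invObj F hes y) = 𝒴.p.obj y :=
  (F.w_obj _).symm.trans (IsHomLift.domain_eq 𝒴.p (𝟙 (𝒴.p.obj y)) (invIso F hes y).hom)

/-- the morphism `F (G y) ⟶ F (G y')` induced by `θ : y ⟶ y'`. -/
noncomputable def invMapAux {y y' : 𝒴.obj} (θ : y ⟶ y') :
    F.toFunctor.obj (invObj F hes y) ⟶ F.toFunctor.obj (invObj F hes y') :=
  (invIso F hes y).hom ≫ θ ≫ (invIso F hes y').inv

instance invMapAux_lift {y y' : 𝒴.obj} (θ : y ⟶ y') :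
    𝒴.p.IsHomLift (𝒴.p.map θ) (invMapAux F hes θ) := by
  unfold invMapAux
  have h1 : 𝒴.p.IsHomLift (𝒴.p.map θ) (θ ≫ (invIso F hes y').inv) :=
    IsHomLift.comp_lift_id_right' 𝒴.p (𝒴.p.map θ) θ (𝒴.p.obj y') (invIso F hes y').inv
  exact IsHomLift.comp_lift_id_left' 𝒴.p (𝒴.p.obj y) (invIso F hes y).hom (𝒴.p.map θ) _

/-- The inverse functor over `C`. -/
noncomputable def inv : 𝒴 ⥤ᵇ 𝒳 where
  toFunctor :=
    { obj := fun y => invObj F hes y
      map := fun {y y'} θ => F.toFunctor.preimage (invMapAux F hes θ)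
      map_id := fun y => by
        apply F.toFunctor.map_injective
        simp [invMapAux]
      map_comp := fun {y y' y''} θ θ' => by
        apply F.toFunctor.map_injective
        simp [invMapAux] }
  w := by
    refine CategoryTheory.Functor.ext (fun y => invObj_proj F hes y) (fun y y' θ => ?_)
    have h : 𝒳.p.IsHomLift (𝒴.p.map θ) (F.toFunctor.preimage (invMapAux F hes θ)) := by
      rw [← BasedFunctor.isHomLift_iff F]
      rw [Functor.map_preimage]
      infer_instance
    exact IsHomLift.fac' 𝒳.p (𝒴.p.map θ) (F.toFunctor.preimage (invMapAux F hes θ))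

@[simp] lemma inv_obj (y : 𝒴.obj) : (inv F hes).obj y = invObj F hes y := rfl

lemma map_inv_map {y y' : 𝒴.obj} (θ : y ⟶ y') :
    F.toFunctor.map ((inv F hes).toFunctor.map θ) = invMapAux F hes θ :=
  Functor.map_preimage _ _

/-- `G ⋙ F ≅ 𝟭` -/
noncomputable def counit : BasedFunctor.comp (inv F hes) F ≅ BasedFunctor.id 𝒴 :=
  BasedNatIso.mkNatIso
    (NatIso.ofComponents (fun y => invIso F hes y) (fun {y y'} θ => by
      change F.toFunctor.map ((inv F hes).toFunctor.map θ) ≫ (invIso F hes y').hom = (invIso F hes y).hom ≫ θ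
      rw [map_inv_map]
      simp [invMapAux]))
    (fun y => by
      change 𝒴.p.IsHomLift (𝟙 (𝒴.p.obj y)) (invIso F hes y).hom
      infer_instance)

/-- component of the unit -/
noncomputable def unitIso (x : 𝒳.obj) : (inv F hes).toFunctor.obj (F.toFunctor.obj x) ≅ x :=
  F.toFunctor.preimageIso (invIso F hes (F.obj x))

lemma map_unitIso_hom (x : 𝒳.obj) :
    F.toFunctor.map (unitIso F hes x).hom = (invIso F hes (F.obj x)).hom := by
  simp [unitIso]

/-- `F ⋙ G ≅ 𝟭` -/
noncomputable def unit : BasedFunctor.comp F (inv F hes) ≅ BasedFunctor.id 𝒳 :=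
  BasedNatIso.mkNatIso
    (NatIso.ofComponents (fun x => unitIso F hes x) (fun {x x'} φ => by
      apply F.toFunctor.map_injective
      change F.toFunctor.map ((inv F hes).toFunctor.map (F.toFunctor.map φ) ≫ (unitIso F hes x').hom) =
        F.toFunctor.map ((unitIso F hes x).hom ≫ φ)
      rw [Functor.map_comp, Functor.map_comp, map_inv_map, map_unitIso_hom, map_unitIso_hom]
      simp [invMapAux]))
    (fun x => by
      change 𝒳.p.IsHomLift (𝟙 (𝒳.p.obj x)) (unitIso F hes x).hom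
      rw [← BasedFunctor.isHomLift_iff F]
      rw [map_unitIso_hom, ← F.w_obj x]
      exact invIso_lift F hes (F.obj x))

include hes in
theorem isEquivOver : FibCat.IsEquivOver F :=
  ⟨inv F hes, ⟨unit F hes⟩, ⟨counit F hes⟩⟩

end Groth.Agent.Lib.helper10.EquivCore
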