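import Mathlib.Tactic
import Mathlib.CategoryTheory.FiberedCategory.BasedCategory

/-!
# Vertical morphisms (morphisms lying over some identity), helper10 library
-/

set_option autoImplicit false
universe v u v₂ u₂ v₃ u₃

open CategoryTheory

namespace Groth.Agent.Lib.helper10.Vert

variable {C : Type u} [Category.{v} C]

section
variable {𝒳 : Type u₂} [Category.{v₂} 𝒳] (p : 𝒳 ⥤ C)

/-- `φ` lies over an identity of `C` -/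
def IsVert {a b : 𝒳} (φ : a ⟶ b) : Prop := ∃ h : p.obj a = p.obj b, p.map φ = eqToHom h

lemma of_lift (U : C) {a b : 𝒳} (φ : a ⟶ b) [p.IsHomLift (𝟙 U) φ] : IsVert p φ := by
  refine ⟨(IsHomLift.domain_eq p (𝟙 U) φ).trans (IsHomLift.codomain_eq p (𝟙 U) φ).symm, ?_⟩
  rw [IsHomLift.fac' p (𝟙 U) φ]
  simp

lemma of_lift' {U : C} {a b : 𝒳} (φ : a ⟶ b) (h : p.IsHomLift (𝟙 U) φ) : IsVert p φ := of_lift p U φ

lemma lift {a b : 𝒳} (φ : a ⟶ b) (h : IsVert p φ) {U : C} (hU : p.obj a = U) :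
    p.IsHomLift (𝟙 U) φ := by
  obtain ⟨h1, h2⟩ := h
  apply IsHomLift.of_fac' p (𝟙 U) φ hU (h1.symm.trans hU)
  rw [h2]
  simp

lemma comp {a b c : 𝒳} (φ : a ⟶ b) (ψ : b ⟶ c) (h1 : IsVert p φ) (h2 : IsVert p ψ) :
    IsVert p (φ ≫ ψ) := by
  obtain ⟨e1, k1⟩ := h1
  obtain ⟨e2, k2⟩ := h2
  refine ⟨e1.trans e2, ?_⟩
  rw [p.map_comp, k1, k2, eqToHom_trans]

lemma id (a : 𝒳) : IsVert p (𝟙 a) := ⟨rfl, by simp⟩

lemma inv_of_iso {a b : 𝒳} (e : a ≅ b) (h : IsVert p e.hom) : IsVert p e.inv := by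
  obtain ⟨e1, k1⟩ := h
  refine ⟨e1.symm, ?_⟩
  calc p.map e.inv = p.map e.inv ≫ (eqToHom e1 ≫ eqToHom e1.symm) := by simp
    _ = (p.map e.inv ≫ p.map e.hom) ≫ eqToHom e1.symm := by rw [k1, Category.assoc]
    _ = eqToHom e1.symm := by rw [← p.map_comp, e.inv_hom_id, p.map_id, Category.id_comp]

end

section Based

variable {𝒳 : BasedCategory.{v₂, u₂} C} {𝒴 : BasedCategory.{v₃, u₃} C}

lemma map (F : 𝒳 ⥤ᵇ 𝒴) {a b : 𝒳.obj} (φ : a ⟶ b) (h : IsVert 𝒳.p φ) : IsVert 𝒴.p (F.map φ) := by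
  have h1 : 𝒳.p.IsHomLift (𝟙 (𝒳.p.obj a)) φ := lift 𝒳.p φ h rfl
  have h2 : 𝒴.p.IsHomLift (𝟙 (𝒳.p.obj a)) (F.map φ) := inferInstance
  exact of_lift 𝒴.p (𝒳.p.obj a) (F.map φ)

lemma of_map (F : 𝒳 ⥤ᵇ 𝒴) {a b : 𝒳.obj} (φ : a ⟶ b) (h : IsVert 𝒴.p (F.map φ)) : IsVert 𝒳.p φ := by
  have h1 : 𝒴.p.IsHomLift (𝟙 (𝒳.p.obj a)) (F.map φ) := lift 𝒴.p (F.map φ) h (F.w_obj a)
  have h2 : 𝒳.p.IsHomLift (𝟙 (𝒳.p.obj a)) φ := (F.isHomLift_iff _ φ).mp h1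
  exact of_lift 𝒳.p (𝒳.p.obj a) φ

lemma app {F G : 𝒳 ⥤ᵇ 𝒴} (α : F ⟶ G) (x : 𝒳.obj) : IsVert 𝒴.p (α.toNatTrans.app x) := by
  have := α.isHomLift' x
  exact of_lift 𝒴.p (𝒳.p.obj x) _

end Based

end Groth.Agent.Lib.helper10.Vert
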