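import Mathlib.Tactic
import Groth.Prelude.Def_FibCat2
import Groth.Agent.Lib.helper10.EquivOver
import Groth.Agent.Lib.helper10.EquivCore
import Groth.Agent.Lib.helper10.Vert

/-!
# Composition / 2-out-of-3 style lemmas for equivalences over `C`; representability transfers
(helper10 library, general universes)
-/

set_option autoImplicit false
universe v u v₂ u₂ v₃ u₃ v₄ u₄

open CategoryTheory

namespace Groth.Agent.Lib.helper10.EquivComp

variable {C : Type u} [Category.{v} C]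
  {𝒳 : BasedCategory.{v₂, u₂} C} {𝒴 : BasedCategory.{v₃, u₃} C} {𝒵 : BasedCategory.{v₄, u₄} C}

theorem symm (F : 𝒳 ⥤ᵇ 𝒴) (hF : FibCat.IsEquivOver F) : ∃ G : 𝒴 ⥤ᵇ 𝒳, FibCat.IsEquivOver G := by
  obtain ⟨G, η, ε⟩ := hF
  exact ⟨G, F, ε, η⟩

theorem id_isEquivOver (𝒳 : BasedCategory.{v₂, u₂} C) : FibCat.IsEquivOver (BasedFunctor.id 𝒳) :=
  ⟨BasedFunctor.id 𝒳, ⟨Iso.refl _⟩, ⟨Iso.refl _⟩⟩

theorem comp (F : 𝒳 ⥤ᵇ 𝒴) (F' : 𝒴 ⥤ᵇ 𝒵) (hF : FibCat.IsEquivOver F) (hF' : FibCat.IsEquivOver F') :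
    FibCat.IsEquivOver (BasedFunctor.comp F F') := by
  have e1 := EquivOver.isEquivalence F hF
  have e2 := EquivOver.isEquivalence F' hF'
  have : F.toFunctor.Full := e1.full
  have : F.toFunctor.Faithful := e1.faithful
  have : F'.toFunctor.Full := e2.full
  have : F'.toFunctor.Faithful := e2.faithful
  have hfull : (BasedFunctor.comp F F').toFunctor.Full :=
    inferInstanceAs (F.toFunctor ⋙ F'.toFunctor).Full
  have hfaith : (BasedFunctor.comp F F').toFunctor.Faithful :=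
    inferInstanceAs (F.toFunctor ⋙ F'.toFunctor).Faithful
  apply EquivCore.isEquivOver
  intro z
  obtain ⟨y, θ', hθ'⟩ := EquivOver.exists_iso F' hF' z
  obtain ⟨x, θ, hθ⟩ := EquivOver.exists_iso F hF y
  refine ⟨x, F'.toFunctor.mapIso θ ≪≫ θ', ?_⟩
  have v1 : Vert.IsVert 𝒵.p (F'.map θ.hom) := Vert.map F' _ (Vert.of_lift' 𝒴.p _ hθ)
  have v2 : Vert.IsVert 𝒵.p θ'.hom := Vert.of_lift' 𝒵.p _ hθ'
  have v3 : Vert.IsVert 𝒵.p (F'.map θ.hom ≫ θ'.hom) := Vert.comp _ _ _ v1 v2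
  have hcod : 𝒵.p.obj ((BasedFunctor.comp F F').obj x) = 𝒵.p.obj z := by
    obtain ⟨h, -⟩ := v3
    exact h
  exact Vert.lift 𝒵.p _ v3 hcod

/-- representability is invariant under equivalence over `C` (source side) -/
theorem isRepresentable_of_equiv (F : 𝒳 ⥤ᵇ 𝒴) (hF : FibCat.IsEquivOver F)
    (h : FibCat.IsRepresentable 𝒴) : FibCat.IsRepresentable 𝒳 := by
  obtain ⟨U, E, hE⟩ := h
  exact ⟨U, BasedFunctor.comp F E, comp F E hF hE⟩

theorem isRepresentable_iff (F : 𝒳 ⥤ᵇ 𝒴) (hF : FibCat.IsEquivOver F) :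
    FibCat.IsRepresentable 𝒳 ↔ FibCat.IsRepresentable 𝒴 := by
  constructor
  · obtain ⟨G, hG⟩ := symm F hF
    exact isRepresentable_of_equiv G hG
  · exact isRepresentable_of_equiv F hF

end Groth.Agent.Lib.helper10.EquivComp
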