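import Mathlib.Tactic
import Groth.Prelude.Def_W4stkcategoriessitesFib

/-!
# Fibrewise criteria for functors over `C` between categories fibred in groupoids (helper10)
-/

set_option autoImplicit false
open CategoryTheory
universe v u
open FibCat

namespace Groth.Agent.Lib.helper10.FiberFun

variable {C : Type u} [Category.{v} C]

/-- In a category fibred in groupoids every morphism is strongly cartesian over any morphism it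
lifts. -/
lemma sc_of_isFibGrpd {𝒳 : Type*} [Category 𝒳]
    {p : 𝒳 ⥤ C} (hp : FibCat.IsFibGrpd p) {R S : C} (f : R ⟶ S) {a b : 𝒳} (φ : a ⟶ b)
    [h : p.IsHomLift f φ] : p.IsStronglyCartesian f φ := by
  obtain ⟨⟩ := h
  exact hp.isStronglyCartesian φ

/-- strongly cartesian over `f` implies strongly cartesian over the image. -/
lemma sc_map_of_sc {𝒳 : Type*} [Category 𝒳] (p : 𝒳 ⥤ C) {R S : C} (f : R ⟶ S) {a b : 𝒳}
    (φ : a ⟶ b) (h : p.IsStronglyCartesian f φ) : p.IsStronglyCartesian (p.map φ) φ := by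
  have hl : p.IsHomLift f φ := inferInstance
  obtain ⟨⟩ := hl
  exact h

/-- strongly cartesian over the image and lifting `f` implies strongly cartesian over `f`. -/
lemma sc_of_sc_map {𝒳 : Type*} [Category 𝒳] (p : 𝒳 ⥤ C) {R S : C} (f : R ⟶ S) {a b : 𝒳}
    (φ : a ⟶ b) [hl : p.IsHomLift f φ] (h : p.IsStronglyCartesian (p.map φ) φ) :
    p.IsStronglyCartesian f φ := by
  obtain ⟨⟩ := hl
  exact h

lemma isFibered_of_isFibGrpd {𝒳 : Type*} [Category 𝒳]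
    {p : 𝒳 ⥤ C} (hp : FibCat.IsFibGrpd p) : p.IsFibered := by
  apply Functor.IsFibered.of_exists_isStronglyCartesian
  intro a R f
  obtain ⟨b, φ, hφ⟩ := hp.exists_lift f
  exact ⟨b, φ, sc_of_isFibGrpd hp f φ⟩

variable {𝒳 𝒴 : BasedCategory.{v, max u v} C} (G : 𝒳 ⥤ᵇ 𝒴)

lemma fiber_faithful_of_faithful [G.toFunctor.Faithful] (U : C) :
    (FibCat.fiberFunctor G U).Faithful := by
  constructor
  intro a b φ ψ h
  apply Functor.Fiber.hom_ext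
  apply G.toFunctor.map_injective
  exact congrArg (fun m => Functor.Fiber.fiberInclusion.map m) h

lemma faithful_of_fiber_faithful (h𝒳 : FibCat.IsFibGrpd 𝒳.p) (h𝒴 : FibCat.IsFibGrpd 𝒴.p)
    (h : ∀ U : C, (FibCat.fiberFunctor G U).Faithful) : G.toFunctor.Faithful := by
  constructor
  intro a b φ ψ hφψ
  -- both lift `f := p φ`
  have hψ : 𝒳.p.IsHomLift (𝒳.p.map φ) ψ := by
    rw [← BasedFunctor.isHomLift_iff G]
    have : 𝒴.p.IsHomLift (𝒳.p.map φ) (G.map φ) := inferInstance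
    change 𝒴.p.IsHomLift (𝒳.p.map φ) (G.toFunctor.map ψ)
    rw [← hφψ]; exact this
  have hsc : 𝒳.p.IsStronglyCartesian (𝒳.p.map φ) ψ := sc_of_isFibGrpd h𝒳 _ ψ
  have hid : 𝒳.p.map φ = 𝟙 (𝒳.p.obj a) ≫ 𝒳.p.map φ := by simp
  let χ : a ⟶ a := Functor.IsStronglyCartesian.map 𝒳.p (𝒳.p.map φ) ψ hid φ
  have hχ : 𝒳.p.IsHomLift (𝟙 (𝒳.p.obj a)) χ :=
    Functor.IsStronglyCartesian.map_isHomLift 𝒳.p (𝒳.p.map φ) ψ hid φ
  have hχf : χ ≫ ψ = φ := Functor.IsStronglyCartesian.fac 𝒳.p (𝒳.p.map φ) ψ hid φ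
  -- `G χ = 𝟙`
  have hGψ : 𝒴.p.IsStronglyCartesian (𝒳.p.map φ) (G.map ψ) := sc_of_isFibGrpd h𝒴 _ _
  have hGχ : 𝒴.p.IsHomLift (𝟙 (𝒳.p.obj a)) (G.map χ) := inferInstance
  have h1 : 𝒴.p.IsHomLift (𝟙 (𝒳.p.obj a)) (𝟙 (G.obj a)) := inferInstance
  have e : G.map χ = 𝟙 (G.obj a) := by
    apply Functor.IsStronglyCartesian.ext 𝒴.p (𝒳.p.map φ) (G.map ψ) (𝟙 (𝒳.p.obj a))
    rw [Category.id_comp]
    change G.toFunctor.map χ ≫ G.toFunctor.map ψ = G.toFunctor.map ψ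
    rw [← G.toFunctor.map_comp, hχf, hφψ]
  -- use fibrewise faithfulness
  have := h (𝒳.p.obj a)
  let a' : 𝒳.p.Fiber (𝒳.p.obj a) := ⟨a, rfl⟩
  let χ' : a' ⟶ a' := ⟨χ, hχ⟩
  have e' : (FibCat.fiberFunctor G (𝒳.p.obj a)).map χ' = (FibCat.fiberFunctor G (𝒳.p.obj a)).map (𝟙 a') := by
    apply Functor.Fiber.hom_ext
    change G.map χ = G.map (𝟙 a)
    rw [e]; exact (G.toFunctor.map_id a).symm
  have e'' : χ' = 𝟙 a' := (FibCat.fiberFunctor G (𝒳.p.obj a)).map_injective e'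
  have e3 : χ = 𝟙 a := congrArg (fun m => Functor.Fiber.fiberInclusion.map m) e''
  rw [← hχf, e3, Category.id_comp]

lemma fiber_full_of_full [G.toFunctor.Full] (U : C) :
    (FibCat.fiberFunctor G U).Full := by
  constructor
  intro a b θ
  obtain ⟨φ, hφ⟩ := G.toFunctor.map_surjective (Functor.Fiber.fiberInclusion.map θ)
  have hθ : 𝒴.p.IsHomLift (𝟙 U) (G.map φ) := by
    rw [hφ]; exact θ.2
  have hφl : 𝒳.p.IsHomLift (𝟙 U) φ := (BasedFunctor.isHomLift_iff G (𝟙 U) φ).1 hθ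
  refine ⟨⟨φ, hφl⟩, ?_⟩
  apply Functor.Fiber.hom_ext
  exact hφ

lemma full_of_fiber_full (h𝒳 : FibCat.IsFibGrpd 𝒳.p) (h𝒴 : FibCat.IsFibGrpd 𝒴.p)
    (h : ∀ U : C, (FibCat.fiberFunctor G U).Full) : G.toFunctor.Full := by
  constructor
  intro a b θ
  -- `θ : G a ⟶ G b`; it lies over some `f : p a ⟶ p b`
  have ha : 𝒴.p.obj (G.obj a) = 𝒳.p.obj a := G.w_obj a
  have hb : 𝒴.p.obj (G.obj b) = 𝒳.p.obj b := G.w_obj b
  let f : 𝒳.p.obj a ⟶ 𝒳.p.obj b := eqToHom ha.symm ≫ 𝒴.p.map θ ≫ eqToHom hb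
  have hθ : 𝒴.p.IsHomLift f θ := IsHomLift.of_fac 𝒴.p f θ ha hb rfl
  obtain ⟨a', ψ, hψ⟩ := h𝒳.exists_lift f
  have ha' : 𝒳.p.obj a' = 𝒳.p.obj a := IsHomLift.domain_eq 𝒳.p f ψ
  have hGψ : 𝒴.p.IsStronglyCartesian f (G.map ψ) := sc_of_isFibGrpd h𝒴 _ _
  have hid : f = 𝟙 (𝒳.p.obj a) ≫ f := by simp
  let χ : G.obj a ⟶ G.obj a' := Functor.IsStronglyCartesian.map 𝒴.p f (G.map ψ) hid θ
  have hχ : 𝒴.p.IsHomLift (𝟙 (𝒳.p.obj a)) χ :=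
    Functor.IsStronglyCartesian.map_isHomLift 𝒴.p f (G.map ψ) hid θ
  have hχf : χ ≫ G.map ψ = θ := Functor.IsStronglyCartesian.fac 𝒴.p f (G.map ψ) hid θ
  have := h (𝒳.p.obj a)
  let x : 𝒳.p.Fiber (𝒳.p.obj a) := ⟨a, rfl⟩
  let x' : 𝒳.p.Fiber (𝒳.p.obj a) := ⟨a', ha'⟩
  let χ' : (FibCat.fiberFunctor G (𝒳.p.obj a)).obj x ⟶ (FibCat.fiberFunctor G (𝒳.p.obj a)).obj x' :=
    ⟨χ, hχ⟩
  obtain ⟨χ₀, hχ₀⟩ := (FibCat.fiberFunctor G (𝒳.p.obj a)).map_surjective χ'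
  have e : G.map χ₀.1 = χ := congrArg (fun m => Functor.Fiber.fiberInclusion.map m) hχ₀
  refine ⟨χ₀.1 ≫ ψ, ?_⟩
  rw [G.toFunctor.map_comp]
  change G.map χ₀.1 ≫ G.map ψ = θ
  rw [e, hχf]

lemma essSurj_of_fiber_essSurj
    (h : ∀ U : C, (FibCat.fiberFunctor G U).EssSurj) : G.toFunctor.EssSurj := by
  constructor
  intro y
  have := h (𝒴.p.obj y)
  let y' : 𝒴.p.Fiber (𝒴.p.obj y) := ⟨y, rfl⟩
  obtain ⟨x, ⟨i⟩⟩ := Functor.EssSurj.mem_essImage (F := FibCat.fiberFunctor G (𝒴.p.obj y)) y'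
  exact ⟨x.1, ⟨Functor.Fiber.fiberInclusion.mapIso i⟩⟩

lemma fiber_essSurj_of_essSurj (h𝒳 : FibCat.IsFibGrpd 𝒳.p) [G.toFunctor.EssSurj] (U : C) :
    (FibCat.fiberFunctor G U).EssSurj := by
  constructor
  intro y
  obtain ⟨x, ⟨i⟩⟩ := Functor.EssSurj.mem_essImage (F := G.toFunctor) y.1
  -- `i : G x ≅ y.1`, lying over an isomorphism `f : p x ≅ U`
  have hx : 𝒴.p.obj (G.obj x) = 𝒳.p.obj x := G.w_obj x
  have hy : 𝒴.p.obj y.1 = U := y.2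
  let f : 𝒳.p.obj x ≅ U := (eqToIso hx.symm) ≪≫ 𝒴.p.mapIso i ≪≫ eqToIso hy
  have hi : 𝒴.p.IsHomLift f.hom i.hom := IsHomLift.of_fac 𝒴.p f.hom i.hom hx hy (by simp [f])
  obtain ⟨x', ψ, hψ⟩ := h𝒳.exists_lift f.inv
  have hx' : 𝒳.p.obj x' = U := IsHomLift.domain_eq 𝒳.p f.inv ψ
  have hψsc : 𝒳.p.IsStronglyCartesian f.inv ψ := sc_of_isFibGrpd h𝒳 _ _
  have hψiso : IsIso ψ := Functor.IsStronglyCartesian.isIso_of_base_isIso 𝒳.p f.inv ψ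
  have hGψ : 𝒴.p.IsHomLift f.inv (G.map ψ) := inferInstance
  have hGψiso : IsIso (G.map ψ) := by
    infer_instance
  obtain ⟨mm, hmm⟩ : ∃ mm : G.obj x' ⟶ y.1, mm = G.map ψ ≫ i.hom := ⟨_, rfl⟩
  have hcomp : 𝒴.p.IsHomLift (𝟙 U) mm := by
    have : 𝒴.p.IsHomLift (f.inv ≫ f.hom) (G.map ψ ≫ i.hom) := inferInstance
    rw [hmm]
    rwa [Iso.inv_hom_id] at this
  have hiso : IsIso mm := by rw [hmm]; exact IsIso.comp_isIso
  obtain ⟨mi, hmi1, hmi2⟩ : ∃ mi : y.1 ⟶ G.obj x', mm ≫ mi = 𝟙 _ ∧ mi ≫ mm = 𝟙 _ :=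
    ⟨inv mm, IsIso.hom_inv_id mm, IsIso.inv_hom_id mm⟩
  have hinv : 𝒴.p.IsHomLift (𝟙 U) mi := by
    have e : mi = inv mm := by
      rw [← cancel_epi mm, hmi1, IsIso.hom_inv_id]
    rw [e]
    exact IsHomLift.lift_id_inv_isIso 𝒴.p U mm
  let xx : 𝒳.p.Fiber U := ⟨x', hx'⟩
  let m : (FibCat.fiberFunctor G U).obj xx ⟶ y := ⟨mm, hcomp⟩
  let m' : y ⟶ (FibCat.fiberFunctor G U).obj xx := ⟨mi, hinv⟩
  refine ⟨xx, ⟨?_⟩⟩
  refine
    { hom := m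
      inv := m'
      hom_inv_id := ?_
      inv_hom_id := ?_ }
  · apply Functor.Fiber.hom_ext
    exact hmi1
  · apply Functor.Fiber.hom_ext
    exact hmi2

end Groth.Agent.Lib.helper10.FiberFun
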