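import Mathlib.Tactic
import Groth.Agent.Lib.helper10.FiberFun

/-!
# 2-fibre products over `C`, general universes (helper10)

Universe-polymorphic versions of the lemmas in `S6400`, `S6401` and `Lib/helper10/FpProj`.
-/

set_option autoImplicit false
open CategoryTheory
universe v u v₂ u₂ v₃ u₃ v₄ u₄
open FibCat

namespace Groth.Agent.Lib.helper10.FpGen

open Groth.Agent.Lib.helper10.FiberFun

lemma fp_lift_iff {C : Type u} [Category.{v} C] {𝒳 : BasedCategory.{v₂, u₂} C} {𝒴 : BasedCategory.{v₃, u₃} C} {𝒮 : BasedCategory.{v₄, u₄} C}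
    (F : 𝒳 ⥤ᵇ 𝒮) (G : 𝒴 ⥤ᵇ 𝒮) {R S : C} (f : R ⟶ S) {a b : (FibCat.fp F G).obj} (Ψ : a ⟶ b) :
    (FibCat.fp F G).p.IsHomLift f Ψ ↔ 𝒳.p.IsHomLift f Ψ.hom.fst := by
  constructor
  · intro h
    exact IsHomLift.of_fac' 𝒳.p f Ψ.hom.fst (IsHomLift.domain_eq (FibCat.fp F G).p f Ψ)
      (IsHomLift.codomain_eq (FibCat.fp F G).p f Ψ) (IsHomLift.fac' (FibCat.fp F G).p f Ψ)
  · intro h
    have h1 := IsHomLift.domain_eq 𝒳.p f Ψ.hom.fst
    have h2 := IsHomLift.codomain_eq 𝒳.p f Ψ.hom.fst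
    have h3 := IsHomLift.fac' 𝒳.p f Ψ.hom.fst
    exact IsHomLift.of_fac' (FibCat.fp F G).p f Ψ h1 h2 h3

lemma fp_lift_snd {C : Type u} [Category.{v} C] {𝒳 : BasedCategory.{v₂, u₂} C} {𝒴 : BasedCategory.{v₃, u₃} C} {𝒮 : BasedCategory.{v₄, u₄} C}
    (F : 𝒳 ⥤ᵇ 𝒮) (G : 𝒴 ⥤ᵇ 𝒮) {R S : C} (f : R ⟶ S) {a b : (FibCat.fp F G).obj} (Ψ : a ⟶ b)
    (h : (FibCat.fp F G).p.IsHomLift f Ψ) : 𝒴.p.IsHomLift f Ψ.hom.snd := by
  obtain ⟨⟩ := h
  exact FibCat.fp_isHomLift_snd F G Ψ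

/-- For fibred categories `𝒳, 𝒴, 𝒮` over `C` and functors `F : 𝒳 ⟶ 𝒮`, `G : 𝒴 ⟶ 𝒮` over `C` preserving
strongly cartesian morphisms, the 2-fibre product `𝒳 ×_𝒮 𝒴` over `C` is fibred over `C`. (The
published statement also says that this category, with its two projections, is a 2-fibre product in
the 2-category of fibred categories over `C`; this row states only that it is fibred.) -/
theorem isFibered_fp {C : Type u} [Category.{v} C] {𝒳 : BasedCategory.{v₂, u₂} C} {𝒴 : BasedCategory.{v₃, u₃} C} {𝒮 : BasedCategory.{v₄, u₄} C} (F : 𝒳 ⥤ᵇ 𝒮) (G : 𝒴 ⥤ᵇ 𝒮) [𝒳.p.IsFibered] [𝒴.p.IsFibered] [𝒮.p.IsFibered]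
    (hF : ∀ {R S : C} (f : R ⟶ S) {a b : 𝒳.obj} (φ : a ⟶ b), 𝒳.p.IsStronglyCartesian f φ → 𝒮.p.IsStronglyCartesian f (F.map φ))
    (hG : ∀ {R S : C} (f : R ⟶ S) {a b : 𝒴.obj} (φ : a ⟶ b), 𝒴.p.IsStronglyCartesian f φ → 𝒮.p.IsStronglyCartesian f (G.map φ)) :
    (FibCat.fp F G).p.IsFibered := by
  apply Functor.IsFibered.of_exists_isStronglyCartesian
  intro t R f
  obtain ⟨⟨x, y, γ⟩, hγ⟩ := t
  change 𝒮.p.IsHomLift (𝟙 (𝒳.p.obj x)) γ.hom at hγ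
  change R ⟶ 𝒳.p.obj x at f
  have hy : 𝒴.p.obj y = 𝒳.p.obj x :=
    (G.w_obj y).symm.trans (IsHomLift.codomain_eq 𝒮.p (𝟙 (𝒳.p.obj x)) γ.hom)
  obtain ⟨x', φ, hφ⟩ := IsPreFibered.exists_isCartesian 𝒳.p (rfl : 𝒳.p.obj x = _) f
  obtain ⟨y', ψ, hψ⟩ := IsPreFibered.exists_isCartesian 𝒴.p hy f
  have hφs : 𝒳.p.IsStronglyCartesian f φ := inferInstance
  have hψs : 𝒴.p.IsStronglyCartesian f ψ := inferInstance
  have hFφ : 𝒮.p.IsStronglyCartesian f (F.map φ) := hF f φ hφs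
  have hGψ : 𝒮.p.IsStronglyCartesian f (G.map ψ) := hG f ψ hψs
  have hγs : 𝒮.p.IsStronglyCartesian (𝟙 (𝒳.p.obj x)) γ.hom := inferInstance
  have hcomp : 𝒮.p.IsStronglyCartesian f (F.map φ ≫ γ.hom) := by
    have := Functor.IsStronglyCartesian.comp (p := 𝒮.p) (f := f) (g := 𝟙 (𝒳.p.obj x))
      (φ := F.map φ) (ψ := γ.hom)
    rwa [Category.comp_id] at this
  have hid : f = (Iso.refl R).hom ≫ f := by simp
  let γ' : F.obj x' ≅ G.obj y' :=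
    Functor.IsStronglyCartesian.domainIsoOfBaseIso 𝒮.p (g := Iso.refl R) hid (G.map ψ)
      (F.map φ ≫ γ.hom)
  have hγ'lift : 𝒮.p.IsHomLift (𝟙 R) γ'.hom :=
    Functor.IsStronglyCartesian.domainUniqueUpToIso_inv_isHomLift 𝒮.p (g := Iso.refl R) hid
      (G.map ψ) (F.map φ ≫ γ.hom)
  have hγ'fac : γ'.hom ≫ G.map ψ = F.map φ ≫ γ.hom :=
    Functor.IsStronglyCartesian.fac 𝒮.p f (G.map ψ) hid (F.map φ ≫ γ.hom)
  have hx' : 𝒳.p.obj x' = R := IsHomLift.domain_eq 𝒳.p f φ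
  have hprop : 𝒮.p.IsHomLift (𝟙 (𝒳.p.obj x')) γ'.hom := by
    rw [hx']; exact hγ'lift
  let t' : (FibCat.fp F G).obj := ⟨⟨x', y', γ'⟩, hprop⟩
  let t : (FibCat.fp F G).obj := ⟨⟨x, y, γ⟩, hγ⟩
  let Φ : t' ⟶ t := ObjectProperty.homMk
    ({ fst := φ, snd := ψ, w := hγ'fac.symm } :
      Limits.CategoricalPullback.Hom (F := F.toFunctor) (G := G.toFunctor) ⟨x', y', γ'⟩ ⟨x, y, γ⟩)
  refine ⟨t', Φ, ?_⟩
  have hΦlift : (FibCat.fp F G).p.IsHomLift f Φ := by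
    have h1 : 𝒳.p.IsHomLift f φ := inferInstance
    have h2 := IsHomLift.fac' 𝒳.p f φ
    exact IsHomLift.of_fac' (FibCat.fp F G).p f Φ hx' rfl h2
  refine { toIsHomLift := hΦlift, universal_property' := ?_ }
  intro s g τ hτ
  have hτ1 : 𝒳.p.IsHomLift (g ≫ f) τ.hom.fst := (fp_lift_iff F G _ τ).1 hτ
  have hτ2 : 𝒴.p.IsHomLift (g ≫ f) τ.hom.snd := by
    have e : g ≫ f = (FibCat.fp F G).p.map τ :=
      @IsHomLift.eq_of_isHomLift _ _ _ _ 𝒳.p s.obj.fst x (g ≫ f) τ.hom.fst hτ1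
    rw [e]; exact FibCat.fp_isHomLift_snd F G τ
  let α : s.obj.fst ⟶ x' := Functor.IsStronglyCartesian.map 𝒳.p f φ (g := g) rfl τ.hom.fst
  let β : s.obj.snd ⟶ y' := Functor.IsStronglyCartesian.map 𝒴.p f ψ (g := g) rfl τ.hom.snd
  have hα : 𝒳.p.IsHomLift g α := Functor.IsStronglyCartesian.map_isHomLift 𝒳.p f φ (g := g) rfl τ.hom.fst
  have hβ : 𝒴.p.IsHomLift g β := Functor.IsStronglyCartesian.map_isHomLift 𝒴.p f ψ (g := g) rfl τ.hom.snd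
  have hαf : α ≫ φ = τ.hom.fst := Functor.IsStronglyCartesian.fac 𝒳.p f φ (g := g) rfl τ.hom.fst
  have hβf : β ≫ ψ = τ.hom.snd := Functor.IsStronglyCartesian.fac 𝒴.p f ψ (g := g) rfl τ.hom.snd
  have hFα : 𝒮.p.IsHomLift g (F.map α) := (BasedFunctor.isHomLift_iff F g α).2 hα
  have hGβ : 𝒮.p.IsHomLift g (G.map β) := (BasedFunctor.isHomLift_iff G g β).2 hβ
  have hs : 𝒮.p.IsHomLift (𝟙 (𝒳.p.obj s.obj.fst)) s.obj.iso.hom := s.property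
  have hl1 : 𝒮.p.IsHomLift g (F.map α ≫ γ'.hom) :=
    IsHomLift.comp_lift_id_right' 𝒮.p g (F.map α) R γ'.hom
  have hl2 : 𝒮.p.IsHomLift g (s.obj.iso.hom ≫ G.map β) :=
    IsHomLift.comp_lift_id_left' 𝒮.p (𝒳.p.obj s.obj.fst) s.obj.iso.hom g (G.map β)
  have hw : F.map α ≫ γ'.hom = s.obj.iso.hom ≫ G.map β := by
    apply Functor.IsStronglyCartesian.ext 𝒮.p f (G.map ψ) g
    rw [Category.assoc, hγ'fac, ← Category.assoc, ← F.map_comp, hαf, Category.assoc,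
      ← G.map_comp, hβf]
    exact τ.hom.w
  let χ : s ⟶ t' := ObjectProperty.homMk
    ({ fst := α, snd := β, w := hw } :
      Limits.CategoricalPullback.Hom (F := F.toFunctor) (G := G.toFunctor) s.obj ⟨x', y', γ'⟩)
  have hχ : (FibCat.fp F G).p.IsHomLift g χ := (fp_lift_iff F G g χ).2 hα
  refine ⟨χ, ⟨hχ, ?_⟩, ?_⟩
  · apply ObjectProperty.hom_ext
    apply Limits.CategoricalPullback.hom_ext
    · exact hαf
    · exact hβf
  · rintro χ' ⟨hχ'1, hχ'2⟩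
    have h1 : 𝒳.p.IsHomLift g χ'.hom.fst := (fp_lift_iff F G g χ').1 hχ'1
    have h2 : 𝒴.p.IsHomLift g χ'.hom.snd := fp_lift_snd F G g χ' hχ'1
    have e1 : χ'.hom.fst ≫ φ = τ.hom.fst := by
      have := congrArg (fun m => m.hom.fst) hχ'2
      exact this
    have e2 : χ'.hom.snd ≫ ψ = τ.hom.snd := by
      have := congrArg (fun m => m.hom.snd) hχ'2
      exact this
    apply ObjectProperty.hom_ext
    apply Limits.CategoricalPullback.hom_ext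
    · exact Functor.IsStronglyCartesian.map_uniq 𝒳.p f φ (g := g) rfl τ.hom.fst χ'.hom.fst e1
    · exact Functor.IsStronglyCartesian.map_uniq 𝒴.p f ψ (g := g) rfl τ.hom.snd χ'.hom.snd e2


/-- A morphism of the 2-fibre product whose two components are strongly cartesian (and whose second
component has strongly cartesian image in `𝒮`) is strongly cartesian. -/
lemma fp_isStronglyCartesian {C : Type u} [Category.{v} C] {𝒳 : BasedCategory.{v₂, u₂} C} {𝒴 : BasedCategory.{v₃, u₃} C} {𝒮 : BasedCategory.{v₄, u₄} C}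
    (F : 𝒳 ⥤ᵇ 𝒮) (G : 𝒴 ⥤ᵇ 𝒮) {R S : C} (f : R ⟶ S) {t' t : (FibCat.fp F G).obj} (Φ : t' ⟶ t)
    (h1 : 𝒳.p.IsStronglyCartesian f Φ.hom.fst) (h2 : 𝒴.p.IsStronglyCartesian f Φ.hom.snd)
    (h3 : 𝒮.p.IsStronglyCartesian f (G.map Φ.hom.snd)) :
    (FibCat.fp F G).p.IsStronglyCartesian f Φ := by
  have hΦlift : (FibCat.fp F G).p.IsHomLift f Φ := (fp_lift_iff F G f Φ).2 inferInstance
  refine { toIsHomLift := hΦlift, universal_property' := ?_ }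
  intro s g τ hτ
  have hτ1 : 𝒳.p.IsHomLift (g ≫ f) τ.hom.fst := (fp_lift_iff F G _ τ).1 hτ
  have hτ2 : 𝒴.p.IsHomLift (g ≫ f) τ.hom.snd := fp_lift_snd F G _ τ hτ
  let α : s.obj.fst ⟶ t'.obj.fst :=
    Functor.IsStronglyCartesian.map 𝒳.p f Φ.hom.fst (g := g) rfl τ.hom.fst
  let β : s.obj.snd ⟶ t'.obj.snd :=
    Functor.IsStronglyCartesian.map 𝒴.p f Φ.hom.snd (g := g) rfl τ.hom.snd
  have hα : 𝒳.p.IsHomLift g α :=
    Functor.IsStronglyCartesian.map_isHomLift 𝒳.p f Φ.hom.fst (g := g) rfl τ.hom.fst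
  have hβ : 𝒴.p.IsHomLift g β :=
    Functor.IsStronglyCartesian.map_isHomLift 𝒴.p f Φ.hom.snd (g := g) rfl τ.hom.snd
  have hαf : α ≫ Φ.hom.fst = τ.hom.fst :=
    Functor.IsStronglyCartesian.fac 𝒳.p f Φ.hom.fst (g := g) rfl τ.hom.fst
  have hβf : β ≫ Φ.hom.snd = τ.hom.snd :=
    Functor.IsStronglyCartesian.fac 𝒴.p f Φ.hom.snd (g := g) rfl τ.hom.snd
  have hFα : 𝒮.p.IsHomLift g (F.map α) := (BasedFunctor.isHomLift_iff F g α).2 hα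
  have hGβ : 𝒮.p.IsHomLift g (G.map β) := (BasedFunctor.isHomLift_iff G g β).2 hβ
  have hs : 𝒮.p.IsHomLift (𝟙 (𝒳.p.obj s.obj.fst)) s.obj.iso.hom := s.property
  have ht' : 𝒮.p.IsHomLift (𝟙 (𝒳.p.obj t'.obj.fst)) t'.obj.iso.hom := t'.property
  have hl1 : 𝒮.p.IsHomLift g (F.map α ≫ t'.obj.iso.hom) :=
    IsHomLift.comp_lift_id_right' 𝒮.p g (F.map α) (𝒳.p.obj t'.obj.fst) t'.obj.iso.hom
  have hl2 : 𝒮.p.IsHomLift g (s.obj.iso.hom ≫ G.map β) :=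
    IsHomLift.comp_lift_id_left' 𝒮.p (𝒳.p.obj s.obj.fst) s.obj.iso.hom g (G.map β)
  have hw : F.map α ≫ t'.obj.iso.hom = s.obj.iso.hom ≫ G.map β := by
    apply Functor.IsStronglyCartesian.ext 𝒮.p f (G.map Φ.hom.snd) g
    rw [Category.assoc, ← Φ.hom.w, ← Category.assoc, ← F.map_comp, hαf, Category.assoc,
      ← G.map_comp, hβf]
    exact τ.hom.w
  let χ : s ⟶ t' := ObjectProperty.homMk
    ({ fst := α, snd := β, w := hw } :
      Limits.CategoricalPullback.Hom (F := F.toFunctor) (G := G.toFunctor) s.obj t'.obj)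
  have hχ : (FibCat.fp F G).p.IsHomLift g χ := (fp_lift_iff F G g χ).2 hα
  refine ⟨χ, ⟨hχ, ?_⟩, ?_⟩
  · apply ObjectProperty.hom_ext
    apply Limits.CategoricalPullback.hom_ext
    · exact hαf
    · exact hβf
  · rintro χ' ⟨hχ'1, hχ'2⟩
    have h1 : 𝒳.p.IsHomLift g χ'.hom.fst := (fp_lift_iff F G g χ').1 hχ'1
    have h2 : 𝒴.p.IsHomLift g χ'.hom.snd := fp_lift_snd F G g χ' hχ'1
    have e1 : χ'.hom.fst ≫ Φ.hom.fst = τ.hom.fst := by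
      have := congrArg (fun m => m.hom.fst) hχ'2
      exact this
    have e2 : χ'.hom.snd ≫ Φ.hom.snd = τ.hom.snd := by
      have := congrArg (fun m => m.hom.snd) hχ'2
      exact this
    apply ObjectProperty.hom_ext
    apply Limits.CategoricalPullback.hom_ext
    · exact Functor.IsStronglyCartesian.map_uniq 𝒳.p f Φ.hom.fst (g := g) rfl τ.hom.fst
        χ'.hom.fst e1
    · exact Functor.IsStronglyCartesian.map_uniq 𝒴.p f Φ.hom.snd (g := g) rfl τ.hom.snd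
        χ'.hom.snd e2

/-- In a category fibred in groupoids every morphism is strongly cartesian over any morphism it
lifts. -/
lemma isStronglyCartesian_of_isFibGrpd' {C : Type u} [Category.{v} C] {𝒳 : Type*} [Category 𝒳]
    {p : 𝒳 ⥤ C} (hp : FibCat.IsFibGrpd p) {R S : C} (f : R ⟶ S) {a b : 𝒳} (φ : a ⟶ b)
    [h : p.IsHomLift f φ] : p.IsStronglyCartesian f φ := by
  obtain ⟨⟩ := h
  exact hp.isStronglyCartesian φ

lemma isFibered_of_isFibGrpd' {C : Type u} [Category.{v} C] {𝒳 : Type*} [Category 𝒳]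
    {p : 𝒳 ⥤ C} (hp : FibCat.IsFibGrpd p) : p.IsFibered := by
  apply Functor.IsFibered.of_exists_isStronglyCartesian
  intro a R f
  obtain ⟨b, φ, hφ⟩ := hp.exists_lift f
  exact ⟨b, φ, isStronglyCartesian_of_isFibGrpd' hp f φ⟩

/-- For categories `𝒳, 𝒴, 𝒮` fibred in groupoids over `C` and functors `F : 𝒳 ⟶ 𝒮`, `G : 𝒴 ⟶ 𝒮` over
`C`, the 2-fibre product `𝒳 ×_𝒮 𝒴` over `C` is fibred in groupoids over `C`. -/
theorem isFibGrpd_fp {C : Type u} [Category.{v} C] {𝒳 : BasedCategory.{v₂, u₂} C} {𝒴 : BasedCategory.{v₃, u₃} C} {𝒮 : BasedCategory.{v₄, u₄} C} (F : 𝒳 ⥤ᵇ 𝒮) (G : 𝒴 ⥤ᵇ 𝒮) (h𝒳 : FibCat.IsFibGrpd 𝒳.p) (h𝒴 : FibCat.IsFibGrpd 𝒴.p) (h𝒮 : FibCat.IsFibGrpd 𝒮.p) :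
    FibCat.IsFibGrpd (FibCat.fp F G).p := by
  have := isFibered_of_isFibGrpd' h𝒳
  have := isFibered_of_isFibGrpd' h𝒴
  have := isFibered_of_isFibGrpd' h𝒮
  have hfib : (FibCat.fp F G).p.IsFibered := by
    apply isFibered_fp F G
    · intro R S f a b φ hφ
      exact isStronglyCartesian_of_isFibGrpd' h𝒮 f (F.map φ)
    · intro R S f a b φ hφ
      exact isStronglyCartesian_of_isFibGrpd' h𝒮 f (G.map φ)
  refine ⟨?_, ?_⟩
  · intro t V f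
    obtain ⟨t', Φ, hΦ⟩ := hfib.exists_isCartesian' f
    exact ⟨t', Φ, inferInstance⟩
  · intro t' t Φ
    have h1 : 𝒳.p.IsHomLift ((FibCat.fp F G).p.map Φ) Φ.hom.fst :=
      (fp_lift_iff F G _ Φ).1 inferInstance
    have h2 : 𝒴.p.IsHomLift ((FibCat.fp F G).p.map Φ) Φ.hom.snd := inferInstance
    have h3 : 𝒮.p.IsHomLift ((FibCat.fp F G).p.map Φ) (G.map Φ.hom.snd) := inferInstance
    exact fp_isStronglyCartesian F G _ Φ (isStronglyCartesian_of_isFibGrpd' h𝒳 _ _)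
      (isStronglyCartesian_of_isFibGrpd' h𝒴 _ _) (isStronglyCartesian_of_isFibGrpd' h𝒮 _ _)


variable {C : Type u} [Category.{v} C] {𝒳 : BasedCategory.{v₂, u₂} C} {𝒴 : BasedCategory.{v₃, u₃} C}
  {𝒮 : BasedCategory.{v₄, u₄} C}
  (F : 𝒳 ⥤ᵇ 𝒮) (G : 𝒴 ⥤ᵇ 𝒮)

lemma fpFst_lift_iff {x' x : 𝒳.obj} (f : x' ⟶ x) {a b : (FibCat.fp F G).obj} (Ψ : a ⟶ b) :
    (FibCat.fpFst F G).toFunctor.IsHomLift f Ψ ↔
      ∃ (h1 : a.obj.fst = x') (h2 : b.obj.fst = x), Ψ.hom.fst = eqToHom h1 ≫ f ≫ eqToHom h2.symm := by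
  constructor
  · intro h
    exact ⟨IsHomLift.domain_eq (FibCat.fpFst F G).toFunctor f Ψ,
      IsHomLift.codomain_eq (FibCat.fpFst F G).toFunctor f Ψ,
      IsHomLift.fac' (FibCat.fpFst F G).toFunctor f Ψ⟩
  · rintro ⟨h1, h2, h3⟩
    exact IsHomLift.of_fac' (FibCat.fpFst F G).toFunctor f Ψ h1 h2 h3

theorem isFibGrpd_fpFst (h𝒴 : FibCat.IsFibGrpd 𝒴.p) (h𝒮 : FibCat.IsFibGrpd 𝒮.p) :
    FibCat.IsFibGrpd (FibCat.fpFst F G).toFunctor := by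
  refine ⟨?_, ?_⟩
  · intro t x' f
    change x' ⟶ t.obj.fst at f
    have hγ : 𝒮.p.IsHomLift (𝟙 (𝒳.p.obj t.obj.fst)) t.obj.iso.hom := t.property
    have hy : 𝒴.p.obj t.obj.snd = 𝒳.p.obj t.obj.fst :=
      (G.w_obj t.obj.snd).symm.trans (IsHomLift.codomain_eq 𝒮.p (𝟙 (𝒳.p.obj t.obj.fst)) t.obj.iso.hom)
    -- lift `u = p f` to `b : y' ⟶ y`
    have := isFibered_of_isFibGrpd h𝒴
    obtain ⟨y', b, hb⟩ := IsPreFibered.exists_isCartesian 𝒴.p hy (𝒳.p.map f)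
    have hbl : 𝒴.p.IsHomLift (𝒳.p.map f) b := inferInstance
    have hGb : 𝒮.p.IsStronglyCartesian (𝒳.p.map f) (G.map b) := sc_of_isFibGrpd h𝒮 _ _
    have hFf : 𝒮.p.IsHomLift (𝒳.p.map f) (F.map f ≫ t.obj.iso.hom) :=
      IsHomLift.comp_lift_id_right' 𝒮.p (𝒳.p.map f) (F.map f) (𝒳.p.obj t.obj.fst) t.obj.iso.hom
    have hcomp : 𝒮.p.IsStronglyCartesian (𝒳.p.map f) (F.map f ≫ t.obj.iso.hom) :=
      sc_of_isFibGrpd h𝒮 _ _
    have hid : 𝒳.p.map f = (Iso.refl (𝒳.p.obj x')).hom ≫ 𝒳.p.map f := by simp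
    let γ' : F.obj x' ≅ G.obj y' :=
      Functor.IsStronglyCartesian.domainIsoOfBaseIso 𝒮.p (g := Iso.refl (𝒳.p.obj x')) hid (G.map b)
        (F.map f ≫ t.obj.iso.hom)
    have hγ'lift : 𝒮.p.IsHomLift (𝟙 (𝒳.p.obj x')) γ'.hom :=
      Functor.IsStronglyCartesian.domainUniqueUpToIso_inv_isHomLift 𝒮.p
        (g := Iso.refl (𝒳.p.obj x')) hid (G.map b) (F.map f ≫ t.obj.iso.hom)
    have hγ'fac : γ'.hom ≫ G.map b = F.map f ≫ t.obj.iso.hom :=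
      Functor.IsStronglyCartesian.fac 𝒮.p (𝒳.p.map f) (G.map b) hid (F.map f ≫ t.obj.iso.hom)
    let t' : (FibCat.fp F G).obj := ⟨⟨x', y', γ'⟩, hγ'lift⟩
    let Φ : t' ⟶ t := ObjectProperty.homMk
      ({ fst := f, snd := b, w := hγ'fac.symm } :
        Limits.CategoricalPullback.Hom (F := F.toFunctor) (G := G.toFunctor) ⟨x', y', γ'⟩ t.obj)
    refine ⟨t', Φ, ?_⟩
    exact (fpFst_lift_iff F G f Φ).2 ⟨rfl, rfl, by simp [Φ]⟩
  · intro t' t Φ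
    refine { toIsHomLift := inferInstance, universal_property' := ?_ }
    intro s g τ hτ
    have hτ0 := @IsHomLift.eq_of_isHomLift _ _ _ _ (FibCat.fpFst F G).toFunctor s t _ τ hτ
    obtain ⟨g', hg'⟩ : ∃ g' : s.obj.fst ⟶ t'.obj.fst, g' = g := ⟨g, rfl⟩
    have hτ' : g' ≫ Φ.hom.fst = τ.hom.fst := by rw [hg']; exact hτ0
    clear hτ0
    subst hg'
    rename' g' => g
    have hbl : 𝒴.p.IsHomLift (𝒳.p.map Φ.hom.fst) Φ.hom.snd := FibCat.fp_isHomLift_snd F G Φ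
    have hτl : 𝒴.p.IsHomLift (𝒳.p.map τ.hom.fst) τ.hom.snd := FibCat.fp_isHomLift_snd F G τ
    have hb : 𝒴.p.IsStronglyCartesian (𝒳.p.map Φ.hom.fst) Φ.hom.snd := sc_of_isFibGrpd h𝒴 _ _
    have hGb : 𝒮.p.IsStronglyCartesian (𝒳.p.map Φ.hom.fst) (G.map Φ.hom.snd) :=
      sc_of_isFibGrpd h𝒮 _ _
    have hv : 𝒳.p.map τ.hom.fst = 𝒳.p.map g ≫ 𝒳.p.map Φ.hom.fst := by
      rw [← hτ', Functor.map_comp]
    let β : s.obj.snd ⟶ t'.obj.snd :=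
      Functor.IsStronglyCartesian.map 𝒴.p (𝒳.p.map Φ.hom.fst) Φ.hom.snd hv τ.hom.snd
    have hβ : 𝒴.p.IsHomLift (𝒳.p.map g) β :=
      Functor.IsStronglyCartesian.map_isHomLift 𝒴.p (𝒳.p.map Φ.hom.fst) Φ.hom.snd hv τ.hom.snd
    have hβf : β ≫ Φ.hom.snd = τ.hom.snd :=
      Functor.IsStronglyCartesian.fac 𝒴.p (𝒳.p.map Φ.hom.fst) Φ.hom.snd hv τ.hom.snd
    have hFg : 𝒮.p.IsHomLift (𝒳.p.map g) (F.map g) := inferInstance
    have hGβ : 𝒮.p.IsHomLift (𝒳.p.map g) (G.map β) := inferInstance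
    have hs : 𝒮.p.IsHomLift (𝟙 (𝒳.p.obj s.obj.fst)) s.obj.iso.hom := s.property
    have ht' : 𝒮.p.IsHomLift (𝟙 (𝒳.p.obj t'.obj.fst)) t'.obj.iso.hom := t'.property
    have hl1 : 𝒮.p.IsHomLift (𝒳.p.map g) (F.map g ≫ t'.obj.iso.hom) :=
      IsHomLift.comp_lift_id_right' 𝒮.p (𝒳.p.map g) (F.map g) (𝒳.p.obj t'.obj.fst) t'.obj.iso.hom
    have hl2 : 𝒮.p.IsHomLift (𝒳.p.map g) (s.obj.iso.hom ≫ G.map β) :=
      IsHomLift.comp_lift_id_left' 𝒮.p (𝒳.p.obj s.obj.fst) s.obj.iso.hom (𝒳.p.map g) (G.map β)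
    have hw : F.map g ≫ t'.obj.iso.hom = s.obj.iso.hom ≫ G.map β := by
      apply Functor.IsStronglyCartesian.ext 𝒮.p (𝒳.p.map Φ.hom.fst) (G.map Φ.hom.snd)
        (𝒳.p.map g)
      rw [Category.assoc, ← Φ.hom.w, ← Category.assoc, ← F.map_comp, hτ', Category.assoc,
        ← G.map_comp, hβf]
      exact τ.hom.w
    let χ : s ⟶ t' := ObjectProperty.homMk
      ({ fst := g, snd := β, w := hw } :
        Limits.CategoricalPullback.Hom (F := F.toFunctor) (G := G.toFunctor) s.obj t'.obj)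
    have hχ : (FibCat.fpFst F G).toFunctor.IsHomLift g χ :=
      (fpFst_lift_iff F G g χ).2 ⟨rfl, rfl, by simp [χ]⟩
    refine ⟨χ, ⟨hχ, ?_⟩, ?_⟩
    · apply ObjectProperty.hom_ext
      apply Limits.CategoricalPullback.hom_ext
      · exact hτ'
      · exact hβf
    · rintro χ' ⟨hχ'1, hχ'2⟩
      have e0 : χ'.hom.fst = g :=
        (@IsHomLift.eq_of_isHomLift _ _ _ _ (FibCat.fpFst F G).toFunctor s t' g χ' hχ'1).symm
      have h2 : 𝒴.p.IsHomLift (𝒳.p.map g) χ'.hom.snd := by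
        have : 𝒴.p.IsHomLift (𝒳.p.map χ'.hom.fst) χ'.hom.snd := FibCat.fp_isHomLift_snd F G χ'
        rwa [e0] at this
      have e2 : χ'.hom.snd ≫ Φ.hom.snd = τ.hom.snd := by
        have := congrArg (fun m => m.hom.snd) hχ'2
        exact this
      apply ObjectProperty.hom_ext
      apply Limits.CategoricalPullback.hom_ext
      · exact e0
      · exact Functor.IsStronglyCartesian.map_uniq 𝒴.p (𝒳.p.map Φ.hom.fst) Φ.hom.snd hv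
          τ.hom.snd χ'.hom.snd e2

lemma fpSnd_lift_iff {y' y : 𝒴.obj} (f : y' ⟶ y) {a b : (FibCat.fp F G).obj} (Ψ : a ⟶ b) :
    (FibCat.fpSnd F G).toFunctor.IsHomLift f Ψ ↔
      ∃ (h1 : a.obj.snd = y') (h2 : b.obj.snd = y), Ψ.hom.snd = eqToHom h1 ≫ f ≫ eqToHom h2.symm := by
  constructor
  · intro h
    exact ⟨IsHomLift.domain_eq (FibCat.fpSnd F G).toFunctor f Ψ,
      IsHomLift.codomain_eq (FibCat.fpSnd F G).toFunctor f Ψ,
      IsHomLift.fac' (FibCat.fpSnd F G).toFunctor f Ψ⟩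
  · rintro ⟨h1, h2, h3⟩
    exact IsHomLift.of_fac' (FibCat.fpSnd F G).toFunctor f Ψ h1 h2 h3

lemma lift_unique {𝒵 : Type*} [Category 𝒵] (p : 𝒵 ⥤ C) {R S : C} (f f' : R ⟶ S) {a b : 𝒵}
    (φ : a ⟶ b) [p.IsHomLift f φ] [p.IsHomLift f' φ] : f = f' :=
  (IsHomLift.fac p f φ).trans (IsHomLift.fac p f' φ).symm

lemma fp_obj_snd_proj (t : (FibCat.fp F G).obj) : 𝒴.p.obj t.obj.snd = 𝒳.p.obj t.obj.fst := by
  have hγ : 𝒮.p.IsHomLift (𝟙 (𝒳.p.obj t.obj.fst)) t.obj.iso.hom := t.property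
  exact (G.w_obj t.obj.snd).symm.trans
    (IsHomLift.codomain_eq 𝒮.p (𝟙 (𝒳.p.obj t.obj.fst)) t.obj.iso.hom)

theorem isFibGrpd_fpSnd (h𝒳 : FibCat.IsFibGrpd 𝒳.p) (h𝒮 : FibCat.IsFibGrpd 𝒮.p) :
    FibCat.IsFibGrpd (FibCat.fpSnd F G).toFunctor := by
  refine ⟨?_, ?_⟩
  · intro t y' f
    change y' ⟶ t.obj.snd at f
    have hγ : 𝒮.p.IsHomLift (𝟙 (𝒳.p.obj t.obj.fst)) t.obj.iso.hom := t.property
    have hy : 𝒴.p.obj t.obj.snd = 𝒳.p.obj t.obj.fst := fp_obj_snd_proj F G t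
    have := isFibered_of_isFibGrpd h𝒳
    obtain ⟨x', a, ha⟩ := IsPreFibered.exists_isCartesian 𝒳.p hy.symm (𝒴.p.map f)
    have hal : 𝒳.p.IsHomLift (𝒴.p.map f) a := inferInstance
    have hx' : 𝒳.p.obj x' = 𝒴.p.obj y' := IsHomLift.domain_eq 𝒳.p (𝒴.p.map f) a
    have hGf : 𝒮.p.IsStronglyCartesian (𝒴.p.map f) (G.map f) := sc_of_isFibGrpd h𝒮 _ _
    have hFa : 𝒮.p.IsHomLift (𝒴.p.map f) (F.map a ≫ t.obj.iso.hom) :=
      IsHomLift.comp_lift_id_right' 𝒮.p (𝒴.p.map f) (F.map a) (𝒳.p.obj t.obj.fst) t.obj.iso.hom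
    have hcomp : 𝒮.p.IsStronglyCartesian (𝒴.p.map f) (F.map a ≫ t.obj.iso.hom) :=
      sc_of_isFibGrpd h𝒮 _ _
    have hid : 𝒴.p.map f = (Iso.refl (𝒴.p.obj y')).hom ≫ 𝒴.p.map f := by simp
    let γ' : F.obj x' ≅ G.obj y' :=
      Functor.IsStronglyCartesian.domainIsoOfBaseIso 𝒮.p (g := Iso.refl (𝒴.p.obj y')) hid (G.map f)
        (F.map a ≫ t.obj.iso.hom)
    have hγ'lift : 𝒮.p.IsHomLift (𝟙 (𝒴.p.obj y')) γ'.hom :=
      Functor.IsStronglyCartesian.domainUniqueUpToIso_inv_isHomLift 𝒮.p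
        (g := Iso.refl (𝒴.p.obj y')) hid (G.map f) (F.map a ≫ t.obj.iso.hom)
    have hγ'fac : γ'.hom ≫ G.map f = F.map a ≫ t.obj.iso.hom :=
      Functor.IsStronglyCartesian.fac 𝒮.p (𝒴.p.map f) (G.map f) hid (F.map a ≫ t.obj.iso.hom)
    have hprop : 𝒮.p.IsHomLift (𝟙 (𝒳.p.obj x')) γ'.hom := by
      rw [hx']; exact hγ'lift
    let t' : (FibCat.fp F G).obj := ⟨⟨x', y', γ'⟩, hprop⟩
    let Φ : t' ⟶ t := ObjectProperty.homMk
      ({ fst := a, snd := f, w := hγ'fac.symm } :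
        Limits.CategoricalPullback.Hom (F := F.toFunctor) (G := G.toFunctor) ⟨x', y', γ'⟩ t.obj)
    refine ⟨t', Φ, ?_⟩
    exact (fpSnd_lift_iff F G f Φ).2 ⟨rfl, rfl, by simp [Φ]⟩
  · intro t' t Φ
    refine { toIsHomLift := inferInstance, universal_property' := ?_ }
    intro s g τ hτ
    have hτ0 := @IsHomLift.eq_of_isHomLift _ _ _ _ (FibCat.fpSnd F G).toFunctor s t _ τ hτ
    obtain ⟨g', hg'⟩ : ∃ g' : s.obj.snd ⟶ t'.obj.snd, g' = g := ⟨g, rfl⟩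
    have hτ' : g' ≫ Φ.hom.snd = τ.hom.snd := by rw [hg']; exact hτ0
    clear hτ0
    subst hg'
    rename' g' => g
    have hbl : 𝒴.p.IsHomLift (𝒳.p.map Φ.hom.fst) Φ.hom.snd := FibCat.fp_isHomLift_snd F G Φ
    have hτl : 𝒴.p.IsHomLift (𝒳.p.map τ.hom.fst) τ.hom.snd := FibCat.fp_isHomLift_snd F G τ
    have ha : 𝒳.p.IsStronglyCartesian (𝒳.p.map Φ.hom.fst) Φ.hom.fst := sc_of_isFibGrpd h𝒳 _ _
    have hGb : 𝒮.p.IsStronglyCartesian (𝒳.p.map Φ.hom.fst) (G.map Φ.hom.snd) :=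
      sc_of_isFibGrpd h𝒮 _ _
    -- the morphism of `C` under `g`
    have es : 𝒴.p.obj s.obj.snd = 𝒳.p.obj s.obj.fst := fp_obj_snd_proj F G s
    have et' : 𝒴.p.obj t'.obj.snd = 𝒳.p.obj t'.obj.fst := fp_obj_snd_proj F G t'
    obtain ⟨w, hw0⟩ : ∃ w : 𝒳.p.obj s.obj.fst ⟶ 𝒳.p.obj t'.obj.fst,
        w = eqToHom es.symm ≫ 𝒴.p.map g ≫ eqToHom et' := ⟨_, rfl⟩
    have hgw : 𝒴.p.IsHomLift w g := IsHomLift.of_fac 𝒴.p w g es et' hw0
    have hv : 𝒳.p.map τ.hom.fst = w ≫ 𝒳.p.map Φ.hom.fst := by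
      have h1 : 𝒴.p.IsHomLift (w ≫ 𝒳.p.map Φ.hom.fst) (g ≫ Φ.hom.snd) := inferInstance
      rw [hτ'] at h1
      exact lift_unique 𝒴.p _ _ τ.hom.snd
    let α : s.obj.fst ⟶ t'.obj.fst :=
      Functor.IsStronglyCartesian.map 𝒳.p (𝒳.p.map Φ.hom.fst) Φ.hom.fst hv τ.hom.fst
    have hα : 𝒳.p.IsHomLift w α :=
      Functor.IsStronglyCartesian.map_isHomLift 𝒳.p (𝒳.p.map Φ.hom.fst) Φ.hom.fst hv τ.hom.fst
    have hαf : α ≫ Φ.hom.fst = τ.hom.fst :=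
      Functor.IsStronglyCartesian.fac 𝒳.p (𝒳.p.map Φ.hom.fst) Φ.hom.fst hv τ.hom.fst
    have hFα : 𝒮.p.IsHomLift w (F.map α) := inferInstance
    have hGg : 𝒮.p.IsHomLift w (G.map g) := inferInstance
    have hs : 𝒮.p.IsHomLift (𝟙 (𝒳.p.obj s.obj.fst)) s.obj.iso.hom := s.property
    have ht' : 𝒮.p.IsHomLift (𝟙 (𝒳.p.obj t'.obj.fst)) t'.obj.iso.hom := t'.property
    have hl1 : 𝒮.p.IsHomLift w (F.map α ≫ t'.obj.iso.hom) :=
      IsHomLift.comp_lift_id_right' 𝒮.p w (F.map α) (𝒳.p.obj t'.obj.fst) t'.obj.iso.hom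
    have hl2 : 𝒮.p.IsHomLift w (s.obj.iso.hom ≫ G.map g) :=
      IsHomLift.comp_lift_id_left' 𝒮.p (𝒳.p.obj s.obj.fst) s.obj.iso.hom w (G.map g)
    have hw : F.map α ≫ t'.obj.iso.hom = s.obj.iso.hom ≫ G.map g := by
      apply Functor.IsStronglyCartesian.ext 𝒮.p (𝒳.p.map Φ.hom.fst) (G.map Φ.hom.snd) w
      rw [Category.assoc, ← Φ.hom.w, ← Category.assoc, ← F.map_comp, hαf, Category.assoc,
        ← G.map_comp, hτ']
      exact τ.hom.w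
    let χ : s ⟶ t' := ObjectProperty.homMk
      ({ fst := α, snd := g, w := hw } :
        Limits.CategoricalPullback.Hom (F := F.toFunctor) (G := G.toFunctor) s.obj t'.obj)
    have hχ : (FibCat.fpSnd F G).toFunctor.IsHomLift g χ :=
      (fpSnd_lift_iff F G g χ).2 ⟨rfl, rfl, by simp [χ]⟩
    refine ⟨χ, ⟨hχ, ?_⟩, ?_⟩
    · apply ObjectProperty.hom_ext
      apply Limits.CategoricalPullback.hom_ext
      · exact hαf
      · exact hτ'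
    · rintro χ' ⟨hχ'1, hχ'2⟩
      have e0 : χ'.hom.snd = g :=
        (@IsHomLift.eq_of_isHomLift _ _ _ _ (FibCat.fpSnd F G).toFunctor s t' g χ' hχ'1).symm
      have h2 : 𝒳.p.IsHomLift w χ'.hom.fst := by
        have h3 : 𝒴.p.IsHomLift (𝒳.p.map χ'.hom.fst) χ'.hom.snd := FibCat.fp_isHomLift_snd F G χ'
        rw [e0] at h3
        have e4 : 𝒳.p.map χ'.hom.fst = w := lift_unique 𝒴.p _ _ g
        rw [← e4]; infer_instance
      have e2 : χ'.hom.fst ≫ Φ.hom.fst = τ.hom.fst := by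
        have := congrArg (fun m => m.hom.fst) hχ'2
        exact this
      apply ObjectProperty.hom_ext
      apply Limits.CategoricalPullback.hom_ext
      · exact Functor.IsStronglyCartesian.map_uniq 𝒳.p (𝒳.p.map Φ.hom.fst) Φ.hom.fst hv
          τ.hom.fst χ'.hom.fst e2
      · exact e0


end Groth.Agent.Lib.helper10.FpGen
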