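import Mathlib.Tactic
import Groth.Prelude.Def_AlgSt
import Groth.Agent.Lib.helper10.EquivOver
import Groth.Agent.Lib.helper10.FiberFun

/-!
# Invariance of the (pre)stack conditions under equivalence over `C` (helper10 library, general universes)
-/

set_option autoImplicit false
universe v u v₂ u₂ v₃ u₃ v₄ u₄ v₅ u₅

open CategoryTheory

namespace Groth.Agent.Lib.helper10.StkEquiv

variable {C : Type u} [Category.{v} C]

section Basic

variable {𝒳 : BasedCategory.{v₂, u₂} C} {𝒴 : BasedCategory.{v₃, u₃} C}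

/-- a fully faithful functor over `C` reflects strongly cartesian morphisms -/
lemma sc_reflect (G : 𝒳 ⥤ᵇ 𝒴)
    [G.toFunctor.Full] [G.toFunctor.Faithful] {R S : C} (f : R ⟶ S) {a b : 𝒳.obj} (φ : a ⟶ b)
    [𝒳.p.IsHomLift f φ] (h : 𝒴.p.IsStronglyCartesian f (G.map φ)) :
    𝒳.p.IsStronglyCartesian f φ := by
  refine { toIsHomLift := inferInstance, universal_property' := ?_ }
  intro a' g φ' hφ'
  have hGφ' : 𝒴.p.IsHomLift (g ≫ f) (G.map φ') := inferInstance
  let χ' : G.obj a' ⟶ G.obj a := Functor.IsStronglyCartesian.map 𝒴.p f (G.map φ) (g := g) rfl (G.map φ')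
  have hχ' : 𝒴.p.IsHomLift g χ' :=
    Functor.IsStronglyCartesian.map_isHomLift 𝒴.p f (G.map φ) (g := g) rfl (G.map φ')
  have hχ'f : χ' ≫ G.map φ = G.map φ' :=
    Functor.IsStronglyCartesian.fac 𝒴.p f (G.map φ) (g := g) rfl (G.map φ')
  obtain ⟨χ, hχ⟩ := G.toFunctor.map_surjective χ'
  have hχl : 𝒳.p.IsHomLift g χ := by
    rw [← BasedFunctor.isHomLift_iff G]
    rw [hχ]; exact hχ'
  refine ⟨χ, ⟨hχl, ?_⟩, ?_⟩
  · apply G.toFunctor.map_injective
    rw [Functor.map_comp, hχ]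
    exact hχ'f
  · rintro χ₁ ⟨h1, h2⟩
    apply G.toFunctor.map_injective
    rw [hχ]
    have : 𝒴.p.IsHomLift g (G.map χ₁) := inferInstance
    apply Functor.IsStronglyCartesian.map_uniq 𝒴.p f (G.map φ) (g := g) rfl (G.map φ') (G.map χ₁)
    change G.toFunctor.map χ₁ ≫ G.toFunctor.map φ = G.toFunctor.map φ'
    rw [← Functor.map_comp, h2]

theorem symm (F : 𝒳 ⥤ᵇ 𝒴) (hF : FibCat.IsEquivOver F) : ∃ G : 𝒴 ⥤ᵇ 𝒳, FibCat.IsEquivOver G := by
  obtain ⟨G, η, ε⟩ := hF
  exact ⟨G, F, ε, η⟩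

theorem isFibGrpd_of_equiv (F : 𝒳 ⥤ᵇ 𝒴) (hF : FibCat.IsEquivOver F) (h : FibCat.IsFibGrpd 𝒳.p) :
    FibCat.IsFibGrpd 𝒴.p := by
  obtain ⟨G, hG⟩ := symm F hF
  have hE := EquivOver.isEquivalence G hG
  have : G.toFunctor.Full := hE.full
  have : G.toFunctor.Faithful := hE.faithful
  constructor
  · intro y V f
    obtain ⟨a₀, θ, hθ⟩ := EquivOver.exists_iso F hF y
    have hdom : 𝒳.p.obj a₀ = 𝒴.p.obj y := by
      rw [← F.w_obj a₀]
      exact IsHomLift.domain_eq 𝒴.p (𝟙 (𝒴.p.obj y)) θ.hom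
    obtain ⟨b₀, φ₀, hφ₀⟩ := h.exists_lift (x := a₀) (f ≫ eqToHom hdom.symm)
    rw [IsHomLift.lift_comp_eqToHom_iff] at hφ₀
    have h1 : 𝒴.p.IsHomLift f (F.map φ₀) := inferInstance
    have h3 : 𝒴.p.IsHomLift (f ≫ 𝟙 (𝒴.p.obj y)) (F.map φ₀ ≫ θ.hom) := inferInstance
    rw [Category.comp_id] at h3
    exact ⟨F.obj b₀, F.map φ₀ ≫ θ.hom, h3⟩
  · intro y' y φ
    have hl : 𝒳.p.IsHomLift (𝒴.p.map φ) (G.map φ) := inferInstance
    exact sc_reflect G (𝒴.p.map φ) φ (FiberFun.sc_of_isFibGrpd h (𝒴.p.map φ) (G.map φ))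

theorem isFibGrpd_iff (F : 𝒳 ⥤ᵇ 𝒴) (hF : FibCat.IsEquivOver F) :
    FibCat.IsFibGrpd 𝒳.p ↔ FibCat.IsFibGrpd 𝒴.p := by
  constructor
  · exact isFibGrpd_of_equiv F hF
  · obtain ⟨G, hG⟩ := symm F hF
    exact isFibGrpd_of_equiv G hG

theorem thin_of_faithful (F : 𝒳 ⥤ᵇ 𝒴) [F.toFunctor.Faithful]
    (h : ∀ U : C, Quiver.IsThin (𝒴.p.Fiber U)) (U : C) : Quiver.IsThin (𝒳.p.Fiber U) := by
  intro a b
  constructor
  intro m m'
  apply Functor.Fiber.hom_ext
  apply F.toFunctor.map_injective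
  have hd := h U
  have e : (FibCat.fiberFunctor F U).map m = (FibCat.fiberFunctor F U).map m' :=
    Subsingleton.elim _ _
  exact congrArg (fun z => Functor.Fiber.fiberInclusion.map z) e

theorem isFibSetoid_iff (F : 𝒳 ⥤ᵇ 𝒴) (hF : FibCat.IsEquivOver F) :
    FibCat.IsFibSetoid 𝒳.p ↔ FibCat.IsFibSetoid 𝒴.p := by
  obtain ⟨G, hG⟩ := symm F hF
  have hE := EquivOver.isEquivalence G hG
  have : G.toFunctor.Faithful := hE.faithful
  have hE' := EquivOver.isEquivalence F hF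
  have : F.toFunctor.Faithful := hE'.faithful
  unfold FibCat.IsFibSetoid
  rw [isFibGrpd_iff F hF]
  constructor
  · rintro ⟨h1, h2⟩
    exact ⟨h1, thin_of_faithful G h2⟩
  · rintro ⟨h1, h2⟩
    exact ⟨h1, thin_of_faithful F h2⟩

end Basic

section Post

variable {𝒳 : BasedCategory.{v₂, u₂} C} {𝒴 : BasedCategory.{v₃, u₃} C}
  (F : 𝒳 ⥤ᵇ 𝒴) (𝒜 : BasedCategory.{v₄, u₄} C)

/-- postcomposition with a functor over `C`, as a functor between categories of functors over `C` -/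
def post : (𝒜 ⥤ᵇ 𝒳) ⥤ (𝒜 ⥤ᵇ 𝒴) where
  obj G := BasedFunctor.comp G F
  map α := BasedCategory.whiskerRight α F
  map_id G := by
    apply BasedNatTrans.homCategory.ext
    ext a
    exact F.toFunctor.map_id _
  map_comp α β := by
    apply BasedNatTrans.homCategory.ext
    ext a
    exact F.toFunctor.map_comp _ _

instance post_faithful [F.toFunctor.Faithful] : (post F 𝒜).Faithful where
  map_injective := by
    intro G G' α β h
    apply BasedNatTrans.homCategory.ext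
    ext a
    apply F.toFunctor.map_injective
    exact congrArg (fun γ : (post F 𝒜).obj G ⟶ (post F 𝒜).obj G' => γ.toNatTrans.app a) h

instance post_full [F.toFunctor.Full] [F.toFunctor.Faithful] : (post F 𝒜).Full where
  map_surjective := by
    intro G G' γ
    refine ⟨{ toNatTrans := { app := fun a => F.toFunctor.preimage (γ.toNatTrans.app a), naturality := ?_ }, isHomLift' := ?_ }, ?_⟩
    · intro a b m
      apply F.toFunctor.map_injective
      simp only [Functor.map_comp, Functor.map_preimage]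
      exact γ.toNatTrans.naturality m
    · intro a
      rw [← BasedFunctor.isHomLift_iff F]
      rw [Functor.map_preimage]
      exact γ.isHomLift' a
    · apply BasedNatTrans.homCategory.ext
      ext a
      exact F.toFunctor.map_preimage _

theorem post_essSurj (hF : FibCat.IsEquivOver F) : (post F 𝒜).EssSurj := by
  obtain ⟨G, ⟨η⟩, ⟨ε⟩⟩ := hF
  constructor
  intro H
  refine ⟨BasedFunctor.comp H G, ⟨?_⟩⟩
  refine BasedNatIso.mkNatIso (NatIso.ofComponents (fun a => ((BasedNatTrans.forgetful 𝒴 𝒴).mapIso ε).app (H.obj a)) ?_) ?_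
  · intro a b m
    exact ε.hom.toNatTrans.naturality (H.map m)
  · intro a
    exact ε.hom.isHomLift (H.w_obj a)

theorem post_isEquivalence (hF : FibCat.IsEquivOver F) : (post F 𝒜).IsEquivalence := by
  have hE := EquivOver.isEquivalence F hF
  have : F.toFunctor.Full := hE.full
  have : F.toFunctor.Faithful := hE.faithful
  have := post_essSurj F 𝒜 hF
  exact { }

theorem restr_post {ℬ : BasedCategory.{v₅, u₅} C} (ι : 𝒜 ⥤ᵇ ℬ) :
    Stk.restr ι 𝒳 ⋙ post F 𝒜 = post F ℬ ⋙ Stk.restr ι 𝒴 := rfl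

end Post

section Aux

lemma full_of_equiv_comp {A B D : Type*} [Category A] [Category B] [Category D]
    (E : A ⥤ B) [E.IsEquivalence] (H : B ⥤ D) [(E ⋙ H).Full] : H.Full := by
  have : (E.inv ⋙ E ⋙ H).Full := inferInstance
  exact Functor.Full.of_iso
    ((Functor.associator E.inv E H).symm ≪≫
      Functor.isoWhiskerRight E.asEquivalence.counitIso H ≪≫ H.leftUnitor)

lemma faithful_of_equiv_comp {A B D : Type*} [Category A] [Category B] [Category D]
    (E : A ⥤ B) [E.IsEquivalence] (H : B ⥤ D) [(E ⋙ H).Faithful] : H.Faithful := by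
  have : (E.inv ⋙ E ⋙ H).Faithful := inferInstance
  exact Functor.Faithful.of_iso
    ((Functor.associator E.inv E H).symm ≪≫
      Functor.isoWhiskerRight E.asEquivalence.counitIso H ≪≫ H.leftUnitor)

end Aux

section Stack

variable {𝒳 : BasedCategory.{v₂, u₂} C} {𝒴 : BasedCategory.{v₃, u₃} C}
  (F : 𝒳 ⥤ᵇ 𝒴) (hF : FibCat.IsEquivOver F)

include hF

theorem isStackFor_iff {U : C} (R : Sieve U) : Stk.IsStackFor R 𝒳 ↔ Stk.IsStackFor R 𝒴 := by
  have h1 := post_isEquivalence F (Stk.sieveCat R) hF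
  have h2 := post_isEquivalence F (FibCat.overCat U) hF
  have sq : Stk.resSieve R 𝒳 ⋙ post F (Stk.sieveCat R) = post F (FibCat.overCat U) ⋙ Stk.resSieve R 𝒴 := rfl
  unfold Stk.IsStackFor
  constructor
  · intro h
    have : (post F (FibCat.overCat U) ⋙ Stk.resSieve R 𝒴).IsEquivalence := by
      rw [← sq]; infer_instance
    exact Functor.isEquivalence_of_comp_left (post F (FibCat.overCat U)) _
  · intro h
    have : (Stk.resSieve R 𝒳 ⋙ post F (Stk.sieveCat R)).IsEquivalence := by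
      rw [sq]; infer_instance
    exact Functor.isEquivalence_of_comp_right _ (post F (Stk.sieveCat R))

theorem isPrestackFor_iff {U : C} (R : Sieve U) : Stk.IsPrestackFor R 𝒳 ↔ Stk.IsPrestackFor R 𝒴 := by
  have h1 := post_isEquivalence F (Stk.sieveCat R) hF
  have h2 := post_isEquivalence F (FibCat.overCat U) hF
  have sq : Stk.resSieve R 𝒳 ⋙ post F (Stk.sieveCat R) = post F (FibCat.overCat U) ⋙ Stk.resSieve R 𝒴 := rfl
  unfold Stk.IsPrestackFor
  constructor
  · rintro ⟨hfu, hfa⟩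
    have a1 : (post F (FibCat.overCat U) ⋙ Stk.resSieve R 𝒴).Full := by
      rw [← sq]; infer_instance
    have a2 : (post F (FibCat.overCat U) ⋙ Stk.resSieve R 𝒴).Faithful := by
      rw [← sq]; infer_instance
    exact ⟨full_of_equiv_comp (post F (FibCat.overCat U)) _,
      faithful_of_equiv_comp (post F (FibCat.overCat U)) _⟩
  · rintro ⟨hfu, hfa⟩
    have a1 : (Stk.resSieve R 𝒳 ⋙ post F (Stk.sieveCat R)).Full := by
      rw [sq]; infer_instance
    have a2 : (Stk.resSieve R 𝒳 ⋙ post F (Stk.sieveCat R)).Faithful := by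
      rw [sq]; infer_instance
    exact ⟨Functor.Full.of_comp_faithful _ (post F (Stk.sieveCat R)),
      Functor.Faithful.of_comp _ (post F (Stk.sieveCat R))⟩

theorem isStack_iff (J : GrothendieckTopology C) : Stk.IsStack J 𝒳 ↔ Stk.IsStack J 𝒴 := by
  unfold Stk.IsStack
  rw [isFibGrpd_iff F hF]
  constructor
  · rintro ⟨h1, h2⟩
    exact ⟨h1, fun U R hR => (isStackFor_iff F hF R).mp (h2 R hR)⟩
  · rintro ⟨h1, h2⟩
    exact ⟨h1, fun U R hR => (isStackFor_iff F hF R).mpr (h2 R hR)⟩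

theorem isPrestack_iff (J : GrothendieckTopology C) : Stk.IsPrestack J 𝒳 ↔ Stk.IsPrestack J 𝒴 := by
  unfold Stk.IsPrestack
  rw [isFibGrpd_iff F hF]
  constructor
  · rintro ⟨h1, h2⟩
    exact ⟨h1, fun U R hR => (isPrestackFor_iff F hF R).mp (h2 R hR)⟩
  · rintro ⟨h1, h2⟩
    exact ⟨h1, fun U R hR => (isPrestackFor_iff F hF R).mpr (h2 R hR)⟩

end Stack

end Groth.Agent.Lib.helper10.StkEquiv
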