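import Mathlib.Tactic
import Groth.Prelude.Def_AlgSt
import Groth.Agent.Lib.helper10.FpGen
import Groth.Agent.Lib.helper10.StkEquiv
import Groth.Agent.Lib.helper10.EquivCore
import Groth.Agent.Lib.helper10.Vert

/-!
# Functoriality of the 2-fibre product over `C` (helper10 library, general universes)

`Φ : fp F G ⥤ᵇ fp F' G'` induced by `a : 𝒳 ⟶ 𝒳'`, `b : 𝒴 ⟶ 𝒴'`, `c : 𝒮 ⟶ 𝒮'` and 2-isomorphisms
`α : a ⋙ F' ≅ F ⋙ c`, `β : b ⋙ G' ≅ G ⋙ c`; it is an equivalence over `C` when `a`, `b` are fully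
faithful and essentially surjective over identities and `c` is fully faithful.
-/

set_option autoImplicit false
universe v u v₂ u₂ v₃ u₃ v₄ u₄ v₅ u₅ v₆ u₆ v₇ u₇

open CategoryTheory

namespace Groth.Agent.Lib.helper10.FpMap

open Groth.Agent.Lib.helper10.FpGen

variable {C : Type u} [Category.{v} C]
  {𝒳 : BasedCategory.{v₂, u₂} C} {𝒴 : BasedCategory.{v₃, u₃} C} {𝒮 : BasedCategory.{v₄, u₄} C}
  {𝒳' : BasedCategory.{v₅, u₅} C} {𝒴' : BasedCategory.{v₆, u₆} C} {𝒮' : BasedCategory.{v₇, u₇} C}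
  (F : 𝒳 ⥤ᵇ 𝒮) (G : 𝒴 ⥤ᵇ 𝒮) (F' : 𝒳' ⥤ᵇ 𝒮') (G' : 𝒴' ⥤ᵇ 𝒮')
  (a : 𝒳 ⥤ᵇ 𝒳') (b : 𝒴 ⥤ᵇ 𝒴') (c : 𝒮 ⥤ᵇ 𝒮')
  (α : BasedFunctor.comp a F' ≅ BasedFunctor.comp F c)
  (β : BasedFunctor.comp b G' ≅ BasedFunctor.comp G c)

/-- the 2-isomorphism filling the outer square -/
def mapIso : BasedFunctor.comp (BasedFunctor.comp (FibCat.fpFst F G) a) F' ≅
    BasedFunctor.comp (BasedFunctor.comp (FibCat.fpSnd F G) b) G' :=
  (Stk.restr (FibCat.fpFst F G) 𝒮').mapIso α ≪≫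
    (StkEquiv.post c (FibCat.fp F G)).mapIso (FibCat.fpIso F G) ≪≫
    ((Stk.restr (FibCat.fpSnd F G) 𝒮').mapIso β).symm

/-- the induced functor between 2-fibre products -/
def Φ : FibCat.fp F G ⥤ᵇ FibCat.fp F' G' :=
  FibCat.fpLift (BasedFunctor.comp (FibCat.fpFst F G) a) (BasedFunctor.comp (FibCat.fpSnd F G) b)
    (mapIso F G F' G' a b c α β)

lemma Φ_fst : BasedFunctor.comp (Φ F G F' G' a b c α β) (FibCat.fpFst F' G') =
    BasedFunctor.comp (FibCat.fpFst F G) a := rfl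

lemma Φ_snd : BasedFunctor.comp (Φ F G F' G' a b c α β) (FibCat.fpSnd F' G') =
    BasedFunctor.comp (FibCat.fpSnd F G) b := rfl

lemma Φ_obj_fst (t : (FibCat.fp F G).obj) : ((Φ F G F' G' a b c α β).obj t).obj.fst = a.obj t.obj.fst := rfl
lemma Φ_obj_snd (t : (FibCat.fp F G).obj) : ((Φ F G F' G' a b c α β).obj t).obj.snd = b.obj t.obj.snd := rfl

lemma Φ_obj_iso_hom (t : (FibCat.fp F G).obj) :
    ((Φ F G F' G' a b c α β).obj t).obj.iso.hom =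
      α.hom.toNatTrans.app t.obj.fst ≫ c.map t.obj.iso.hom ≫ β.inv.toNatTrans.app t.obj.snd := rfl

lemma Φ_map_fst {t t' : (FibCat.fp F G).obj} (m : t ⟶ t') :
    ((Φ F G F' G' a b c α β).map m).hom.fst = a.map m.hom.fst := rfl

lemma Φ_map_snd {t t' : (FibCat.fp F G).obj} (m : t ⟶ t') :
    ((Φ F G F' G' a b c α β).map m).hom.snd = b.map m.hom.snd := rfl

theorem Φ_faithful [a.toFunctor.Faithful] [b.toFunctor.Faithful] :
    (Φ F G F' G' a b c α β).toFunctor.Faithful where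
  map_injective := by
    intro t t' m m' h
    apply ObjectProperty.hom_ext
    apply Limits.CategoricalPullback.hom_ext
    · apply a.toFunctor.map_injective
      exact congrArg (fun k => k.hom.fst) h
    · apply b.toFunctor.map_injective
      exact congrArg (fun k => k.hom.snd) h

omit [Category.{v} C] in
lemma aux_full {A : Type*} [Category A] {P Q R S P' Q' R' S' : A}
    (α₁ : P ⟶ Q) (α₁' : P' ⟶ Q') (i : Q ⟶ R) (i' : Q' ⟶ R') (β₁ : R ⟶ S) (β₁' : R' ⟶ S')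
    (βh : S ⟶ R) (βh' : S' ⟶ R') (hβ : β₁ ≫ βh = 𝟙 R) (hβ' : β₁' ≫ βh' = 𝟙 R')
    [Epi α₁]
    (f : P ⟶ P') (g : S ⟶ S') (cf : Q ⟶ Q') (cg : R ⟶ R')
    (n1 : f ≫ α₁' = α₁ ≫ cf) (n2 : βh ≫ cg = g ≫ βh')
    (hw : f ≫ α₁' ≫ i' ≫ β₁' = (α₁ ≫ i ≫ β₁) ≫ g) : cf ≫ i' = i ≫ cg := by
  rw [← cancel_epi α₁]
  have h1 : α₁ ≫ cf ≫ i' = (f ≫ α₁' ≫ i' ≫ β₁') ≫ βh' := by
    simp only [Category.assoc]
    rw [hβ', Category.comp_id, ← Category.assoc, ← n1, Category.assoc]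
  rw [h1, hw]
  simp only [Category.assoc]
  rw [← n2, ← Category.assoc β₁, hβ, Category.id_comp]

theorem Φ_full [a.toFunctor.Full] [b.toFunctor.Full] [c.toFunctor.Faithful] :
    (Φ F G F' G' a b c α β).toFunctor.Full where
  map_surjective := by
    intro t t' h
    obtain ⟨f₁, hf₁⟩ : ∃ f₁ : t.obj.fst ⟶ t'.obj.fst, a.map f₁ = h.hom.fst :=
      a.toFunctor.map_surjective h.hom.fst
    obtain ⟨f₂, hf₂⟩ : ∃ f₂ : t.obj.snd ⟶ t'.obj.snd, b.map f₂ = h.hom.snd :=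
      b.toFunctor.map_surjective h.hom.snd
    have hw := h.hom.w
    rw [Φ_obj_iso_hom, Φ_obj_iso_hom] at hw
    have n1 : F'.map (a.map f₁) ≫ α.hom.toNatTrans.app t'.obj.fst =
        α.hom.toNatTrans.app t.obj.fst ≫ c.map (F.map f₁) := α.hom.toNatTrans.naturality f₁
    have n2 : β.hom.toNatTrans.app t.obj.snd ≫ c.map (G.map f₂) =
        G'.map (b.map f₂) ≫ β.hom.toNatTrans.app t'.obj.snd := (β.hom.toNatTrans.naturality f₂).symm
    have isoα : IsIso (α.hom.toNatTrans.app t.obj.fst) :=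
      inferInstanceAs (IsIso (((BasedNatTrans.forgetful _ _).mapIso α).app t.obj.fst).hom)
    have hβ : ∀ y : 𝒴.obj, β.inv.toNatTrans.app y ≫ β.hom.toNatTrans.app y = 𝟙 _ := fun y =>
      (((BasedNatTrans.forgetful _ _).mapIso β).app y).inv_hom_id
    have w : F.map f₁ ≫ t'.obj.iso.hom = t.obj.iso.hom ≫ G.map f₂ := by
      apply c.toFunctor.map_injective
      refine (c.toFunctor.map_comp _ _).trans (Eq.trans ?_ (c.toFunctor.map_comp _ _).symm)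
      refine aux_full (α.hom.toNatTrans.app t.obj.fst) (α.hom.toNatTrans.app t'.obj.fst)
        (c.map t.obj.iso.hom) (c.map t'.obj.iso.hom)
        (β.inv.toNatTrans.app t.obj.snd) (β.inv.toNatTrans.app t'.obj.snd)
        (β.hom.toNatTrans.app t.obj.snd) (β.hom.toNatTrans.app t'.obj.snd) (hβ _) (hβ _)
        (F'.map (a.map f₁)) (G'.map (b.map f₂)) (c.map (F.map f₁)) (c.map (G.map f₂)) n1 n2 ?_
      change F'.map (a.toFunctor.map f₁) ≫ _ = _ ≫ G'.map (b.toFunctor.map f₂)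
      rw [hf₁, hf₂]
      exact hw
    refine ⟨ObjectProperty.homMk ⟨f₁, f₂, w⟩, ?_⟩
    apply ObjectProperty.hom_ext
    apply Limits.CategoricalPullback.hom_ext
    · exact hf₁
    · exact hf₂

omit [Category.{v} C] in
lemma aux_hes {A : Type*} [Category A] {P Q R S T U : A}
    (αh : P ⟶ Q) (αi : Q ⟶ P) (hα : αh ≫ αi = 𝟙 P) (f : P ⟶ R) (i : R ⟶ S) (g : S ⟶ T) (gi : T ⟶ S)
    (hg : g ≫ gi = 𝟙 S)
    (βh : T ⟶ U) (βi : U ⟶ T) (hβ : βh ≫ βi = 𝟙 T) :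
    f ≫ i = (αh ≫ (αi ≫ f ≫ i ≫ g ≫ βh) ≫ βi) ≫ gi := by
  simp only [Category.assoc]
  rw [← Category.assoc βh, hβ, Category.id_comp, hg, Category.comp_id, ← Category.assoc αh, hα,
    Category.id_comp]

theorem Φ_hes
    (ha : ∀ x' : 𝒳'.obj, ∃ (x : 𝒳.obj) (θ : a.obj x ≅ x'), 𝒳'.p.IsHomLift (𝟙 (𝒳'.p.obj x')) θ.hom)
    (hb : ∀ y' : 𝒴'.obj, ∃ (y : 𝒴.obj) (θ : b.obj y ≅ y'), 𝒴'.p.IsHomLift (𝟙 (𝒴'.p.obj y')) θ.hom)
    [c.toFunctor.Full] [c.toFunctor.Faithful] (t' : (FibCat.fp F' G').obj) :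
    ∃ (t : (FibCat.fp F G).obj) (e : (Φ F G F' G' a b c α β).obj t ≅ t'),
      (FibCat.fp F' G').p.IsHomLift (𝟙 ((FibCat.fp F' G').p.obj t')) e.hom := by
  obtain ⟨x, θ₁, hθ₁⟩ := ha t'.obj.fst
  obtain ⟨y, θ₂, hθ₂⟩ := hb t'.obj.snd
  let αx : F'.obj (a.obj x) ≅ c.obj (F.obj x) := ((BasedNatTrans.forgetful _ _).mapIso α).app x
  let βy : G'.obj (b.obj y) ≅ c.obj (G.obj y) := ((BasedNatTrans.forgetful _ _).mapIso β).app y
  let κ : c.obj (F.obj x) ≅ c.obj (G.obj y) :=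
    αx.symm ≪≫ F'.toFunctor.mapIso θ₁ ≪≫ t'.obj.iso ≪≫ (G'.toFunctor.mapIso θ₂).symm ≪≫ βy
  let φ : F.obj x ≅ G.obj y := c.toFunctor.preimageIso κ
  have hφ : c.map φ.hom = κ.hom := by
    simp only [φ, Functor.preimageIso_hom]
    exact c.toFunctor.map_preimage κ.hom
  -- verticality
  have v1 : Vert.IsVert 𝒮'.p αx.inv := Vert.app α.inv x
  have v2 : Vert.IsVert 𝒮'.p (F'.map θ₁.hom) := Vert.map F' _ (Vert.of_lift' 𝒳'.p _ hθ₁)
  have v3 : Vert.IsVert 𝒮'.p t'.obj.iso.hom := Vert.of_lift' 𝒮'.p _ t'.property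
  have v4 : Vert.IsVert 𝒮'.p (G'.map θ₂.inv) :=
    Vert.map G' _ (Vert.inv_of_iso 𝒴'.p θ₂ (Vert.of_lift' 𝒴'.p _ hθ₂))
  have v5 : Vert.IsVert 𝒮'.p βy.hom := Vert.app β.hom y
  have vκ : Vert.IsVert 𝒮'.p κ.hom :=
    Vert.comp _ _ _ v1 (Vert.comp _ _ _ v2 (Vert.comp _ _ _ v3 (Vert.comp _ _ _ v4 v5)))
  have vφ : Vert.IsVert 𝒮.p φ.hom := by
    apply Vert.of_map c
    rw [hφ]
    exact vκ
  have hprop : 𝒮.p.IsHomLift (𝟙 (𝒳.p.obj x)) φ.hom := Vert.lift 𝒮.p φ.hom vφ (F.w_obj x)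
  let t : (FibCat.fp F G).obj := ⟨⟨x, y, φ⟩, hprop⟩
  have compat : F'.map θ₁.hom ≫ t'.obj.iso.hom =
      ((Φ F G F' G' a b c α β).obj t).obj.iso.hom ≫ G'.map θ₂.hom := by
    rw [Φ_obj_iso_hom]
    change _ = (αx.hom ≫ c.map φ.hom ≫ βy.inv) ≫ _
    rw [hφ]
    exact aux_hes αx.hom αx.inv αx.hom_inv_id (F'.map θ₁.hom) t'.obj.iso.hom (G'.map θ₂.inv)
      (G'.map θ₂.hom) (by
        change G'.toFunctor.map θ₂.inv ≫ G'.toFunctor.map θ₂.hom = _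
        rw [← Functor.map_comp, Iso.inv_hom_id]
        exact G'.toFunctor.map_id _) βy.hom βy.inv βy.hom_inv_id
  refine ⟨t, ObjectProperty.isoMk _ (Limits.CategoricalPullback.mkIso θ₁ θ₂ compat), ?_⟩
  rw [fp_lift_iff]
  exact hθ₁

theorem Φ_isEquivOver
    [a.toFunctor.Full] [a.toFunctor.Faithful] [b.toFunctor.Full] [b.toFunctor.Faithful]
    [c.toFunctor.Full] [c.toFunctor.Faithful]
    (ha : ∀ x' : 𝒳'.obj, ∃ (x : 𝒳.obj) (θ : a.obj x ≅ x'), 𝒳'.p.IsHomLift (𝟙 (𝒳'.p.obj x')) θ.hom)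
    (hb : ∀ y' : 𝒴'.obj, ∃ (y : 𝒴.obj) (θ : b.obj y ≅ y'), 𝒴'.p.IsHomLift (𝟙 (𝒴'.p.obj y')) θ.hom) :
    FibCat.IsEquivOver (Φ F G F' G' a b c α β) := by
  have h1 := Φ_faithful F G F' G' a b c α β
  have h2 := Φ_full F G F' G' a b c α β
  exact EquivCore.isEquivOver _ (Φ_hes F G F' G' a b c α β ha hb)

/-- version with equivalences over `C` -/
theorem Φ_isEquivOver' (ha : FibCat.IsEquivOver a) (hb : FibCat.IsEquivOver b)
    (hc : FibCat.IsEquivOver c) : FibCat.IsEquivOver (Φ F G F' G' a b c α β) := by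
  have ea := EquivOver.isEquivalence a ha
  have eb := EquivOver.isEquivalence b hb
  have ec := EquivOver.isEquivalence c hc
  have : a.toFunctor.Full := ea.full
  have : a.toFunctor.Faithful := ea.faithful
  have : b.toFunctor.Full := eb.full
  have : b.toFunctor.Faithful := eb.faithful
  have : c.toFunctor.Full := ec.full
  have : c.toFunctor.Faithful := ec.faithful
  exact Φ_isEquivOver F G F' G' a b c α β (EquivOver.exists_iso a ha) (EquivOver.exists_iso b hb)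

end Groth.Agent.Lib.helper10.FpMap
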