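import Mathlib.Tactic
import Groth.Prelude.Def_AlgSt
import Groth.Agent.Lib.helper10.FpGen
import Groth.Agent.Lib.helper10.StkEquiv
import Groth.Agent.Lib.helper10.EquivCore
import Groth.Agent.Lib.helper10.Vert

/-!
# Pasting of 2-fibre products over `C` (helper10 library, general universes)
-/

set_option autoImplicit false
universe v u v₂ u₂ v₃ u₃ v₄ u₄ v₅ u₅

open CategoryTheory

namespace Groth.Agent.Lib.helper10.FpPaste

open Groth.Agent.Lib.helper10.FpGen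

variable {C : Type u} [Category.{v} C]
  {𝒲 : BasedCategory.{v₂, u₂} C} {𝒵 : BasedCategory.{v₃, u₃} C} {𝒴 : BasedCategory.{v₄, u₄} C}
  {𝒳 : BasedCategory.{v₅, u₅} C}

section Paste1

variable (G : 𝒲 ⥤ᵇ 𝒵) (g : 𝒵 ⥤ᵇ 𝒴) (f : 𝒳 ⥤ᵇ 𝒴)

/-- the 2-isomorphism of the pasted square -/
def iso₁ : BasedFunctor.comp (FibCat.fpFst G (FibCat.fpFst g f)) (BasedFunctor.comp G g) ≅
    BasedFunctor.comp (BasedFunctor.comp (FibCat.fpSnd G (FibCat.fpFst g f)) (FibCat.fpSnd g f)) f :=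
  (StkEquiv.post g _).mapIso (FibCat.fpIso G (FibCat.fpFst g f)) ≪≫
    (Stk.restr (FibCat.fpSnd G (FibCat.fpFst g f)) 𝒴).mapIso (FibCat.fpIso g f)

/-- `𝒲 ×_𝒵 (𝒵 ×_𝒴 𝒳) ⟶ 𝒲 ×_𝒴 𝒳` -/
def Ψ₁ : FibCat.fp G (FibCat.fpFst g f) ⥤ᵇ FibCat.fp (BasedFunctor.comp G g) f :=
  FibCat.fpLift (FibCat.fpFst G (FibCat.fpFst g f))
    (BasedFunctor.comp (FibCat.fpSnd G (FibCat.fpFst g f)) (FibCat.fpSnd g f)) (iso₁ G g f)

lemma Ψ₁_fst : BasedFunctor.comp (Ψ₁ G g f) (FibCat.fpFst (BasedFunctor.comp G g) f) =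
    FibCat.fpFst G (FibCat.fpFst g f) := rfl

lemma Ψ₁_obj_iso_hom (s : (FibCat.fp G (FibCat.fpFst g f)).obj) :
    ((Ψ₁ G g f).obj s).obj.iso.hom = g.map s.obj.iso.hom ≫ s.obj.snd.obj.iso.hom := rfl

lemma Ψ₁_map_fst {s s' : (FibCat.fp G (FibCat.fpFst g f)).obj} (m : s ⟶ s') :
    ((Ψ₁ G g f).map m).hom.fst = m.hom.fst := rfl

lemma Ψ₁_map_snd {s s' : (FibCat.fp G (FibCat.fpFst g f)).obj} (m : s ⟶ s') :
    ((Ψ₁ G g f).map m).hom.snd = m.hom.snd.hom.snd := rfl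

theorem Ψ₁_faithful : (Ψ₁ G g f).toFunctor.Faithful where
  map_injective := by
    intro s s' m m' h
    have h1 : m.hom.fst = m'.hom.fst := congrArg (fun k => k.hom.fst) h
    have h2 : m.hom.snd.hom.snd = m'.hom.snd.hom.snd := congrArg (fun k => k.hom.snd) h
    have w := m.hom.w
    have w' := m'.hom.w
    have h3 : m.hom.snd.hom.fst = m'.hom.snd.hom.fst := by
      have e1 : s.obj.iso.hom ≫ m.hom.snd.hom.fst = s.obj.iso.hom ≫ m'.hom.snd.hom.fst := by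
        refine Eq.trans w.symm (Eq.trans ?_ w')
        rw [h1]
      exact (cancel_epi _).mp e1
    apply ObjectProperty.hom_ext
    apply Limits.CategoricalPullback.hom_ext
    · exact h1
    · apply ObjectProperty.hom_ext
      apply Limits.CategoricalPullback.hom_ext
      · exact h3
      · exact h2

omit [Category.{v} C] in
lemma aux_full₁ {A : Type*} [Category A] {P Q R P' Q' R' : A}
    (gψ : P ⟶ Q) (gψi : Q ⟶ P) (hψ : gψi ≫ gψ = 𝟙 Q) (φ : Q ⟶ R)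
    (gψ' : P' ⟶ Q') (φ' : Q' ⟶ R') (a : P ⟶ P') (b : R ⟶ R')
    (hw : a ≫ gψ' ≫ φ' = (gψ ≫ φ) ≫ b) : (gψi ≫ a ≫ gψ') ≫ φ' = φ ≫ b := by
  simp only [Category.assoc]
  rw [hw, Category.assoc, ← Category.assoc gψi, hψ, Category.id_comp]

theorem Ψ₁_full : (Ψ₁ G g f).toFunctor.Full where
  map_surjective := by
    intro s s' h
    obtain ⟨a, ha⟩ : ∃ a : s.obj.fst ⟶ s'.obj.fst, a = h.hom.fst := ⟨_, rfl⟩
    obtain ⟨b, hb⟩ : ∃ b : s.obj.snd.obj.snd ⟶ s'.obj.snd.obj.snd, b = h.hom.snd := ⟨_, rfl⟩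
    have hw := h.hom.w
    rw [Ψ₁_obj_iso_hom, Ψ₁_obj_iso_hom] at hw
    let n : s.obj.snd.obj.fst ⟶ s'.obj.snd.obj.fst := s.obj.iso.inv ≫ G.map a ≫ s'.obj.iso.hom
    have wn : g.map n ≫ s'.obj.snd.obj.iso.hom = s.obj.snd.obj.iso.hom ≫ f.map b := by
      have e : g.map n = g.map s.obj.iso.inv ≫ g.map (G.map a) ≫ g.map s'.obj.iso.hom := by
        change g.toFunctor.map (_ ≫ _ ≫ _) = _
        rw [Functor.map_comp, Functor.map_comp]
        rfl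
      rw [e]
      refine aux_full₁ (g.map s.obj.iso.hom) (g.map s.obj.iso.inv) ?_ s.obj.snd.obj.iso.hom
        (g.map s'.obj.iso.hom) s'.obj.snd.obj.iso.hom (g.map (G.map a)) (f.map b) ?_
      · change g.toFunctor.map _ ≫ g.toFunctor.map _ = _
        rw [← Functor.map_comp, Iso.inv_hom_id]
        exact g.toFunctor.map_id _
      · rw [ha, hb]
        exact hw
    let k : s.obj.snd ⟶ s'.obj.snd := ObjectProperty.homMk ⟨n, b, wn⟩
    have wk : G.map a ≫ s'.obj.iso.hom = s.obj.iso.hom ≫ (FibCat.fpFst g f).map k := by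
      change _ = s.obj.iso.hom ≫ (s.obj.iso.inv ≫ G.map a ≫ s'.obj.iso.hom)
      rw [Iso.hom_inv_id_assoc]
    refine ⟨ObjectProperty.homMk ⟨a, k, wk⟩, ?_⟩
    apply ObjectProperty.hom_ext
    apply Limits.CategoricalPullback.hom_ext
    · exact ha
    · exact hb

omit [Category.{v} C] in
lemma aux_hes₁ {A : Type*} [Category A] {P Q : A} (u : P ⟶ P) (hu : u = 𝟙 P) (i : P ⟶ Q)
    (u' : P ⟶ P) (hu' : u' = 𝟙 P) (w : Q ⟶ Q) (hw : w = 𝟙 Q) : u ≫ i = (u' ≫ i) ≫ w := by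
  subst hu hu' hw
  simp

theorem Ψ₁_hes (r : (FibCat.fp (BasedFunctor.comp G g) f).obj) :
    ∃ (s : (FibCat.fp G (FibCat.fpFst g f)).obj) (e : (Ψ₁ G g f).obj s ≅ r),
      (FibCat.fp (BasedFunctor.comp G g) f).p.IsHomLift
        (𝟙 ((FibCat.fp (BasedFunctor.comp G g) f).p.obj r)) e.hom := by
  have hr : 𝒴.p.IsHomLift (𝟙 (𝒲.p.obj r.obj.fst)) r.obj.iso.hom := r.property
  have hp : 𝒴.p.IsHomLift (𝟙 (𝒵.p.obj (G.obj r.obj.fst))) r.obj.iso.hom := by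
    have e : 𝒵.p.obj (G.obj r.obj.fst) = 𝒲.p.obj r.obj.fst := G.w_obj _
    rw [e]; exact hr
  let t : (FibCat.fp g f).obj := ⟨⟨G.obj r.obj.fst, r.obj.snd, r.obj.iso⟩, hp⟩
  have hs : 𝒵.p.IsHomLift (𝟙 (𝒲.p.obj r.obj.fst)) (Iso.refl (G.obj r.obj.fst)).hom := by
    exact IsHomLift.id (G.w_obj r.obj.fst)
  let s : (FibCat.fp G (FibCat.fpFst g f)).obj := ⟨⟨r.obj.fst, t, Iso.refl _⟩, hs⟩
  have compat : (BasedFunctor.comp G g).map (Iso.refl r.obj.fst).hom ≫ r.obj.iso.hom =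
      ((Ψ₁ G g f).obj s).obj.iso.hom ≫ f.map (Iso.refl r.obj.snd).hom := by
    rw [Ψ₁_obj_iso_hom]
    exact aux_hes₁ _ ((BasedFunctor.comp G g).toFunctor.map_id _) r.obj.iso.hom _
      (g.toFunctor.map_id _) _ (f.toFunctor.map_id _)
  refine ⟨s, ObjectProperty.isoMk _ (Limits.CategoricalPullback.mkIso (Iso.refl _) (Iso.refl _) compat), ?_⟩
  rw [fp_lift_iff]
  change 𝒲.p.IsHomLift (𝟙 (𝒲.p.obj r.obj.fst)) (𝟙 r.obj.fst)
  infer_instance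

theorem Ψ₁_isEquivOver : FibCat.IsEquivOver (Ψ₁ G g f) := by
  have h1 := Ψ₁_faithful G g f
  have h2 := Ψ₁_full G g f
  exact EquivCore.isEquivOver _ (Ψ₁_hes G g f)

end Paste1

section Paste2

variable (G : 𝒲 ⥤ᵇ 𝒵) (g : 𝒴 ⥤ᵇ 𝒵) (f : 𝒳 ⥤ᵇ 𝒴)

/-- the 2-isomorphism of the pasted square -/
def iso₂ : BasedFunctor.comp (BasedFunctor.comp (FibCat.fpFst (FibCat.fpSnd G g) f) (FibCat.fpFst G g)) G ≅
    BasedFunctor.comp (FibCat.fpSnd (FibCat.fpSnd G g) f) (BasedFunctor.comp f g) :=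
  (Stk.restr (FibCat.fpFst (FibCat.fpSnd G g) f) 𝒵).mapIso (FibCat.fpIso G g) ≪≫
    (StkEquiv.post g _).mapIso (FibCat.fpIso (FibCat.fpSnd G g) f)

/-- `(𝒲 ×_𝒵 𝒴) ×_𝒴 𝒳 ⟶ 𝒲 ×_𝒵 𝒳` -/
def Ψ₂ : FibCat.fp (FibCat.fpSnd G g) f ⥤ᵇ FibCat.fp G (BasedFunctor.comp f g) :=
  FibCat.fpLift (BasedFunctor.comp (FibCat.fpFst (FibCat.fpSnd G g) f) (FibCat.fpFst G g))
    (FibCat.fpSnd (FibCat.fpSnd G g) f) (iso₂ G g f)

lemma Ψ₂_fst : BasedFunctor.comp (Ψ₂ G g f) (FibCat.fpFst G (BasedFunctor.comp f g)) =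
    BasedFunctor.comp (FibCat.fpFst (FibCat.fpSnd G g) f) (FibCat.fpFst G g) := rfl

lemma Ψ₂_snd : BasedFunctor.comp (Ψ₂ G g f) (FibCat.fpSnd G (BasedFunctor.comp f g)) =
    FibCat.fpSnd (FibCat.fpSnd G g) f := rfl

lemma Ψ₂_obj_iso_hom (s : (FibCat.fp (FibCat.fpSnd G g) f).obj) :
    ((Ψ₂ G g f).obj s).obj.iso.hom = s.obj.fst.obj.iso.hom ≫ g.map s.obj.iso.hom := rfl

theorem Ψ₂_faithful : (Ψ₂ G g f).toFunctor.Faithful where
  map_injective := by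
    intro s s' m m' h
    have h1 : m.hom.fst.hom.fst = m'.hom.fst.hom.fst := congrArg (fun k => k.hom.fst) h
    have h2 : m.hom.snd = m'.hom.snd := congrArg (fun k => k.hom.snd) h
    have w := m.hom.w
    have w' := m'.hom.w
    have h3 : m.hom.fst.hom.snd = m'.hom.fst.hom.snd := by
      have e1 : m.hom.fst.hom.snd ≫ s'.obj.iso.hom = m'.hom.fst.hom.snd ≫ s'.obj.iso.hom := by
        refine Eq.trans w (Eq.trans ?_ w'.symm)
        rw [h2]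
      exact (cancel_mono _).mp e1
    apply ObjectProperty.hom_ext
    apply Limits.CategoricalPullback.hom_ext
    · apply ObjectProperty.hom_ext
      apply Limits.CategoricalPullback.hom_ext
      · exact h1
      · exact h3
    · exact h2

omit [Category.{v} C] in
lemma aux_full₂ {A : Type*} [Category A] {P Q R P' Q' R' : A}
    (φ : P ⟶ Q) (gψ : Q ⟶ R) (φ' : P' ⟶ Q') (gψ' : Q' ⟶ R') (gψ'i : R' ⟶ Q')
    (hψ' : gψ' ≫ gψ'i = 𝟙 Q') (a : P ⟶ P') (b : R ⟶ R')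
    (hw : a ≫ φ' ≫ gψ' = (φ ≫ gψ) ≫ b) : a ≫ φ' = φ ≫ gψ ≫ b ≫ gψ'i := by
  have : a ≫ φ' = (a ≫ φ' ≫ gψ') ≫ gψ'i := by
    simp only [Category.assoc]
    rw [hψ', Category.comp_id]
  rw [this, hw]
  simp only [Category.assoc]

theorem Ψ₂_full : (Ψ₂ G g f).toFunctor.Full where
  map_surjective := by
    intro s s' h
    obtain ⟨a, ha⟩ : ∃ a : s.obj.fst.obj.fst ⟶ s'.obj.fst.obj.fst, a = h.hom.fst := ⟨_, rfl⟩
    obtain ⟨b, hb⟩ : ∃ b : s.obj.snd ⟶ s'.obj.snd, b = h.hom.snd := ⟨_, rfl⟩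
    have hw := h.hom.w
    rw [Ψ₂_obj_iso_hom, Ψ₂_obj_iso_hom] at hw
    let n : s.obj.fst.obj.snd ⟶ s'.obj.fst.obj.snd := s.obj.iso.hom ≫ f.map b ≫ s'.obj.iso.inv
    have wn : G.map a ≫ s'.obj.fst.obj.iso.hom = s.obj.fst.obj.iso.hom ≫ g.map n := by
      have e : g.map n = g.map s.obj.iso.hom ≫ g.map (f.map b) ≫ g.map s'.obj.iso.inv := by
        change g.toFunctor.map (_ ≫ _ ≫ _) = _
        rw [Functor.map_comp, Functor.map_comp]
        rfl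
      rw [e]
      refine aux_full₂ s.obj.fst.obj.iso.hom (g.map s.obj.iso.hom) s'.obj.fst.obj.iso.hom
        (g.map s'.obj.iso.hom) (g.map s'.obj.iso.inv) ?_ (G.map a) (g.map (f.map b)) ?_
      · change g.toFunctor.map _ ≫ g.toFunctor.map _ = _
        rw [← Functor.map_comp, Iso.hom_inv_id]
        exact g.toFunctor.map_id _
      · rw [ha, hb]
        exact hw
    let k : s.obj.fst ⟶ s'.obj.fst := ObjectProperty.homMk ⟨a, n, wn⟩
    have wk : (FibCat.fpSnd G g).map k ≫ s'.obj.iso.hom = s.obj.iso.hom ≫ f.map b := by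
      change (s.obj.iso.hom ≫ f.map b ≫ s'.obj.iso.inv) ≫ s'.obj.iso.hom = _
      simp only [Category.assoc, Iso.inv_hom_id, Category.comp_id]
    refine ⟨ObjectProperty.homMk ⟨k, b, wk⟩, ?_⟩
    apply ObjectProperty.hom_ext
    apply Limits.CategoricalPullback.hom_ext
    · exact ha
    · exact hb

omit [Category.{v} C] in
lemma aux_hes₂ {A : Type*} [Category A] {P Q : A} (u : P ⟶ P) (hu : u = 𝟙 P) (i : P ⟶ Q)
    (u' : Q ⟶ Q) (hu' : u' = 𝟙 Q) (w : Q ⟶ Q) (hw : w = 𝟙 Q) : u ≫ i = (i ≫ u') ≫ w := by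
  subst hu hu' hw
  simp

theorem Ψ₂_hes (r : (FibCat.fp G (BasedFunctor.comp f g)).obj) :
    ∃ (s : (FibCat.fp (FibCat.fpSnd G g) f).obj) (e : (Ψ₂ G g f).obj s ≅ r),
      (FibCat.fp G (BasedFunctor.comp f g)).p.IsHomLift
        (𝟙 ((FibCat.fp G (BasedFunctor.comp f g)).p.obj r)) e.hom := by
  have hr : 𝒵.p.IsHomLift (𝟙 (𝒲.p.obj r.obj.fst)) r.obj.iso.hom := r.property
  let t : (FibCat.fp G g).obj := ⟨⟨r.obj.fst, f.obj r.obj.snd, r.obj.iso⟩, hr⟩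
  have hs : 𝒴.p.IsHomLift (𝟙 ((FibCat.fp G g).p.obj t)) (Iso.refl (f.obj r.obj.snd)).hom := by
    have e : 𝒴.p.obj (f.obj r.obj.snd) = (FibCat.fp G g).p.obj t :=
      fp_obj_snd_proj G g t
    exact IsHomLift.id e
  let s : (FibCat.fp (FibCat.fpSnd G g) f).obj := ⟨⟨t, r.obj.snd, Iso.refl _⟩, hs⟩
  have compat : G.map (Iso.refl r.obj.fst).hom ≫ r.obj.iso.hom =
      ((Ψ₂ G g f).obj s).obj.iso.hom ≫ (BasedFunctor.comp f g).map (Iso.refl r.obj.snd).hom := by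
    rw [Ψ₂_obj_iso_hom]
    exact aux_hes₂ _ (G.toFunctor.map_id _) r.obj.iso.hom _
      (g.toFunctor.map_id _) _ ((BasedFunctor.comp f g).toFunctor.map_id _)
  refine ⟨s, ObjectProperty.isoMk _ (Limits.CategoricalPullback.mkIso (Iso.refl _) (Iso.refl _) compat), ?_⟩
  rw [fp_lift_iff]
  exact IsHomLift.id rfl

theorem Ψ₂_isEquivOver : FibCat.IsEquivOver (Ψ₂ G g f) := by
  have h1 := Ψ₂_faithful G g f
  have h2 := Ψ₂_full G g f
  exact EquivCore.isEquivOver _ (Ψ₂_hes G g f)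

end Paste2

end Groth.Agent.Lib.helper10.FpPaste
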