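import Mathlib.Tactic
import Groth.Agent.Lib.helper10.FpMap
import Groth.Agent.Lib.helper10.FpPaste
import Groth.Agent.Lib.helper10.EquivComp

/-!
# Representability of 2-fibre products is invariant under 2-isomorphism / equivalence of the legs
(helper10 library, general universes)
-/

set_option autoImplicit false
universe v u v₂ u₂ v₃ u₃ v₄ u₄ v₅ u₅ v₆ u₆

open CategoryTheory

namespace Groth.Agent.Lib.helper10.FpRepr

variable {C : Type u} [Category.{v} C]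
  {𝒳 : BasedCategory.{v₂, u₂} C} {𝒴 : BasedCategory.{v₃, u₃} C} {𝒮 : BasedCategory.{v₄, u₄} C}

/-- replace both legs by 2-isomorphic ones -/
theorem equiv_of_iso (F F' : 𝒳 ⥤ᵇ 𝒮) (G G' : 𝒴 ⥤ᵇ 𝒮) (i : F' ≅ F) (j : G' ≅ G) :
    ∃ Φ : FibCat.fp F G ⥤ᵇ FibCat.fp F' G', FibCat.IsEquivOver Φ ∧
      BasedFunctor.comp Φ (FibCat.fpFst F' G') = FibCat.fpFst F G ∧
      BasedFunctor.comp Φ (FibCat.fpSnd F' G') = FibCat.fpSnd F G := by
  refine ⟨FpMap.Φ F G F' G' (BasedFunctor.id 𝒳) (BasedFunctor.id 𝒴) (BasedFunctor.id 𝒮) i j,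
    FpMap.Φ_isEquivOver' F G F' G' (BasedFunctor.id 𝒳) (BasedFunctor.id 𝒴) (BasedFunctor.id 𝒮) i j
      (EquivComp.id_isEquivOver _)
      (EquivComp.id_isEquivOver _) (EquivComp.id_isEquivOver _), rfl, rfl⟩

theorem isRepresentable_congr (F F' : 𝒳 ⥤ᵇ 𝒮) (G G' : 𝒴 ⥤ᵇ 𝒮) (i : F' ≅ F) (j : G' ≅ G) :
    FibCat.IsRepresentable (FibCat.fp F G) ↔ FibCat.IsRepresentable (FibCat.fp F' G') := by
  obtain ⟨Φ, hΦ, -, -⟩ := equiv_of_iso F F' G G' i j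
  exact EquivComp.isRepresentable_iff Φ hΦ

/-- precompose the right leg with an equivalence -/
theorem isRepresentable_precomp_right {𝒴' : BasedCategory.{v₅, u₅} C} (F : 𝒳 ⥤ᵇ 𝒮) (G : 𝒴 ⥤ᵇ 𝒮)
    (b : 𝒴' ⥤ᵇ 𝒴) (hb : FibCat.IsEquivOver b) :
    FibCat.IsRepresentable (FibCat.fp F (BasedFunctor.comp b G)) ↔
      FibCat.IsRepresentable (FibCat.fp F G) := by
  have hΦ := FpMap.Φ_isEquivOver' F (BasedFunctor.comp b G) F G (BasedFunctor.id 𝒳) b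
    (BasedFunctor.id 𝒮) (Iso.refl _) (Iso.refl _) (EquivComp.id_isEquivOver _) hb
    (EquivComp.id_isEquivOver _)
  exact EquivComp.isRepresentable_iff _ hΦ

/-- precompose the left leg with an equivalence -/
theorem isRepresentable_precomp_left {𝒳' : BasedCategory.{v₅, u₅} C} (F : 𝒳 ⥤ᵇ 𝒮) (G : 𝒴 ⥤ᵇ 𝒮)
    (a : 𝒳' ⥤ᵇ 𝒳) (ha : FibCat.IsEquivOver a) :
    FibCat.IsRepresentable (FibCat.fp (BasedFunctor.comp a F) G) ↔
      FibCat.IsRepresentable (FibCat.fp F G) := by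
  have hΦ := FpMap.Φ_isEquivOver' (BasedFunctor.comp a F) G F G a (BasedFunctor.id 𝒴)
    (BasedFunctor.id 𝒮) (Iso.refl _) (Iso.refl _) ha (EquivComp.id_isEquivOver _)
    (EquivComp.id_isEquivOver _)
  exact EquivComp.isRepresentable_iff _ hΦ

end Groth.Agent.Lib.helper10.FpRepr
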