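import Mathlib.Tactic
import Groth.Agent.Lib.helper10.FpRepr

/-!
# Functors between slices and their 2-fibre products (helper10 library)
-/

set_option autoImplicit false
universe v u

open CategoryTheory CategoryTheory.Limits

namespace Groth.Agent.Lib.helper10.OverRepr

open Groth.Agent.Lib.helper10.FpGen

variable {C : Type u} [Category.{v} C]

/-- `C/X ⟶ C/Y` induced by `f : X ⟶ Y`, over `C` -/
def ovMap {X Y : C} (f : X ⟶ Y) : FibCat.overCat X ⥤ᵇ FibCat.overCat Y :=
  ⟨Over.map f, Over.mapForget_eq f⟩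

lemma ovMap_obj_left {X Y : C} (f : X ⟶ Y) (x : Over X) : ((ovMap f).obj x : Over Y).left = x.left := rfl
lemma ovMap_obj_hom {X Y : C} (f : X ⟶ Y) (x : Over X) : ((ovMap f).obj x : Over Y).hom = x.hom ≫ f := rfl
lemma ovMap_map_left {X Y : C} (f : X ⟶ Y) {x y : Over X} (m : x ⟶ y) :
    ((ovMap f).map m : ((ovMap f).obj x : Over Y) ⟶ (ovMap f).obj y).left = m.left := rfl

/-- lifting criterion in a slice -/
lemma over_lift_iff {U : C} {R S : C} (f : R ⟶ S) {x y : Over U} (m : x ⟶ y) :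
    (FibCat.overCat U).p.IsHomLift f m ↔
      ∃ (h1 : x.left = R) (h2 : y.left = S), m.left = eqToHom h1 ≫ f ≫ eqToHom h2.symm := by
  constructor
  · intro h
    exact ⟨IsHomLift.domain_eq (FibCat.overCat U).p f m, IsHomLift.codomain_eq (FibCat.overCat U).p f m,
      IsHomLift.fac' (FibCat.overCat U).p f m⟩
  · rintro ⟨h1, h2, h3⟩
    exact IsHomLift.of_fac' (FibCat.overCat U).p f m h1 h2 h3

lemma over_lift_id {U : C} {x y : Over U} (m : x ⟶ y) (h : x.left = y.left)
    (hm : m.left = eqToHom h) : (FibCat.overCat U).p.IsHomLift (𝟙 x.left) m := by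
  rw [over_lift_iff]
  exact ⟨rfl, h.symm, by simp [hm]⟩

section SliceIso

variable {A D : C} (F : FibCat.overCat A ⥤ᵇ FibCat.overCat D)

/-- the source of `F x` is the source of `x` -/
lemma F_left (x : Over A) : (F.obj x : Over D).left = x.left := F.w_obj x

/-- the morphism `A ⟶ D` classifying `F` -/
def cls : A ⟶ D := eqToHom (F_left F (Over.mk (𝟙 A))).symm ≫ (F.obj (Over.mk (𝟙 A)) : Over D).hom

lemma F_map_left {x y : Over A} (m : x ⟶ y) :
    (F.map m : (F.obj x : Over D) ⟶ F.obj y).left =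
      eqToHom (F_left F x) ≫ m.left ≫ eqToHom (F_left F y).symm :=
  IsHomLift.fac' (FibCat.overCat D).p ((FibCat.overCat A).p.map m) (F.map m)

lemma F_obj_hom (x : Over A) :
    (F.obj x : Over D).hom = eqToHom (F_left F x) ≫ x.hom ≫ cls F := by
  let tx : x ⟶ Over.mk (𝟙 A) := Over.homMk x.hom (by simp)
  have h1 : (F.map tx : (F.obj x : Over D) ⟶ F.obj (Over.mk (𝟙 A))).left ≫
      (F.obj (Over.mk (𝟙 A)) : Over D).hom = (F.obj x : Over D).hom := Over.w (F.map tx)
  rw [← h1, F_map_left]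
  simp only [cls, Category.assoc]
  rfl

theorem slice_iso : Nonempty (F ≅ ovMap (cls F)) := by
  refine ⟨BasedNatIso.mkNatIso (NatIso.ofComponents (fun x =>
    Over.isoMk (eqToIso (F_left F x)) (by
      change eqToHom (F_left F x) ≫ ((x : Over A).hom ≫ cls F) = _
      exact (F_obj_hom F x).symm)) ?_) ?_⟩
  · intro x y m
    apply Over.OverMorphism.ext
    change (F.map m : (F.obj x : Over D) ⟶ F.obj y).left ≫ eqToHom (F_left F y) =
      eqToHom (F_left F x) ≫ (m : (x : Over A) ⟶ y).left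
    rw [F_map_left]
    simp
  · intro x
    refine (over_lift_iff (U := D) (𝟙 (x : Over A).left)
      (x := (F.obj x : Over D)) (y := ((ovMap (cls F)).obj x : Over D)) _).mpr
      ⟨F_left F x, rfl, ?_⟩
    change eqToHom (F_left F x) = _
    simp
    rfl

end SliceIso

section FpOv

variable [HasPullbacks C] {A B D : C} (u : A ⟶ D) (v : B ⟶ D)

/-- the 2-isomorphism `C/(A×_D B) → C/A → C/D ≅ C/(A×_D B) → C/B → C/D` -/
noncomputable def ΛIso : BasedFunctor.comp (ovMap (pullback.fst u v)) (ovMap u) ≅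
    BasedFunctor.comp (ovMap (pullback.snd u v)) (ovMap v) :=
  BasedNatIso.mkNatIso (NatIso.ofComponents (fun t =>
    Over.isoMk (Iso.refl (t : Over (pullback u v)).left) (by
      change 𝟙 _ ≫ (((t : Over (pullback u v)).hom ≫ pullback.snd u v) ≫ v) =
        ((t : Over (pullback u v)).hom ≫ pullback.fst u v) ≫ u
      simp [pullback.condition])) (by
    intro t t' m
    apply Over.OverMorphism.ext
    change (m : (t : Over (pullback u v)) ⟶ t').left ≫ 𝟙 _ = 𝟙 _ ≫ (m : (t : Over (pullback u v)) ⟶ t').left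
    simp)) (by
    intro t
    refine (over_lift_iff (U := D) (𝟙 (t : Over (pullback u v)).left) _).mpr ⟨rfl, rfl, ?_⟩
    change 𝟙 _ = _
    simp
    rfl)

/-- `C/(A ×_D B) ⟶ C/A ×_{C/D} C/B` -/
noncomputable def Λ : FibCat.overCat (pullback u v) ⥤ᵇ FibCat.fp (ovMap u) (ovMap v) :=
  FibCat.fpLift (ovMap (pullback.fst u v)) (ovMap (pullback.snd u v)) (ΛIso u v)

lemma Λ_obj_iso_hom_left (t : Over (pullback u v)) :
    (((Λ u v).obj t).obj.iso.hom : ((ovMap u).obj ((ovMap (pullback.fst u v)).obj t) : Over D) ⟶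
      (ovMap v).obj ((ovMap (pullback.snd u v)).obj t)).left = 𝟙 t.left := rfl

theorem Λ_faithful : (Λ u v).toFunctor.Faithful where
  map_injective := by
    intro t t' m m' h
    apply Over.OverMorphism.ext
    have h1 : ((Λ u v).map m).hom.fst = ((Λ u v).map m').hom.fst := congrArg (fun k => k.hom.fst) h
    exact congrArg (fun k : ((ovMap (pullback.fst u v)).obj t : Over A) ⟶
      (ovMap (pullback.fst u v)).obj t' => k.left) h1

theorem Λ_full : (Λ u v).toFunctor.Full where
  map_surjective := by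
    intro t t' h
    obtain ⟨h₁, hh₁⟩ : ∃ h₁ : ((ovMap (pullback.fst u v)).obj t : Over A) ⟶
      (ovMap (pullback.fst u v)).obj t', h₁ = h.hom.fst := ⟨_, rfl⟩
    obtain ⟨h₂, hh₂⟩ : ∃ h₂ : ((ovMap (pullback.snd u v)).obj t : Over B) ⟶
      (ovMap (pullback.snd u v)).obj t', h₂ = h.hom.snd := ⟨_, rfl⟩
    have hw := h.hom.w
    have e12 : h₁.left = h₂.left := by
      have := congrArg (fun k : ((ovMap u).obj ((ovMap (pullback.fst u v)).obj t) : Over D) ⟶
        (ovMap v).obj ((ovMap (pullback.snd u v)).obj t') => k.left) hw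
      rw [hh₁, hh₂]
      change h.hom.fst.left ≫ 𝟙 _ = 𝟙 _ ≫ h.hom.snd.left at this
      rw [Category.comp_id, Category.id_comp] at this
      exact this
    have w1 : h₁.left ≫ ((t' : Over (pullback u v)).hom ≫ pullback.fst u v) =
        (t : Over (pullback u v)).hom ≫ pullback.fst u v := Over.w h₁
    have w2 : h₂.left ≫ ((t' : Over (pullback u v)).hom ≫ pullback.snd u v) =
        (t : Over (pullback u v)).hom ≫ pullback.snd u v := Over.w h₂
    have w : h₁.left ≫ (t' : Over (pullback u v)).hom = (t : Over (pullback u v)).hom := by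
      apply pullback.hom_ext
      · rw [Category.assoc]; exact w1
      · rw [Category.assoc, e12]; exact w2
    refine ⟨Over.homMk h₁.left w, ?_⟩
    apply ObjectProperty.hom_ext
    apply Limits.CategoricalPullback.hom_ext
    · rw [← hh₁]
      apply Over.OverMorphism.ext
      rfl
    · rw [← hh₂]
      apply Over.OverMorphism.ext
      exact e12

theorem Λ_hes (r : (FibCat.fp (ovMap u) (ovMap v)).obj) :
    ∃ (t : (FibCat.overCat (pullback u v)).obj) (e : (Λ u v).obj t ≅ r),
      (FibCat.fp (ovMap u) (ovMap v)).p.IsHomLift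
        (𝟙 ((FibCat.fp (ovMap u) (ovMap v)).p.obj r)) e.hom := by
  obtain ⟨x, hx⟩ : ∃ x : Over A, x = r.obj.fst := ⟨_, rfl⟩
  obtain ⟨y, hy⟩ : ∃ y : Over B, y = r.obj.snd := ⟨_, rfl⟩
  obtain ⟨φ, hφ⟩ : ∃ φ : ((ovMap u).obj x : Over D) ≅ (ovMap v).obj y, φ = (hx ▸ hy ▸ r.obj.iso) := ⟨_, rfl⟩
  subst hx hy
  have hφ' : φ = r.obj.iso := hφ
  have wφ : φ.hom.left ≫ ((r.obj.snd : Over B).hom ≫ v) = (r.obj.fst : Over A).hom ≫ u := Over.w φ.hom
  let l : (r.obj.fst : Over A).left ⟶ pullback u v :=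
    pullback.lift (r.obj.fst : Over A).hom (φ.hom.left ≫ (r.obj.snd : Over B).hom)
      (by rw [Category.assoc]; exact wφ.symm)
  let t : Over (pullback u v) := Over.mk l
  let e₁ : ((ovMap (pullback.fst u v)).obj t : Over A) ≅ r.obj.fst :=
    Over.isoMk (Iso.refl _) (by
      change 𝟙 _ ≫ (r.obj.fst : Over A).hom = l ≫ pullback.fst u v
      rw [Category.id_comp]
      exact (pullback.lift_fst _ _ _).symm)
  let e₂ : ((ovMap (pullback.snd u v)).obj t : Over B) ≅ r.obj.snd :=
    Over.isoMk ((Over.forget D).mapIso φ) (by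
      change φ.hom.left ≫ (r.obj.snd : Over B).hom = l ≫ pullback.snd u v
      exact (pullback.lift_snd _ _ _).symm)
  have compat : (ovMap u).map e₁.hom ≫ r.obj.iso.hom =
      ((Λ u v).obj t).obj.iso.hom ≫ (ovMap v).map e₂.hom := by
    apply Over.OverMorphism.ext
    rw [← hφ']
    change 𝟙 _ ≫ φ.hom.left = 𝟙 _ ≫ φ.hom.left
    rfl
  refine ⟨t, ObjectProperty.isoMk _ (Limits.CategoricalPullback.mkIso e₁ e₂ compat), ?_⟩
  rw [fp_lift_iff]
  refine (over_lift_iff (U := A) _ _).mpr ⟨rfl, rfl, ?_⟩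
  change 𝟙 _ = _
  simp
  rfl

theorem Λ_isEquivOver : FibCat.IsEquivOver (Λ u v) := by
  have h1 := Λ_faithful u v
  have h2 := Λ_full u v
  exact EquivCore.isEquivOver _ (Λ_hes u v)

theorem fp_ovMap_isRepresentable : FibCat.IsRepresentable (FibCat.fp (ovMap u) (ovMap v)) := by
  obtain ⟨Λ', hΛ'⟩ := EquivComp.symm (Λ u v) (Λ_isEquivOver u v)
  exact ⟨pullback u v, Λ', hΛ'⟩

/-- the 2-fibre product of two functors between slices is representable -/
theorem fp_slices_isRepresentable (F : FibCat.overCat A ⥤ᵇ FibCat.overCat D)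
    (G : FibCat.overCat B ⥤ᵇ FibCat.overCat D) : FibCat.IsRepresentable (FibCat.fp F G) := by
  obtain ⟨i⟩ := slice_iso F
  obtain ⟨j⟩ := slice_iso G
  exact (FpRepr.isRepresentable_congr (ovMap (cls F)) F (ovMap (cls G)) G i j).mp
    (fp_ovMap_isRepresentable (cls F) (cls G))

end FpOv

end Groth.Agent.Lib.helper10.OverRepr
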