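import Mathlib.Tactic
import Groth.Agent.Lib.helper10.OverRepr
import Groth.Agent.Lib.helper10.FpSelf

/-!
# The diagonal of a category fibred in groupoids and representability (helper10 library)
-/

set_option autoImplicit false
universe v u v₂ u₂ v₃ u₃

open CategoryTheory CategoryTheory.Limits

namespace Groth.Agent.Lib.helper10.DiagRepr

open Groth.Agent.Lib.helper10.FpGen Groth.Agent.Lib.helper10.OverRepr

variable {C : Type u} [Category.{v} C]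

section SelfIso

variable {𝒜 : BasedCategory.{v₂, u₂} C}

omit 𝒜 in
lemma aux_eq₃ {A B A' B' A'' B'' : C} (f : A ⟶ B) (p : A' = A) (q : B = B') (r : B' = B'')
    (p' : A' = A'') (p'' : A'' = A) (q' : B = B'') :
    (eqToHom p ≫ f ≫ eqToHom q) ≫ eqToHom r = eqToHom p' ≫ eqToHom p'' ≫ f ≫ eqToHom q' := by
  subst p q r p''
  simp

/-- any two functors over `C` to `C` itself are canonically 2-isomorphic -/
def selfIso (X Y : 𝒜 ⥤ᵇ FibCat.selfOver C) : X ≅ Y :=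
  BasedNatIso.mkNatIso
    (NatIso.ofComponents (fun t => eqToIso (show X.obj t = Y.obj t from (X.w_obj t).trans (Y.w_obj t).symm))
      (by
        intro t t' m
        have h1 := Functor.congr_hom X.w m
        have h2 := Functor.congr_hom Y.w m
        change X.map m = _ at h1
        change Y.map m = _ at h2
        simp only [eqToIso.hom]
        refine Eq.trans (congrArg (fun k => k ≫ eqToHom _) h1) (Eq.trans ?_
          (congrArg (fun k => eqToHom _ ≫ k) h2).symm)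
        exact aux_eq₃ _ _ _ _ _ _ _))
    (fun t => IsHomLift.eqToHom_domain_lift_id
      (show X.obj t = Y.obj t from (X.w_obj t).trans (Y.w_obj t).symm) (X.w_obj t))

end SelfIso

section Omega

variable [HasBinaryProducts C] {𝒮 : BasedCategory.{v₂, u₂} C} {V U : C}
  (H : FibCat.overCat V ⥤ᵇ 𝒮) (G : FibCat.overCat U ⥤ᵇ 𝒮)

/-- `𝒮 ×_C 𝒮` -/
abbrev Sq (𝒮 : BasedCategory.{v₂, u₂} C) := FibCat.fp (FibCat.toSelf 𝒮) (FibCat.toSelf 𝒮)

/-- the diagonal `𝒮 ⟶ 𝒮 ×_C 𝒮` -/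
abbrev Δ (𝒮 : BasedCategory.{v₂, u₂} C) : 𝒮 ⥤ᵇ Sq 𝒮 := FibCat.diag (FibCat.toSelf 𝒮)

/-- first projection `𝒮 ×_C 𝒮 ⟶ 𝒮` -/
abbrev pr₁ (𝒮 : BasedCategory.{v₂, u₂} C) : Sq 𝒮 ⥤ᵇ 𝒮 := FibCat.fpFst (FibCat.toSelf 𝒮) (FibCat.toSelf 𝒮)

/-- second projection `𝒮 ×_C 𝒮 ⟶ 𝒮` -/
abbrev pr₂ (𝒮 : BasedCategory.{v₂, u₂} C) : Sq 𝒮 ⥤ᵇ 𝒮 := FibCat.fpSnd (FibCat.toSelf 𝒮) (FibCat.toSelf 𝒮)

/-- `(H ∘ pr₁, G ∘ pr₂) : C/(V × U) ⟶ 𝒮 ×_C 𝒮` -/
noncomputable def K' : FibCat.overCat (V ⨯ U) ⥤ᵇ Sq 𝒮 :=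
  FibCat.fpLift (BasedFunctor.comp (ovMap (prod.fst : V ⨯ U ⟶ V)) H)
    (BasedFunctor.comp (ovMap (prod.snd : V ⨯ U ⟶ U)) G) (selfIso _ _)

lemma K'_pr₁ : BasedFunctor.comp (K' H G) (pr₁ 𝒮) = BasedFunctor.comp (ovMap (prod.fst : V ⨯ U ⟶ V)) H := rfl
lemma K'_pr₂ : BasedFunctor.comp (K' H G) (pr₂ 𝒮) = BasedFunctor.comp (ovMap (prod.snd : V ⨯ U ⟶ U)) G := rfl
lemma Δ_pr₁ : BasedFunctor.comp (Δ 𝒮) (pr₁ 𝒮) = BasedFunctor.id 𝒮 := rfl
lemma Δ_pr₂ : BasedFunctor.comp (Δ 𝒮) (pr₂ 𝒮) = BasedFunctor.id 𝒮 := rfl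

/-- first half of the 2-isomorphism -/
noncomputable def ω₁ : BasedFunctor.comp (BasedFunctor.comp (FibCat.fpFst (K' H G) (Δ 𝒮)) (ovMap (prod.fst : V ⨯ U ⟶ V))) H ≅
    FibCat.fpSnd (K' H G) (Δ 𝒮) :=
  (StkEquiv.post (pr₁ 𝒮) _).mapIso (FibCat.fpIso (K' H G) (Δ 𝒮))

/-- second half of the 2-isomorphism -/
noncomputable def ω₂ : BasedFunctor.comp (BasedFunctor.comp (FibCat.fpFst (K' H G) (Δ 𝒮)) (ovMap (prod.snd : V ⨯ U ⟶ U))) G ≅
    FibCat.fpSnd (K' H G) (Δ 𝒮) :=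
  (StkEquiv.post (pr₂ 𝒮) _).mapIso (FibCat.fpIso (K' H G) (Δ 𝒮))

/-- `C/(V×U) ×_{𝒮×𝒮} 𝒮 ⟶ C/V ×_𝒮 C/U` -/
noncomputable def Ω : FibCat.fp (K' H G) (Δ 𝒮) ⥤ᵇ FibCat.fp H G :=
  FibCat.fpLift (BasedFunctor.comp (FibCat.fpFst (K' H G) (Δ 𝒮)) (ovMap (prod.fst : V ⨯ U ⟶ V)))
    (BasedFunctor.comp (FibCat.fpFst (K' H G) (Δ 𝒮)) (ovMap (prod.snd : V ⨯ U ⟶ U)))
    (ω₁ H G ≪≫ (ω₂ H G).symm)

lemma Ω_obj_iso_hom (z : (FibCat.fp (K' H G) (Δ 𝒮)).obj) :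
    ((Ω H G).obj z).obj.iso.hom = z.obj.iso.hom.hom.fst ≫ z.obj.iso.inv.hom.snd := rfl

lemma Ω_map_fst {z z' : (FibCat.fp (K' H G) (Δ 𝒮)).obj} (m : z ⟶ z') :
    ((Ω H G).map m).hom.fst = (ovMap (prod.fst : V ⨯ U ⟶ V)).map m.hom.fst := rfl

lemma Ω_map_snd {z z' : (FibCat.fp (K' H G) (Δ 𝒮)).obj} (m : z ⟶ z') :
    ((Ω H G).map m).hom.snd = (ovMap (prod.snd : V ⨯ U ⟶ U)).map m.hom.fst := rfl

/-- first component of the structure isomorphism of an object of `C/(V×U) ×_{𝒮×𝒮} 𝒮` -/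
noncomputable def ζ₁ (z : (FibCat.fp (K' H G) (Δ 𝒮)).obj) :
    H.obj ((ovMap (prod.fst : V ⨯ U ⟶ V)).obj z.obj.fst) ≅ z.obj.snd :=
  (pr₁ 𝒮).toFunctor.mapIso z.obj.iso

/-- second component -/
noncomputable def ζ₂ (z : (FibCat.fp (K' H G) (Δ 𝒮)).obj) :
    G.obj ((ovMap (prod.snd : V ⨯ U ⟶ U)).obj z.obj.fst) ≅ z.obj.snd :=
  (pr₂ 𝒮).toFunctor.mapIso z.obj.iso

lemma ζ₁_hom (z : (FibCat.fp (K' H G) (Δ 𝒮)).obj) : (ζ₁ H G z).hom = z.obj.iso.hom.hom.fst := rfl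
lemma ζ₂_hom (z : (FibCat.fp (K' H G) (Δ 𝒮)).obj) : (ζ₂ H G z).hom = z.obj.iso.hom.hom.snd := rfl
lemma ζ₂_inv (z : (FibCat.fp (K' H G) (Δ 𝒮)).obj) : (ζ₂ H G z).inv = z.obj.iso.inv.hom.snd := rfl

lemma Ω_obj_iso_hom' (z : (FibCat.fp (K' H G) (Δ 𝒮)).obj) :
    ((Ω H G).obj z).obj.iso.hom = (ζ₁ H G z).hom ≫ (ζ₂ H G z).inv := rfl

/-- the two compatibilities of a morphism of `C/(V×U) ×_{𝒮×𝒮} 𝒮` -/
lemma mor_w₁ {z z' : (FibCat.fp (K' H G) (Δ 𝒮)).obj} (m : z ⟶ z') :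
    H.map ((ovMap (prod.fst : V ⨯ U ⟶ V)).map m.hom.fst) ≫ (ζ₁ H G z').hom =
      (ζ₁ H G z).hom ≫ m.hom.snd :=
  congrArg (fun k => k.hom.fst) m.hom.w

lemma mor_w₂ {z z' : (FibCat.fp (K' H G) (Δ 𝒮)).obj} (m : z ⟶ z') :
    G.map ((ovMap (prod.snd : V ⨯ U ⟶ U)).map m.hom.fst) ≫ (ζ₂ H G z').hom =
      (ζ₂ H G z).hom ≫ m.hom.snd :=
  congrArg (fun k => k.hom.snd) m.hom.w

theorem Ω_faithful : (Ω H G).toFunctor.Faithful where
  map_injective := by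
    intro z z' m m' h
    have h1 : (ovMap (prod.fst : V ⨯ U ⟶ V)).map m.hom.fst =
        (ovMap (prod.fst : V ⨯ U ⟶ V)).map m'.hom.fst := congrArg (fun k => k.hom.fst) h
    have h2 : m.hom.fst = m'.hom.fst := by
      apply Over.OverMorphism.ext
      exact congrArg (fun k : ((ovMap (prod.fst : V ⨯ U ⟶ V)).obj z.obj.fst : Over V) ⟶
        (ovMap (prod.fst : V ⨯ U ⟶ V)).obj z'.obj.fst => k.left) h1
    have h3 : m.hom.snd = m'.hom.snd := by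
      have e1 := mor_w₁ H G m
      have e2 := mor_w₁ H G m'
      rw [h2] at e1
      have e3 : (ζ₁ H G z).hom ≫ m.hom.snd = (ζ₁ H G z).hom ≫ m'.hom.snd := e1.symm.trans e2
      exact (cancel_epi _).mp e3
    apply ObjectProperty.hom_ext
    apply Limits.CategoricalPullback.hom_ext
    · exact h2
    · exact h3

omit [HasBinaryProducts C] in
lemma aux_c2 {A : Type*} [Category A] {P Q S P' Q' S' : A} (a₁ : P ≅ S) (a₂ : Q ≅ S)
    (a₁' : P' ≅ S') (a₂' : Q' ≅ S') (x : P ⟶ P') (y : Q ⟶ Q')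
    (hw : x ≫ a₁'.hom ≫ a₂'.inv = (a₁.hom ≫ a₂.inv) ≫ y) :
    y ≫ a₂'.hom = a₂.hom ≫ a₁.inv ≫ x ≫ a₁'.hom := by
  have e : y = a₂.hom ≫ a₁.inv ≫ x ≫ a₁'.hom ≫ a₂'.inv := by
    rw [hw]
    simp
  rw [e]
  simp

omit [HasBinaryProducts C] in
lemma aux_refl {A B : C} (f : A ⟶ B) (p : A = A) (q : B = B) : eqToHom p ≫ f ≫ eqToHom q = f := by
  simp

theorem Ω_full : (Ω H G).toFunctor.Full where
  map_surjective := by
    intro z z' h
    obtain ⟨h₁, hh₁⟩ : ∃ h₁ : ((ovMap (prod.fst : V ⨯ U ⟶ V)).obj z.obj.fst : Over V) ⟶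
      (ovMap (prod.fst : V ⨯ U ⟶ V)).obj z'.obj.fst, h₁ = h.hom.fst := ⟨_, rfl⟩
    obtain ⟨h₂, hh₂⟩ : ∃ h₂ : ((ovMap (prod.snd : V ⨯ U ⟶ U)).obj z.obj.fst : Over U) ⟶
      (ovMap (prod.snd : V ⨯ U ⟶ U)).obj z'.obj.fst, h₂ = h.hom.snd := ⟨_, rfl⟩
    have e12 : h₂.left = h₁.left := by
      have hl : (FibCat.overCat U).p.IsHomLift ((FibCat.fp H G).p.map h) h.hom.snd :=
        FibCat.fp_isHomLift_snd H G h
      have := IsHomLift.fac' (FibCat.overCat U).p ((FibCat.fp H G).p.map h) h.hom.snd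
      rw [hh₁, hh₂]
      refine Eq.trans this ?_
      exact aux_refl (h.hom.fst : ((ovMap (prod.fst : V ⨯ U ⟶ V)).obj z.obj.fst : Over V) ⟶
        (ovMap (prod.fst : V ⨯ U ⟶ V)).obj z'.obj.fst).left _ _
    have w1 : h₁.left ≫ ((z'.obj.fst : Over (V ⨯ U)).hom ≫ prod.fst) =
        (z.obj.fst : Over (V ⨯ U)).hom ≫ prod.fst := Over.w h₁
    have w2 : h₂.left ≫ ((z'.obj.fst : Over (V ⨯ U)).hom ≫ prod.snd) =
        (z.obj.fst : Over (V ⨯ U)).hom ≫ prod.snd := Over.w h₂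
    have w : h₁.left ≫ (z'.obj.fst : Over (V ⨯ U)).hom = (z.obj.fst : Over (V ⨯ U)).hom := by
      apply Limits.prod.hom_ext
      · rw [Category.assoc]; exact w1
      · rw [Category.assoc, ← e12]; exact w2
    let m₁ : (z.obj.fst : Over (V ⨯ U)) ⟶ z'.obj.fst := Over.homMk h₁.left w
    have hm₁ : (ovMap (prod.fst : V ⨯ U ⟶ V)).map m₁ = h₁ := Over.OverMorphism.ext rfl
    have hm₂ : (ovMap (prod.snd : V ⨯ U ⟶ U)).map m₁ = h₂ := Over.OverMorphism.ext e12.symm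
    let n : z.obj.snd ⟶ z'.obj.snd := (ζ₁ H G z).inv ≫ H.map h₁ ≫ (ζ₁ H G z').hom
    have hw := h.hom.w
    rw [Ω_obj_iso_hom', Ω_obj_iso_hom', ← hh₁, ← hh₂] at hw
    have c1 : H.map ((ovMap (prod.fst : V ⨯ U ⟶ V)).map m₁) ≫ (ζ₁ H G z').hom =
        (ζ₁ H G z).hom ≫ n := by
      rw [hm₁]
      simp [n]
    have c2 : G.map ((ovMap (prod.snd : V ⨯ U ⟶ U)).map m₁) ≫ (ζ₂ H G z').hom =
        (ζ₂ H G z).hom ≫ n := by
      rw [hm₂]
      exact aux_c2 (ζ₁ H G z) (ζ₂ H G z) (ζ₁ H G z') (ζ₂ H G z') (H.map h₁) (G.map h₂) hw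
    have wm : (K' H G).map m₁ ≫ z'.obj.iso.hom = z.obj.iso.hom ≫ (Δ 𝒮).map n := by
      apply ObjectProperty.hom_ext
      apply Limits.CategoricalPullback.hom_ext
      · exact c1
      · exact c2
    refine ⟨ObjectProperty.homMk ⟨m₁, n, wm⟩, ?_⟩
    apply ObjectProperty.hom_ext
    apply Limits.CategoricalPullback.hom_ext
    · exact hm₁.trans hh₁
    · exact hm₂.trans hh₂

omit [HasBinaryProducts C] in
lemma aux_c3 {A : Type*} [Category A] {P Q R S : A} (x : P ⟶ Q) (ψ : Q ⟶ R) (y : S ≅ R) :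
    x ≫ ψ = ((x ≫ ψ) ≫ y.inv) ≫ y.hom := by
  simp

theorem Ω_hes (r : (FibCat.fp H G).obj) :
    ∃ (z : (FibCat.fp (K' H G) (Δ 𝒮)).obj) (e : (Ω H G).obj z ≅ r),
      (FibCat.fp H G).p.IsHomLift (𝟙 ((FibCat.fp H G).p.obj r)) e.hom := by
  have hab : (r.obj.snd : Over U).left = (r.obj.fst : Over V).left := fp_obj_snd_proj H G r
  let t : Over (V ⨯ U) :=
    Over.mk (prod.lift (r.obj.fst : Over V).hom (eqToHom hab.symm ≫ (r.obj.snd : Over U).hom))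
  let ea : ((ovMap (prod.fst : V ⨯ U ⟶ V)).obj t : Over V) ≅ r.obj.fst :=
    Over.isoMk (Iso.refl _) (by
      change 𝟙 _ ≫ (r.obj.fst : Over V).hom = prod.lift _ _ ≫ prod.fst
      rw [Category.id_comp]
      exact (prod.lift_fst _ _).symm)
  let eb : ((ovMap (prod.snd : V ⨯ U ⟶ U)).obj t : Over U) ≅ r.obj.snd :=
    Over.isoMk (eqToIso hab.symm) (by
      change eqToHom hab.symm ≫ (r.obj.snd : Over U).hom = prod.lift _ _ ≫ prod.snd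
      exact (prod.lift_snd _ _).symm)
  have hea : (FibCat.overCat V).p.IsHomLift (𝟙 t.left) ea.hom := by
    refine (over_lift_iff (U := V) _ _).mpr ⟨rfl, rfl, ?_⟩
    change 𝟙 _ = _
    simp
    rfl
  have heb : (FibCat.overCat U).p.IsHomLift (𝟙 t.left) eb.hom := by
    refine (over_lift_iff (U := U) _ _).mpr ⟨rfl, hab, ?_⟩
    change eqToHom hab.symm = _
    simp
    rfl
  let z₁ : H.obj ((ovMap (prod.fst : V ⨯ U ⟶ V)).obj t) ≅ G.obj r.obj.snd :=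
    H.toFunctor.mapIso ea ≪≫ r.obj.iso
  let z₂ : G.obj ((ovMap (prod.snd : V ⨯ U ⟶ U)).obj t) ≅ G.obj r.obj.snd :=
    G.toFunctor.mapIso eb
  have v1 : Vert.IsVert 𝒮.p z₁.hom :=
    Vert.comp _ _ _ (Vert.map H _ (Vert.of_lift' _ _ hea)) (Vert.of_lift' 𝒮.p _ r.property)
  have v2 : Vert.IsVert 𝒮.p z₂.hom := Vert.map G _ (Vert.of_lift' _ _ heb)
  have l1 : 𝒮.p.IsHomLift (𝟙 t.left) z₁.hom := Vert.lift 𝒮.p _ v1 (H.w_obj _)
  have l2 : 𝒮.p.IsHomLift (𝟙 t.left) z₂.hom := Vert.lift 𝒮.p _ v2 (G.w_obj _)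
  have compat : (FibCat.toSelf 𝒮).map z₁.hom ≫ ((Δ 𝒮).obj (G.obj r.obj.snd)).obj.iso.hom =
      ((K' H G).obj t).obj.iso.hom ≫ (FibCat.toSelf 𝒮).map z₂.hom :=
    @FpSelf.w_of_lift C _ 𝒮 𝒮 _ _ (𝟙 t.left) ((K' H G).obj t) ((Δ 𝒮).obj (G.obj r.obj.snd))
      z₁.hom z₂.hom l1 l2
  let ζ : (K' H G).obj t ≅ (Δ 𝒮).obj (G.obj r.obj.snd) :=
    ObjectProperty.isoMk _ (Limits.CategoricalPullback.mkIso z₁ z₂ compat)
  have hζ : (Sq 𝒮).p.IsHomLift (𝟙 t.left) ζ.hom := (FpSelf.lift_iff _ _).mpr l1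
  let z : (FibCat.fp (K' H G) (Δ 𝒮)).obj := ⟨⟨t, G.obj r.obj.snd, ζ⟩, hζ⟩
  have compat2 : H.map ea.hom ≫ r.obj.iso.hom = ((Ω H G).obj z).obj.iso.hom ≫ G.map eb.hom := by
    rw [Ω_obj_iso_hom']
    exact aux_c3 (H.map ea.hom) r.obj.iso.hom z₂
  refine ⟨z, ObjectProperty.isoMk _ (Limits.CategoricalPullback.mkIso ea eb compat2), ?_⟩
  rw [fp_lift_iff]
  exact hea

theorem Ω_isEquivOver : FibCat.IsEquivOver (Ω H G) := by
  have h1 := Ω_faithful H G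
  have h2 := Ω_full H G
  exact EquivCore.isEquivOver _ (Ω_hes H G)

end Omega

section IsoMk

variable {𝒜 : BasedCategory.{v₂, u₂} C} {𝒮 : BasedCategory.{v₃, u₃} C}

/-- a 2-isomorphism between functors into `𝒮 ×_C 𝒮` from 2-isomorphisms of the two components -/
noncomputable def sqIsoMk (X Y : 𝒜 ⥤ᵇ Sq 𝒮)
    (e₁ : BasedFunctor.comp X (pr₁ 𝒮) ≅ BasedFunctor.comp Y (pr₁ 𝒮))
    (e₂ : BasedFunctor.comp X (pr₂ 𝒮) ≅ BasedFunctor.comp Y (pr₂ 𝒮)) : X ≅ Y :=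
  BasedNatIso.mkNatIso
    (NatIso.ofComponents (fun t =>
      ObjectProperty.isoMk _ (Limits.CategoricalPullback.mkIso
        (((BasedNatTrans.forgetful _ _).mapIso e₁).app t) (((BasedNatTrans.forgetful _ _).mapIso e₂).app t)
        (@FpSelf.w_of_lift C _ 𝒮 𝒮 _ _ (𝟙 (𝒜.p.obj t)) (X.obj t) (Y.obj t)
          (e₁.hom.toNatTrans.app t) (e₂.hom.toNatTrans.app t) (e₁.hom.isHomLift' t) (e₂.hom.isHomLift' t))))
      (by
        intro t t' m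
        apply ObjectProperty.hom_ext
        apply Limits.CategoricalPullback.hom_ext
        · exact e₁.hom.toNatTrans.naturality m
        · exact e₂.hom.toNatTrans.naturality m))
    (by
      intro t
      rw [FpSelf.lift_iff]
      exact e₁.hom.isHomLift' t)

end IsoMk

section Main

variable [HasBinaryProducts C] {𝒮 : BasedCategory.{v₂, u₂} C}

/-- `C/W → C/(W×W) → C/W` (first projection) is isomorphic to the identity -/
noncomputable def diagFstIso (W : C) :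
    BasedFunctor.comp (ovMap (diag W)) (ovMap (prod.fst : W ⨯ W ⟶ W)) ≅ BasedFunctor.id (FibCat.overCat W) :=
  BasedNatIso.mkNatIso (NatIso.ofComponents (fun t =>
    Over.isoMk (Iso.refl (t : Over W).left) (by
      change 𝟙 _ ≫ (t : Over W).hom = ((t : Over W).hom ≫ diag W) ≫ prod.fst
      rw [Category.id_comp, Category.assoc]
      exact ((congrArg (fun k => (t : Over W).hom ≫ k) (prod.lift_fst (𝟙 W) (𝟙 W))).trans
        (Category.comp_id _)).symm)) (by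
    intro t t' m
    apply Over.OverMorphism.ext
    change (m : (t : Over W) ⟶ t').left ≫ 𝟙 _ = 𝟙 _ ≫ (m : (t : Over W) ⟶ t').left
    simp)) (by
    intro t
    refine (over_lift_iff (U := W) (𝟙 (t : Over W).left) _).mpr ⟨rfl, rfl, ?_⟩
    change 𝟙 _ = _
    simp
    rfl)

/-- `C/W → C/(W×W) → C/W` (second projection) is isomorphic to the identity -/
noncomputable def diagSndIso (W : C) :
    BasedFunctor.comp (ovMap (diag W)) (ovMap (prod.snd : W ⨯ W ⟶ W)) ≅ BasedFunctor.id (FibCat.overCat W) :=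
  BasedNatIso.mkNatIso (NatIso.ofComponents (fun t =>
    Over.isoMk (Iso.refl (t : Over W).left) (by
      change 𝟙 _ ≫ (t : Over W).hom = ((t : Over W).hom ≫ diag W) ≫ prod.snd
      rw [Category.id_comp, Category.assoc]
      exact ((congrArg (fun k => (t : Over W).hom ≫ k) (prod.lift_snd (𝟙 W) (𝟙 W))).trans
        (Category.comp_id _)).symm)) (by
    intro t t' m
    apply Over.OverMorphism.ext
    change (m : (t : Over W) ⟶ t').left ≫ 𝟙 _ = 𝟙 _ ≫ (m : (t : Over W) ⟶ t').left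
    simp)) (by
    intro t
    refine (over_lift_iff (U := W) (𝟙 (t : Over W).left) _).mpr ⟨rfl, rfl, ?_⟩
    change 𝟙 _ = _
    simp
    rfl)

/-- every `K : C/W ⟶ 𝒮 ×_C 𝒮` factors, up to 2-isomorphism, through the diagonal of `W` -/
noncomputable def factorIso {W : C} (K : FibCat.overCat W ⥤ᵇ Sq 𝒮) :
    BasedFunctor.comp (ovMap (diag W))
      (K' (BasedFunctor.comp K (pr₁ 𝒮)) (BasedFunctor.comp K (pr₂ 𝒮))) ≅ K :=
  sqIsoMk _ _
    ((StkEquiv.post (BasedFunctor.comp K (pr₁ 𝒮)) _).mapIso (diagFstIso W))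
    ((StkEquiv.post (BasedFunctor.comp K (pr₂ 𝒮)) _).mapIso (diagSndIso W))

theorem diag_repr_of_all [HasPullbacks C]
    (h : ∀ (U : C) (G : FibCat.overCat U ⥤ᵇ 𝒮), FibCat.IsRepresentable1 G) :
    FibCat.IsRepresentable1 (Δ 𝒮) := by
  intro W K
  obtain ⟨P, R₀, hR₀⟩ := h W (BasedFunctor.comp K (pr₂ 𝒮)) W (BasedFunctor.comp K (pr₁ 𝒮))
  have hΩ := Ω_isEquivOver (BasedFunctor.comp K (pr₁ 𝒮)) (BasedFunctor.comp K (pr₂ 𝒮))
  have hR := EquivComp.comp _ _ hΩ hR₀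
  obtain ⟨R', hR'⟩ := EquivComp.symm _ hR
  -- step 1: replace `K`
  rw [FpRepr.isRepresentable_congr K _ (Δ 𝒮) (Δ 𝒮) (factorIso K) (Iso.refl _)]
  -- step 2: pasting
  rw [← EquivComp.isRepresentable_iff _ (FpPaste.Ψ₁_isEquivOver (ovMap (diag W))
    (K' (BasedFunctor.comp K (pr₁ 𝒮)) (BasedFunctor.comp K (pr₂ 𝒮))) (Δ 𝒮))]
  -- step 3: replace the right leg by a functor from a slice
  rw [← FpRepr.isRepresentable_precomp_right (ovMap (diag W)) _ R' hR']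
  exact fp_slices_isRepresentable _ _

theorem all_repr_of_diag (h : FibCat.IsRepresentable1 (Δ 𝒮)) :
    ∀ (U : C) (G : FibCat.overCat U ⥤ᵇ 𝒮), FibCat.IsRepresentable1 G := by
  intro U G V H
  exact (EquivComp.isRepresentable_iff (Ω H G) (Ω_isEquivOver H G)).mp (h (V ⨯ U) (K' H G))

end Main

end Groth.Agent.Lib.helper10.DiagRepr
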