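import Mathlib.Tactic
import Groth.Agent.Lib.helper10.FiberFun

set_option autoImplicit false
open CategoryTheory
universe v u
open FibCat

namespace Groth.Agent.Lib.helper10.Yoneda2

open Groth.Agent.Lib.helper10.FiberFun

variable {C : Type u} [Category.{v} C] (U : C)

/-- every morphism of `C/U` is strongly cartesian over its image -/
lemma over_sc' {o o' : Over U} (k : o ⟶ o') : (Over.forget U).IsStronglyCartesian k.left k := by
  refine { toIsHomLift := IsHomLift.map (Over.forget U) k, universal_property' := ?_ }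
  intro o'' g k' hk'
  have e0 := @IsHomLift.eq_of_isHomLift _ _ _ _ (Over.forget U) o'' o' (g ≫ k.left) k' hk'
  obtain ⟨g', hg'⟩ : ∃ g' : o''.left ⟶ o.left, g' = g := ⟨g, rfl⟩
  have e : g' ≫ k.left = k'.left := by rw [hg']; exact e0
  clear e0
  subst hg'
  have hw : g' ≫ o.hom = o''.hom := by
    have h1 := Over.w k
    have h2 := Over.w k'
    rw [← h1, ← Category.assoc, e]
    exact h2
  let χ : o'' ⟶ o := Over.homMk g' hw
  refine ⟨χ, ⟨IsHomLift.map (Over.forget U) χ, ?_⟩, ?_⟩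
  · apply Over.OverMorphism.ext
    exact e
  · rintro χ' ⟨h1, h2⟩
    apply Over.OverMorphism.ext
    have := @IsHomLift.eq_of_isHomLift _ _ _ _ (Over.forget U) o'' o g' χ' h1
    exact this.symm

lemma over_sc {o o' : Over U} (k : o ⟶ o') : (overCat U).p.IsStronglyCartesian k.left k :=
  over_sc' U k

/-- the canonical morphism to the terminal object of `C/U` -/
def tm (o : Over U) : o ⟶ Over.mk (𝟙 U) := Over.homMk o.hom (by simp)

@[simp] lemma tm_left (o : Over U) : (tm U o).left = o.hom := rfl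

lemma comp_tm {o o' : Over U} (k : o ⟶ o') : k ≫ tm U o' = tm U o := by
  ext
  simp

lemma tm_mk_id : tm U (Over.mk (𝟙 U)) = 𝟙 _ := by
  ext
  simp

variable {𝒳 : BasedCategory.{v, max u v} C}

/-- the property of preserving strongly cartesian morphisms, as an object property -/
abbrev P : ObjectProperty (overCat U ⥤ᵇ 𝒳) :=
  FibCat.PreservesStronglyCartesian (𝒳 := FibCat.overCat U) (𝒴 := 𝒳)

lemma map_sc (H : overCat U ⥤ᵇ 𝒳) (hH : FibCat.PreservesStronglyCartesian H) {o o' : Over U}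
    (k : o ⟶ o') : 𝒳.p.IsStronglyCartesian k.left (H.map k) :=
  hH k.left k (over_sc U k)

instance map_lift (H : overCat U ⥤ᵇ 𝒳) {o o' : Over U} (k : o ⟶ o') :
    𝒳.p.IsHomLift k.left (H.map k) := by
  have h : (overCat U).p.IsHomLift k.left k := IsHomLift.map (Over.forget U) k
  exact @BasedFunctor.preserves_isHomLift _ _ _ _ H _ _ _ _ k.left k h

lemma app_lift {G H : overCat U ⥤ᵇ 𝒳} (α : G ⟶ H) (o : Over U) :
    𝒳.p.IsHomLift (𝟙 o.left) (α.toNatTrans.app o) := α.isHomLift' o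

theorem faithful : ((P U (𝒳 := 𝒳)).ι ⋙ FibCat.evalAtId 𝒳 U).Faithful := by
  constructor
  intro G H α β h
  apply ObjectProperty.hom_ext
  apply BasedNatTrans.ext
  apply NatTrans.ext
  funext o
  have h0 : α.hom.toNatTrans.app (Over.mk (𝟙 U)) = β.hom.toNatTrans.app (Over.mk (𝟙 U)) :=
    congrArg (fun m => Functor.Fiber.fiberInclusion.map m) h
  have hsc := map_sc U H.obj H.property (tm U o)
  have h1 := app_lift U α.hom o
  have h2 := app_lift U β.hom o
  apply Functor.IsStronglyCartesian.ext 𝒳.p (tm U o).left (H.obj.map (tm U o)) (𝟙 o.left)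
  have n1 := α.hom.toNatTrans.naturality (tm U o)
  have n2 := β.hom.toNatTrans.naturality (tm U o)
  exact n1.symm.trans ((congrArg (fun m => G.obj.toFunctor.map (tm U o) ≫ m) h0).trans n2)

theorem full : ((P U (𝒳 := 𝒳)).ι ⋙ FibCat.evalAtId 𝒳 U).Full := by
  constructor
  intro G H m
  obtain ⟨m₁, hm₁⟩ : ∃ m₁ : G.obj.obj (Over.mk (𝟙 U)) ⟶ H.obj.obj (Over.mk (𝟙 U)), m₁ = m.1 :=
    ⟨_, rfl⟩
  have hm : 𝒳.p.IsHomLift (𝟙 U) m₁ := by rw [hm₁]; exact m.2
  have hsc : ∀ o : Over U, 𝒳.p.IsStronglyCartesian o.hom (H.obj.map (tm U o)) :=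
    fun o => map_sc U H.obj H.property (tm U o)
  have hl : ∀ o : Over U, 𝒳.p.IsHomLift o.hom (G.obj.map (tm U o) ≫ m₁) := fun o =>
    have : 𝒳.p.IsHomLift o.hom (G.obj.map (tm U o)) := map_lift U G.obj (tm U o)
    IsHomLift.comp_lift_id_right' 𝒳.p o.hom (G.obj.map (tm U o)) U m₁
  have hid : ∀ o : Over U, o.hom = 𝟙 o.left ≫ o.hom := fun o => by simp
  let app : ∀ o : Over U, G.obj.obj o ⟶ H.obj.obj o := fun o =>
    Functor.IsStronglyCartesian.map 𝒳.p o.hom (H.obj.map (tm U o)) (hid o)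
      (G.obj.map (tm U o) ≫ m₁)
  have happ_lift : ∀ o : Over U, 𝒳.p.IsHomLift (𝟙 o.left) (app o) := fun o =>
    Functor.IsStronglyCartesian.map_isHomLift 𝒳.p o.hom (H.obj.map (tm U o)) (hid o)
      (G.obj.map (tm U o) ≫ m₁)
  have happ_fac : ∀ o : Over U, app o ≫ H.obj.map (tm U o) = G.obj.map (tm U o) ≫ m₁ := fun o =>
    Functor.IsStronglyCartesian.fac 𝒳.p o.hom (H.obj.map (tm U o)) (hid o)
      (G.obj.map (tm U o) ≫ m₁)
  have hnat : ∀ {o o' : Over U} (k : o ⟶ o'),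
      G.obj.toFunctor.map k ≫ app o' = app o ≫ H.obj.toFunctor.map k := by
    intro o o' k
    have := hsc o'
    have := happ_lift o
    have := happ_lift o'
    have l1 : 𝒳.p.IsHomLift k.left (G.obj.map k ≫ app o') :=
      IsHomLift.comp_lift_id_right' 𝒳.p k.left (G.obj.map k) o'.left (app o')
    have l2 : 𝒳.p.IsHomLift k.left (app o ≫ H.obj.map k) :=
      IsHomLift.comp_lift_id_left' 𝒳.p o.left (app o) k.left (H.obj.map k)
    apply Functor.IsStronglyCartesian.ext 𝒳.p o'.hom (H.obj.map (tm U o')) k.left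
    have e1 : G.obj.map k ≫ G.obj.map (tm U o') = G.obj.map (tm U o) :=
      (G.obj.toFunctor.map_comp k (tm U o')).symm.trans
        (congrArg (fun z => G.obj.toFunctor.map z) (comp_tm U k))
    have e2 : H.obj.map k ≫ H.obj.map (tm U o') = H.obj.map (tm U o) :=
      (H.obj.toFunctor.map_comp k (tm U o')).symm.trans
        (congrArg (fun z => H.obj.toFunctor.map z) (comp_tm U k))
    change (G.obj.map k ≫ app o') ≫ H.obj.map (tm U o') = (app o ≫ H.obj.map k) ≫ H.obj.map (tm U o')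
    rw [Category.assoc, happ_fac o', ← Category.assoc, e1, Category.assoc, e2, happ_fac o]
  let α : G.obj ⟶ H.obj :=
    { toNatTrans := { app := app, naturality := fun _ _ k => hnat k }
      isHomLift' := fun o => happ_lift o }
  refine ⟨ObjectProperty.homMk α, ?_⟩
  apply Functor.Fiber.hom_ext
  change app (Over.mk (𝟙 U)) = m.1
  rw [← hm₁]
  have h1 := happ_fac (Over.mk (𝟙 U))
  rw [tm_mk_id] at h1
  have e1 : G.obj.map (𝟙 (Over.mk (𝟙 U))) = 𝟙 _ := G.obj.toFunctor.map_id _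
  have e2 : H.obj.map (𝟙 (Over.mk (𝟙 U))) = 𝟙 _ := H.obj.toFunctor.map_id _
  rw [e1, e2, Category.comp_id, Category.id_comp] at h1
  exact h1

section EssSurj

variable [𝒳.p.IsFibered] (a : 𝒳.p.Fiber U)

/-- chosen pullback of `a` along `o.hom` -/
noncomputable def pbObj (o : Over U) : 𝒳.obj := Functor.IsPreFibered.pullbackObj a.2 o.hom

/-- the chosen cartesian morphism -/
noncomputable def pbMap (o : Over U) : pbObj U a o ⟶ a.1 :=
  Functor.IsPreFibered.pullbackMap a.2 o.hom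

instance pbMap_sc (o : Over U) : 𝒳.p.IsStronglyCartesian o.hom (pbMap U a o) := by
  have : 𝒳.p.IsCartesian o.hom (pbMap U a o) := Functor.IsPreFibered.pullbackMap.IsCartesian a.2 o.hom
  exact Functor.IsFibered.isStronglyCartesian_of_isCartesian 𝒳.p o.hom (pbMap U a o)

lemma pbObj_proj (o : Over U) : 𝒳.p.obj (pbObj U a o) = o.left :=
  IsHomLift.domain_eq 𝒳.p o.hom (pbMap U a o)

/-- action on morphisms -/
noncomputable def pbHom {o o' : Over U} (k : o ⟶ o') : pbObj U a o ⟶ pbObj U a o' :=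
  Functor.IsStronglyCartesian.map 𝒳.p o'.hom (pbMap U a o') (g := k.left) (Over.w k).symm
    (pbMap U a o)

instance pbHom_lift {o o' : Over U} (k : o ⟶ o') : 𝒳.p.IsHomLift k.left (pbHom U a k) :=
  Functor.IsStronglyCartesian.map_isHomLift 𝒳.p o'.hom (pbMap U a o') (g := k.left)
    (Over.w k).symm (pbMap U a o)

lemma pbHom_fac {o o' : Over U} (k : o ⟶ o') : pbHom U a k ≫ pbMap U a o' = pbMap U a o :=
  Functor.IsStronglyCartesian.fac 𝒳.p o'.hom (pbMap U a o') (g := k.left) (Over.w k).symm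
    (pbMap U a o)

lemma pbHom_id (o : Over U) : pbHom U a (𝟙 o) = 𝟙 (pbObj U a o) := by
  have h1 : 𝒳.p.IsHomLift (𝟙 o.left) (pbHom U a (𝟙 o)) := pbHom_lift U a (𝟙 o)
  have h2 : 𝒳.p.IsHomLift (𝟙 o.left) (𝟙 (pbObj U a o)) := IsHomLift.id (pbObj_proj U a o)
  apply Functor.IsStronglyCartesian.ext 𝒳.p o.hom (pbMap U a o) (𝟙 o.left)
  rw [pbHom_fac, Category.id_comp]

lemma pbHom_comp {o o' o'' : Over U} (k : o ⟶ o') (k' : o' ⟶ o'') :
    pbHom U a (k ≫ k') = pbHom U a k ≫ pbHom U a k' := by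
  have h1 : 𝒳.p.IsHomLift (k.left ≫ k'.left) (pbHom U a (k ≫ k')) := pbHom_lift U a (k ≫ k')
  have h2 : 𝒳.p.IsHomLift (k.left ≫ k'.left) (pbHom U a k ≫ pbHom U a k') := inferInstance
  apply Functor.IsStronglyCartesian.ext 𝒳.p o''.hom (pbMap U a o'') (k.left ≫ k'.left)
  rw [pbHom_fac, Category.assoc, pbHom_fac, pbHom_fac]

/-- the functor `C/U ⟶ 𝒳` over `C` attached to `a` -/
noncomputable def yo : overCat U ⥤ᵇ 𝒳 where
  toFunctor :=
    { obj := fun o => pbObj U a o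
      map := fun {o o'} k => pbHom U a k
      map_id := fun o => pbHom_id U a o
      map_comp := fun k k' => pbHom_comp U a k k' }
  w := CategoryTheory.Functor.ext (fun o => pbObj_proj U a o)
    (fun _ _ k => @IsHomLift.fac' _ _ _ _ 𝒳.p _ _ _ _ _ _ (pbHom_lift U a k))

lemma pbHom_sc {o o' : Over U} (k : o ⟶ o') : 𝒳.p.IsStronglyCartesian k.left (pbHom U a k) := by
  have h2 : 𝒳.p.IsStronglyCartesian (k.left ≫ o'.hom) (pbHom U a k ≫ pbMap U a o') := by
    rw [pbHom_fac, Over.w k]; infer_instance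
  exact Functor.IsStronglyCartesian.of_comp 𝒳.p (f := k.left) (g := o'.hom) (φ := pbHom U a k)
    (ψ := pbMap U a o')

lemma yo_preserves : FibCat.PreservesStronglyCartesian (yo U a) := by
  intro R S f o o' k hk
  have hl : (overCat U).p.IsHomLift f k := hk.toIsHomLift
  have hl2 : 𝒳.p.IsHomLift f ((yo U a).map k) :=
    @BasedFunctor.preserves_isHomLift _ _ _ _ (yo U a) _ _ _ _ f k hl
  have h1 : 𝒳.p.IsStronglyCartesian (𝒳.p.map (pbHom U a k)) (pbHom U a k) :=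
    sc_map_of_sc 𝒳.p _ _ (pbHom_sc U a k)
  exact sc_of_sc_map 𝒳.p f ((yo U a).map k) h1

theorem essSurj : ((P U (𝒳 := 𝒳)).ι ⋙ FibCat.evalAtId 𝒳 U).EssSurj := by
  constructor
  intro a
  let G : (P U (𝒳 := 𝒳)).FullSubcategory := ⟨yo U a, yo_preserves U a⟩
  obtain ⟨mm, hmm⟩ : ∃ mm : pbObj U a (Over.mk (𝟙 U)) ⟶ a.1, mm = pbMap U a (Over.mk (𝟙 U)) :=
    ⟨_, rfl⟩
  have hsc : 𝒳.p.IsStronglyCartesian (𝟙 U) mm := by rw [hmm]; exact pbMap_sc U a (Over.mk (𝟙 U))
  have hiso : IsIso mm := Functor.IsStronglyCartesian.isIso_of_base_isIso 𝒳.p (𝟙 U) mm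
  have hl : 𝒳.p.IsHomLift (𝟙 U) mm := inferInstance
  obtain ⟨mi, hmi1, hmi2⟩ : ∃ mi : a.1 ⟶ pbObj U a (Over.mk (𝟙 U)), mm ≫ mi = 𝟙 _ ∧ mi ≫ mm = 𝟙 _ :=
    ⟨inv mm, IsIso.hom_inv_id mm, IsIso.inv_hom_id mm⟩
  have hinv : 𝒳.p.IsHomLift (𝟙 U) mi := by
    have e : mi = inv mm := by
      rw [← cancel_epi mm, hmi1, IsIso.hom_inv_id]
    rw [e]
    exact IsHomLift.lift_id_inv_isIso 𝒳.p U mm
  let m : ((P U (𝒳 := 𝒳)).ι ⋙ FibCat.evalAtId 𝒳 U).obj G ⟶ a := ⟨mm, hl⟩
  let m' : a ⟶ ((P U (𝒳 := 𝒳)).ι ⋙ FibCat.evalAtId 𝒳 U).obj G := ⟨mi, hinv⟩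
  refine ⟨G, ⟨?_⟩⟩
  refine { hom := m, inv := m', hom_inv_id := ?_, inv_hom_id := ?_ }
  · apply Functor.Fiber.hom_ext
    exact hmi1
  · apply Functor.Fiber.hom_ext
    exact hmi2

end EssSurj

theorem isEquivalence [𝒳.p.IsFibered] :
    ((P U (𝒳 := 𝒳)).ι ⋙ FibCat.evalAtId 𝒳 U).IsEquivalence :=
  { faithful := faithful U, full := full U, essSurj := essSurj U }

end Groth.Agent.Lib.helper10.Yoneda2
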