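import Mathlib.Tactic
import Groth.Agent.Lib.helper10.FiberFun

/-!
# The relative inertia of a functor over `C` (helper10)
-/

set_option autoImplicit false
open CategoryTheory
universe v u v₂ u₂ v₃ u₃
open FibCat

namespace Groth.Agent.Lib.helper10.Inertia

open Groth.Agent.Lib.helper10.FiberFun

variable {C : Type u} [Category.{v} C] {𝒳 : BasedCategory.{v₂, u₂} C} {𝒴 : BasedCategory.{v₃, u₃} C}
  (F : 𝒳 ⥤ᵇ 𝒴)

lemma lift_iff {R S : C} (f : R ⟶ S) {a b : (FibCat.inertia F).obj} (Ψ : a ⟶ b) :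
    (FibCat.inertia F).p.IsHomLift f Ψ ↔ 𝒳.p.IsHomLift f Ψ.hom := by
  constructor
  · intro h
    have h1 := IsHomLift.domain_eq (FibCat.inertia F).p f Ψ
    have h2 := IsHomLift.codomain_eq (FibCat.inertia F).p f Ψ
    have h3 := IsHomLift.fac' (FibCat.inertia F).p f Ψ
    exact IsHomLift.of_fac' 𝒳.p f Ψ.hom h1 h2 h3
  · intro h
    have h1 := IsHomLift.domain_eq 𝒳.p f Ψ.hom
    have h2 := IsHomLift.codomain_eq 𝒳.p f Ψ.hom
    have h3 := IsHomLift.fac' 𝒳.p f Ψ.hom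
    exact IsHomLift.of_fac' (FibCat.inertia F).p f Ψ h1 h2 h3

lemma aut_lift (t : FibCat.InertiaObj F) : 𝒳.p.IsHomLift (𝟙 (𝒳.p.obj t.pt)) t.aut.hom := by
  rw [← BasedFunctor.isHomLift_iff F, t.map_aut]
  infer_instance

/-- A morphism of the inertia whose underlying morphism is strongly cartesian is strongly
cartesian. -/
theorem sc_of_hom_sc {R S : C} (f : R ⟶ S) {s t : (FibCat.inertia F).obj} (Φ : s ⟶ t)
    (h : 𝒳.p.IsStronglyCartesian f Φ.hom) : (FibCat.inertia F).p.IsStronglyCartesian f Φ := by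
  have hΦ : (FibCat.inertia F).p.IsHomLift f Φ := (lift_iff F f Φ).2 inferInstance
  refine { toIsHomLift := hΦ, universal_property' := ?_ }
  intro z g τ hτ
  have hτ1 : 𝒳.p.IsHomLift (g ≫ f) τ.hom := (lift_iff F _ τ).1 hτ
  let χ : z.pt ⟶ s.pt := Functor.IsStronglyCartesian.map 𝒳.p f Φ.hom (g := g) rfl τ.hom
  have hχ : 𝒳.p.IsHomLift g χ :=
    Functor.IsStronglyCartesian.map_isHomLift 𝒳.p f Φ.hom (g := g) rfl τ.hom
  have hχf : χ ≫ Φ.hom = τ.hom :=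
    Functor.IsStronglyCartesian.fac 𝒳.p f Φ.hom (g := g) rfl τ.hom
  have hz := aut_lift F z
  have hs := aut_lift F s
  have hl1 : 𝒳.p.IsHomLift g (z.aut.hom ≫ χ) :=
    IsHomLift.comp_lift_id_left' 𝒳.p (𝒳.p.obj z.pt) z.aut.hom g χ
  have hl2 : 𝒳.p.IsHomLift g (χ ≫ s.aut.hom) :=
    IsHomLift.comp_lift_id_right' 𝒳.p g χ (𝒳.p.obj s.pt) s.aut.hom
  have hcomm : z.aut.hom ≫ χ = χ ≫ s.aut.hom := by
    apply Functor.IsStronglyCartesian.ext 𝒳.p f Φ.hom g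
    rw [Category.assoc, hχf, τ.comm, ← hχf, Category.assoc, Category.assoc, Φ.comm]
  let X : z ⟶ s := ⟨χ, hcomm⟩
  refine ⟨X, ⟨(lift_iff F g X).2 hχ, ?_⟩, ?_⟩
  · apply FibCat.InertiaObj.hom_ext
    exact hχf
  · rintro X' ⟨h1, h2⟩
    apply FibCat.InertiaObj.hom_ext
    have h1' : 𝒳.p.IsHomLift g X'.hom := (lift_iff F g X').1 h1
    have h2' : X'.hom ≫ Φ.hom = τ.hom := congrArg (fun m => m.hom) h2
    exact Functor.IsStronglyCartesian.map_uniq 𝒳.p f Φ.hom (g := g) rfl τ.hom X'.hom h2'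

/-- Lifting an object of the inertia along a strongly cartesian morphism whose image is strongly
cartesian. -/
theorem exists_sc_lift (t : (FibCat.inertia F).obj) {R : C} (f : R ⟶ 𝒳.p.obj t.pt) {x' : 𝒳.obj}
    (φ : x' ⟶ t.pt) (hφ : 𝒳.p.IsStronglyCartesian f φ)
    (hFφ : 𝒴.p.IsStronglyCartesian f (F.map φ)) :
    ∃ (t' : (FibCat.inertia F).obj) (Φ : t' ⟶ t), (FibCat.inertia F).p.IsStronglyCartesian f Φ := by
  have ht := aut_lift F t
  have hsc : 𝒳.p.IsStronglyCartesian (𝟙 (𝒳.p.obj t.pt)) t.aut.hom := inferInstance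
  have hcomp : 𝒳.p.IsStronglyCartesian f (φ ≫ t.aut.hom) := by
    have := Functor.IsStronglyCartesian.comp (p := 𝒳.p) (f := f) (g := 𝟙 (𝒳.p.obj t.pt))
      (φ := φ) (ψ := t.aut.hom)
    rwa [Category.comp_id] at this
  have hid : f = (Iso.refl R).hom ≫ f := by simp
  let α' : x' ≅ x' :=
    Functor.IsStronglyCartesian.domainIsoOfBaseIso 𝒳.p (g := Iso.refl R) hid φ (φ ≫ t.aut.hom)
  have hα'lift : 𝒳.p.IsHomLift (𝟙 R) α'.hom :=
    Functor.IsStronglyCartesian.domainUniqueUpToIso_inv_isHomLift 𝒳.p (g := Iso.refl R) hid φ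
      (φ ≫ t.aut.hom)
  have hα'fac : α'.hom ≫ φ = φ ≫ t.aut.hom :=
    Functor.IsStronglyCartesian.fac 𝒳.p f φ hid (φ ≫ t.aut.hom)
  have hx' : 𝒳.p.obj x' = R := IsHomLift.domain_eq 𝒳.p f φ
  have hFα' : 𝒴.p.IsHomLift (𝟙 R) (F.map α'.hom) := inferInstance
  have hFid : 𝒴.p.IsHomLift (𝟙 R) (𝟙 (F.obj x')) := IsHomLift.id ((F.w_obj x').trans hx')
  have hmap : F.map α'.hom = 𝟙 (F.obj x') := by
    apply Functor.IsStronglyCartesian.ext 𝒴.p f (F.map φ) (𝟙 R)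
    rw [Category.id_comp]
    change F.toFunctor.map α'.hom ≫ F.toFunctor.map φ = F.toFunctor.map φ
    rw [← Functor.map_comp, hα'fac, Functor.map_comp]
    rw [t.map_aut, Category.comp_id]
  let t' : (FibCat.inertia F).obj := ⟨x', α', hmap⟩
  let Φ : t' ⟶ t := ⟨φ, hα'fac⟩
  exact ⟨t', Φ, sc_of_hom_sc F f Φ hφ⟩

theorem isFibered (hF : FibCat.PreservesStronglyCartesian F) [𝒳.p.IsFibered] :
    (FibCat.inertia F).p.IsFibered := by
  apply Functor.IsFibered.of_exists_isStronglyCartesian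
  intro t R f
  change R ⟶ 𝒳.p.obj t.pt at f
  obtain ⟨x', φ, hφ⟩ := IsPreFibered.exists_isCartesian 𝒳.p (rfl : 𝒳.p.obj t.pt = _) f
  have hφs : 𝒳.p.IsStronglyCartesian f φ :=
    Functor.IsFibered.isStronglyCartesian_of_isCartesian 𝒳.p f φ
  exact exists_sc_lift F t f φ hφs (hF f φ hφs)

/-- `C` over itself is fibred in groupoids. -/
theorem selfOver_sc {R S : C} (f : R ⟶ S) {a b : (FibCat.selfOver C).obj} (φ : a ⟶ b)
    [h : (FibCat.selfOver C).p.IsHomLift f φ] : (FibCat.selfOver C).p.IsStronglyCartesian f φ := by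
  obtain ⟨⟩ := h
  refine { toIsHomLift := inferInstance, universal_property' := ?_ }
  intro a' g φ' hφ'
  have e : g ≫ φ = φ' := @IsHomLift.eq_of_isHomLift _ _ _ _ (FibCat.selfOver C).p a' _ _ φ' hφ'
  refine ⟨g, ⟨IsHomLift.map (𝟭 C) g, e⟩, ?_⟩
  rintro χ ⟨h1, -⟩
  exact (@IsHomLift.eq_of_isHomLift _ _ _ _ (FibCat.selfOver C).p a' _ g χ h1).symm

theorem isFibGrpd_inertia_toSelf (h𝒳 : FibCat.IsFibGrpd 𝒳.p) :
    FibCat.IsFibGrpd (FibCat.inertia (FibCat.toSelf 𝒳)).p := by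
  refine ⟨?_, ?_⟩
  · intro t R f
    change R ⟶ 𝒳.p.obj t.pt at f
    obtain ⟨x', φ, hφ⟩ := h𝒳.exists_lift f
    have hφs : 𝒳.p.IsStronglyCartesian f φ := sc_of_isFibGrpd h𝒳 f φ
    have h2 : (FibCat.selfOver C).p.IsHomLift f ((FibCat.toSelf 𝒳).map φ) := inferInstance
    obtain ⟨t', Φ, hΦ⟩ := exists_sc_lift (FibCat.toSelf 𝒳) t f φ hφs (selfOver_sc f _)
    exact ⟨t', Φ, hΦ.toIsHomLift⟩
  · intro s t Φ
    apply sc_of_hom_sc
    exact h𝒳.isStronglyCartesian Φ.hom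

end Groth.Agent.Lib.helper10.Inertia
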