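import Mathlib.Tactic
import Groth.Agent.Lib.helper10.FpMap
import Groth.Agent.Lib.helper10.EquivComp
import Groth.Agent.Lib.helper10.DiagRepr
import Groth.Agent.Lib.helper10.Repr
import Groth.Agent.Lib.helper10.StkEquiv
import Groth.Agent.S12782
import Groth.Agent.S12806

/-!
# Invariance of `AlgSt.RepByAlgSp1`, `AlgSt.HasAtlas`, `AlgSt.IsAlgStack`, `AlgSt.IsDM` under equivalence
over `(Sch/S)` (helper10)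
-/

set_option autoImplicit false
open CategoryTheory AlgebraicGeometry
universe u
open AlgSt

namespace Groth.Agent.Lib.helper10.AlgStEquiv

open Groth.Agent.Lib.helper10

variable {S : Scheme.{u}}

lemma repByAlgSp1_iff_top {𝒳 𝒴 : AlgSt.Cat S} (f : 𝒳 ⥤ᵇ 𝒴) :
    AlgSt.RepByAlgSp1 f ↔ AlgSt.RepByAlgSpWith (⊤ : MorphismProperty (AlgSp.Sp S)) f := by
  constructor
  · intro h U y
    obtain ⟨F, e, he⟩ := h U y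
    exact ⟨F, e, he, trivial⟩
  · intro h U y
    obtain ⟨F, e, he, -⟩ := h U y
    exact ⟨F, e, he⟩

theorem repByAlgSp1_iff_of_equiv {𝒳 𝒴 𝒳' 𝒴' : AlgSt.Cat S}
    (h𝒳 : FibCat.IsFibGrpd 𝒳.p) (h𝒴 : FibCat.IsFibGrpd 𝒴.p) (h𝒳' : FibCat.IsFibGrpd 𝒳'.p) (h𝒴' : FibCat.IsFibGrpd 𝒴'.p)
    (f : 𝒳 ⥤ᵇ 𝒴) (f' : 𝒳' ⥤ᵇ 𝒴') (a : 𝒳' ⥤ᵇ 𝒳) (b : 𝒴' ⥤ᵇ 𝒴)
    (ha : FibCat.IsEquivOver a) (hb : FibCat.IsEquivOver b) (e : BasedFunctor.comp f' b ≅ BasedFunctor.comp a f) :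
    AlgSt.RepByAlgSp1 f ↔ AlgSt.RepByAlgSp1 f' := by
  rw [repByAlgSp1_iff_top, repByAlgSp1_iff_top]
  exact Groth.Agent.S12782.result h𝒳 h𝒴 h𝒳' h𝒴' ⊤ f f' a b ha hb e

/-- the equivalence `𝒳 × 𝒳 ⟶ 𝒴 × 𝒴` induced by `e : 𝒳 ⟶ 𝒴` -/
def sqMap {𝒳 𝒴 : AlgSt.Cat S} (e : 𝒳 ⥤ᵇ 𝒴) : DiagRepr.Sq 𝒳 ⥤ᵇ DiagRepr.Sq 𝒴 :=
  FpMap.Φ (FibCat.toSelf 𝒳) (FibCat.toSelf 𝒳) (FibCat.toSelf 𝒴) (FibCat.toSelf 𝒴) e e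
    (BasedFunctor.id (FibCat.selfOver (Over S))) (DiagRepr.selfIso _ _) (DiagRepr.selfIso _ _)

theorem sqMap_isEquivOver {𝒳 𝒴 : AlgSt.Cat S} (e : 𝒳 ⥤ᵇ 𝒴) (he : FibCat.IsEquivOver e) :
    FibCat.IsEquivOver (sqMap e) :=
  FpMap.Φ_isEquivOver' (FibCat.toSelf 𝒳) (FibCat.toSelf 𝒳) (FibCat.toSelf 𝒴) (FibCat.toSelf 𝒴) e e
    (BasedFunctor.id (FibCat.selfOver (Over S))) (DiagRepr.selfIso _ _) (DiagRepr.selfIso _ _)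
    he he (EquivComp.id_isEquivOver _)

/-- the diagonal commutes with `sqMap` -/
noncomputable def diagIso {𝒳 𝒴 : AlgSt.Cat S} (e : 𝒳 ⥤ᵇ 𝒴) :
    BasedFunctor.comp (DiagRepr.Δ 𝒳) (sqMap e) ≅ BasedFunctor.comp e (DiagRepr.Δ 𝒴) :=
  DiagRepr.sqIsoMk _ _ (Iso.refl _) (Iso.refl _)

theorem diag_iff {𝒳 𝒴 : AlgSt.Cat S} (h𝒳 : FibCat.IsFibGrpd 𝒳.p) (h𝒴 : FibCat.IsFibGrpd 𝒴.p)
    (e : 𝒳 ⥤ᵇ 𝒴) (he : FibCat.IsEquivOver e) :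
    AlgSt.RepByAlgSp1 (FibCat.diag (FibCat.toSelf 𝒴)) ↔ AlgSt.RepByAlgSp1 (FibCat.diag (FibCat.toSelf 𝒳)) := by
  have hS := Groth.Agent.S12806.isFibGrpd_selfOver (Over S)
  exact repByAlgSp1_iff_of_equiv h𝒴 (FpGen.isFibGrpd_fp _ _ h𝒴 h𝒴 hS) h𝒳 (FpGen.isFibGrpd_fp _ _ h𝒳 h𝒳 hS)
    (DiagRepr.Δ 𝒴) (DiagRepr.Δ 𝒳) e (sqMap e) he (sqMap_isEquivOver e he) (diagIso e)

theorem repByAlgSpWith_comp_equiv {𝒳 𝒴 : AlgSt.Cat S} (h𝒳 : FibCat.IsFibGrpd 𝒳.p) (h𝒴 : FibCat.IsFibGrpd 𝒴.p)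
    (e : 𝒳 ⥤ᵇ 𝒴) (he : FibCat.IsEquivOver e) (P : MorphismProperty (AlgSp.Sp S)) {U : Over S}
    (x : FibCat.overCat U ⥤ᵇ 𝒳) :
    AlgSt.RepByAlgSpWith P (BasedFunctor.comp x e) ↔ AlgSt.RepByAlgSpWith P x :=
  Groth.Agent.S12782.result (Repr.isFibGrpd_overCat U) h𝒴 (Repr.isFibGrpd_overCat U) h𝒳 P
    (BasedFunctor.comp x e) x (BasedFunctor.id _) e (EquivComp.id_isEquivOver _) he (Iso.refl _)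

theorem hasAtlas_of_equiv {𝒳 𝒴 : AlgSt.Cat S} (h𝒳 : FibCat.IsFibGrpd 𝒳.p) (h𝒴 : FibCat.IsFibGrpd 𝒴.p)
    (e : 𝒳 ⥤ᵇ 𝒴) (he : FibCat.IsEquivOver e) (P : MorphismProperty (AlgSp.Sp S))
    (h : AlgSt.HasAtlas P 𝒳) : AlgSt.HasAtlas P 𝒴 := by
  obtain ⟨U, x, h1, h2⟩ := h
  exact ⟨U, BasedFunctor.comp x e, (repByAlgSpWith_comp_equiv h𝒳 h𝒴 e he P x).2 h1,
    (repByAlgSpWith_comp_equiv h𝒳 h𝒴 e he _ x).2 h2⟩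

theorem isAlgStack_of_equiv {𝒳 𝒴 : AlgSt.Cat S} (e : 𝒳 ⥤ᵇ 𝒴) (he : FibCat.IsEquivOver e)
    (K : Precoverage Scheme.{u}) (h : AlgSt.IsAlgStack K 𝒳) : AlgSt.IsAlgStack K 𝒴 := by
  have hs𝒴 : Stk.IsStack (QuotSh.J K S) 𝒴 := (StkEquiv.isStack_iff e he _).1 h.isStack
  exact ⟨hs𝒴, (diag_iff h.isStack.1 hs𝒴.1 e he).2 h.diag,
    hasAtlas_of_equiv h.isStack.1 hs𝒴.1 e he _ h.atlas⟩

theorem isAlgStack_iff {𝒳 𝒴 : AlgSt.Cat S} (e : 𝒳 ⥤ᵇ 𝒴) (he : FibCat.IsEquivOver e)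
    (K : Precoverage Scheme.{u}) : AlgSt.IsAlgStack K 𝒳 ↔ AlgSt.IsAlgStack K 𝒴 := by
  refine ⟨isAlgStack_of_equiv e he K, ?_⟩
  obtain ⟨G, hG⟩ := EquivComp.symm e he
  exact isAlgStack_of_equiv G hG K

theorem isDM_of_equiv {𝒳 𝒴 : AlgSt.Cat S} (e : 𝒳 ⥤ᵇ 𝒴) (he : FibCat.IsEquivOver e)
    (K : Precoverage Scheme.{u}) (h : AlgSt.IsDM K 𝒳) : AlgSt.IsDM K 𝒴 := by
  have h1 := isAlgStack_of_equiv e he K h.1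
  exact ⟨h1, hasAtlas_of_equiv h.1.isStack.1 h1.isStack.1 e he _ h.2⟩

theorem isDM_iff {𝒳 𝒴 : AlgSt.Cat S} (e : 𝒳 ⥤ᵇ 𝒴) (he : FibCat.IsEquivOver e)
    (K : Precoverage Scheme.{u}) : AlgSt.IsDM K 𝒳 ↔ AlgSt.IsDM K 𝒴 := by
  refine ⟨isDM_of_equiv e he K, ?_⟩
  obtain ⟨G, hG⟩ := EquivComp.symm e he
  exact isDM_of_equiv G hG K

end Groth.Agent.Lib.helper10.AlgStEquiv
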