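import Mathlib
import Groth.Prelude.Def_BigSite

set_option autoImplicit false
universe u
open CategoryTheory CategoryTheory.Limits Opposite

namespace Groth.Agent.Lib.helper10.AlmostCoc

variable {C D : Type u} [SmallCategory C] [SmallCategory D]
  (J : GrothendieckTopology C) (K : GrothendieckTopology D) (u : C ⥤ D)

/-- sections of a sheaf over an object covered by the empty sieve form a subsingleton -/
lemma subsingleton_of_bot_mem (Q : Dᵒᵖ ⥤ Type u) (hQ : Presheaf.IsSheaf K Q) (V : D)
    (hV : (⊥ : Sieve V) ∈ K V) : Subsingleton (Q.obj (op V)) := by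
  refine ⟨fun a b => ?_⟩
  have hsep := (((isSheaf_iff_isSheaf_of_type _ _).1 hQ) _ hV).isSeparatedFor
  apply hsep.ext
  intro W f hf
  exact hf.elim

/-- a general criterion: `u^p` of a `K.W`-map is a `J.W`-map -/
lemma W_whiskerLeft (hu : BigSite.IsAlmostCocontinuous u J K) {G Q : Dᵒᵖ ⥤ Type u} (α : G ⟶ Q)
    (hα : K.W α) (hG : ∀ V : D, (⊥ : Sieve V) ∈ K V → Nonempty (Unique (G.obj (op V))))
    (hQ : ∀ V : D, (⊥ : Sieve V) ∈ K V → Subsingleton (Q.obj (op V))) :
    J.W (Functor.whiskerLeft u.op α) := by
  have hinj := hα.isLocallyInjective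
  have hsurj := hα.isLocallySurjective
  rw [J.W_iff_isLocallyBijective]
  constructor
  · constructor
    intro X x y hxy
    obtain ⟨R', hR', hR''⟩ := hu X.unop _ (Presheaf.equalizerSieve_mem K α (X := op (u.obj X.unop)) x y hxy)
    refine J.superset_covering ?_ hR'
    intro V g hg
    rcases hR'' g hg with h | h
    · obtain ⟨hU⟩ := hG _ h
      exact (hU.instSubsingleton).elim _ _
    · exact h
  · constructor
    intro X s
    obtain ⟨R', hR', hR''⟩ := hu X _ (Presheaf.imageSieve_mem K α (U := op (u.obj X)) s)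
    refine J.superset_covering ?_ hR'
    intro V g hg
    rcases hR'' g hg with h | h
    · obtain ⟨hU⟩ := hG _ h
      have := hQ _ h
      exact ⟨hU.default, Subsingleton.elim _ _⟩
    · exact h

lemma isIso_of_W {P : Cᵒᵖ ⥤ Type u} {F : Sheaf J (Type u)} (α : P ⟶ F.obj) (hα : J.W α) :
    IsIso (((sheafificationAdjunction J (Type u)).homEquiv P F).symm α) := by
  let adj := sheafificationAdjunction J (Type u)
  let β := (adj.homEquiv P F).symm α
  have hfac : adj.unit.app P ≫ (sheafToPresheaf J _).map β = α := by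
    have := adj.homEquiv_unit P F β
    rw [← this]
    exact Equiv.apply_symm_apply _ _
  have h1 : J.W (adj.unit.app P ≫ (sheafToPresheaf J _).map β) := by
    rw [hfac]; exact hα
  have h2 : J.W ((sheafToPresheaf J _).map β) :=
    (J.W.precomp_iff _ _ (J.W_adj_unit_app adj P)).1 h1
  exact (J.W_sheafToPresheaf_map_iff_isIso β).1 h2

variable [u.IsContinuous J K]

theorem isIso_comparison (hu : BigSite.IsAlmostCocontinuous u J K) (G : Dᵒᵖ ⥤ Type u)
    (hG : ∀ V : D, (⊥ : Sieve V) ∈ K V → Nonempty (Unique (G.obj (op V)))) :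
    IsIso (((sheafificationAdjunction J (Type u)).homEquiv (u.op ⋙ G)
      ((u.sheafPushforwardContinuous (Type u) J K).obj ((presheafToSheaf K (Type u)).obj G))).symm
        (Functor.whiskerLeft u.op (toSheafify K G))) := by
  have hα : J.W (Functor.whiskerLeft u.op (toSheafify K G)) :=
    W_whiskerLeft J K u hu (toSheafify K G) (K.W_toSheafify G) hG
    (fun V hV => subsingleton_of_bot_mem K _ ((presheafToSheaf K (Type u)).obj G).property V hV)
  exact isIso_of_W J (F := (u.sheafPushforwardContinuous (Type u) J K).obj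
    ((presheafToSheaf K (Type u)).obj G)) (Functor.whiskerLeft u.op (toSheafify K G)) hα

end Groth.Agent.Lib.helper10.AlmostCoc
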