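import Mathlib
import Groth.Agent.Lib.helper10.AlmostCoc

set_option autoImplicit false
universe u
open CategoryTheory CategoryTheory.Limits Opposite

namespace Groth.Agent.Lib.helper10.AlmostCoc

/-- a connected colimit of singletons is a singleton -/
lemma unique_of_isColimit_of_unique {I : Type} [SmallCategory I] [IsConnected I] {P : I ⥤ Type u}
    (t : Cocone P) (ht : IsColimit t) (hP : ∀ i, Nonempty (Unique (P.obj i))) :
    Nonempty (Unique t.pt) := by
  have hU : ∀ i, Unique (P.obj i) := fun i => (hP i).some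
  let e : I → t.pt := fun i => t.ι.app i (hU i).default
  have hconst : ∀ i j : I, e i = e j := by
    apply constant_of_preserves_morphisms
    intro i j f
    have h1 : P.map f (hU i).default = (hU j).default := (hU j).instSubsingleton.elim _ _
    have h2 := ConcreteCategory.congr_hom (t.w f) (hU i).default
    change t.ι.app j (P.map f (hU i).default) = t.ι.app i (hU i).default at h2
    rw [h1] at h2
    exact h2.symm
  obtain ⟨i₀⟩ := (inferInstance : Nonempty I)
  refine ⟨⟨⟨e i₀⟩, ?_⟩⟩
  intro x
  obtain ⟨i, y, rfl⟩ := Types.jointly_surjective_of_isColimit ht x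
  have : y = (hU i).default := (hU i).instSubsingleton.elim _ _
  rw [this]
  exact hconst i i₀

variable {C D : Type u} [SmallCategory C] [SmallCategory D]
  (J : GrothendieckTopology C) (K : GrothendieckTopology D) (u : C ⥤ D)

/-- sections of a sheaf over an object covered by the empty sieve form a singleton -/
lemma unique_of_bot_mem (Q : Dᵒᵖ ⥤ Type u) (hQ : Presheaf.IsSheaf K Q) (V : D)
    (hV : (⊥ : Sieve V) ∈ K V) : Nonempty (Unique (Q.obj (op V))) := by
  have hs := subsingleton_of_bot_mem K Q hQ V hV
  have hsh := ((isSheaf_iff_isSheaf_of_type _ _).1 hQ) _ hV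
  let x : Presieve.FamilyOfElements Q (⊥ : Sieve V).arrows := fun W f hf => hf.elim
  have hx : x.Compatible := by
    intro Y₁ Y₂ Z g₁ g₂ f₁ f₂ h₁ h₂ _
    exact h₁.elim
  obtain ⟨t, _, _⟩ := hsh x hx
  exact ⟨⟨⟨t⟩, fun a => Subsingleton.elim _ _⟩⟩

variable [u.IsContinuous J K]

/-- `u^p` followed by sheafification -/
noncomputable abbrev Ψ : (Dᵒᵖ ⥤ Type u) ⥤ Sheaf J (Type u) :=
  (Functor.whiskeringLeft Cᵒᵖ Dᵒᵖ (Type u)).obj u.op ⋙ presheafToSheaf J (Type u)

/-- `u^s ≅ forget ⋙ u^p ⋙ sheafify` -/
noncomputable def pushIso : u.sheafPushforwardContinuous (Type u) J K ≅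
    sheafToPresheaf K (Type u) ⋙ Ψ J u :=
  (Functor.rightUnitor _).symm ≪≫
    Functor.isoWhiskerLeft (u.sheafPushforwardContinuous (Type u) J K) (sheafificationNatIso J (Type u)) ≪≫
    (Functor.associator _ _ _).symm ≪≫
    Functor.isoWhiskerRight (Iso.refl _ :
      u.sheafPushforwardContinuous (Type u) J K ⋙ sheafToPresheaf J (Type u) ≅
      sheafToPresheaf K (Type u) ⋙ (Functor.whiskeringLeft Cᵒᵖ Dᵒᵖ (Type u)).obj u.op)
      (presheafToSheaf J (Type u)) ≪≫
    Functor.associator _ _ _

instance : PreservesColimitsOfSize.{0, 0} (Ψ J u) := by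
  have : PreservesColimitsOfSize.{0, 0} (presheafToSheaf J (Type u)) :=
    (sheafificationAdjunction J (Type u)).leftAdjoint_preservesColimits
  infer_instance

theorem preservesColimitsOfShape (hu : BigSite.IsAlmostCocontinuous u J K)
    (I : Type) [SmallCategory I] [FinCategory I] [IsConnected I] :
    PreservesColimitsOfShape I (u.sheafPushforwardContinuous (Type u) J K) := by
  suffices h : PreservesColimitsOfShape I (sheafToPresheaf K (Type u) ⋙ Ψ J u) from
    preservesColimitsOfShape_of_natIso (pushIso J K u).symm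
  constructor
  intro F
  constructor
  intro c hc
  constructor
  let iK := sheafToPresheaf K (Type u)
  let aK := presheafToSheaf K (Type u)
  let c' := colimit.cocone (F ⋙ iK)
  have hc' : IsColimit c' := colimit.isColimit _
  let δm : c' ⟶ iK.mapCocone c := hc'.descCoconeMorphism _
  -- (a) δ ∈ K.W
  have hpres : PreservesColimitsOfSize.{0, 0} aK :=
    (sheafificationAdjunction K (Type u)).leftAdjoint_preservesColimits
  have h1 : IsColimit (aK.mapCocone c') := isColimitOfPreserves aK hc'
  have h2 : IsColimit (aK.mapCocone (iK.mapCocone c)) := by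
    have : PreservesColimit F (iK ⋙ aK) :=
      preservesColimit_of_natIso F (sheafificationNatIso K (Type u))
    exact isColimitOfPreserves (iK ⋙ aK) hc
  have h3 : IsIso ((Cocone.functoriality _ aK).map δm) := IsColimit.hom_isIso h1 h2 _
  have h4 : IsIso (aK.map δm.hom) := by
    have := (Cocone.forget _).map_isIso ((Cocone.functoriality _ aK).map δm)
    exact this
  have hW : K.W δm.hom := (K.W_iff _).2 h4
  -- (b) singleton conditions
  have hG : ∀ V : D, (⊥ : Sieve V) ∈ K V → Nonempty (Unique (c'.pt.obj (op V))) := by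
    intro V hV
    have ht := isColimitOfPreserves ((evaluation Dᵒᵖ (Type u)).obj (op V)) hc'
    exact unique_of_isColimit_of_unique _ ht
      (fun i => unique_of_bot_mem K (F.obj i).obj (F.obj i).property V hV)
  have hQ : ∀ V : D, (⊥ : Sieve V) ∈ K V → Subsingleton ((iK.obj c.pt).obj (op V)) :=
    fun V hV => subsingleton_of_bot_mem K _ c.pt.property V hV
  -- (c)
  have hW' : J.W (Functor.whiskerLeft u.op δm.hom) := W_whiskerLeft J K u hu δm.hom hW hG hQ
  have h5 : IsIso ((Ψ J u).map δm.hom) := (J.W_iff _).1 hW'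
  -- (d)
  have h6 : IsColimit ((Ψ J u).mapCocone c') := isColimitOfPreserves (Ψ J u) hc'
  have h7 : IsIso ((Cocone.functoriality _ (Ψ J u)).map δm) := by
    have : IsIso ((Cocone.functoriality _ (Ψ J u)).map δm).hom := h5
    exact Cocone.cocone_iso_of_hom_iso _
  exact IsColimit.ofIsoColimit h6 (asIso ((Cocone.functoriality _ (Ψ J u)).map δm))

end Groth.Agent.Lib.helper10.AlmostCoc
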