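import Mathlib.Tactic
import Mathlib.CategoryTheory.Bicategory.Basic

/-!
# Pre/post-composition with an internal equivalence of a bicategory is an equivalence (helper10)
-/

open CategoryTheory Bicategory

universe w v u
variable {B : Type u} [Bicategory.{w, v} B] {a b c : B}

namespace Groth.Agent.Lib.helper10.BicatEquiv

def preUnit (f : a ⟶ b) (g : b ⟶ a) (ε : g ≫ f ≅ 𝟙 b) : 𝟭 (b ⟶ c) ≅ precomp c f ⋙ precomp c g :=
  NatIso.ofComponents (fun h => (λ_ h).symm ≪≫ whiskerRightIso ε.symm h ≪≫ α_ g f h) (by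
    intro h h' θ
    simp only [Functor.id_obj, Functor.comp_obj, precomp, Functor.id_map, Iso.trans_hom, Iso.symm_hom,
      whiskerRightIso_hom, Functor.comp_map, Category.assoc]
    rw [← associator_naturality_right, ← whisker_exchange_assoc, ← leftUnitor_inv_naturality_assoc])

theorem precomp_isEquivalence (f : a ⟶ b) (g : b ⟶ a) (η : f ≫ g ≅ 𝟙 a) (ε : g ≫ f ≅ 𝟙 b) :
    (precomp c f).IsEquivalence :=
  (CategoryTheory.Equivalence.mk (precomp c f) (precomp c g) (preUnit f g ε)
    (preUnit g f η).symm).isEquivalence_functor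

def postUnit (f : a ⟶ b) (g : b ⟶ a) (η : f ≫ g ≅ 𝟙 a) : 𝟭 (c ⟶ a) ≅ postcomp c f ⋙ postcomp c g :=
  NatIso.ofComponents (fun h => (ρ_ h).symm ≪≫ whiskerLeftIso h η.symm ≪≫ (α_ h f g).symm) (by
    intro h h' θ
    simp only [Functor.id_obj, Functor.comp_obj, postcomp, Functor.id_map, Iso.trans_hom, Iso.symm_hom,
      whiskerLeftIso_hom, Functor.comp_map, Category.assoc]
    rw [← associator_inv_naturality_left, whisker_exchange_assoc, rightUnitor_inv_naturality_assoc])

theorem postcomp_isEquivalence (f : a ⟶ b) (g : b ⟶ a) (η : f ≫ g ≅ 𝟙 a) (ε : g ≫ f ≅ 𝟙 b) :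
    (postcomp c f).IsEquivalence :=
  (CategoryTheory.Equivalence.mk (postcomp c f) (postcomp c g) (postUnit f g η)
    (postUnit g f ε).symm).isEquivalence_functor

end Groth.Agent.Lib.helper10.BicatEquiv
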