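import Mathlib

namespace Groth.Agent.Lib.helper10.CechSec
open CategoryTheory Limits Opposite
open scoped Simplicial

universe u

variable {C : Type u} [SmallCategory C] {J : GrothendieckTopology C}

section sec
variable (J) (W : C)

noncomputable abbrev hW : Sheaf J (Type u) := (presheafToSheaf J (Type u)).obj (yoneda.obj W)

noncomputable def secEquiv (G : Sheaf J (Type u)) : (hW J W ⟶ G) ≃ G.obj.obj (op W) :=
  ((sheafificationAdjunction J (Type u)).homEquiv (yoneda.obj W) G).trans yonedaEquiv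

lemma secEquiv_comp {G G' : Sheaf J (Type u)} (φ : hW J W ⟶ G) (ψ : G ⟶ G') :
    secEquiv J W G' (φ ≫ ψ) = ψ.hom.app (op W) (secEquiv J W G φ) := by
  have h1 : (sheafificationAdjunction J (Type u)).homEquiv (yoneda.obj W) G' (φ ≫ ψ) =
      (sheafificationAdjunction J (Type u)).homEquiv (yoneda.obj W) G φ ≫
        (sheafToPresheaf J (Type u)).map ψ := Adjunction.homEquiv_naturality_right _ _ _
  change yonedaEquiv ((sheafificationAdjunction J (Type u)).homEquiv (yoneda.obj W) G' (φ ≫ ψ)) = _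
  rw [h1]
  exact yonedaEquiv_comp _ _

end sec

variable {K' K : Sheaf J (Type u)} (f : K' ⟶ K)

/-- the Čech nerve -/
noncomputable abbrev X : SimplicialObject (Sheaf J (Type u)) := (Arrow.mk f).cechNerve

noncomputable abbrev prM (n : ℕ) (i : Fin (n + 1)) : (X f).obj (op ⦋n⦌) ⟶ K' :=
  WidePullback.π (fun _ : Fin (n + 1) => f) i

noncomputable abbrev bsM (n : ℕ) : (X f).obj (op ⦋n⦌) ⟶ K :=
  WidePullback.base (fun _ : Fin (n + 1) => f)

lemma prM_f (n : ℕ) (i : Fin (n + 1)) : prM f n i ≫ f = bsM f n :=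
  WidePullback.π_arrow _ i

variable (W : C)

abbrev A (n : ℕ) : Type u := ((X f).obj (op ⦋n⦌)).obj.obj (op W)

noncomputable def pr (n : ℕ) (i : Fin (n + 1)) (x : A f W n) : K'.obj.obj (op W) :=
  (prM f n i).hom.app (op W) x

noncomputable def bs (n : ℕ) (x : A f W n) : K.obj.obj (op W) :=
  (bsM f n).hom.app (op W) x

lemma f_pr (n : ℕ) (i : Fin (n + 1)) (x : A f W n) : f.hom.app (op W) (pr f W n i x) = bs f W n x :=
  congrArg (fun φ => φ.hom.app (op W) x) (prM_f f n i)

lemma ext_sec (n : ℕ) (x x' : A f W n) (h : ∀ i, pr f W n i x = pr f W n i x') : x = x' := by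
  apply (secEquiv J W _).symm.injective
  have hπ : ∀ i, (secEquiv J W _).symm x ≫ prM f n i = (secEquiv J W _).symm x' ≫ prM f n i := by
    intro i
    apply (secEquiv J W K').injective
    rw [secEquiv_comp, secEquiv_comp, Equiv.apply_symm_apply, Equiv.apply_symm_apply]
    exact h i
  apply WidePullback.hom_ext
  · exact hπ
  · have h0 := hπ 0
    have h1 : (secEquiv J W _).symm x ≫ bsM f n = (secEquiv J W _).symm x' ≫ bsM f n := by
      rw [← prM_f f n 0, ← Category.assoc, ← Category.assoc, h0]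
    exact h1

lemma exists_sec (n : ℕ) (a : Fin (n + 1) → K'.obj.obj (op W)) (b : K.obj.obj (op W))
    (hab : ∀ i, f.hom.app (op W) (a i) = b) :
    ∃ x : A f W n, ∀ i, pr f W n i x = a i := by
  have hc : ∀ i, (secEquiv J W K').symm (a i) ≫ f = (secEquiv J W K).symm b := by
    intro i
    apply (secEquiv J W K).injective
    rw [secEquiv_comp, Equiv.apply_symm_apply, Equiv.apply_symm_apply]
    exact hab i
  refine ⟨secEquiv J W _ (WidePullback.lift ((secEquiv J W K).symm b)
    (fun i => (secEquiv J W K').symm (a i)) hc), ?_⟩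
  intro i
  have h1 : WidePullback.lift ((secEquiv J W K).symm b)
      (fun i => (secEquiv J W K').symm (a i)) hc ≫ prM f n i = (secEquiv J W K').symm (a i) :=
    WidePullback.lift_π _ _ _ _ _
  have h2 := secEquiv_comp J W (WidePullback.lift ((secEquiv J W K).symm b)
      (fun i => (secEquiv J W K').symm (a i)) hc) (prM f n i)
  rw [h1, Equiv.apply_symm_apply] at h2
  exact h2.symm

/-- faces on sections -/
noncomputable def face (n : ℕ) (i : Fin (n + 2)) (x : A f W (n + 1)) : A f W n :=
  ((X f).δ i).hom.app (op W) x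

lemma pr_face (n : ℕ) (i : Fin (n + 2)) (j : Fin (n + 1)) (x : A f W (n + 1)) :
    pr f W n j (face f W n i x) = pr f W (n + 1) (Fin.succAbove i j) x := by
  have h : (X f).δ i ≫ prM f n j = prM f (n + 1) (Fin.succAbove i j) :=
    WidePullback.lift_π _ _ _ _ _
  exact congrArg (fun φ => φ.hom.app (op W) x) h

lemma bs_face (n : ℕ) (i : Fin (n + 2)) (x : A f W (n + 1)) :
    bs f W n (face f W n i x) = bs f W (n + 1) x := by
  have h : (X f).δ i ≫ bsM f n = bsM f (n + 1) :=
    WidePullback.lift_base _ _ _ _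
  exact congrArg (fun φ => φ.hom.app (op W) x) h


section htpy
variable [Nonempty (K'.obj.obj (op W))]

/-- a (non-canonical) partial section of `f` on sections over `W` -/
noncomputable def τ (b : K.obj.obj (op W)) : K'.obj.obj (op W) :=
  Classical.epsilon (fun a => f.hom.app (op W) a = b)

lemma f_τ (b : K.obj.obj (op W)) (h : ∃ a, f.hom.app (op W) a = b) : f.hom.app (op W) (τ f W b) = b :=
  Classical.epsilon_spec h

noncomputable def hcomp (n : ℕ) (x : A f W n) : Fin (n + 2) → K'.obj.obj (op W) :=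
  Fin.cases (τ f W (bs f W n x)) (fun j => pr f W n j x)

lemma hcomp_spec (n : ℕ) (x : A f W n) (i : Fin (n + 2)) :
    f.hom.app (op W) (hcomp f W n x i) = bs f W n x := by
  refine Fin.cases ?_ (fun j => ?_) i
  · exact f_τ f W _ ⟨pr f W n 0 x, f_pr f W n 0 x⟩
  · exact f_pr f W n j x

/-- the contracting homotopy on sections -/
noncomputable def hh (n : ℕ) (x : A f W n) : A f W (n + 1) :=
  Classical.choose (exists_sec f W (n + 1) (hcomp f W n x) (bs f W n x) (hcomp_spec f W n x))

lemma pr_hh (n : ℕ) (x : A f W n) (i : Fin (n + 2)) : pr f W (n + 1) i (hh f W n x) = hcomp f W n x i :=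
  Classical.choose_spec (exists_sec f W (n + 1) (hcomp f W n x) (bs f W n x) (hcomp_spec f W n x)) i

lemma bs_hh (n : ℕ) (x : A f W n) : bs f W (n + 1) (hh f W n x) = bs f W n x := by
  rw [← f_pr f W (n + 1) 0, pr_hh]
  exact hcomp_spec f W n x 0

lemma face_zero_hh (n : ℕ) (x : A f W n) : face f W n 0 (hh f W n x) = x := by
  apply ext_sec
  intro j
  rw [pr_face, pr_hh]
  rfl

lemma face_succ_hh (n : ℕ) (i : Fin (n + 2)) (x : A f W (n + 1)) :
    face f W (n + 1) i.succ (hh f W (n + 1) x) = hh f W n (face f W n i x) := by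
  apply ext_sec
  intro j
  rw [pr_face, pr_hh, pr_hh]
  refine Fin.cases ?_ (fun j' => ?_) j
  · rw [Fin.succ_succAbove_zero]
    simp only [hcomp, Fin.cases_zero]
    rw [bs_face]
  · rw [Fin.succ_succAbove_succ]
    simp only [hcomp, Fin.cases_succ]
    rw [pr_face]


/-- the alternating sum of faces on free abelian groups -/
noncomputable def Dn (n : ℕ) : FreeAbelianGroup (A f W (n + 1)) →+ FreeAbelianGroup (A f W n) :=
  ∑ i : Fin (n + 2), ((-1 : ℤ) ^ (i : ℕ)) • FreeAbelianGroup.map (face f W n i)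

omit [Nonempty (K'.obj.obj (op W))] in
lemma Dn_of (n : ℕ) (x : A f W (n + 1)) :
    Dn f W n (FreeAbelianGroup.of x) =
      ∑ i : Fin (n + 2), ((-1 : ℤ) ^ (i : ℕ)) • FreeAbelianGroup.of (face f W n i x) := by
  simp only [Dn, AddMonoidHom.finsetSum_apply, AddMonoidHom.smul_apply, FreeAbelianGroup.map_of_apply]

noncomputable def Hn (n : ℕ) : FreeAbelianGroup (A f W n) →+ FreeAbelianGroup (A f W (n + 1)) :=
  FreeAbelianGroup.map (hh f W n)

lemma D_H (n : ℕ) : (Dn f W (n + 1)).comp (Hn f W (n + 1)) =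
    AddMonoidHom.id _ - (Hn f W n).comp (Dn f W n) := by
  apply FreeAbelianGroup.lift_ext
  intro x
  simp only [AddMonoidHom.comp_apply, AddMonoidHom.sub_apply, AddMonoidHom.id_apply, Hn,
    FreeAbelianGroup.map_of_apply, Dn_of, map_sum, map_zsmul]
  rw [Fin.sum_univ_succ]
  simp only [Fin.val_zero, pow_zero, one_smul, face_zero_hh, Fin.val_succ, pow_succ, face_succ_hh]
  rw [sub_eq_add_neg, ← Finset.sum_neg_distrib]
  congr 1
  apply Finset.sum_congr rfl
  intro i _
  rw [mul_neg, mul_one, neg_smul]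

noncomputable def εn : FreeAbelianGroup (A f W 0) →+ FreeAbelianGroup (K.obj.obj (op W)) :=
  FreeAbelianGroup.map (bs f W 0)

omit [Nonempty (K'.obj.obj (op W))] in
lemma exists_ι (a : K'.obj.obj (op W)) : ∃ x : A f W 0, ∀ i, pr f W 0 i x = a :=
  exists_sec f W 0 (fun _ => a) (f.hom.app (op W) a) (fun _ => rfl)

noncomputable def ιn (a : K'.obj.obj (op W)) : A f W 0 := Classical.choose (exists_ι f W a)

omit [Nonempty (K'.obj.obj (op W))] in
lemma pr_ιn (a : K'.obj.obj (op W)) (i : Fin 1) : pr f W 0 i (ιn f W a) = a :=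
  Classical.choose_spec (exists_ι f W a) i

lemma face_one_hh (x : A f W 0) : face f W 0 1 (hh f W 0 x) = ιn f W (τ f W (bs f W 0 x)) := by
  apply ext_sec
  intro j
  rw [pr_face, pr_hh, pr_ιn]
  have hj : j = 0 := Fin.ext (by omega)
  subst hj
  rfl

lemma D_H_zero : (Dn f W 0).comp (Hn f W 0) =
    AddMonoidHom.id _ - (FreeAbelianGroup.map (fun b => ιn f W (τ f W b))).comp (εn f W) := by
  apply FreeAbelianGroup.lift_ext
  intro x
  simp only [AddMonoidHom.comp_apply, AddMonoidHom.sub_apply, AddMonoidHom.id_apply, Hn, εn,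
    FreeAbelianGroup.map_of_apply, Dn_of]
  rw [Fin.sum_univ_two]
  simp only [Fin.val_zero, pow_zero, one_smul, face_zero_hh, Fin.val_one, pow_one, neg_smul,
    face_one_hh]
  rw [sub_eq_add_neg]

end htpy

lemma free_eq_zero_of_isEmpty {α : Type*} [IsEmpty α] (y : FreeAbelianGroup α) : y = 0 := by
  induction y using FreeAbelianGroup.induction_on with
  | zero => rfl
  | of x => exact isEmptyElim x
  | neg x hx => exact isEmptyElim x
  | add x y hx hy => rw [hx, hy, add_zero]

/-- exactness in positive degrees, on sections -/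
lemma exact_succ (n : ℕ) (y : FreeAbelianGroup (A f W (n + 1))) (hy : Dn f W n y = 0) :
    ∃ z, Dn f W (n + 1) z = y := by
  by_cases hne : Nonempty (K'.obj.obj (op W))
  · refine ⟨Hn f W (n + 1) y, ?_⟩
    have h := DFunLike.congr_fun (D_H f W n) y
    simp only [AddMonoidHom.comp_apply, AddMonoidHom.sub_apply, AddMonoidHom.id_apply] at h
    rw [h, hy, map_zero, sub_zero]
  · have : IsEmpty (A f W (n + 1)) := ⟨fun x => hne ⟨pr f W (n + 1) 0 x⟩⟩
    exact ⟨0, by rw [map_zero, free_eq_zero_of_isEmpty y]⟩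

/-- exactness in degree zero, on sections -/
lemma exact_zero (y : FreeAbelianGroup (A f W 0)) (hy : εn f W y = 0) :
    ∃ z, Dn f W 0 z = y := by
  by_cases hne : Nonempty (K'.obj.obj (op W))
  · refine ⟨Hn f W 0 y, ?_⟩
    have h := DFunLike.congr_fun (D_H_zero f W) y
    simp only [AddMonoidHom.comp_apply, AddMonoidHom.sub_apply, AddMonoidHom.id_apply] at h
    rw [h, hy, map_zero, sub_zero]
  · have : IsEmpty (A f W 0) := ⟨fun x => hne ⟨pr f W 0 0 x⟩⟩
    exact ⟨0, by rw [map_zero, free_eq_zero_of_isEmpty y]⟩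

end Groth.Agent.Lib.helper10.CechSec
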