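import Mathlib
import Groth.Agent.Lib.helper10.CechSec

namespace Groth.Agent.Lib.helper10.CechRes
open CategoryTheory Limits Opposite
open scoped Simplicial
open Groth.Agent.Lib.helper10.CechSec

universe u

variable {C : Type u} [SmallCategory C] {J : GrothendieckTopology C}

lemma exact_of_eval (S : ShortComplex (Cᵒᵖ ⥤ AddCommGrpCat.{u}))
    (h : ∀ W : Cᵒᵖ, (S.map ((evaluation _ _).obj W)).Exact) : S.Exact := by
  rw [S.exact_iff_isZero_homology]
  apply Functor.isZero
  intro W
  have h1 := h W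
  rw [ShortComplex.exact_iff_isZero_homology] at h1
  exact h1.of_iso (S.mapHomologyIso ((evaluation _ _).obj W)).symm

variable (J) in
noncomputable abbrev G₁ : Sheaf J (Type u) ⥤ (Cᵒᵖ ⥤ AddCommGrpCat.{u}) :=
  sheafToPresheaf J (Type u) ⋙ (Functor.whiskeringRight Cᵒᵖ _ _).obj AddCommGrpCat.free.{u}

variable {K' K : Sheaf J (Type u)} (f : K' ⟶ K)

noncomputable abbrev Npre : SimplicialObject.Augmented (Cᵒᵖ ⥤ AddCommGrpCat.{u}) :=
  ((SimplicialObject.Augmented.whiskering _ _).obj (G₁ J)).obj (Arrow.mk f).augmentedCechNerve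

variable (W : C)

lemma eval_objD (n : ℕ) (y : FreeAbelianGroup (A f W (n + 1))) :
    ((AlgebraicTopology.AlternatingFaceMapComplex.objD (Npre f).left n).app (op W)).hom y =
      Dn f W n y := by
  simp only [AlgebraicTopology.AlternatingFaceMapComplex.objD, NatTrans.app_sum, NatTrans.app_zsmul]
  have h1 : ∀ {M N : AddCommGrpCat.{u}} {ι : Type} (s : Finset ι) (g : ι → (M ⟶ N)),
      (∑ x ∈ s, g x).hom = ∑ x ∈ s, (g x).hom := by
    intro M N ι s g
    exact map_sum (AddCommGrpCat.homAddEquiv (M := M) (N := N)) g s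
  rw [h1]
  simp only [AddCommGrpCat.hom_zsmul]
  rfl


noncomputable abbrev CxPre : ChainComplex (Cᵒᵖ ⥤ AddCommGrpCat.{u}) ℕ :=
  (AlgebraicTopology.alternatingFaceMapComplex _).obj (Npre f).left

lemma CxPre_d (n : ℕ) : (CxPre f).d (n + 1) n =
    AlgebraicTopology.AlternatingFaceMapComplex.objD (Npre f).left n :=
  AlgebraicTopology.alternatingFaceMapComplex_obj_d _ _

lemma pre_exact_succ (n : ℕ) : ((CxPre f).sc' (n + 2) (n + 1) n).Exact := by
  apply exact_of_eval
  intro W
  induction W using Opposite.rec with | _ W => ?_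
  rw [ShortComplex.ab_exact_iff]
  intro y hy
  obtain ⟨y', rfl⟩ : ∃ y' : FreeAbelianGroup (A f W (n + 1)), y' = y := ⟨y, rfl⟩
  have hy' : (((CxPre f).d (n + 1) n).app (op W)).hom y' = 0 := hy
  rw [CxPre_d] at hy'
  have hy'' : Dn f W n y' = 0 := (eval_objD f W n y').symm.trans hy'
  obtain ⟨z, hz⟩ := exact_succ f W n y' hy''
  refine ⟨z, ?_⟩
  have hz' : (((CxPre f).d (n + 2) (n + 1)).app (op W)).hom z = y' := by
    rw [CxPre_d]
    exact (eval_objD f W (n + 1) z).trans hz
  exact hz'


noncomputable abbrev εPre : CxPre f ⟶ (ChainComplex.single₀ _).obj (Npre f).right :=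
  AlgebraicTopology.AlternatingFaceMapComplex.ε.app (Npre f)

lemma εPre_zero : (CxPre f).d 1 0 ≫ (εPre f).f 0 = 0 := by
  have h := (εPre f).comm 1 0
  rw [← h]
  have h0 : ((ChainComplex.single₀ (Cᵒᵖ ⥤ AddCommGrpCat.{u})).obj (Npre f).right).d 1 0 = 0 := by
    simp
  rw [h0]
  exact Limits.comp_zero

lemma eval_ε (y : FreeAbelianGroup (A f W 0)) :
    (((εPre f).f 0).app (op W)).hom y = εn f W y := by
  rw [AlgebraicTopology.AlternatingFaceMapComplex.ε_app_f_zero]
  rfl

lemma pre_exact_zero : (ShortComplex.mk ((CxPre f).d 1 0) ((εPre f).f 0) (εPre_zero f)).Exact := by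
  apply exact_of_eval
  intro W
  induction W using Opposite.rec with | _ W => ?_
  rw [ShortComplex.ab_exact_iff]
  intro y hy
  obtain ⟨y', rfl⟩ : ∃ y' : FreeAbelianGroup (A f W 0), y' = y := ⟨y, rfl⟩
  have hy' : (((εPre f).f 0).app (op W)).hom y' = 0 := hy
  have hy'' : εn f W y' = 0 := (eval_ε f W y').symm.trans hy'
  obtain ⟨z, hz⟩ := exact_zero f W y' hy''
  refine ⟨z, ?_⟩
  have hz' : (((CxPre f).d 1 0).app (op W)).hom z = y' := by
    rw [CxPre_d]
    exact (eval_objD f W 0 z).trans hz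
  exact hz'


variable (J) in
noncomputable abbrev G₂ : (Cᵒᵖ ⥤ AddCommGrpCat.{u}) ⥤ Sheaf J AddCommGrpCat.{u} :=
  presheafToSheaf J AddCommGrpCat.{u}

noncomputable abbrev Y : SimplicialObject.Augmented (Sheaf J AddCommGrpCat.{u}) :=
  ((SimplicialObject.Augmented.whiskering _ _).obj
    (Sheaf.composeAndSheafify J AddCommGrpCat.free.{u})).obj (Arrow.mk f).augmentedCechNerve

example : Y f = ((SimplicialObject.Augmented.whiskering _ _).obj (G₂ J)).obj (Npre f) := rfl

noncomputable abbrev Cx : ChainComplex (Sheaf J AddCommGrpCat.{u}) ℕ :=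
  (AlgebraicTopology.alternatingFaceMapComplex _).obj (Y f).left

lemma Cx_d (n : ℕ) : (Cx f).d (n + 1) n = (G₂ J).map ((CxPre f).d (n + 1) n) := by
  rw [CxPre_d]
  have h : (Cx f).d (n + 1) n = AlgebraicTopology.AlternatingFaceMapComplex.objD (Y f).left n :=
    AlgebraicTopology.alternatingFaceMapComplex_obj_d _ _
  rw [h]
  simp only [AlgebraicTopology.AlternatingFaceMapComplex.objD, Functor.map_sum, Functor.map_zsmul]
  rfl


lemma Cx_exact_succ (n : ℕ) : (Cx f).ExactAt (n + 1) := by
  rw [HomologicalComplex.exactAt_iff' _ (n + 2) (n + 1) n (by simp) (by simp)]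
  have h := (pre_exact_succ f n).map (G₂ J)
  refine (ShortComplex.exact_iff_of_iso ?_).1 h
  refine ShortComplex.isoMk (Iso.refl _) (Iso.refl _) (Iso.refl _) ?_ ?_
  · exact (Category.id_comp _).trans (((Cx_d f (n + 1))).trans (Category.comp_id _).symm)
  · exact (Category.id_comp _).trans (((Cx_d f n)).trans (Category.comp_id _).symm)

noncomputable abbrev εSh : Cx f ⟶ (ChainComplex.single₀ _).obj (Y f).right :=
  AlgebraicTopology.AlternatingFaceMapComplex.ε.app (Y f)

lemma εSh_f_zero : (εSh f).f 0 = (G₂ J).map ((εPre f).f 0) := by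
  rw [AlgebraicTopology.AlternatingFaceMapComplex.ε_app_f_zero,
    AlgebraicTopology.AlternatingFaceMapComplex.ε_app_f_zero]
  rfl

lemma epi_base [Epi f] : Epi ((Arrow.mk f).augmentedCechNerve.hom.app (op ⦋0⦌)) := by
  let s : K' ⟶ ((Arrow.mk f).cechNerve).obj (op ⦋0⦌) :=
    WidePullback.lift f (fun _ => 𝟙 K') (fun _ => Category.id_comp f)
  have hs : s ≫ (Arrow.mk f).augmentedCechNerve.hom.app (op ⦋0⦌) = f :=
    WidePullback.lift_base _ _ _ _
  have : Epi (s ≫ (Arrow.mk f).augmentedCechNerve.hom.app (op ⦋0⦌)) := by rw [hs]; assumption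
  exact epi_of_epi s _

theorem main [Epi f] : QuasiIso (AlgebraicTopology.AlternatingFaceMapComplex.ε.app (Y f)) := by
  refine ⟨fun n => ?_⟩
  cases n with
  | zero =>
    rw [ChainComplex.quasiIsoAt₀_iff, ShortComplex.quasiIso_iff_of_zeros']
    · constructor
      · have h := (pre_exact_zero f).map (G₂ J)
        refine (ShortComplex.exact_iff_of_iso ?_).1 h
        refine ShortComplex.isoMk (Iso.refl _) (Iso.refl _) (Iso.refl _) ?_ ?_
        · exact (Category.id_comp _).trans (((Cx_d f 0)).trans (Category.comp_id _).symm)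
        · exact (Category.id_comp _).trans (((εSh_f_zero f)).trans (Category.comp_id _).symm)
      · have h1 : Epi ((Arrow.mk f).augmentedCechNerve.hom.app (op ⦋0⦌)) := epi_base f
        have h2 : Epi ((Sheaf.composeAndSheafify J AddCommGrpCat.free.{u}).map
            ((Arrow.mk f).augmentedCechNerve.hom.app (op ⦋0⦌))) := inferInstance
        have h3 : (εSh f).f 0 = (Sheaf.composeAndSheafify J AddCommGrpCat.free.{u}).map
            ((Arrow.mk f).augmentedCechNerve.hom.app (op ⦋0⦌)) :=
          AlgebraicTopology.AlternatingFaceMapComplex.ε_app_f_zero _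
        change Epi ((εSh f).f 0)
        rw [h3]
        exact h2
    · change (Cx f).d 0 0 = 0
      simp
    · rfl
    · rfl
  | succ n =>
    rw [quasiIsoAt_iff_exactAt']
    · exact Cx_exact_succ f n
    · apply ChainComplex.exactAt_succ_single_obj

end Groth.Agent.Lib.helper10.CechRes
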