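import Mathlib
import Groth.Agent.Lib.helper10.CechRes
import Groth.Agent.Lib.helper10.AcycRes
import Groth.Prelude.Def_CohCx

namespace Groth.Agent.Lib.helper10.CechAcyc
open CategoryTheory Limits Opposite
open scoped Simplicial
open Groth.Agent.Lib.helper10.CechRes Groth.Agent.Lib.helper10

universe u

variable {C : Type u} [SmallCategory C] {J : GrothendieckTopology C}
variable {K' K : Sheaf J (Type u)} (f : K' ⟶ K)

lemma εSh_zero : (Cx f).d 1 0 ≫ (εSh f).f 0 = 0 := by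
  have h := (εSh f).comm 1 0
  rw [← h]
  have h0 : ((ChainComplex.single₀ (Sheaf J AddCommGrpCat.{u})).obj (Y f).right).d 1 0 = 0 :=
    rfl
  rw [h0]
  exact Limits.comp_zero

lemma Cx_exact_zero : (ShortComplex.mk ((Cx f).d 1 0) ((εSh f).f 0) (εSh_zero f)).Exact := by
  have h := (pre_exact_zero f).map (G₂ J)
  refine (ShortComplex.exact_iff_of_iso ?_).1 h
  refine ShortComplex.isoMk (Iso.refl _) (Iso.refl _) (Iso.refl _) ?_ ?_
  · exact (Category.id_comp _).trans (((Cx_d f 0)).trans (Category.comp_id _).symm)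
  · exact (Category.id_comp _).trans (((εSh_f_zero f)).trans (Category.comp_id _).symm)

lemma epi_ε [Epi f] : Epi ((εSh f).f 0) := by
  have h1 : Epi ((Arrow.mk f).augmentedCechNerve.hom.app (op ⦋0⦌)) := epi_base f
  have h2 : Epi ((Sheaf.composeAndSheafify J AddCommGrpCat.free.{u}).map
      ((Arrow.mk f).augmentedCechNerve.hom.app (op ⦋0⦌))) := inferInstance
  have h3 : (εSh f).f 0 = (Sheaf.composeAndSheafify J AddCommGrpCat.free.{u}).map
      ((Arrow.mk f).augmentedCechNerve.hom.app (op ⦋0⦌)) :=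
    AlgebraicTopology.AlternatingFaceMapComplex.ε_app_f_zero _
  rw [h3]
  exact h2

variable (F : Sheaf J AddCommGrpCat.{u})

lemma objD_apply (E : CosimplicialObject AddCommGrpCat.{u}) (n : ℕ) (x : E.obj ⦋n⦌) :
    (AlgebraicTopology.AlternatingCofaceMapComplex.objD E n).hom x =
      ∑ i : Fin (n + 2), ((-1 : ℤ) ^ (i : ℕ)) • (E.δ i).hom x := by
  have h1 : ∀ {M N : AddCommGrpCat.{u}} {ι : Type} (s : Finset ι) (g : ι → (M ⟶ N)),
      (∑ x ∈ s, g x).hom = ∑ x ∈ s, (g x).hom := by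
    intro M N ι s g
    exact map_sum (AddCommGrpCat.homAddEquiv (M := M) (N := N)) g s
  simp only [AlgebraicTopology.AlternatingCofaceMapComplex.objD]
  rw [h1, AddMonoidHom.finsetSum_apply]
  apply Finset.sum_congr rfl
  intro i _
  rw [AddCommGrpCat.hom_zsmul, AddMonoidHom.smul_apply]

noncomputable abbrev E : CosimplicialObject AddCommGrpCat.{u} :=
  (Arrow.mk f).cechNerve.rightOp ⋙ CohCx.HK0Functor J F

lemma cech_d_eq (n : ℕ) : (CohCx.cechNerveCx F f).d n (n + 1) =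
    AlgebraicTopology.AlternatingCofaceMapComplex.objD (E f F) n := by
  change (CochainComplex.of (fun n => (E f F).obj ⦋n⦌)
    (AlgebraicTopology.AlternatingCofaceMapComplex.objD (E f F))
    (AlgebraicTopology.AlternatingCofaceMapComplex.d_squared (E f F))).d n (n + 1) = _
  exact CochainComplex.of_d (V := AddCommGrpCat.{u}) (fun n => (E f F).obj ⦋n⦌)
    (AlgebraicTopology.AlternatingCofaceMapComplex.objD (E f F)) n

lemma cech_d_apply (n : ℕ) (φ : (Cx f).X n ⟶ F) :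
    ((CohCx.cechNerveCx F f).d n (n + 1)).hom φ = (Cx f).d (n + 1) n ≫ φ := by
  have h : (Cx f).d (n + 1) n = AlgebraicTopology.AlternatingFaceMapComplex.objD (Y f).left n :=
    AlgebraicTopology.alternatingFaceMapComplex_obj_d _ _
  rw [h]
  have h3 : ((CohCx.cechNerveCx F f).d n (n + 1)).hom φ =
      ∑ i : Fin (n + 2), ((-1 : ℤ) ^ (i : ℕ)) • ((E f F).δ i).hom φ :=
    (congrArg (fun g => g.hom φ) (cech_d_eq f F n)).trans (objD_apply (E f F) n φ)
  rw [h3]
  simp only [AlgebraicTopology.AlternatingFaceMapComplex.objD, Preadditive.sum_comp,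
    Preadditive.zsmul_comp]
  rfl


theorem main6151 [Epi f] (hF : CohCx.IsTotallyAcyclic F) (q : ℕ) :
    IsZero ((CohCx.cechNerveCx F f).homology (q + 1)) := by
  rw [← HomologicalComplex.exactAt_iff_isZero_homology,
    HomologicalComplex.exactAt_iff' _ q (q + 1) (q + 2) (by simp) (by simp),
    ShortComplex.ab_exact_iff]
  intro φ hφ
  obtain ⟨φ', rfl⟩ : ∃ φ' : (Cx f).X (q + 1) ⟶ F, φ' = φ := ⟨φ, rfl⟩
  have h1 : (Cx f).d (q + 2) (q + 1) ≫ φ' = 0 := (cech_d_apply f F (q + 1) φ').symm.trans hφ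
  obtain ⟨ε₀, hε₀⟩ : ∃ e : (Cx f).X 0 ⟶ (Y f).right, e = (εSh f).f 0 := ⟨_, rfl⟩
  have hepi : Epi ε₀ := by rw [hε₀]; exact epi_ε f
  have h0 : (Cx f).d 1 0 ≫ ε₀ = 0 := by rw [hε₀]; exact εSh_zero f
  have hex0 : (ShortComplex.mk ((Cx f).d 1 0) ε₀ h0).Exact := by
    subst hε₀
    exact Cx_exact_zero f
  obtain ⟨χ, hχ⟩ := AcycRes.lift (Cx f) F (Y f).right ε₀ h0 hex0
    (fun n i => hF _ i) (fun i => hF K i) (Cx_exact_succ f) q φ' h1
  exact ⟨χ, (cech_d_apply f F q χ).trans hχ⟩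

end Groth.Agent.Lib.helper10.CechAcyc
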