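import Mathlib

namespace Groth.Agent.Lib.helper10.CechMap
open CategoryTheory Limits Opposite
open scoped Simplicial

universe v v' u u'

variable {𝒞 : Type u} [Category.{v} 𝒞] {𝒟 : Type u'} [Category.{v'} 𝒟] (G : 𝒞 ⥤ 𝒟)
  {X B : 𝒞} (f : X ⟶ B)
  [HasLimits 𝒞] [HasLimits 𝒟]

/-- the comparison map from `G` of the Čech nerve to the Čech nerve of `G f` -/
noncomputable def θ (n : ℕ) : G.obj ((Arrow.mk f).cechNerve.obj (op ⦋n⦌)) ⟶
    (Arrow.mk (G.map f)).cechNerve.obj (op ⦋n⦌) :=
  WidePullback.lift (G.map (WidePullback.base (fun _ : Fin (n + 1) => f)))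
    (fun i => G.map (WidePullback.π (fun _ : Fin (n + 1) => f) i))
    (fun i => by
      change G.map (WidePullback.π (fun _ : Fin (n + 1) => f) i) ≫ G.map f = _
      rw [← G.map_comp]
      congr 1
      exact WidePullback.π_arrow _ i)

lemma θ_π (n : ℕ) (i : Fin (n + 1)) :
    θ G f n ≫ WidePullback.π (fun _ : Fin (n + 1) => G.map f) i =
      G.map (WidePullback.π (fun _ : Fin (n + 1) => f) i) :=
  WidePullback.lift_π _ _ _ _ _

lemma θ_base (n : ℕ) :
    θ G f n ≫ WidePullback.base (fun _ : Fin (n + 1) => G.map f) =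
      G.map (WidePullback.base (fun _ : Fin (n + 1) => f)) :=
  WidePullback.lift_base _ _ _ _

lemma θ_δ (n : ℕ) (i : Fin (n + 2)) :
    θ G f (n + 1) ≫ (Arrow.mk (G.map f)).cechNerve.δ i =
      G.map ((Arrow.mk f).cechNerve.δ i) ≫ θ G f n := by
  apply WidePullback.hom_ext
  · intro j
    have h1 : (Arrow.mk (G.map f)).cechNerve.δ i ≫ WidePullback.π (fun _ : Fin (n + 1) => G.map f) j
        = WidePullback.π (fun _ : Fin (n + 2) => G.map f) (Fin.succAbove i j) :=
      WidePullback.lift_π _ _ _ _ _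
    have h2 : (Arrow.mk f).cechNerve.δ i ≫ WidePullback.π (fun _ : Fin (n + 1) => f) j
        = WidePullback.π (fun _ : Fin (n + 2) => f) (Fin.succAbove i j) :=
      WidePullback.lift_π _ _ _ _ _
    rw [Category.assoc, Category.assoc]
    erw [h1, θ_π, θ_π]
    rw [← G.map_comp]
    congr 1
    exact h2.symm
  · have h1 : (Arrow.mk (G.map f)).cechNerve.δ i ≫ WidePullback.base (fun _ : Fin (n + 1) => G.map f)
        = WidePullback.base (fun _ : Fin (n + 2) => G.map f) :=
      WidePullback.lift_base _ _ _ _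
    have h2 : (Arrow.mk f).cechNerve.δ i ≫ WidePullback.base (fun _ : Fin (n + 1) => f)
        = WidePullback.base (fun _ : Fin (n + 2) => f) :=
      WidePullback.lift_base _ _ _ _
    rw [Category.assoc, Category.assoc]
    erw [h1, θ_base, θ_base]
    rw [← G.map_comp]
    congr 1
    exact h2.symm


section iso
variable [PreservesFiniteLimits G]

/-- the limit property of `G` applied to the wide pullback cone -/
noncomputable def Pn (n : ℕ) :=
  isLimitOfPreserves G (limit.isLimit
    (WidePullbackShape.wideCospan B (fun _ : Fin (n + 1) => X) (fun _ => f)))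

noncomputable def ρ (n : ℕ) : (Arrow.mk (G.map f)).cechNerve.obj (op ⦋n⦌) ⟶
    G.obj ((Arrow.mk f).cechNerve.obj (op ⦋n⦌)) :=
  (Pn G f n).lift (WidePullbackShape.mkCone
    (F := WidePullbackShape.wideCospan B (fun _ : Fin (n + 1) => X) (fun _ => f) ⋙ G)
    (WidePullback.base (fun _ : Fin (n + 1) => G.map f))
    (fun i => WidePullback.π (fun _ : Fin (n + 1) => G.map f) i)
    (fun i => WidePullback.π_arrow (fun _ : Fin (n + 1) => G.map f) i))

lemma ρ_π (n : ℕ) (i : Fin (n + 1)) :
    ρ G f n ≫ G.map (WidePullback.π (fun _ : Fin (n + 1) => f) i) =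
      WidePullback.π (fun _ : Fin (n + 1) => G.map f) i :=
  (Pn G f n).fac _ (some i)

lemma ρ_base (n : ℕ) :
    ρ G f n ≫ G.map (WidePullback.base (fun _ : Fin (n + 1) => f)) =
      WidePullback.base (fun _ : Fin (n + 1) => G.map f) :=
  (Pn G f n).fac _ none

lemma θ_ρ (n : ℕ) : θ G f n ≫ ρ G f n = 𝟙 _ := by
  apply (Pn G f n).hom_ext
  intro j
  cases j with
  | none =>
    have : θ G f n ≫ ρ G f n ≫ G.map (WidePullback.base (fun _ : Fin (n + 1) => f)) =
        G.map (WidePullback.base (fun _ : Fin (n + 1) => f)) := by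
      rw [ρ_base, θ_base]
    exact (Category.assoc _ _ _).trans (this.trans (Category.id_comp _).symm)
  | some i =>
    have : θ G f n ≫ ρ G f n ≫ G.map (WidePullback.π (fun _ : Fin (n + 1) => f) i) =
        G.map (WidePullback.π (fun _ : Fin (n + 1) => f) i) := by
      rw [ρ_π, θ_π]
    exact (Category.assoc _ _ _).trans (this.trans (Category.id_comp _).symm)

lemma ρ_θ (n : ℕ) : ρ G f n ≫ θ G f n = 𝟙 _ := by
  apply WidePullback.hom_ext
  · intro i
    rw [Category.assoc]
    erw [θ_π, ρ_π]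
    simp
  · rw [Category.assoc]
    erw [θ_base, ρ_base]
    simp

noncomputable def θIso (n : ℕ) : G.obj ((Arrow.mk f).cechNerve.obj (op ⦋n⦌)) ≅
    (Arrow.mk (G.map f)).cechNerve.obj (op ⦋n⦌) :=
  ⟨θ G f n, ρ G f n, θ_ρ G f n, ρ_θ G f n⟩

end iso

end Groth.Agent.Lib.helper10.CechMap
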