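import Mathlib
import Groth.Agent.Lib.helper10.CechMap

open CategoryTheory Limits Opposite
open scoped Simplicial
open Groth.Agent.Lib.helper10.CechMap

universe v v' u u'

noncomputable section

namespace Groth.Agent.Lib.helper10.CechMap2

variable {𝒞 : Type u} [Category.{v} 𝒞] [HasLimits 𝒞] {X B : 𝒞} (f : X ⟶ B)

/-- the `(n+1)`-fold fibre power -/
abbrev W (n : ℕ) : 𝒞 := widePullback B (fun _ : Fin (n + 1) => X) (fun _ => f)

/-- forgetting the last factor -/
def a (n : ℕ) : W f (n + 1) ⟶ W f n :=
  WidePullback.lift (WidePullback.base _) (fun i => WidePullback.π _ (Fin.castSucc i))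
    (fun _ => WidePullback.π_arrow _ _)

/-- the last factor -/
def b (n : ℕ) : W f (n + 1) ⟶ X := WidePullback.π _ (Fin.last (n + 1))

lemma a_π (n : ℕ) (i : Fin (n + 1)) :
    a f n ≫ WidePullback.π (fun _ : Fin (n + 1) => f) i =
      WidePullback.π (fun _ : Fin (n + 2) => f) (Fin.castSucc i) :=
  WidePullback.lift_π _ _ _ _ _

lemma a_base (n : ℕ) :
    a f n ≫ WidePullback.base (fun _ : Fin (n + 1) => f) =
      WidePullback.base (fun _ : Fin (n + 2) => f) :=
  WidePullback.lift_base _ _ _ _

lemma sq (n : ℕ) : a f n ≫ WidePullback.base (fun _ : Fin (n + 1) => f) = b f n ≫ f := by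
  rw [a_base]
  exact (WidePullback.π_arrow _ _).symm

lemma isPullback (n : ℕ) :
    IsPullback (a f n) (b f n) (WidePullback.base (fun _ : Fin (n + 1) => f)) f := by
  refine ⟨⟨sq f n⟩, ⟨PullbackCone.IsLimit.mk _ (fun s =>
    WidePullback.lift (s.fst ≫ WidePullback.base _)
      (fun i => Fin.lastCases s.snd (fun j => s.fst ≫ WidePullback.π _ j) i) ?_) ?_ ?_ ?_⟩⟩
  · intro i
    induction i using Fin.lastCases with
    | last => rw [Fin.lastCases_last]; exact s.condition.symm
    | cast j =>
      rw [Fin.lastCases_castSucc, Category.assoc]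
      congr 1
      exact WidePullback.π_arrow _ _
  · intro s
    apply WidePullback.hom_ext
    · intro i
      rw [Category.assoc, a_π, WidePullback.lift_π, Fin.lastCases_castSucc]
    · rw [Category.assoc, a_base, WidePullback.lift_base]
  · intro s
    have := WidePullback.lift_π (fun _ : Fin (n + 2) => f) (s.fst ≫ WidePullback.base _)
      (fun i => Fin.lastCases s.snd (fun j => s.fst ≫ WidePullback.π _ j) i)
    exact (WidePullback.lift_π _ _ _ _ _).trans (Fin.lastCases_last ..)
  · intro s m h1 h2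
    apply WidePullback.hom_ext
    · intro i
      rw [WidePullback.lift_π]
      induction i using Fin.lastCases with
      | last => rw [Fin.lastCases_last]; exact h2
      | cast j =>
        rw [Fin.lastCases_castSucc, ← h1, Category.assoc, a_π]
    · rw [WidePullback.lift_base, ← h1, Category.assoc, a_base]


lemma isIso_of_isPullback {𝒟 : Type*} [Category 𝒟] {P A Xd Bd P' A' : 𝒟}
    {a : P ⟶ A} {b : P ⟶ Xd} {c : A ⟶ Bd} {d : Xd ⟶ Bd}
    {a' : P' ⟶ A'} {b' : P' ⟶ Xd} {c' : A' ⟶ Bd}
    (h : IsPullback a b c d) (h' : IsPullback a' b' c' d)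
    (e : A ⟶ A') [IsIso e] (hc : e ≫ c' = c) (φ : P ⟶ P') (ha : φ ≫ a' = a ≫ e) (hb : φ ≫ b' = b) :
    IsIso φ := by
  have hc' : inv e ≫ c = c' := by rw [← hc, IsIso.inv_hom_id_assoc]
  let ψ : P' ⟶ P := h.lift (a' ≫ inv e) b' (by rw [Category.assoc, hc', h'.w])
  refine ⟨ψ, ?_, ?_⟩
  · apply h.hom_ext
    · rw [Category.assoc, h.lift_fst, ← Category.assoc, ha, Category.assoc, IsIso.hom_inv_id,
        Category.comp_id, Category.id_comp]
    · rw [Category.assoc, h.lift_snd, hb, Category.id_comp]
  · apply h'.hom_ext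
    · rw [Category.assoc, ha, ← Category.assoc, h.lift_fst, Category.assoc, IsIso.inv_hom_id,
        Category.comp_id, Category.id_comp]
    · rw [Category.assoc, hb, h.lift_snd, Category.id_comp]

section G
variable {𝒟 : Type u'} [Category.{v'} 𝒟] [HasLimits 𝒟] (G : 𝒞 ⥤ 𝒟)

lemma θ_a (n : ℕ) : θ G f (n + 1) ≫ a (G.map f) n = G.map (a f n) ≫ θ G f n := by
  apply WidePullback.hom_ext
  · intro i
    rw [Category.assoc, Category.assoc, a_π]
    erw [θ_π, θ_π]
    rw [← G.map_comp, a_π]
  · rw [Category.assoc, Category.assoc, a_base]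
    erw [θ_base, θ_base]
    rw [← G.map_comp, a_base]

lemma θ_b (n : ℕ) : θ G f (n + 1) ≫ b (G.map f) n = G.map (b f n) :=
  θ_π G f (n + 1) (Fin.last (n + 1))

lemma isIso_π_zero : IsIso (WidePullback.π (fun _ : Fin 1 => f) 0) := by
  refine ⟨WidePullback.lift f (fun _ => 𝟙 X) (fun _ => Category.id_comp _), ?_, ?_⟩
  · apply WidePullback.hom_ext
    · intro i
      obtain rfl : i = 0 := Subsingleton.elim _ _
      rw [Category.assoc, WidePullback.lift_π, Category.comp_id, Category.id_comp]
    · rw [Category.assoc, WidePullback.lift_base, WidePullback.π_arrow, Category.id_comp]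
  · exact WidePullback.lift_π _ _ _ _ _

variable [PreservesLimitsOfShape WalkingCospan G]

theorem isIso_θ (n : ℕ) : IsIso (θ G f n) := by
  induction n with
  | zero =>
    have h1 : θ G f 0 ≫ WidePullback.π (fun _ : Fin 1 => G.map f) 0 =
        G.map (WidePullback.π (fun _ : Fin 1 => f) 0) := θ_π G f 0 0
    have i1 := isIso_π_zero f
    have i2 := isIso_π_zero (G.map f)
    have i3 : IsIso (θ G f 0 ≫ WidePullback.π (fun _ : Fin 1 => G.map f) 0) := by
      rw [h1]; infer_instance
    exact IsIso.of_isIso_comp_right (θ G f 0) (WidePullback.π (fun _ : Fin 1 => G.map f) 0)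
  | succ n ih =>
    have hp := (isPullback f n).map G
    have hp' := isPullback (G.map f) n
    exact isIso_of_isPullback hp hp' (θ G f n) (θ_base G f n) (θ G f (n + 1)) (θ_a f G n)
      (θ_b f G n)

end G

end Groth.Agent.Lib.helper10.CechMap2
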