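import Mathlib
import Groth.Prelude.Def_FreeSh

set_option autoImplicit false
universe u
open CategoryTheory CategoryTheory.Limits Opposite

namespace Groth.Agent.Lib.helper10.FreeW

variable {C : Type u} [SmallCategory C] (J : GrothendieckTopology C)

/-- whiskering with the free abelian group functor preserves `J.W`. -/
lemma W_whiskerRight_free {P Q : Cᵒᵖ ⥤ Type u} (η : P ⟶ Q) (hη : J.W η) :
    J.W (Functor.whiskerRight η AddCommGrpCat.free.{u}) := by
  intro Z hZ
  have adjF := (AddCommGrpCat.adj.{u}).whiskerRight Cᵒᵖ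
  have := (adjF.map_comp_bijective_iff η Z).2 (hη _ ?_)
  · exact this
  · exact Presheaf.isSheaf_comp_of_isSheaf J Z (forget AddCommGrpCat.{u}) hZ

lemma subsingleton_ext_of_iso {A : Type*} [Category A] [Abelian A] [HasExt A] {X Y F : A} (e : X ≅ Y) (n : ℕ)
    (h : Subsingleton (Abelian.Ext Y F n)) : Subsingleton (Abelian.Ext X F n) := by
  have h0 : ∀ a : Abelian.Ext X F n, a = 0 := by
    intro a
    have h1 : (Abelian.Ext.mk₀ e.hom).comp ((Abelian.Ext.mk₀ e.inv).comp a (zero_add n)) (zero_add n) = a := by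
      rw [Abelian.Ext.mk₀_comp_mk₀_assoc, e.hom_inv_id, Abelian.Ext.mk₀_id_comp]
    rw [← h1, Subsingleton.elim ((Abelian.Ext.mk₀ e.inv).comp a (zero_add n)) 0, Abelian.Ext.comp_zero]
  exact ⟨fun a b => (h0 a).trans (h0 b).symm⟩

end Groth.Agent.Lib.helper10.FreeW
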