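import Mathlib
import Groth.Agent.Lib.helper10.FreeW
import Groth.Agent.S0864
import Groth.Prelude.Def_FreeSh
import Groth.Prelude.Def_CohCx
import Groth.Prelude.Def_CohSite

namespace Groth.Agent.Lib.helper10.PushTA
open CategoryTheory Limits Opposite Abelian
open Groth.Agent.Lib.helper10

universe u

section one
variable {C : Type u} [SmallCategory C] {J : GrothendieckTopology C}

/-- quotient of an injective by a totally acyclic is totally acyclic -/
lemma quot_TA {S : ShortComplex (Sheaf J AddCommGrpCat.{u})} (hS : S.ShortExact)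
    (h1 : CohCx.IsTotallyAcyclic S.X₁) [Injective S.X₂] : CohCx.IsTotallyAcyclic S.X₃ := by
  intro K p
  refine ⟨fun a b => ?_⟩
  have h0 : ∀ x : CohCx.HK K S.X₃ (p + 1), x = 0 := by
    intro x
    have hx : x.comp hS.extClass (rfl : p + 1 + 1 = p + 2) = 0 := (h1 K (p + 1)).elim _ _
    obtain ⟨x₂, hx₂⟩ := Ext.covariant_sequence_exact₃ _ hS x rfl hx
    rw [← hx₂, Ext.eq_zero_of_injective x₂, Ext.zero_comp]
  rw [h0 a, h0 b]

/-- sectionwise surjectivity of `S.g` when `S.X₁` has vanishing `H^1(U, -)`. -/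
lemma sect_surj {S : ShortComplex (Sheaf J AddCommGrpCat.{u})} (hS : S.ShortExact)
    (U : C) (h1 : Subsingleton (CohSite.HU S.X₁ 1 U)) :
    Function.Surjective (S.g.hom.app (op U)) := by
  intro s
  let φ : CohCx.freeSheaf J U ⟶ S.X₃ := CohFree.ofSect J U S.X₃ s
  have hx : (Ext.mk₀ φ).comp hS.extClass (rfl : 0 + 1 = 1) = 0 := h1.elim _ _
  obtain ⟨x₂, hx₂⟩ := Ext.covariant_sequence_exact₃ _ hS (Ext.mk₀ φ) rfl hx
  obtain ⟨ψ, rfl⟩ := (Ext.mk₀_bijective _ _).2 x₂
  rw [Ext.mk₀_comp_mk₀] at hx₂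
  have h2 : ψ ≫ S.g = φ := (Ext.mk₀_bijective _ _).1 hx₂
  refine ⟨CohFree.evalGen J U S.X₂ ψ, ?_⟩
  have h3 : CohFree.evalGen J U S.X₃ (ψ ≫ S.g) = (S.g.hom.app (op U)).hom (CohFree.evalGen J U S.X₂ ψ) := rfl
  rw [h2, CohFree.evalGen_ofSect] at h3
  exact h3.symm


lemma ext_vanish_step {A : Type*} [Category A] [Abelian A] [HasExt A] {S' : ShortComplex A}
    (hS' : S'.ShortExact) [Injective S'.X₂] (Z : A) (n : ℕ)
    (h : ∀ x₃ : Ext Z S'.X₃ n, x₃.comp hS'.extClass (rfl : n + 1 = n + 1) = 0) :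
    Subsingleton (Ext Z S'.X₁ (n + 1)) := by
  have h0 : ∀ x : Ext Z S'.X₁ (n + 1), x = 0 := by
    intro x
    have hx : x.comp (Ext.mk₀ S'.f) (add_zero _) = 0 := Ext.eq_zero_of_injective _
    obtain ⟨x₃, hx₃⟩ := Ext.covariant_sequence_exact₁ Z hS' x hx (rfl : n + 1 = n + 1)
    rw [← hx₃, h x₃]
  exact ⟨fun a b => (h0 a).trans (h0 b).symm⟩

lemma comp_extClass_eq_zero_of_lift {A : Type*} [Category A] [Abelian A] [HasExt A]
    {S' : ShortComplex A} (hS' : S'.ShortExact) (Z : A) (φ : Z ⟶ S'.X₃) (ψ : Z ⟶ S'.X₂)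
    (h : ψ ≫ S'.g = φ) : (Ext.mk₀ φ).comp hS'.extClass (zero_add 1) = 0 := by
  rw [← h, ← Ext.mk₀_comp_mk₀, Ext.comp_assoc _ _ _ (add_zero 0) (zero_add 1) (by rfl),
    hS'.comp_extClass, Ext.comp_zero]

end one


section two
variable {C D : Type u} [SmallCategory C] [SmallCategory D]
  (J : GrothendieckTopology C) (K : GrothendieckTopology D) (u : D ⥤ C) [u.IsContinuous K J]

noncomputable abbrev pb : Sheaf K AddCommGrpCat.{u} ⥤ Sheaf J AddCommGrpCat.{u} :=
  u.sheafPullback AddCommGrpCat.{u} K J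

noncomputable abbrev adjAb : pb J K u ⊣ CohSite.push J K u :=
  u.sheafAdjunctionContinuous AddCommGrpCat.{u} K J

noncomputable abbrev pbS : Sheaf K (Type u) ⥤ Sheaf J (Type u) :=
  u.sheafPullback (Type u) K J

noncomputable abbrev adjS : pbS J K u ⊣ u.sheafPushforwardContinuous (Type u) K J :=
  u.sheafAdjunctionContinuous (Type u) K J

noncomputable def adj1 :
    Sheaf.composeAndSheafify K AddCommGrpCat.free.{u} ⋙ pb J K u ⊣
      CohSite.push J K u ⋙ sheafCompose K (forget AddCommGrpCat.{u}) :=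
  (Sheaf.adjunction K AddCommGrpCat.adj.{u}).comp (adjAb J K u)

noncomputable def adj2 :
    pbS J K u ⋙ Sheaf.composeAndSheafify J AddCommGrpCat.free.{u} ⊣
      sheafCompose J (forget AddCommGrpCat.{u}) ⋙ u.sheafPushforwardContinuous (Type u) K J :=
  (adjS J K u).comp (Sheaf.adjunction J AddCommGrpCat.adj.{u})

noncomputable def rIso : CohSite.push J K u ⋙ sheafCompose K (forget AddCommGrpCat.{u}) ≅
    sheafCompose J (forget AddCommGrpCat.{u}) ⋙ u.sheafPushforwardContinuous (Type u) K J :=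
  Iso.refl _

/-- `f^{-1} ℤ[K'] ≅ ℤ[f^{-1} K']` -/
noncomputable def freeIso :
    Sheaf.composeAndSheafify K AddCommGrpCat.free.{u} ⋙ pb J K u ≅
      pbS J K u ⋙ Sheaf.composeAndSheafify J AddCommGrpCat.free.{u} :=
  ((adj1 J K u).ofNatIsoRight (rIso J K u)).leftAdjointUniq (adj2 J K u)


lemma push_injective [PreservesFiniteLimits (pb J K u)] (I : Sheaf J AddCommGrpCat.{u}) [Injective I] :
    Injective ((CohSite.push J K u).obj I) :=
  Injective.injective_of_adjoint (adjAb J K u) I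

variable {J} in
lemma push_shortExact {S : ShortComplex (Sheaf J AddCommGrpCat.{u})} (hS : S.ShortExact)
    (h1 : CohCx.IsTotallyAcyclic S.X₁) : (S.map (CohSite.push J K u)).ShortExact := by
  have : PreservesLimitsOfSize.{0, 0} (CohSite.push J K u) :=
    (adjAb J K u).rightAdjoint_preservesLimits
  have hm := hS.mono_f
  have he : Epi ((CohSite.push J K u).map S.g) := by
    have : Sheaf.IsLocallySurjective ((CohSite.push J K u).map S.g) := by
      apply Presheaf.isLocallySurjective_of_surjective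
      intro V
      exact sect_surj hS (u.obj V.unop) (Groth.Agent.S0864.result S.X₁ h1 _ 0)
    infer_instance
  have hex : (S.map (CohSite.push J K u)).Exact :=
    hS.exact.map_of_mono_of_preservesKernel _ hm inferInstance
  have : Mono (S.map (CohSite.push J K u)).f := by
    change Mono ((CohSite.push J K u).map S.f)
    infer_instance
  have : Epi (S.map (CohSite.push J K u)).g := he
  exact ShortComplex.ShortExact.mk hex


variable [PreservesFiniteLimits (pb J K u)]

noncomputable abbrev ZK (K' : Sheaf K (Type u)) : Sheaf K AddCommGrpCat.{u} :=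
  (Sheaf.composeAndSheafify K AddCommGrpCat.free.{u}).obj K'

omit [PreservesFiniteLimits (pb J K u)] in
variable {J} in
lemma lift_push {S : ShortComplex (Sheaf J AddCommGrpCat.{u})} (hS : S.ShortExact)
    (hF : CohCx.IsTotallyAcyclic S.X₁) (K' : Sheaf K (Type u))
    (φ : ZK K K' ⟶ (CohSite.push J K u).obj S.X₃) :
    ∃ ψ : ZK K K' ⟶ (CohSite.push J K u).obj S.X₂, ψ ≫ (CohSite.push J K u).map S.g = φ := by
  let φ' : (pb J K u).obj (ZK K K') ⟶ S.X₃ := ((adjAb J K u).homEquiv _ _).symm φ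
  have h1 : Subsingleton (Ext ((pb J K u).obj (ZK K K')) S.X₁ 1) :=
    FreeW.subsingleton_ext_of_iso ((freeIso J K u).app K') 1 (hF ((pbS J K u).obj K') 0)
  have hx : (Ext.mk₀ φ').comp hS.extClass (rfl : 0 + 1 = 1) = 0 := h1.elim _ _
  obtain ⟨x₂, hx₂⟩ := Ext.covariant_sequence_exact₃ _ hS (Ext.mk₀ φ') rfl hx
  obtain ⟨ψ', rfl⟩ := (Ext.mk₀_bijective _ _).2 x₂
  rw [Ext.mk₀_comp_mk₀] at hx₂
  have h2 : ψ' ≫ S.g = φ' := (Ext.mk₀_bijective _ _).1 hx₂
  refine ⟨(adjAb J K u).homEquiv _ _ ψ', ?_⟩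
  rw [← Adjunction.homEquiv_naturality_right, h2, Equiv.apply_symm_apply]

noncomputable def sc (F : Sheaf J AddCommGrpCat.{u}) : ShortComplex (Sheaf J AddCommGrpCat.{u}) :=
  ShortComplex.mk (Injective.ι F) (cokernel.π (Injective.ι F)) (cokernel.condition _)

omit [PreservesFiniteLimits (pb J K u)] in
lemma sc_shortExact (F : Sheaf J AddCommGrpCat.{u}) : (sc J F).ShortExact :=
  { exact := ShortComplex.exact_cokernel _
    mono_f := by change Mono (Injective.ι F); infer_instance
    epi_g := by change Epi (cokernel.π (Injective.ι F)); infer_instance }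

instance (F : Sheaf J AddCommGrpCat.{u}) : Injective (sc J F).X₂ := by
  change Injective (Injective.under F)
  infer_instance

lemma vanish (p : ℕ) : ∀ (F : Sheaf J AddCommGrpCat.{u}), CohCx.IsTotallyAcyclic F →
    ∀ K' : Sheaf K (Type u), Subsingleton (Ext (ZK K K') ((CohSite.push J K u).obj F) (p + 1)) := by
  induction p with
  | zero =>
    intro F hF K'
    have hS := sc_shortExact J F
    have hS' := push_shortExact K u hS hF
    have : Injective ((sc J F).map (CohSite.push J K u)).X₂ := push_injective J K u (sc J F).X₂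
    refine ext_vanish_step hS' (ZK K K') 0 ?_
    intro x₃
    obtain ⟨φ, rfl⟩ := (Ext.mk₀_bijective _ _).2 x₃
    obtain ⟨ψ, hψ⟩ := lift_push K u hS hF K' φ
    exact comp_extClass_eq_zero_of_lift hS' (ZK K K') φ ψ hψ
  | succ p ih =>
    intro F hF K'
    have hS := sc_shortExact J F
    have hS' := push_shortExact K u hS hF
    have : Injective ((sc J F).map (CohSite.push J K u)).X₂ := push_injective J K u (sc J F).X₂
    have hQ : CohCx.IsTotallyAcyclic (sc J F).X₃ := quot_TA hS hF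
    refine ext_vanish_step hS' (ZK K K') (p + 1) ?_
    intro x₃
    have h3 : x₃ = 0 := (ih _ hQ K').elim x₃ 0
    rw [h3, Ext.zero_comp]

theorem main (F : Sheaf J AddCommGrpCat.{u}) (hF : CohCx.IsTotallyAcyclic F) :
    CohCx.IsTotallyAcyclic ((CohSite.push J K u).obj F) :=
  fun K' p => vanish J K u p F hF K'

end two

end Groth.Agent.Lib.helper10.PushTA
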