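import Mathlib
import Groth.Agent.Lib.helper10.CechSec
import Groth.Agent.Lib.helper10.PushTA

namespace Groth.Agent.Lib.helper10.EpiKill
open CategoryTheory Limits Opposite Abelian
open Groth.Agent.Lib.helper10 Groth.Agent.Lib.helper10.CechSec

universe u

variable {C : Type u} [SmallCategory C] {J : GrothendieckTopology C}

lemma epi_fst {K G G' : Sheaf J (Type u)} (a : K ⟶ G') (b : G ⟶ G') [Sheaf.IsLocallySurjective b] :
    Epi (pullback.fst a b) := by
  have : Sheaf.IsLocallySurjective (pullback.fst a b) := by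
    constructor
    intro W k
    refine J.superset_covering ?_ (Presheaf.imageSieve_mem J b.hom (a.hom.app (op W) k))
    intro V g hg
    obtain ⟨t, ht⟩ := hg
    have hc : (secEquiv J V K).symm (K.obj.map g.op k) ≫ a = (secEquiv J V G).symm t ≫ b := by
      apply (secEquiv J V G').injective
      rw [secEquiv_comp, secEquiv_comp, Equiv.apply_symm_apply, Equiv.apply_symm_apply, ht]
      exact (ConcreteCategory.congr_hom (a.hom.naturality g.op) k)
    refine ⟨secEquiv J V _ (pullback.lift _ _ hc), ?_⟩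
    have h2 := secEquiv_comp J V (pullback.lift _ _ hc) (pullback.fst a b)
    rw [pullback.lift_fst, Equiv.apply_symm_apply] at h2
    exact h2.symm
  infer_instance


variable (J) in
noncomputable abbrev Lz : Sheaf J (Type u) ⥤ Sheaf J AddCommGrpCat.{u} :=
  Sheaf.composeAndSheafify J AddCommGrpCat.free.{u}

variable (J) in
noncomputable abbrev Fg : Sheaf J AddCommGrpCat.{u} ⥤ Sheaf J (Type u) :=
  sheafCompose J (forget AddCommGrpCat.{u})

variable (J) in
noncomputable abbrev adjLF : Lz J ⊣ Fg J := Sheaf.adjunction J AddCommGrpCat.adj.{u}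

lemma K2 {A : Type*} [Category A] [Abelian A] [HasExt A] {S : ShortComplex A} (hS : S.ShortExact)
    {X X' : A} (g : X' ⟶ X) (s : X ⟶ S.X₃) (t : X' ⟶ S.X₂) (ht : t ≫ S.g = g ≫ s) :
    (Ext.mk₀ g).comp ((Ext.mk₀ s).comp hS.extClass (rfl : 0 + 1 = 1)) (zero_add 1) = 0 := by
  rw [← Ext.comp_assoc _ _ _ (zero_add 0) (rfl : 0 + 1 = 1) (by rfl), Ext.mk₀_comp_mk₀, ← ht,
    ← Ext.mk₀_comp_mk₀, Ext.comp_assoc _ _ _ (zero_add 0) (zero_add 1) (by rfl), hS.comp_extClass,
    Ext.comp_zero]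

lemma exists_epi_kill' (S : ShortComplex (Sheaf J AddCommGrpCat.{u})) (hS : S.ShortExact)
    [Injective S.X₂] (K : Sheaf J (Type u)) (x : Ext ((Lz J).obj K) S.X₁ 1) :
    ∃ (K' : Sheaf J (Type u)) (g : K' ⟶ K), Epi g ∧
      (Ext.mk₀ ((Lz J).map g)).comp x (zero_add 1) = 0 := by
  have hx : x.comp (Ext.mk₀ S.f) (add_zero 1) = 0 := Ext.eq_zero_of_injective _
  obtain ⟨x₃, hx₃⟩ := Ext.covariant_sequence_exact₁ _ hS x hx (rfl : 0 + 1 = 1)
  obtain ⟨s, rfl⟩ := (Ext.mk₀_bijective _ _).2 x₃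
  let s' : K ⟶ (Fg J).obj S.X₃ := (adjLF J).homEquiv _ _ s
  let b : (Fg J).obj S.X₂ ⟶ (Fg J).obj S.X₃ := (Fg J).map S.g
  have hb : Sheaf.IsLocallySurjective b := by
    have : Epi S.g := hS.epi_g
    have : Sheaf.IsLocallySurjective S.g :=
      (Sheaf.isLocallySurjective_iff_epi' (J := J) (A := AddCommGrpCat.{u}) S.g).2 inferInstance
    infer_instance
  refine ⟨pullback s' b, pullback.fst s' b, epi_fst s' b, ?_⟩
  let t : (Lz J).obj (pullback s' b) ⟶ S.X₂ :=
    ((adjLF J).homEquiv _ _).symm (pullback.snd s' b)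
  have ht : t ≫ S.g = (Lz J).map (pullback.fst s' b) ≫ s := by
    apply ((adjLF J).homEquiv _ _).injective
    rw [Adjunction.homEquiv_naturality_right, Adjunction.homEquiv_naturality_left,
      Equiv.apply_symm_apply]
    exact pullback.condition.symm
  rw [← hx₃]
  exact K2 hS _ s t ht

lemma exists_epi_kill (F : Sheaf J AddCommGrpCat.{u}) (K : Sheaf J (Type u))
    (x : Ext ((Lz J).obj K) F 1) :
    ∃ (K' : Sheaf J (Type u)) (g : K' ⟶ K), Epi g ∧
      (Ext.mk₀ ((Lz J).map g)).comp x (zero_add 1) = 0 :=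
  exists_epi_kill' (PushTA.sc J F) (PushTA.sc_shortExact J F) K x

end Groth.Agent.Lib.helper10.EpiKill
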