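import Mathlib
import Groth.Agent.Lib.helper10.CechAcyc
import Groth.Agent.Lib.helper10.AcycRes2
import Groth.Agent.Lib.helper10.EpiKill
import Groth.Agent.Lib.helper10.PushTA
import Groth.Prelude.Def_CohCx

namespace Groth.Agent.Lib.helper10.CechTA
open CategoryTheory Limits Opposite Abelian
open scoped Simplicial
open Groth.Agent.Lib.helper10.CechRes Groth.Agent.Lib.helper10.CechAcyc Groth.Agent.Lib.helper10

universe u

variable {C : Type u} [SmallCategory C] {J : GrothendieckTopology C}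

/-- degree-positive Čech cocycles for `f` with values in `F` are coboundaries. -/
def CechLift (F : Sheaf J AddCommGrpCat.{u}) {K' K : Sheaf J (Type u)} (f : K' ⟶ K) : Prop :=
  ∀ (q : ℕ) (φ : (Cx f).X (q + 1) ⟶ F), (Cx f).d (q + 2) (q + 1) ≫ φ = 0 →
    ∃ χ : (Cx f).X q ⟶ F, (Cx f).d (q + 1) q ≫ χ = φ

lemma cechLift_of_isZero (F : Sheaf J AddCommGrpCat.{u}) {K' K : Sheaf J (Type u)} (f : K' ⟶ K)
    (h : ∀ q : ℕ, IsZero ((CohCx.cechNerveCx F f).homology (q + 1))) : CechLift F f := by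
  intro q φ hφ
  have hq := h q
  rw [← HomologicalComplex.exactAt_iff_isZero_homology,
    HomologicalComplex.exactAt_iff' _ q (q + 1) (q + 2) (by simp) (by simp),
    ShortComplex.ab_exact_iff] at hq
  obtain ⟨χ, hχ⟩ := hq φ ((cech_d_apply f F (q + 1) φ).trans hφ)
  obtain ⟨χ', rfl⟩ : ∃ χ' : (Cx f).X q ⟶ F, χ' = χ := ⟨χ, rfl⟩
  exact ⟨χ', (cech_d_apply f F q χ').symm.trans hχ⟩

lemma isZero_of_cechLift (F : Sheaf J AddCommGrpCat.{u}) {K' K : Sheaf J (Type u)} (f : K' ⟶ K)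
    (h : CechLift F f) (q : ℕ) : IsZero ((CohCx.cechNerveCx F f).homology (q + 1)) := by
  rw [← HomologicalComplex.exactAt_iff_isZero_homology,
    HomologicalComplex.exactAt_iff' _ q (q + 1) (q + 2) (by simp) (by simp),
    ShortComplex.ab_exact_iff]
  intro φ hφ
  obtain ⟨φ', rfl⟩ : ∃ φ' : (Cx f).X (q + 1) ⟶ F, φ' = φ := ⟨φ, rfl⟩
  have h1 : (Cx f).d (q + 2) (q + 1) ≫ φ' = 0 := (cech_d_apply f F (q + 1) φ').symm.trans hφ
  obtain ⟨χ, hχ⟩ := h q φ' h1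
  exact ⟨χ, (cech_d_apply f F q χ).trans hχ⟩

lemma cechLift_of_TA (F : Sheaf J AddCommGrpCat.{u}) (hF : CohCx.IsTotallyAcyclic F)
    {K' K : Sheaf J (Type u)} (f : K' ⟶ K) [Epi f] : CechLift F f :=
  cechLift_of_isZero F f (fun q => main6151 f F hF q)

/-- the Čech condition for all epimorphisms -/
def CC (F : Sheaf J AddCommGrpCat.{u}) : Prop :=
  ∀ (K' K : Sheaf J (Type u)) (f : K' ⟶ K), Epi f → CechLift F f


lemma K3 {A : Type*} [Category A] [Abelian A] [HasExt A] {X₀ X₁ X₂ F : A} (a : X₀ ⟶ X₁)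
    (b : X₁ ⟶ X₂) (x : Ext X₂ F 1) (hx : (Ext.mk₀ b).comp x (zero_add 1) = 0) (e : X₀ ⟶ X₂)
    (he : e = a ≫ b) : (Ext.mk₀ e).comp x (zero_add 1) = 0 := by
  rw [he, ← Ext.mk₀_comp_mk₀, Ext.comp_assoc _ _ _ (zero_add 0) (zero_add 1) (by rfl), hx,
    Ext.comp_zero]

lemma ext1_zero (F : Sheaf J AddCommGrpCat.{u}) (hF : CC F) (K : Sheaf J (Type u)) :
    Subsingleton (Ext ((EpiKill.Lz J).obj K) F 1) := by
  have h0 : ∀ x : Ext ((EpiKill.Lz J).obj K) F 1, x = 0 := by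
    intro x
    obtain ⟨K', g, hg, hx⟩ := EpiKill.exists_epi_kill F K x
    obtain ⟨ε₀, hε₀⟩ : ∃ e : (Cx g).X 0 ⟶ (Y g).right, e = (εSh g).f 0 := ⟨_, rfl⟩
    have hepi : Epi ε₀ := by rw [hε₀]; exact epi_ε g
    have h0 : (Cx g).d 1 0 ≫ ε₀ = 0 := by rw [hε₀]; exact εSh_zero g
    have hex0 : (ShortComplex.mk ((Cx g).d 1 0) ε₀ h0).Exact := by
      subst hε₀
      exact Cx_exact_zero g
    refine AcycRes2.restr_injective (Cx g) F (Y g).right ε₀ h0 hex0 (Cx_exact_succ g 0)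
      (fun φ hφ => hF K' K g hg 0 φ hφ) x ?_
    -- `ε₀ = ℤ[π₀] ≫ ℤ[g]`
    have h3 : ε₀ = (EpiKill.Lz J).map (WidePullback.π (fun _ : Fin (0 + 1) => g) 0) ≫
        (EpiKill.Lz J).map g := by
      rw [hε₀, ← Functor.map_comp]
      have h4 : (εSh g).f 0 = (EpiKill.Lz J).map
          ((Arrow.mk g).augmentedCechNerve.hom.app (op ⦋0⦌)) :=
        AlgebraicTopology.AlternatingFaceMapComplex.ε_app_f_zero _
      rw [h4]
      congr 1
      exact (WidePullback.π_arrow (fun _ : Fin (0 + 1) => g) 0).symm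
    exact K3 _ _ x hx ε₀ h3
  exact ⟨fun a b => (h0 a).trans (h0 b).symm⟩


lemma X_eq {K' K : Sheaf J (Type u)} (f : K' ⟶ K) (n : ℕ) :
    (Cx f).X n = (EpiKill.Lz J).obj ((Arrow.mk f).cechNerve.obj (op ⦋n⦌)) := rfl

lemma inj_TA (I : Sheaf J AddCommGrpCat.{u}) [Injective I] : CohCx.IsTotallyAcyclic I := by
  intro K p
  exact ⟨fun a b => (Ext.eq_zero_of_injective a).trans (Ext.eq_zero_of_injective b).symm⟩

/-- abstract diagram chase for step E -/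
lemma chase {A : Type*} [Category A] [Abelian A] [HasExt A] {S : ShortComplex A}
    (hS : S.ShortExact) (P : ChainComplex A ℕ) (q : ℕ)
    (hext : ∀ x : Ext (P.X (q + 1)) S.X₁ 1, x = 0)
    (h1 : ∀ a : P.X (q + 2) ⟶ S.X₁, P.d (q + 3) (q + 2) ≫ a = 0 →
      ∃ a' : P.X (q + 1) ⟶ S.X₁, P.d (q + 2) (q + 1) ≫ a' = a)
    (h2 : ∀ b : P.X (q + 1) ⟶ S.X₂, P.d (q + 2) (q + 1) ≫ b = 0 →
      ∃ b' : P.X q ⟶ S.X₂, P.d (q + 1) q ≫ b' = b)
    (c : P.X (q + 1) ⟶ S.X₃) (hc : P.d (q + 2) (q + 1) ≫ c = 0) :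
    ∃ χ : P.X q ⟶ S.X₃, P.d (q + 1) q ≫ χ = c := by
  have := hS.mono_f
  -- (1) lift c
  obtain ⟨b, hb⟩ : ∃ b : P.X (q + 1) ⟶ S.X₂, b ≫ S.g = c := by
    have hx : (Ext.mk₀ c).comp hS.extClass (zero_add 1) = 0 := hext _
    obtain ⟨x₂, hx₂⟩ := Ext.covariant_sequence_exact₃ _ hS (Ext.mk₀ c) (zero_add 1) hx
    obtain ⟨b, rfl⟩ := (Ext.mk₀_bijective _ _).2 x₂
    rw [Ext.mk₀_comp_mk₀] at hx₂
    exact ⟨b, (Ext.mk₀_bijective _ _).1 hx₂⟩
  -- (2)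
  have h3 : (P.d (q + 2) (q + 1) ≫ b) ≫ S.g = 0 := by rw [Category.assoc, hb, hc]
  obtain ⟨a, ha⟩ : ∃ a : P.X (q + 2) ⟶ S.X₁, a ≫ S.f = P.d (q + 2) (q + 1) ≫ b :=
    ⟨hS.exact.lift _ h3, hS.exact.lift_f _ h3⟩
  -- (3)
  have ha0 : P.d (q + 3) (q + 2) ≫ a = 0 := by
    rw [← cancel_mono S.f, Category.assoc, ha, ← Category.assoc, P.d_comp_d, zero_comp, zero_comp]
  -- (4)
  obtain ⟨a', ha'⟩ := h1 a ha0
  -- (5)
  have hb' : P.d (q + 2) (q + 1) ≫ (b - a' ≫ S.f) = 0 := by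
    rw [Preadditive.comp_sub, ← Category.assoc, ha', ha, sub_self]
  obtain ⟨b'', hb''⟩ := h2 _ hb'
  refine ⟨b'' ≫ S.g, ?_⟩
  rw [← Category.assoc, hb'', Preadditive.sub_comp, Category.assoc, S.zero, comp_zero, sub_zero, hb]

lemma cc_quot {S : ShortComplex (Sheaf J AddCommGrpCat.{u})} (hS : S.ShortExact) [Injective S.X₂]
    (h1 : CC S.X₁) : CC S.X₃ := by
  intro K' K f hf q c hc
  have := hf
  refine chase hS (Cx f) q ?_ ?_ ?_ c hc
  · intro x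
    have := ext1_zero S.X₁ h1 ((Arrow.mk f).cechNerve.obj (op ⦋q + 1⦌))
    exact Subsingleton.elim (α := Ext ((EpiKill.Lz J).obj ((Arrow.mk f).cechNerve.obj (op ⦋q + 1⦌))) S.X₁ 1) x 0
  · intro a ha
    exact h1 K' K f hf (q + 1) a ha
  · intro b hb
    exact cechLift_of_TA S.X₂ (inj_TA S.X₂) f q b hb

lemma vanish (p : ℕ) : ∀ (F : Sheaf J AddCommGrpCat.{u}), CC F →
    ∀ K : Sheaf J (Type u), Subsingleton (Ext ((EpiKill.Lz J).obj K) F (p + 1)) := by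
  induction p with
  | zero => exact fun F hF K => ext1_zero F hF K
  | succ p ih =>
    intro F hF K
    have hS := PushTA.sc_shortExact J F
    have hQ : CC (PushTA.sc J F).X₃ := cc_quot hS hF
    refine PushTA.ext_vanish_step hS ((EpiKill.Lz J).obj K) (p + 1) ?_
    intro x₃
    have h3 : x₃ = 0 := (ih _ hQ K).elim x₃ 0
    rw [h3, Ext.zero_comp]

theorem main12106 (F : Sheaf J AddCommGrpCat.{u})
    (h : ∀ (K' K : Sheaf J (Type u)) (f : K' ⟶ K), Epi f →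
      ∀ q : ℕ, IsZero ((CohCx.cechNerveCx F f).homology (q + 1))) :
    CohCx.IsTotallyAcyclic F := by
  have hF : CC F := fun K' K f hf => cechLift_of_isZero F f (h K' K f hf)
  intro K p
  exact vanish p F hF K

end Groth.Agent.Lib.helper10.CechTA
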