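import Mathlib
import Groth.Agent.Lib.helper10.CechTA
import Groth.Agent.Lib.helper10.CechMap
import Groth.Agent.Lib.helper10.PushTA

namespace Groth.Agent.Lib.helper10.CechPush
open CategoryTheory Limits Opposite Abelian
open scoped Simplicial
open Groth.Agent.Lib.helper10.CechRes Groth.Agent.Lib.helper10.CechAcyc Groth.Agent.Lib.helper10
open Groth.Agent.Lib.helper10.CechTA Groth.Agent.Lib.helper10.CechMap

universe u

section d
variable {C : Type u} [SmallCategory C] {J : GrothendieckTopology C}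
  {K' K : Sheaf J (Type u)} (f : K' ⟶ K)

lemma Cx_d_sum (n : ℕ) : (Cx f).d (n + 1) n =
    ∑ i : Fin (n + 2), ((-1 : ℤ) ^ (i : ℕ)) • (EpiKill.Lz J).map ((Arrow.mk f).cechNerve.δ i) := by
  have h : (Cx f).d (n + 1) n = AlgebraicTopology.AlternatingFaceMapComplex.objD (Y f).left n :=
    AlgebraicTopology.alternatingFaceMapComplex_obj_d _ _
  rw [h]
  rfl

end d

section transfer
variable {C D : Type u} [SmallCategory C] [SmallCategory D] {J : GrothendieckTopology C}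
  {K : GrothendieckTopology D}
  (Φ : Sheaf K (Type u) ⥤ Sheaf J (Type u)) [PreservesFiniteLimits Φ]
  (F₁ : Sheaf K AddCommGrpCat.{u}) (F₂ : Sheaf J AddCommGrpCat.{u})
  (β : ∀ T : Sheaf K (Type u), ((EpiKill.Lz K).obj T ⟶ F₁) ≃+ ((EpiKill.Lz J).obj (Φ.obj T) ⟶ F₂))
  (hβ : ∀ {T T' : Sheaf K (Type u)} (t : T ⟶ T') (φ : (EpiKill.Lz K).obj T' ⟶ F₁),
    β T ((EpiKill.Lz K).map t ≫ φ) = (EpiKill.Lz J).map (Φ.map t) ≫ β T' φ)

variable {T' T : Sheaf K (Type u)} (f : T' ⟶ T)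

/-- the image under `Φ` of the Čech differential -/
noncomputable def DΦ (n : ℕ) : (EpiKill.Lz J).obj (Φ.obj ((Arrow.mk f).cechNerve.obj (op ⦋n + 1⦌))) ⟶
    (EpiKill.Lz J).obj (Φ.obj ((Arrow.mk f).cechNerve.obj (op ⦋n⦌))) :=
  ∑ i : Fin (n + 2), ((-1 : ℤ) ^ (i : ℕ)) • (EpiKill.Lz J).map (Φ.map ((Arrow.mk f).cechNerve.δ i))

include hβ in
lemma β_sum {T₁ T₂ : Sheaf K (Type u)} {ι : Type} (s : Finset ι) (a : ι → ℤ) (t : ι → (T₁ ⟶ T₂))
    (χ : (EpiKill.Lz K).obj T₂ ⟶ F₁) :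
    β T₁ ((∑ i ∈ s, a i • (EpiKill.Lz K).map (t i)) ≫ χ) =
      (∑ i ∈ s, a i • (EpiKill.Lz J).map (Φ.map (t i))) ≫ β T₂ χ := by
  rw [Preadditive.sum_comp, Preadditive.sum_comp, map_sum]
  apply Finset.sum_congr rfl
  intro i _
  rw [Preadditive.zsmul_comp, Preadditive.zsmul_comp, map_zsmul, hβ]

include hβ in
lemma β_d (n : ℕ) (χ : (EpiKill.Lz K).obj ((Arrow.mk f).cechNerve.obj (op ⦋n⦌)) ⟶ F₁) :
    β ((Arrow.mk f).cechNerve.obj (op ⦋n + 1⦌)) ((Cx f).d (n + 1) n ≫ χ) = DΦ Φ f n ≫ β _ χ := by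
  have h := β_sum Φ F₁ F₂ β hβ Finset.univ (fun i : Fin (n + 2) => (-1 : ℤ) ^ (i : ℕ))
    (fun i => (Arrow.mk f).cechNerve.δ i) χ
  have h2 : (Cx f).d (n + 1) n ≫ χ =
      (∑ i : Fin (n + 2), ((-1 : ℤ) ^ (i : ℕ)) • (EpiKill.Lz K).map ((Arrow.mk f).cechNerve.δ i)) ≫ χ :=
    congrArg (fun z => z ≫ χ) (Cx_d_sum f n)
  exact (congrArg (β ((Arrow.mk f).cechNerve.obj (op ⦋n + 1⦌))) h2).trans h

lemma sum_θ {T₁ T₂ T₁' T₂' : Sheaf J (Type u)} {ι : Type} (s : Finset ι) (a : ι → ℤ)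
    (t : ι → (T₁ ⟶ T₂)) (t' : ι → (T₁' ⟶ T₂')) (θ₁ : T₁ ⟶ T₁') (θ₂ : T₂ ⟶ T₂')
    (h : ∀ i, t i ≫ θ₂ = θ₁ ≫ t' i) :
    (∑ i ∈ s, a i • (EpiKill.Lz J).map (t i)) ≫ (EpiKill.Lz J).map θ₂ =
      (EpiKill.Lz J).map θ₁ ≫ ∑ i ∈ s, a i • (EpiKill.Lz J).map (t' i) := by
  rw [Preadditive.sum_comp, Preadditive.comp_sum]
  apply Finset.sum_congr rfl
  intro i _
  rw [Preadditive.zsmul_comp, Preadditive.comp_zsmul, ← Functor.map_comp, ← Functor.map_comp, h]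

lemma D_θ (n : ℕ) : DΦ Φ f n ≫ (EpiKill.Lz J).map (θ Φ f n) =
    (EpiKill.Lz J).map (θ Φ f (n + 1)) ≫ (Cx (Φ.map f)).d (n + 1) n := by
  have h := sum_θ (J := J) Finset.univ (fun i : Fin (n + 2) => (-1 : ℤ) ^ (i : ℕ))
    (fun i => Φ.map ((Arrow.mk f).cechNerve.δ i)) (fun i => (Arrow.mk (Φ.map f)).cechNerve.δ i)
    (θ Φ f (n + 1)) (θ Φ f n) (fun i => (θ_δ Φ f n i).symm)
  have h2 : (EpiKill.Lz J).map (θ Φ f (n + 1)) ≫ (Cx (Φ.map f)).d (n + 1) n =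
      (EpiKill.Lz J).map (θ Φ f (n + 1)) ≫
        ∑ i : Fin (n + 2), ((-1 : ℤ) ^ (i : ℕ)) • (EpiKill.Lz J).map ((Arrow.mk (Φ.map f)).cechNerve.δ i) :=
    congrArg (fun z => (EpiKill.Lz J).map (θ Φ f (n + 1)) ≫ z) (Cx_d_sum (Φ.map f) n)
  exact h.trans h2.symm


lemma transfer_core {𝒜 : Type*} [Category 𝒜] [Preadditive 𝒜] {P₂ P₁ P₀ Q₂ Q₁ Q₀ F : 𝒜}
    (d₂ : P₂ ⟶ P₁) (d₁ : P₁ ⟶ P₀) (D₂ : Q₂ ⟶ Q₁) (D₁ : Q₁ ⟶ Q₀)
    (θ₂ : Q₂ ⟶ P₂) (θ₁ : Q₁ ⟶ P₁) (θ₀ : Q₀ ⟶ P₀) (ρ₂ : P₂ ⟶ Q₂) (ρ₁ : P₁ ⟶ Q₁)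
    (h₂ : ρ₂ ≫ θ₂ = 𝟙 _) (h₁ : θ₁ ≫ ρ₁ = 𝟙 _)
    (c₂ : D₂ ≫ θ₁ = θ₂ ≫ d₂) (c₁ : D₁ ≫ θ₀ = θ₁ ≫ d₁)
    (hl : ∀ ψ : P₁ ⟶ F, d₂ ≫ ψ = 0 → ∃ χ : P₀ ⟶ F, d₁ ≫ χ = ψ)
    (b : Q₁ ⟶ F) (hb : D₂ ≫ b = 0) : ∃ c : Q₀ ⟶ F, D₁ ≫ c = b := by
  have h3 : d₂ ≫ ρ₁ = ρ₂ ≫ D₂ := by
    have : ρ₂ ≫ (D₂ ≫ θ₁) ≫ ρ₁ = ρ₂ ≫ (θ₂ ≫ d₂) ≫ ρ₁ := by rw [c₂]
    simp only [Category.assoc] at this
    rw [h₁, Category.comp_id, ← Category.assoc ρ₂ θ₂, h₂, Category.id_comp] at this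
    exact this.symm
  have h4 : d₂ ≫ (ρ₁ ≫ b) = 0 := by
    rw [← Category.assoc, h3, Category.assoc, hb, comp_zero]
  obtain ⟨χ, hχ⟩ := hl _ h4
  refine ⟨θ₀ ≫ χ, ?_⟩
  rw [← Category.assoc, c₁, Category.assoc, hχ, ← Category.assoc, h₁, Category.id_comp]

include hβ in
theorem cc_transfer [Φ.PreservesEpimorphisms] (h : CC F₂) : CC F₁ := by
  intro T' T f hf q φ hφ
  have hepi : Epi (Φ.map f) := inferInstance
  obtain ⟨φ₀, hφ₀⟩ : ∃ φ₀ : (EpiKill.Lz K).obj ((Arrow.mk f).cechNerve.obj (op ⦋q + 1⦌)) ⟶ F₁,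
      φ₀ = φ := ⟨φ, rfl⟩
  have hφ' : (Cx f).d (q + 2) (q + 1) ≫ φ₀ = 0 := by rw [hφ₀]; exact hφ
  have hb : DΦ Φ f (q + 1) ≫ β _ φ₀ = 0 :=
    (β_d Φ F₁ F₂ β hβ f (q + 1) φ₀).symm.trans ((congrArg (β _) hφ').trans (map_zero _))
  have e₂ : (EpiKill.Lz J).map (ρ Φ f (q + 2)) ≫ (EpiKill.Lz J).map (θ Φ f (q + 2)) =
      𝟙 ((EpiKill.Lz J).obj ((Arrow.mk (Φ.map f)).cechNerve.obj (op ⦋q + 2⦌))) := by
    rw [← CategoryTheory.Functor.map_comp, ρ_θ, CategoryTheory.Functor.map_id]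
  have e₁ : (EpiKill.Lz J).map (θ Φ f (q + 1)) ≫ (EpiKill.Lz J).map (ρ Φ f (q + 1)) =
      𝟙 ((EpiKill.Lz J).obj (Φ.obj ((Arrow.mk f).cechNerve.obj (op ⦋q + 1⦌)))) := by
    rw [← CategoryTheory.Functor.map_comp, θ_ρ, CategoryTheory.Functor.map_id]
  obtain ⟨c, hc⟩ := transfer_core ((Cx (Φ.map f)).d (q + 2) (q + 1)) ((Cx (Φ.map f)).d (q + 1) q)
    (DΦ Φ f (q + 1)) (DΦ Φ f q)
    ((EpiKill.Lz J).map (θ Φ f (q + 2))) ((EpiKill.Lz J).map (θ Φ f (q + 1)))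
    ((EpiKill.Lz J).map (θ Φ f q)) ((EpiKill.Lz J).map (ρ Φ f (q + 2)))
    ((EpiKill.Lz J).map (ρ Φ f (q + 1))) e₂ e₁
    (D_θ Φ f (q + 1)) (D_θ Φ f q)
    (fun ψ hψ => h _ _ (Φ.map f) hepi q ψ hψ) (β _ φ₀) hb
  refine ⟨(β ((Arrow.mk f).cechNerve.obj (op ⦋q⦌))).symm c, ?_⟩
  rw [← hφ₀]
  apply (β ((Arrow.mk f).cechNerve.obj (op ⦋q + 1⦌))).injective
  exact (β_d Φ F₁ F₂ β hβ f q _).trans
    ((congrArg (fun z => DΦ Φ f q ≫ z) (AddEquiv.apply_symm_apply _ c)).trans hc)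

end transfer


section push
variable {C D : Type u} [SmallCategory C] [SmallCategory D]
  (J : GrothendieckTopology C) (K : GrothendieckTopology D) (u : D ⥤ C) [u.IsContinuous K J]

instance : (CohSite.push J K u).Additive := ⟨fun {_ _ _ _} => rfl⟩

instance : (PushTA.pb J K u).Additive := (PushTA.adjAb J K u).left_adjoint_additive

/-- precomposition with an isomorphism, additively -/
def precompIso {𝒜 : Type*} [Category 𝒜] [Preadditive 𝒜] {X Y : 𝒜} (e : X ≅ Y) (F : 𝒜) :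
    (X ⟶ F) ≃+ (Y ⟶ F) :=
  { toFun := fun a => e.inv ≫ a
    invFun := fun b => e.hom ≫ b
    left_inv := fun a => by simp
    right_inv := fun b => by simp
    map_add' := fun a a' => Preadditive.comp_add _ _ _ _ _ _ }

/-- `Hom(ℤ[T], u_* F) ≃+ Hom(ℤ[u^{-1} T], F)` -/
noncomputable def βp (F : Sheaf J AddCommGrpCat.{u}) (T : Sheaf K (Type u)) :
    ((EpiKill.Lz K).obj T ⟶ (CohSite.push J K u).obj F) ≃+
      ((EpiKill.Lz J).obj ((PushTA.pbS J K u).obj T) ⟶ F) :=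
  ((PushTA.adjAb J K u).homAddEquiv ((EpiKill.Lz K).obj T) F).symm.trans
    (precompIso ((PushTA.freeIso J K u).app T) F)

lemma βp_nat (F : Sheaf J AddCommGrpCat.{u}) {T T' : Sheaf K (Type u)} (t : T ⟶ T')
    (φ : (EpiKill.Lz K).obj T' ⟶ (CohSite.push J K u).obj F) :
    βp J K u F T ((EpiKill.Lz K).map t ≫ φ) =
      (EpiKill.Lz J).map ((PushTA.pbS J K u).map t) ≫ βp J K u F T' φ := by
  change (PushTA.freeIso J K u).inv.app T ≫
      ((PushTA.adjAb J K u).homEquiv ((EpiKill.Lz K).obj T) F).symm ((EpiKill.Lz K).map t ≫ φ) =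
    (EpiKill.Lz J).map ((PushTA.pbS J K u).map t) ≫ (PushTA.freeIso J K u).inv.app T' ≫
      ((PushTA.adjAb J K u).homEquiv ((EpiKill.Lz K).obj T') F).symm φ
  rw [Adjunction.homEquiv_naturality_left_symm, ← Category.assoc, ← Category.assoc]
  congr 1
  exact ((PushTA.freeIso J K u).inv.naturality t).symm

variable [PreservesFiniteLimits (u.sheafPullback (Type u) K J)]

theorem cc_push (F : Sheaf J AddCommGrpCat.{u}) (hF : CC F) : CC ((CohSite.push J K u).obj F) := by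
  have : (PushTA.pbS J K u).PreservesEpimorphisms :=
    Functor.preservesEpimorphisms_of_adjunction (PushTA.adjS J K u)
  exact cc_transfer (PushTA.pbS J K u) _ F (βp J K u F) (fun t φ => βp_nat J K u F t φ) hF


/-- pushforward of a totally acyclic sheaf is totally acyclic, only assuming exactness of the
pullback on sheaves of sets -/
theorem ta_push (F : Sheaf J AddCommGrpCat.{u}) (hF : CohCx.IsTotallyAcyclic F) :
    CohCx.IsTotallyAcyclic ((CohSite.push J K u).obj F) := by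
  have h1 : CC F := fun K' K f hf => by
    have := hf
    exact cechLift_of_TA F hF f
  have h2 := cc_push J K u F h1
  intro T p
  exact vanish p _ h2 T

/-- `H^q(U, F) = 0` for all objects `U` and `q > 0` -/
def Limp (F : Sheaf J AddCommGrpCat.{u}) : Prop :=
  ∀ (U : C) (q : ℕ), Subsingleton (Ext (CohCx.freeSheaf J U) F (q + 1))

omit [PreservesFiniteLimits (u.sheafPullback (Type u) K J)] in
variable {J} in
lemma limp_quot {S : ShortComplex (Sheaf J AddCommGrpCat.{u})} (hS : S.ShortExact)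
    (h1 : Limp J S.X₁) [Injective S.X₂] : Limp J S.X₃ := by
  intro U p
  refine ⟨fun a b => ?_⟩
  have h0 : ∀ x : Ext (CohCx.freeSheaf J U) S.X₃ (p + 1), x = 0 := by
    intro x
    have hx : x.comp hS.extClass (rfl : p + 1 + 1 = p + 2) = 0 := (h1 U (p + 1)).elim _ _
    obtain ⟨x₂, hx₂⟩ := Ext.covariant_sequence_exact₃ _ hS x rfl hx
    rw [← hx₂, Ext.eq_zero_of_injective x₂, Ext.zero_comp]
  rw [h0 a, h0 b]

omit [PreservesFiniteLimits (u.sheafPullback (Type u) K J)] in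
variable {J} in
lemma push_shortExact' {S : ShortComplex (Sheaf J AddCommGrpCat.{u})} (hS : S.ShortExact)
    (h1 : Limp J S.X₁) : (S.map (CohSite.push J K u)).ShortExact := by
  have : PreservesLimitsOfSize.{0, 0} (CohSite.push J K u) :=
    (PushTA.adjAb J K u).rightAdjoint_preservesLimits
  have hm := hS.mono_f
  have he : Epi ((CohSite.push J K u).map S.g) := by
    have : Sheaf.IsLocallySurjective ((CohSite.push J K u).map S.g) := by
      apply Presheaf.isLocallySurjective_of_surjective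
      intro V
      exact PushTA.sect_surj hS (u.obj V.unop) (h1 _ 0)
    infer_instance
  have hex : (S.map (CohSite.push J K u)).Exact :=
    hS.exact.map_of_mono_of_preservesKernel _ hm inferInstance
  have : Mono (S.map (CohSite.push J K u)).f := by
    change Mono ((CohSite.push J K u).map S.f)
    infer_instance
  have : Epi (S.map (CohSite.push J K u)).g := he
  exact ShortComplex.ShortExact.mk hex

lemma ext_vanish_step' {A : Type*} [Category A] [Abelian A] [HasExt A] {S' : ShortComplex A}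
    (hS' : S'.ShortExact) (Z : A) (n : ℕ) (h0 : ∀ x : Ext Z S'.X₂ (n + 1), x = 0)
    (h : ∀ x₃ : Ext Z S'.X₃ n, x₃.comp hS'.extClass (rfl : n + 1 = n + 1) = 0) :
    Subsingleton (Ext Z S'.X₁ (n + 1)) := by
  have h0' : ∀ x : Ext Z S'.X₁ (n + 1), x = 0 := by
    intro x
    have hx : x.comp (Ext.mk₀ S'.f) (add_zero _) = 0 := h0 _
    obtain ⟨x₃, hx₃⟩ := Ext.covariant_sequence_exact₁ Z hS' x hx (rfl : n + 1 = n + 1)
    rw [← hx₃, h x₃]
  exact ⟨fun a b => (h0' a).trans (h0' b).symm⟩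

variable {J} in
lemma lift_push' {S : ShortComplex (Sheaf J AddCommGrpCat.{u})} (hS : S.ShortExact)
    (hF : Limp J S.X₁) (V : D)
    (φ : CohCx.freeSheaf K V ⟶ (CohSite.push J K u).obj S.X₃) :
    ∃ ψ : CohCx.freeSheaf K V ⟶ (CohSite.push J K u).obj S.X₂,
      ψ ≫ (CohSite.push J K u).map S.g = φ := by
  obtain ⟨s, hs⟩ := PushTA.sect_surj hS (u.obj V) (hF _ 0)
    (CohFree.evalGen K V ((CohSite.push J K u).obj S.X₃) φ)
  refine ⟨CohFree.ofSect K V ((CohSite.push J K u).obj S.X₂) s, ?_⟩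
  rw [← CohFree.ofSect_evalGen K V _ φ, ← CohFree.ofSect_evalGen K V _
    (CohFree.ofSect K V ((CohSite.push J K u).obj S.X₂) s ≫ (CohSite.push J K u).map S.g)]
  congr 1
  have h3 : CohFree.evalGen K V ((CohSite.push J K u).obj S.X₃)
      (CohFree.ofSect K V ((CohSite.push J K u).obj S.X₂) s ≫ (CohSite.push J K u).map S.g) =
      (((CohSite.push J K u).map S.g).hom.app (op V)).hom
        (CohFree.evalGen K V ((CohSite.push J K u).obj S.X₂)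
          (CohFree.ofSect K V ((CohSite.push J K u).obj S.X₂) s)) := rfl
  refine h3.trans ?_
  refine (congrArg (fun z => (((CohSite.push J K u).map S.g).hom.app (op V)).hom z)
    (CohFree.evalGen_ofSect K V ((CohSite.push J K u).obj S.X₂) s)).trans ?_
  exact hs

theorem vanish_limp (p : ℕ) : ∀ (F : Sheaf J AddCommGrpCat.{u}), Limp J F →
    ∀ V : D, Subsingleton (Ext (CohCx.freeSheaf K V) ((CohSite.push J K u).obj F) (p + 1)) := by
  induction p with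
  | zero =>
    intro F hF V
    have hS := PushTA.sc_shortExact J F
    have hS' := push_shortExact' K u hS hF
    have hTA : CohCx.IsTotallyAcyclic ((CohSite.push J K u).obj (PushTA.sc J F).X₂) :=
      ta_push J K u _ (inj_TA _)
    refine ext_vanish_step' hS' (CohCx.freeSheaf K V) 0
      (fun x => (Groth.Agent.S0864.result _ hTA V 0).elim x 0) ?_
    intro x₃
    obtain ⟨φ, rfl⟩ := (Ext.mk₀_bijective _ _).2 x₃
    obtain ⟨ψ, hψ⟩ := lift_push' K u hS hF V φ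
    exact PushTA.comp_extClass_eq_zero_of_lift hS' (CohCx.freeSheaf K V) φ ψ hψ
  | succ p ih =>
    intro F hF V
    have hS := PushTA.sc_shortExact J F
    have hS' := push_shortExact' K u hS hF
    have hTA : CohCx.IsTotallyAcyclic ((CohSite.push J K u).obj (PushTA.sc J F).X₂) :=
      ta_push J K u _ (inj_TA _)
    have hQ : Limp J (PushTA.sc J F).X₃ := limp_quot hS hF
    refine ext_vanish_step' hS' (CohCx.freeSheaf K V) (p + 1)
      (fun x => (Groth.Agent.S0864.result _ hTA V (p + 1)).elim x 0) ?_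
    intro x₃
    have h3 : x₃ = 0 := (ih _ hQ V).elim x₃ 0
    rw [h3, Ext.zero_comp]

end push

end Groth.Agent.Lib.helper10.CechPush
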