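import Mathlib
import Groth.Agent.Lib.helper10.CechPush
import Groth.Agent.Lib.helper10.CechMap2

namespace Groth.Agent.Lib.helper10.CechPush2
open CategoryTheory Limits Opposite Abelian
open scoped Simplicial
open Groth.Agent.Lib.helper10.CechRes Groth.Agent.Lib.helper10.CechAcyc Groth.Agent.Lib.helper10
open Groth.Agent.Lib.helper10.CechTA Groth.Agent.Lib.helper10.CechMap
open Groth.Agent.Lib.helper10.CechPush (Cx_d_sum)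

universe u

section transfer
variable {C D : Type u} [SmallCategory C] [SmallCategory D] {J : GrothendieckTopology C}
  {K : GrothendieckTopology D}
  (Φ : Sheaf K (Type u) ⥤ Sheaf J (Type u))
  (hθ : ∀ {T' T : Sheaf K (Type u)} (f : T' ⟶ T) (n : ℕ), IsIso (θ Φ f n))
  (F₁ : Sheaf K AddCommGrpCat.{u}) (F₂ : Sheaf J AddCommGrpCat.{u})
  (β : ∀ T : Sheaf K (Type u), ((EpiKill.Lz K).obj T ⟶ F₁) ≃+ ((EpiKill.Lz J).obj (Φ.obj T) ⟶ F₂))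
  (hβ : ∀ {T T' : Sheaf K (Type u)} (t : T ⟶ T') (φ : (EpiKill.Lz K).obj T' ⟶ F₁),
    β T ((EpiKill.Lz K).map t ≫ φ) = (EpiKill.Lz J).map (Φ.map t) ≫ β T' φ)

variable {T' T : Sheaf K (Type u)} (f : T' ⟶ T)

/-- the image under `Φ` of the Čech differential -/
noncomputable def DΦ (n : ℕ) : (EpiKill.Lz J).obj (Φ.obj ((Arrow.mk f).cechNerve.obj (op ⦋n + 1⦌))) ⟶
    (EpiKill.Lz J).obj (Φ.obj ((Arrow.mk f).cechNerve.obj (op ⦋n⦌))) :=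
  ∑ i : Fin (n + 2), ((-1 : ℤ) ^ (i : ℕ)) • (EpiKill.Lz J).map (Φ.map ((Arrow.mk f).cechNerve.δ i))

include hβ in
lemma β_sum {T₁ T₂ : Sheaf K (Type u)} {ι : Type} (s : Finset ι) (a : ι → ℤ) (t : ι → (T₁ ⟶ T₂))
    (χ : (EpiKill.Lz K).obj T₂ ⟶ F₁) :
    β T₁ ((∑ i ∈ s, a i • (EpiKill.Lz K).map (t i)) ≫ χ) =
      (∑ i ∈ s, a i • (EpiKill.Lz J).map (Φ.map (t i))) ≫ β T₂ χ := by
  rw [Preadditive.sum_comp, Preadditive.sum_comp, map_sum]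
  apply Finset.sum_congr rfl
  intro i _
  rw [Preadditive.zsmul_comp, Preadditive.zsmul_comp, map_zsmul, hβ]

include hβ in
lemma β_d (n : ℕ) (χ : (EpiKill.Lz K).obj ((Arrow.mk f).cechNerve.obj (op ⦋n⦌)) ⟶ F₁) :
    β ((Arrow.mk f).cechNerve.obj (op ⦋n + 1⦌)) ((Cx f).d (n + 1) n ≫ χ) = DΦ Φ f n ≫ β _ χ := by
  have h := β_sum Φ F₁ F₂ β hβ Finset.univ (fun i : Fin (n + 2) => (-1 : ℤ) ^ (i : ℕ))
    (fun i => (Arrow.mk f).cechNerve.δ i) χ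
  have h2 : (Cx f).d (n + 1) n ≫ χ =
      (∑ i : Fin (n + 2), ((-1 : ℤ) ^ (i : ℕ)) • (EpiKill.Lz K).map ((Arrow.mk f).cechNerve.δ i)) ≫ χ :=
    congrArg (fun z => z ≫ χ) (Cx_d_sum f n)
  exact (congrArg (β ((Arrow.mk f).cechNerve.obj (op ⦋n + 1⦌))) h2).trans h

lemma sum_θ {T₁ T₂ T₁' T₂' : Sheaf J (Type u)} {ι : Type} (s : Finset ι) (a : ι → ℤ)
    (t : ι → (T₁ ⟶ T₂)) (t' : ι → (T₁' ⟶ T₂')) (θ₁ : T₁ ⟶ T₁') (θ₂ : T₂ ⟶ T₂')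
    (h : ∀ i, t i ≫ θ₂ = θ₁ ≫ t' i) :
    (∑ i ∈ s, a i • (EpiKill.Lz J).map (t i)) ≫ (EpiKill.Lz J).map θ₂ =
      (EpiKill.Lz J).map θ₁ ≫ ∑ i ∈ s, a i • (EpiKill.Lz J).map (t' i) := by
  rw [Preadditive.sum_comp, Preadditive.comp_sum]
  apply Finset.sum_congr rfl
  intro i _
  rw [Preadditive.zsmul_comp, Preadditive.comp_zsmul, ← Functor.map_comp, ← Functor.map_comp, h]

lemma D_θ (n : ℕ) : DΦ Φ f n ≫ (EpiKill.Lz J).map (θ Φ f n) =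
    (EpiKill.Lz J).map (θ Φ f (n + 1)) ≫ (Cx (Φ.map f)).d (n + 1) n := by
  have h := sum_θ (J := J) Finset.univ (fun i : Fin (n + 2) => (-1 : ℤ) ^ (i : ℕ))
    (fun i => Φ.map ((Arrow.mk f).cechNerve.δ i)) (fun i => (Arrow.mk (Φ.map f)).cechNerve.δ i)
    (θ Φ f (n + 1)) (θ Φ f n) (fun i => (θ_δ Φ f n i).symm)
  have h2 : (EpiKill.Lz J).map (θ Φ f (n + 1)) ≫ (Cx (Φ.map f)).d (n + 1) n =
      (EpiKill.Lz J).map (θ Φ f (n + 1)) ≫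
        ∑ i : Fin (n + 2), ((-1 : ℤ) ^ (i : ℕ)) • (EpiKill.Lz J).map ((Arrow.mk (Φ.map f)).cechNerve.δ i) :=
    congrArg (fun z => (EpiKill.Lz J).map (θ Φ f (n + 1)) ≫ z) (Cx_d_sum (Φ.map f) n)
  exact h.trans h2.symm


lemma transfer_core {𝒜 : Type*} [Category 𝒜] [Preadditive 𝒜] {P₂ P₁ P₀ Q₂ Q₁ Q₀ F : 𝒜}
    (d₂ : P₂ ⟶ P₁) (d₁ : P₁ ⟶ P₀) (D₂ : Q₂ ⟶ Q₁) (D₁ : Q₁ ⟶ Q₀)
    (θ₂ : Q₂ ⟶ P₂) (θ₁ : Q₁ ⟶ P₁) (θ₀ : Q₀ ⟶ P₀) (ρ₂ : P₂ ⟶ Q₂) (ρ₁ : P₁ ⟶ Q₁)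
    (h₂ : ρ₂ ≫ θ₂ = 𝟙 _) (h₁ : θ₁ ≫ ρ₁ = 𝟙 _)
    (c₂ : D₂ ≫ θ₁ = θ₂ ≫ d₂) (c₁ : D₁ ≫ θ₀ = θ₁ ≫ d₁)
    (hl : ∀ ψ : P₁ ⟶ F, d₂ ≫ ψ = 0 → ∃ χ : P₀ ⟶ F, d₁ ≫ χ = ψ)
    (b : Q₁ ⟶ F) (hb : D₂ ≫ b = 0) : ∃ c : Q₀ ⟶ F, D₁ ≫ c = b := by
  have h3 : d₂ ≫ ρ₁ = ρ₂ ≫ D₂ := by
    have : ρ₂ ≫ (D₂ ≫ θ₁) ≫ ρ₁ = ρ₂ ≫ (θ₂ ≫ d₂) ≫ ρ₁ := by rw [c₂]
    simp only [Category.assoc] at this
    rw [h₁, Category.comp_id, ← Category.assoc ρ₂ θ₂, h₂, Category.id_comp] at this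
    exact this.symm
  have h4 : d₂ ≫ (ρ₁ ≫ b) = 0 := by
    rw [← Category.assoc, h3, Category.assoc, hb, comp_zero]
  obtain ⟨χ, hχ⟩ := hl _ h4
  refine ⟨θ₀ ≫ χ, ?_⟩
  rw [← Category.assoc, c₁, Category.assoc, hχ, ← Category.assoc, h₁, Category.id_comp]

include hβ hθ in
theorem cc_transfer [Φ.PreservesEpimorphisms] (h : CC F₂) : CC F₁ := by
  intro T' T f hf q φ hφ
  have hepi : Epi (Φ.map f) := inferInstance
  obtain ⟨φ₀, hφ₀⟩ : ∃ φ₀ : (EpiKill.Lz K).obj ((Arrow.mk f).cechNerve.obj (op ⦋q + 1⦌)) ⟶ F₁,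
      φ₀ = φ := ⟨φ, rfl⟩
  have hφ' : (Cx f).d (q + 2) (q + 1) ≫ φ₀ = 0 := by rw [hφ₀]; exact hφ
  have hb : DΦ Φ f (q + 1) ≫ β _ φ₀ = 0 :=
    (β_d Φ F₁ F₂ β hβ f (q + 1) φ₀).symm.trans ((congrArg (β _) hφ').trans (map_zero _))
  have i2 := hθ f (q + 2)
  have i1 := hθ f (q + 1)
  let ρ₂ := inv (θ Φ f (q + 2))
  let ρ₁ := inv (θ Φ f (q + 1))
  have e₂ : (EpiKill.Lz J).map (inv (θ Φ f (q + 2))) ≫ (EpiKill.Lz J).map (θ Φ f (q + 2)) =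
      𝟙 ((EpiKill.Lz J).obj ((Arrow.mk (Φ.map f)).cechNerve.obj (op ⦋q + 2⦌))) := by
    rw [← CategoryTheory.Functor.map_comp, IsIso.inv_hom_id, CategoryTheory.Functor.map_id]
  have e₁ : (EpiKill.Lz J).map (θ Φ f (q + 1)) ≫ (EpiKill.Lz J).map (inv (θ Φ f (q + 1))) =
      𝟙 ((EpiKill.Lz J).obj (Φ.obj ((Arrow.mk f).cechNerve.obj (op ⦋q + 1⦌)))) := by
    rw [← CategoryTheory.Functor.map_comp, IsIso.hom_inv_id, CategoryTheory.Functor.map_id]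
  obtain ⟨c, hc⟩ := transfer_core ((Cx (Φ.map f)).d (q + 2) (q + 1)) ((Cx (Φ.map f)).d (q + 1) q)
    (DΦ Φ f (q + 1)) (DΦ Φ f q)
    ((EpiKill.Lz J).map (θ Φ f (q + 2))) ((EpiKill.Lz J).map (θ Φ f (q + 1)))
    ((EpiKill.Lz J).map (θ Φ f q)) ((EpiKill.Lz J).map ρ₂)
    ((EpiKill.Lz J).map ρ₁) e₂ e₁
    (D_θ Φ f (q + 1)) (D_θ Φ f q)
    (fun ψ hψ => h _ _ (Φ.map f) hepi q ψ hψ) (β _ φ₀) hb
  refine ⟨(β ((Arrow.mk f).cechNerve.obj (op ⦋q⦌))).symm c, ?_⟩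
  rw [← hφ₀]
  apply (β ((Arrow.mk f).cechNerve.obj (op ⦋q + 1⦌))).injective
  exact (β_d Φ F₁ F₂ β hβ f q _).trans
    ((congrArg (fun z => DΦ Φ f q ≫ z) (AddEquiv.apply_symm_apply _ c)).trans hc)

end transfer

section push
variable {C D : Type u} [SmallCategory C] [SmallCategory D]
  (J : GrothendieckTopology C) (K : GrothendieckTopology D) (u : D ⥤ C) [u.IsContinuous K J]
  [PreservesLimitsOfShape WalkingCospan (u.sheafPullback (Type u) K J)]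

open Groth.Agent.Lib.helper10.CechPush in
theorem cc_push' (F : Sheaf J AddCommGrpCat.{u}) (hF : CC F) : CC ((CohSite.push J K u).obj F) := by
  have : (PushTA.pbS J K u).PreservesEpimorphisms :=
    Functor.preservesEpimorphisms_of_adjunction (PushTA.adjS J K u)
  have hp : PreservesLimitsOfShape WalkingCospan (PushTA.pbS J K u) :=
    inferInstanceAs (PreservesLimitsOfShape WalkingCospan (u.sheafPullback (Type u) K J))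
  exact cc_transfer (PushTA.pbS J K u)
    (fun f n => Groth.Agent.Lib.helper10.CechMap2.isIso_θ f (PushTA.pbS J K u) n)
    _ F (βp J K u F) (fun t φ => βp_nat J K u F t φ) hF

open Groth.Agent.Lib.helper10.CechPush in
/-- pushforward of a totally acyclic sheaf is totally acyclic, only assuming that the
pullback on sheaves of sets preserves fibre products -/
theorem ta_push' (F : Sheaf J AddCommGrpCat.{u}) (hF : CohCx.IsTotallyAcyclic F) :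
    CohCx.IsTotallyAcyclic ((CohSite.push J K u).obj F) := by
  have h1 : CC F := fun K' K f hf => by
    have := hf
    exact cechLift_of_TA F hF f
  have h2 := cc_push' J K u F h1
  intro T p
  exact vanish p _ h2 T

end push

end Groth.Agent.Lib.helper10.CechPush2
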