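import Mathlib

set_option autoImplicit false
universe u
open CategoryTheory CategoryTheory.Limits Opposite

namespace Groth.Agent.Lib.helper10.ConstSh

variable {C : Type u} [SmallCategory C] (J : GrothendieckTopology C)

/-- constant sheaf commutes with forget -/
noncomputable abbrev κ : constantSheaf J AddCommGrpCat.{u} ⋙ sheafCompose J (forget AddCommGrpCat.{u}) ≅
    forget AddCommGrpCat.{u} ⋙ constantSheaf J (Type u) :=
  constantCommuteCompose J (forget AddCommGrpCat.{u})

/-- set-theoretic section at sheaf level -/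
noncomputable def σ {B C' : AddCommGrpCat.{u}}
    (s : (forget AddCommGrpCat.{u}).obj C' ⟶ (forget AddCommGrpCat.{u}).obj B) :
    (sheafCompose J (forget AddCommGrpCat.{u})).obj ((constantSheaf J AddCommGrpCat.{u}).obj C') ⟶
      (sheafCompose J (forget AddCommGrpCat.{u})).obj ((constantSheaf J AddCommGrpCat.{u}).obj B) :=
  (κ J).hom.app C' ≫ (constantSheaf J (Type u)).map s ≫ (κ J).inv.app B

lemma σ_comp {B C' : AddCommGrpCat.{u}} (π : B ⟶ C')
    (s : (forget AddCommGrpCat.{u}).obj C' ⟶ (forget AddCommGrpCat.{u}).obj B)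
    (hs : s ≫ (forget AddCommGrpCat.{u}).map π = 𝟙 _) :
    σ J s ≫ (sheafCompose J (forget AddCommGrpCat.{u})).map ((constantSheaf J AddCommGrpCat.{u}).map π) =
      𝟙 _ := by
  have nat := (κ J).inv.naturality π
  simp only [Functor.comp_map] at nat
  rw [σ, Category.assoc, Category.assoc, ← nat, ← Category.assoc ((constantSheaf J (Type u)).map s),
    ← Functor.map_comp, hs, CategoryTheory.Functor.map_id, Category.id_comp, Iso.hom_inv_id_app]
  rfl

lemma surjective_sections {B C' : AddCommGrpCat.{u}} (π : B ⟶ C') (hπ : Function.Surjective π.hom) (U : C) :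
    Function.Surjective (((constantSheaf J AddCommGrpCat.{u}).map π).hom.app (op U)).hom := by
  obtain ⟨s, hs⟩ := hπ.hasRightInverse
  intro x
  have h := σ_comp J π (TypeCat.ofHom s) (by ext y; exact hs y)
  refine ⟨(σ J (TypeCat.ofHom s)).hom.app (op U) x, ?_⟩
  have h2 := congrArg (fun φ => φ.hom.app (op U) x) h
  exact h2

end Groth.Agent.Lib.helper10.ConstSh
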