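import Mathlib
import Groth.Agent.Lib.helper10.ConstSh

set_option autoImplicit false
universe u
open CategoryTheory CategoryTheory.Limits Opposite CategoryTheory.Abelian

namespace Groth.Agent.Lib.helper10.ConstH1

open Groth.Agent.Lib.helper10

variable {C : Type u} [SmallCategory C] (J : GrothendieckTopology C)

/-- `ℤ` in universe `u` -/
abbrev Z : AddCommGrpCat.{u} := AddCommGrpCat.of (ULift.{u} ℤ)

lemma Z_hom_ext {M : AddCommGrpCat.{u}} (f g : Z.{u} ⟶ M) (h : f.hom ⟨1⟩ = g.hom ⟨1⟩) : f = g := by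
  ext ⟨n⟩
  have key : ∀ φ : ULift.{u} ℤ →+ M, φ ⟨n⟩ = n • φ ⟨1⟩ := by
    intro φ
    have := map_zsmul φ n ⟨1⟩
    rw [← this]
    congr 1
    ext
    simp
  exact (key f.hom).trans ((congrArg (fun m => n • m) h).trans (key g.hom).symm)

/-- the morphism `ℤ ⟶ M` sending `1` to `m` -/
noncomputable def mkZ {M : AddCommGrpCat.{u}} (m : M) : Z.{u} ⟶ M :=
  AddCommGrpCat.ofHom ((zmultiplesHom M m).comp AddEquiv.ulift.toAddMonoidHom)

lemma mkZ_one {M : AddCommGrpCat.{u}} (m : M) : (mkZ m).hom ⟨1⟩ = m := by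
  change (1 : ℤ) • m = m
  exact one_zsmul m

/-- the constant sheaf `ℤ` -/
noncomputable abbrev Zsh : Sheaf J AddCommGrpCat.{u} :=
  (presheafToSheaf J AddCommGrpCat.{u}).obj ((Functor.const Cᵒᵖ).obj Z.{u})

noncomputable abbrev adj := sheafificationAdjunction J AddCommGrpCat.{u}

/-- lifting of maps out of the constant sheaf `ℤ` along a map with a set-theoretic sheaf section -/
lemma exists_lift {G G' : Sheaf J AddCommGrpCat.{u}} (ρ : G ⟶ G')
    (τ : (sheafCompose J (forget AddCommGrpCat.{u})).obj G' ⟶ (sheafCompose J (forget AddCommGrpCat.{u})).obj G)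
    (hτ : τ ≫ (sheafCompose J (forget AddCommGrpCat.{u})).map ρ = 𝟙 _)
    (q : Zsh J ⟶ G') : ∃ q' : Zsh J ⟶ G, q' ≫ ρ = q := by
  let φ : (Functor.const Cᵒᵖ).obj Z.{u} ⟶ G'.obj := (adj J).homEquiv _ _ q
  let τ' : ∀ U : Cᵒᵖ, ((G'.obj.obj U : AddCommGrpCat.{u}) : Type u) → ((G.obj.obj U : AddCommGrpCat.{u}) : Type u) :=
    fun U x => τ.hom.app U x
  have hφ : ∀ {U V : Cᵒᵖ} (f : U ⟶ V), (G'.obj.map f).hom ((φ.app U).hom ⟨1⟩) = (φ.app V).hom ⟨1⟩ := by
    intro U V f
    have := ConcreteCategory.congr_hom (φ.naturality f) (⟨1⟩ : ULift.{u} ℤ)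
    exact this.symm
  have hτn : ∀ {U V : Cᵒᵖ} (f : U ⟶ V) (x : G'.obj.obj U),
      (G.obj.map f).hom (τ' U x) = τ' V ((G'.obj.map f).hom x) := by
    intro U V f x
    have := ConcreteCategory.congr_hom (τ.hom.naturality f) x
    exact this.symm
  have hτρ : ∀ (U : Cᵒᵖ) (x : G'.obj.obj U), (ρ.hom.app U).hom (τ' U x) = x := by
    intro U x
    have := congrArg (fun κ => κ.hom.app U x) hτ
    exact this
  let ψ : (Functor.const Cᵒᵖ).obj Z.{u} ⟶ G.obj :=
    { app := fun U => mkZ (τ' U ((φ.app U).hom ⟨1⟩))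
      naturality := by
        intro U V f
        apply Z_hom_ext
        exact (mkZ_one _).trans (((congrArg (fun m => (G.obj.map f).hom m) (mkZ_one _)).trans
          ((hτn f _).trans (congrArg (τ' V) (hφ f)))).symm) }
  refine ⟨((adj J).homEquiv _ _).symm ψ, ?_⟩
  apply ((adj J).homEquiv _ _).injective
  refine ((adj J).homEquiv_naturality_right (((adj J).homEquiv _ _).symm ψ) ρ).trans ?_
  rw [Equiv.apply_symm_apply]
  change ψ ≫ ρ.hom = φ
  ext U : 2
  apply Z_hom_ext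
  exact (congrArg (fun m => (ρ.hom.app U).hom m) (mkZ_one _)).trans (hτρ U _)

instance : PreservesFiniteLimits (constantSheaf J AddCommGrpCat.{u}) := by
  change PreservesFiniteLimits (Functor.const Cᵒᵖ ⋙ presheafToSheaf J AddCommGrpCat.{u})
  infer_instance

instance : PreservesFiniteColimits (constantSheaf J AddCommGrpCat.{u}) := by
  change PreservesFiniteColimits (Functor.const Cᵒᵖ ⋙ presheafToSheaf J AddCommGrpCat.{u})
  infer_instance

instance : (constantSheaf J AddCommGrpCat.{u}).Additive :=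
  Functor.additive_of_preserves_binary_products _

lemma ext_eq_zero_of_lift {A : Type*} [Category A] [Abelian A] [HasExt A] (S : ShortComplex A)
    (hS : S.ShortExact) (P : A) (q : P ⟶ S.X₃) (q' : P ⟶ S.X₂) (h : q' ≫ S.g = q) :
    (Ext.mk₀ q).comp hS.extClass (zero_add 1) = 0 := by
  rw [← h, ← Ext.mk₀_comp_mk₀, Ext.comp_assoc_of_second_deg_zero, hS.comp_extClass, Ext.comp_zero]

theorem h1_injective {A B : AddCommGrpCat.{u}} (f : A ⟶ B) [Mono f]
    (ξ : Ext.{u} (Zsh J) ((constantSheaf J AddCommGrpCat.{u}).obj A) 1)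
    (hξ : ξ.comp (Ext.mk₀ ((constantSheaf J AddCommGrpCat.{u}).map f)) (add_zero 1) = 0) : ξ = 0 := by
  let S : ShortComplex AddCommGrpCat.{u} := ShortComplex.mk f (cokernel.π f) (cokernel.condition f)
  have hS : S.ShortExact :=
    { exact := ShortComplex.exact_cokernel f
      mono_f := inferInstanceAs (Mono f)
      epi_g := inferInstanceAs (Epi (cokernel.π f)) }
  have hS' : (S.map (constantSheaf J AddCommGrpCat.{u})).ShortExact := hS.map_of_exact _
  obtain ⟨y, hy⟩ := Ext.covariant_sequence_exact₁ (Zsh J) hS' ξ hξ rfl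
  obtain ⟨q, rfl⟩ := (Ext.mk₀_bijective _ _).2 y
  have hsurj : Function.Surjective (cokernel.π f).hom :=
    (AddCommGrpCat.epi_iff_surjective _).1 inferInstance
  obtain ⟨s, hs⟩ := hsurj.hasRightInverse
  obtain ⟨q', hq'⟩ := exists_lift J ((constantSheaf J AddCommGrpCat.{u}).map (cokernel.π f))
    (ConstSh.σ J (TypeCat.ofHom s))
    (ConstSh.σ_comp J (cokernel.π f) (TypeCat.ofHom s) (by ext y; exact hs y)) q
  rw [← hy]
  exact ext_eq_zero_of_lift _ hS' (Zsh J) q q' hq'

end Groth.Agent.Lib.helper10.ConstH1
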