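import Mathlib
set_option autoImplicit false
open CategoryTheory Opposite
universe w v u v' u'

namespace Groth.Agent.Lib.helper10.ContCompat

variable {C : Type u} [Category.{v} C] {D : Type u'} [Category.{v'} D]
  (J : GrothendieckTopology C) (K : GrothendieckTopology D) (φ : C ⥤ D) [φ.IsContinuous J K]

/-- Continuous functors send compatible families on *covering* sieves, with values in a separated
presheaf, to compatible families. -/
theorem compat_of_continuous (H : Dᵒᵖ ⥤ Type (max w u' v'))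
    (hsep : ∀ (X : D) (S : Sieve X), S ∈ K X → ∀ (x y : H.obj (op X)),
      (∀ (Y : D) (f : Y ⟶ X), S f → H.map f.op x = H.map f.op y) → x = y)
    {U : C} (R : Sieve U) (hR : R ∈ J U)
    (y : Presieve.FamilyOfElements (φ.op ⋙ H) R.arrows) (hy : y.Compatible)
    {z : D} {W W' : C} (r : W ⟶ U) (r' : W' ⟶ U) (hr : R r) (hr' : R r')
    (α : z ⟶ φ.obj W) (α' : z ⟶ φ.obj W') (h : α ≫ φ.map r = α' ≫ φ.map r') :
    H.map α.op (y r hr) = H.map α'.op (y r' hr') := by
  have hsep' : ∀ (X : D) (S : K.Cover X) (x y : ToType (H.obj (op X))),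
      (∀ I : S.Arrow, H.map I.f.op x = H.map I.f.op y) → x = y := by
    intro X S x y hxy
    exact hsep X S.1 S.2 x y (fun Y f hf => hxy ⟨Y, f, hf⟩)
  have hinj := GrothendieckTopology.Plus.inj_of_sep (J := K) H hsep'
  have hsh : Presheaf.IsSheaf K (K.plusObj H) := GrothendieckTopology.Plus.isSheaf_of_sep (J := K) H hsep'
  have hsh' : Presieve.IsSheaf J (φ.op ⋙ K.plusObj H) :=
    Functor.op_comp_isSheaf_of_types φ J K ⟨K.plusObj H, hsh⟩
  let η := K.toPlus H
  let y' : Presieve.FamilyOfElements (φ.op ⋙ K.plusObj H) R.arrows :=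
    fun V f hf => η.app (op (φ.obj V)) (y f hf)
  have hy' : y'.Compatible := by
    intro Y₁ Y₂ Z g₁ g₂ f₁ f₂ h₁ h₂ e
    have := hy g₁ g₂ h₁ h₂ e
    show (K.plusObj H).map (φ.map g₁).op (η.app _ (y f₁ h₁)) = (K.plusObj H).map (φ.map g₂).op (η.app _ (y f₂ h₂))
    rw [← NatTrans.naturality_apply, ← NatTrans.naturality_apply]
    exact congrArg _ this
  obtain ⟨t, ht, -⟩ := hsh' R hR y' hy'
  apply hinj
  rw [NatTrans.naturality_apply, NatTrans.naturality_apply]
  have e1 : η.app (op (φ.obj W)) (y r hr) = (K.plusObj H).map (φ.map r).op t := (ht r hr).symm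
  have e2 : η.app (op (φ.obj W')) (y r' hr') = (K.plusObj H).map (φ.map r').op t := (ht r' hr').symm
  rw [e1, e2, ← Functor.map_comp_apply, ← Functor.map_comp_apply, ← op_comp, ← op_comp, h]

end Groth.Agent.Lib.helper10.ContCompat
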