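import Mathlib
import Groth.Prelude.Def_Hyper2

namespace Groth.Agent.Lib.helper10.CosimpHtpy
open CategoryTheory Limits Opposite AlgebraicTopology

universe u
variable {C : Type u} [SmallCategory C]

/-- the cosimplicial object `n ↦ E (K_n)` -/
abbrev cosimp {A : Type*} [Category A] {D : Type*} [Category D]
    (K : SimplicialObject D) (E : Dᵒᵖ ⥤ A) : CosimplicialObject A := K.rightOp ⋙ E

/-- the simplicial object `n ↦ op (E (K_n))` -/
abbrev simp' {A : Type*} [Category A] {D : Type*} [Category D]
    (K : SimplicialObject D) (E : Dᵒᵖ ⥤ A) : SimplicialObject Aᵒᵖ := K ⋙ E.rightOp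

lemma d_unop {A : Type*} [Category A] [Preadditive A] {D : Type*} [Category D]
    (K : SimplicialObject D) (E : Dᵒᵖ ⥤ A) (n : ℕ) :
    ((alternatingCofaceMapComplex A).obj (cosimp K E)).d n (n + 1) =
      (((alternatingFaceMapComplex Aᵒᵖ).obj (simp' K E)).d (n + 1) n).unop := by
  have h1 : ((alternatingCofaceMapComplex A).obj (cosimp K E)).d n (n + 1) =
      AlternatingCofaceMapComplex.objD (cosimp K E) n := by
    simp [alternatingCofaceMapComplex, AlternatingCofaceMapComplex.obj]
  have h2 : ((alternatingFaceMapComplex Aᵒᵖ).obj (simp' K E)).d (n + 1) n =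
      AlternatingFaceMapComplex.objD (simp' K E) n :=
    AlternatingFaceMapComplex.obj_d_eq _ n
  rw [h1, h2]
  exact AlternatingCofaceMapComplex.d_eq_unop_d (cosimp K E) n


/-- map of cosimplicial objects induced by `a : L ⟶ K` -/
abbrev cosimpMap {A : Type*} [Category A] {D : Type*} [Category D]
    {K L : SimplicialObject D} (a : L ⟶ K) (E : Dᵒᵖ ⥤ A) : cosimp K E ⟶ cosimp L E :=
  Functor.whiskerRight (NatTrans.rightOp a) E

noncomputable def homAux {A : Type*} [Category A] [Preadditive A] {D : Type*} [Category D]
    {K L : SimplicialObject D} (a b : L ⟶ K) (h : SimplicialObject.Homotopy a b) (E : Dᵒᵖ ⥤ A)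
    (i j : ℕ) : ((alternatingCofaceMapComplex A).obj (cosimp K E)).X i ⟶
      ((alternatingCofaceMapComplex A).obj (cosimp L E)).X j :=
  ((h.whiskerRight E.rightOp).toChainHomotopy.hom j i).unop

noncomputable def hmt {A : Type*} [Category A] [Preadditive A] {D : Type*} [Category D]
    {K L : SimplicialObject D} (a b : L ⟶ K) (h : SimplicialObject.Homotopy a b) (E : Dᵒᵖ ⥤ A) :
    Homotopy ((alternatingCofaceMapComplex A).map (cosimpMap a E))
      ((alternatingCofaceMapComplex A).map (cosimpMap b E)) where
  hom i j := homAux a b h E i j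
  zero i j hij := by
    have : (h.whiskerRight E.rightOp).toChainHomotopy.hom j i = 0 :=
      (h.whiskerRight E.rightOp).toChainHomotopy.zero j i hij
    unfold homAux
    rw [this]; rfl
  comm n := by
    have H := (h.whiskerRight E.rightOp).toChainHomotopy.comm n
    cases n with
    | zero =>
      rw [prevD_eq_zero _ _ (by simp), dNext_eq (i' := 1) (w := by simp), add_zero]
      rw [prevD_eq (j' := 1) (w := by simp), dNext_eq_zero _ _ (by simp), zero_add] at H
      apply Quiver.Hom.op_inj
      rw [d_unop]
      exact H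
    | succ n =>
      rw [dNext_eq (i' := n + 2) (w := by simp), prevD_eq (j' := n) (w := by simp)]
      rw [dNext_eq (i' := n) (w := by simp), prevD_eq (j' := n + 2) (w := by simp)] at H
      rw [add_comm (_ ≫ _) (_ ≫ _)]
      apply Quiver.Hom.op_inj
      rw [d_unop, d_unop]
      exact H

end Groth.Agent.Lib.helper10.CosimpHtpy
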