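import Mathlib
set_option autoImplicit false
open CategoryTheory CategoryTheory.Limits
universe v u
open CochainComplex HomComplex

namespace Groth.Agent.Lib.helper10.DegSplitHtpy

set_option backward.defeqAttrib.useBackward true in
set_option backward.isDefEq.respectTransparency false in
theorem htpy {C : Type u} [Category.{v} C] [Preadditive C] [HasBinaryBiproducts C] (S : ShortComplex (CochainComplex C ℤ)) (σ σ' : ∀ n : ℤ, (S.map (HomologicalComplex.eval C (ComplexShape.up ℤ) n)).Splitting) : Nonempty (Homotopy (CochainComplex.homOfDegreewiseSplit S σ) (CochainComplex.homOfDegreewiseSplit S σ')) := by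
  let T : Cochain S.X₃ S.X₁ 0 := Cochain.ofHoms (fun p => (σ' p).s ≫ (σ p).r)
  have key : (cocycleOfDegreewiseSplit S σ').1 = δ 0 1 T + (cocycleOfDegreewiseSplit S σ).1 := by
    ext p q hpq
    obtain rfl : q = p + 1 := by lia
    rw [Cochain.add_v, δ_v 0 1 (zero_add 1) T p (p+1) rfl p (p+1) (by lia) (by lia)]
    simp only [cocycleOfDegreewiseSplit, T, Cocycle.mk_coe, Cochain.mk_v, Cochain.ofHoms_v]
    have hm : Mono (S.f.f (p + 1)) := by
      have := mono_of_mono_fac (σ (p + 1)).f_r
      exact this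
    have h1 := (σ' (p + 1)).r_f
    have h2 := (σ (p + 1)).r_f
    have h3 : S.X₁.d p (p + 1) ≫ S.f.f (p + 1) = S.f.f p ≫ S.X₂.d p (p + 1) := (S.f.comm p (p + 1)).symm
    have h4 := (σ p).r_f
    have h5 : S.X₂.d p (p + 1) ≫ S.g.f (p + 1) = S.g.f p ≫ S.X₃.d p (p + 1) := (S.g.comm p (p + 1)).symm
    have h6 := (σ' p).s_g
    have h7 := (σ p).s_g
    have h8 := (σ' (p + 1)).s_g
    dsimp at h1 h2 h4 h6 h7 h8 ⊢
    rw [← cancel_mono (S.f.f (p + 1))]
    simp only [Preadditive.add_comp, Category.assoc, Int.negOnePow_one, Units.neg_smul, one_smul,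
      Preadditive.neg_comp, h1, h2, h3, reassoc_of% h3, h4, reassoc_of% h4, Preadditive.comp_sub,
      Preadditive.sub_comp, Category.comp_id, Category.id_comp, h5, reassoc_of% h5, h6,
      reassoc_of% h6, h7, reassoc_of% h7, h8, reassoc_of% h8]
    abel
  have e1 : Cochain.ofHom (homOfDegreewiseSplit S σ) = (cocycleOfDegreewiseSplit S σ).1.rightShift 1 0 (zero_add 1) := by
    simp [homOfDegreewiseSplit]
  have e2 : Cochain.ofHom (homOfDegreewiseSplit S σ') = (cocycleOfDegreewiseSplit S σ').1.rightShift 1 0 (zero_add 1) := by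
    simp [homOfDegreewiseSplit]
  refine ⟨(Cochain.equivHomotopy _ _).symm ⟨T.rightShift 1 (-1) (by lia), ?_⟩⟩
  rw [e1, e2, key, Cochain.δ_rightShift T 1 (-1) 0 (by lia) 1 (by lia), Cochain.rightShift_add]
  simp

end Groth.Agent.Lib.helper10.DegSplitHtpy
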