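import Mathlib

namespace Groth.Agent.Lib.helper10.DerAdj
open CategoryTheory Limits

universe v v' u u'

section cx
variable {A : Type u} [Category.{v} A] [Preadditive A]
  {B : Type u'} [Category.{v'} B] [Preadditive B]
  {L : A ⥤ B} {R : B ⥤ A} (adj : L ⊣ R) [L.Additive] [R.Additive]
  {ι : Type*} (c : ComplexShape ι)

/-- the adjunction on homological complexes induced by an adjunction of additive functors. -/
noncomputable def cxAdj : L.mapHomologicalComplex c ⊣ R.mapHomologicalComplex c :=
  Adjunction.mkOfUnitCounit
    { unit :=
        { app := fun K =>
            { f := fun i => adj.unit.app (K.X i)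
              comm' := fun i j _ => by
                have := adj.unit.naturality (K.d i j)
                dsimp at this ⊢
                exact this.symm }
          naturality := fun K K' f => by
            ext i
            have := adj.unit.naturality (f.f i)
            dsimp at this ⊢
            exact this }
      counit :=
        { app := fun K =>
            { f := fun i => adj.counit.app (K.X i)
              comm' := fun i j _ => by
                have := adj.counit.naturality (K.d i j)
                dsimp at this ⊢
                exact this.symm }
          naturality := fun K K' f => by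
            ext i
            have := adj.counit.naturality (f.f i)
            dsimp at this ⊢
            exact this }
      left_triangle := by
        ext K i
        have := adj.left_triangle_components (K.X i)
        exact (by rw [Category.id_comp]; exact this :
          L.map (adj.unit.app (K.X i)) ≫ 𝟙 _ ≫ adj.counit.app (L.obj (K.X i)) = 𝟙 _)
      right_triangle := by
        ext K i
        have := adj.right_triangle_components (K.X i)
        exact (by rw [Category.id_comp]; exact this :
          adj.unit.app (R.obj (K.X i)) ≫ 𝟙 _ ≫ R.map (adj.counit.app (K.X i)) = 𝟙 _) }

end cx

section der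
variable {A : Type u} [Category.{v} A] [Abelian A] [HasDerivedCategory.{v'} A]
  {B : Type u'} [Category.{v} B] [Abelian B] [HasDerivedCategory.{v'} B]
  {L : A ⥤ B} {R : B ⥤ A} (adj : L ⊣ R) [L.Additive] [R.Additive]
  [PreservesFiniteLimits L] [PreservesFiniteColimits L]
  [PreservesFiniteLimits R] [PreservesFiniteColimits R]

/-- the adjunction on derived categories induced by an adjunction of exact functors. -/
noncomputable def derAdj : L.mapDerivedCategory ⊣ R.mapDerivedCategory :=
  letI : CatCommSq (L.mapHomologicalComplex (ComplexShape.up ℤ)) DerivedCategory.Q DerivedCategory.Q
      L.mapDerivedCategory := ⟨L.mapDerivedCategoryFactors.symm⟩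
  letI : CatCommSq (R.mapHomologicalComplex (ComplexShape.up ℤ)) DerivedCategory.Q DerivedCategory.Q
      R.mapDerivedCategory := ⟨R.mapDerivedCategoryFactors.symm⟩
  (cxAdj adj (ComplexShape.up ℤ)).localization DerivedCategory.Q
    (HomologicalComplex.quasiIso A (ComplexShape.up ℤ)) DerivedCategory.Q
    (HomologicalComplex.quasiIso B (ComplexShape.up ℤ)) L.mapDerivedCategory R.mapDerivedCategory

end der

end Groth.Agent.Lib.helper10.DerAdj
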