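import Mathlib.Tactic
import Groth.Agent.Lib.helper10.FpMap
import Groth.Agent.Lib.helper10.EquivCore
import Groth.Agent.Lib.helper10.FpGen

/-!
# The diagonal of a base change is a base change of the diagonal (helper10 library, general universes)
-/

set_option autoImplicit false
universe v u v₂ u₂ v₃ u₃ v₄ u₄ v₅ u₅

open CategoryTheory

namespace Groth.Agent.Lib.helper10.DiagBC

open Groth.Agent.Lib.helper10.FpGen

variable {C : Type u} [Category.{v} C]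

section IsoMk

variable {𝒜 : BasedCategory.{v₂, u₂} C} {𝒳 : BasedCategory.{v₃, u₃} C} {𝒴 : BasedCategory.{v₄, u₄} C}
  {𝒮 : BasedCategory.{v₅, u₅} C} (F : 𝒳 ⥤ᵇ 𝒮) (G : 𝒴 ⥤ᵇ 𝒮)

/-- a 2-isomorphism between functors into `𝒳 ×_𝒮 𝒴` from compatible 2-isomorphisms of the two components -/
def fpIsoMk (X Y : 𝒜 ⥤ᵇ FibCat.fp F G)
    (e₁ : BasedFunctor.comp X (FibCat.fpFst F G) ≅ BasedFunctor.comp Y (FibCat.fpFst F G))
    (e₂ : BasedFunctor.comp X (FibCat.fpSnd F G) ≅ BasedFunctor.comp Y (FibCat.fpSnd F G))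
    (hw : ∀ t, F.map (e₁.hom.toNatTrans.app t) ≫ (Y.obj t).obj.iso.hom =
      (X.obj t).obj.iso.hom ≫ G.map (e₂.hom.toNatTrans.app t)) : X ≅ Y :=
  BasedNatIso.mkNatIso
    (NatIso.ofComponents (fun t =>
      ObjectProperty.isoMk _ (Limits.CategoricalPullback.mkIso
        (((BasedNatTrans.forgetful _ _).mapIso e₁).app t) (((BasedNatTrans.forgetful _ _).mapIso e₂).app t)
        (hw t)))
      (by
        intro t t' m
        apply ObjectProperty.hom_ext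
        apply Limits.CategoricalPullback.hom_ext
        · exact e₁.hom.toNatTrans.naturality m
        · exact e₂.hom.toNatTrans.naturality m))
    (by
      intro t
      rw [fp_lift_iff]
      exact e₁.hom.isHomLift' t)

end IsoMk

section Main

variable {𝒳 : BasedCategory.{v₂, u₂} C} {𝒴 : BasedCategory.{v₃, u₃} C} {𝒴' : BasedCategory.{v₄, u₄} C}
  (f : 𝒳 ⥤ᵇ 𝒴) (g : 𝒴' ⥤ᵇ 𝒴)

/-- `𝒳' ×_{𝒴'} 𝒳' ⟶ 𝒳 ×_𝒴 𝒳` for `𝒳' = 𝒴' ×_𝒴 𝒳` -/
def H : FibCat.fp (FibCat.fpFst g f) (FibCat.fpFst g f) ⥤ᵇ FibCat.fp f f :=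
  FpMap.Φ (FibCat.fpFst g f) (FibCat.fpFst g f) f f (FibCat.fpSnd g f) (FibCat.fpSnd g f) g
    (FibCat.fpIso g f).symm (FibCat.fpIso g f).symm

lemma H_obj_iso_hom (d : (FibCat.fp (FibCat.fpFst g f) (FibCat.fpFst g f)).obj) :
    ((H f g).obj d).obj.iso.hom =
      d.obj.fst.obj.iso.inv ≫ g.map d.obj.iso.hom ≫ d.obj.snd.obj.iso.hom := rfl

lemma diag_obj_iso_hom {𝒜 : BasedCategory.{v₅, u₅} C} {ℬ : BasedCategory.{v₂, u₂} C} (k : 𝒜 ⥤ᵇ ℬ)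
    (a : 𝒜.obj) : ((FibCat.diag k).obj a).obj.iso.hom = 𝟙 (k.obj a) := rfl

omit [Category.{v} C] in
lemma aux_ε {A : Type*} [Category A] {P Q : A} (u : P ⟶ P) (hu : u = 𝟙 P) (i : Q ≅ P)
    (w : Q ⟶ Q) (hw : w = 𝟙 Q) : u ≫ 𝟙 P = (i.inv ≫ w ≫ i.hom) ≫ u := by
  subst hu hw
  simp

/-- the 2-isomorphism of the square -/
def ε : BasedFunctor.comp (FibCat.diag (FibCat.fpFst g f)) (H f g) ≅
    BasedFunctor.comp (FibCat.fpSnd g f) (FibCat.diag f) :=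
  fpIsoMk f f _ _ (Iso.refl _) (Iso.refl _) (by
    intro t
    change f.map (𝟙 _) ≫ 𝟙 _ = (t.obj.iso.inv ≫ g.map (𝟙 _) ≫ t.obj.iso.hom) ≫ f.map (𝟙 _)
    exact aux_ε _ (f.toFunctor.map_id _) t.obj.iso _ (g.toFunctor.map_id _))

/-- the comparison functor `𝒳' ⟶ (𝒳' ×_{𝒴'} 𝒳') ×_{𝒳 ×_𝒴 𝒳} 𝒳` -/
def E : FibCat.fp g f ⥤ᵇ FibCat.fp (H f g) (FibCat.diag f) :=
  FibCat.fpLift (FibCat.diag (FibCat.fpFst g f)) (FibCat.fpSnd g f) (ε f g)

lemma E_fst : BasedFunctor.comp (E f g) (FibCat.fpFst (H f g) (FibCat.diag f)) =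
    FibCat.diag (FibCat.fpFst g f) := rfl

lemma E_map_fst_fst {t t' : (FibCat.fp g f).obj} (m : t ⟶ t') :
    ((E f g).map m).hom.fst.hom.fst = m := rfl

lemma E_map_fst_snd {t t' : (FibCat.fp g f).obj} (m : t ⟶ t') :
    ((E f g).map m).hom.fst.hom.snd = m := rfl

lemma E_map_snd {t t' : (FibCat.fp g f).obj} (m : t ⟶ t') :
    ((E f g).map m).hom.snd = m.hom.snd := rfl

theorem E_faithful : (E f g).toFunctor.Faithful where
  map_injective := by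
    intro t t' m m' h
    exact congrArg (fun k => k.hom.fst.hom.fst) h

omit [Category.{v} C] in
lemma aux_id {A : Type*} [Category A] {P Q : A} (a b : P ⟶ Q) (h : a ≫ 𝟙 Q = 𝟙 P ≫ b) : a = b := by
  simpa using h

theorem E_full : (E f g).toFunctor.Full where
  map_surjective := by
    intro t t' h
    obtain ⟨m₁, hm₁⟩ : ∃ m₁ : t ⟶ t', m₁ = h.hom.fst.hom.fst := ⟨_, rfl⟩
    obtain ⟨m₂, hm₂⟩ : ∃ m₂ : t ⟶ t', m₂ = h.hom.fst.hom.snd := ⟨_, rfl⟩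
    obtain ⟨n, hn⟩ : ∃ n : t.obj.snd ⟶ t'.obj.snd, n = h.hom.snd := ⟨_, rfl⟩
    have w₁ : m₁.hom.fst ≫ 𝟙 _ = 𝟙 _ ≫ m₂.hom.fst := by
      rw [hm₁, hm₂]; exact h.hom.fst.hom.w
    have hw := h.hom.w
    have w₂ : m₁.hom.snd ≫ 𝟙 _ = 𝟙 _ ≫ n := by
      rw [hm₁, hn]; exact congrArg (fun k => k.hom.fst) hw
    have w₃ : m₂.hom.snd ≫ 𝟙 _ = 𝟙 _ ≫ n := by
      rw [hm₂, hn]; exact congrArg (fun k => k.hom.snd) hw
    have e₁ : m₁.hom.fst = m₂.hom.fst := aux_id _ _ w₁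
    have e₂ : m₁.hom.snd = n := aux_id _ _ w₂
    have e₃ : m₂.hom.snd = n := aux_id _ _ w₃
    have e : m₁ = m₂ := by
      apply ObjectProperty.hom_ext
      apply Limits.CategoricalPullback.hom_ext
      · exact e₁
      · exact e₂.trans e₃.symm
    refine ⟨m₁, ?_⟩
    apply ObjectProperty.hom_ext
    apply Limits.CategoricalPullback.hom_ext
    · apply ObjectProperty.hom_ext
      apply Limits.CategoricalPullback.hom_ext
      · exact hm₁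
      · exact e.trans hm₂
    · exact e₂.trans hn

omit [Category.{v} C] in
lemma aux_c2 {A : Type*} [Category A] {P₁ P₂ Q₁ Q₂ R : A} (ι₁ : P₁ ≅ Q₁) (ι₂ : P₂ ≅ Q₂) (gk : P₁ ⟶ P₂)
    (a : Q₁ ⟶ R) (b : Q₂ ⟶ R) (bi : R ⟶ Q₂) (hb : b ≫ bi = 𝟙 Q₂)
    (hw : a ≫ 𝟙 R = (ι₁.inv ≫ gk ≫ ι₂.hom) ≫ b) : gk ≫ ι₂.hom = ι₁.hom ≫ a ≫ bi := by
  rw [Category.comp_id] at hw
  rw [hw]
  simp only [Category.assoc]
  rw [hb]
  simp

omit [Category.{v} C] in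
lemma aux_c1 {A : Type*} [Category A] {P Q : A} (u : P ⟶ P) (hu : u = 𝟙 P) (k : P ⟶ Q) :
    u ≫ k = 𝟙 P ≫ k := by
  subst hu; rfl

omit [Category.{v} C] in
lemma aux_c3 {A : Type*} [Category A] {P R : A} (u : P ⟶ P) (hu : u = 𝟙 P) (a : P ⟶ R) :
    u ≫ a = 𝟙 P ≫ a := by
  subst hu; rfl

omit [Category.{v} C] in
lemma aux_c4 {A : Type*} [Category A] {P Q R : A} (a : P ⟶ R) (b : Q ⟶ R) (bi : R ⟶ Q)
    (hb : bi ≫ b = 𝟙 R) : (a ≫ bi) ≫ b = 𝟙 P ≫ a := by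
  simp [hb]

theorem E_hes (r : (FibCat.fp (H f g) (FibCat.diag f)).obj) :
    ∃ (t : (FibCat.fp g f).obj) (e : (E f g).obj t ≅ r),
      (FibCat.fp (H f g) (FibCat.diag f)).p.IsHomLift
        (𝟙 ((FibCat.fp (H f g) (FibCat.diag f)).p.obj r)) e.hom := by
  let d : (FibCat.fp (FibCat.fpFst g f) (FibCat.fpFst g f)).obj := r.obj.fst
  let t₁ : (FibCat.fp g f).obj := d.obj.fst
  let t₂ : (FibCat.fp g f).obj := d.obj.snd
  let θ₁ : t₁.obj.snd ≅ r.obj.snd := (FibCat.fpFst f f).toFunctor.mapIso r.obj.iso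
  let θ₂ : t₂.obj.snd ≅ r.obj.snd := (FibCat.fpSnd f f).toFunctor.mapIso r.obj.iso
  have hθw : f.map θ₁.hom ≫ 𝟙 _ =
      (t₁.obj.iso.inv ≫ g.map d.obj.iso.hom ≫ t₂.obj.iso.hom) ≫ f.map θ₂.hom := r.obj.iso.hom.hom.w
  have compat₂ : g.map d.obj.iso.hom ≫ t₂.obj.iso.hom =
      t₁.obj.iso.hom ≫ f.map (θ₁ ≪≫ θ₂.symm).hom := by
    have e : f.map (θ₁ ≪≫ θ₂.symm).hom = f.map θ₁.hom ≫ f.map θ₂.inv := f.toFunctor.map_comp _ _
    rw [e]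
    refine aux_c2 t₁.obj.iso t₂.obj.iso (g.map d.obj.iso.hom) (f.map θ₁.hom) (f.map θ₂.hom)
      (f.map θ₂.inv) ?_ hθw
    change f.toFunctor.map _ ≫ f.toFunctor.map _ = _
    rw [← Functor.map_comp, Iso.hom_inv_id]
    exact f.toFunctor.map_id _
  let μ : t₁ ≅ t₂ := ObjectProperty.isoMk _
    (Limits.CategoricalPullback.mkIso d.obj.iso (θ₁ ≪≫ θ₂.symm) compat₂)
  have compat₁ : (FibCat.fpFst g f).map (Iso.refl t₁).hom ≫ d.obj.iso.hom =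
      ((FibCat.diag (FibCat.fpFst g f)).obj t₁).obj.iso.hom ≫ (FibCat.fpFst g f).map μ.hom :=
    aux_c1 _ ((FibCat.fpFst g f).toFunctor.map_id _) _
  let ρ₁ : (FibCat.diag (FibCat.fpFst g f)).obj t₁ ≅ d := ObjectProperty.isoMk _
    (Limits.CategoricalPullback.mkIso (Iso.refl t₁) μ compat₁)
  have compat : (H f g).map ρ₁.hom ≫ r.obj.iso.hom =
      ((E f g).obj t₁).obj.iso.hom ≫ (FibCat.diag f).map θ₁.hom := by
    apply ObjectProperty.hom_ext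
    apply Limits.CategoricalPullback.hom_ext
    · exact aux_c3 _ ((FibCat.fpSnd g f).toFunctor.map_id _) _
    · exact aux_c4 θ₁.hom θ₂.hom θ₂.inv θ₂.inv_hom_id
  refine ⟨t₁, ObjectProperty.isoMk _ (Limits.CategoricalPullback.mkIso ρ₁ θ₁ compat), ?_⟩
  rw [fp_lift_iff, fp_lift_iff]
  exact IsHomLift.id rfl

theorem E_isEquivOver : FibCat.IsEquivOver (E f g) := by
  have h1 := E_faithful f g
  have h2 := E_full f g
  exact EquivCore.isEquivOver _ (E_hes f g)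

end Main

end Groth.Agent.Lib.helper10.DiagBC
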