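import Mathlib.Tactic
import Groth.Prelude.Def_FibCat2
import Groth.Agent.Lib.helper10.EquivCore

/-!
# Base change of an equivalence over `C` is an equivalence over `C` (helper10, general universes)
-/

set_option autoImplicit false
universe v u v₂ u₂ v₃ u₃ v₄ u₄

open CategoryTheory CategoryTheory.Functor

namespace Groth.Agent.Lib.helper10.FpEquivBase

variable {C : Type u} [Category.{v} C] {𝒳 : BasedCategory.{v₂, u₂} C} {𝒴 : BasedCategory.{v₃, u₃} C}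
  {𝒮 : BasedCategory.{v₄, u₄} C} (F : 𝒳 ⥤ᵇ 𝒮) (G : 𝒴 ⥤ᵇ 𝒮)

instance fpSnd_faithful [F.toFunctor.Faithful] : (FibCat.fpSnd F G).toFunctor.Faithful := by
  refine ⟨fun {a b} Ψ Ψ' h => ?_⟩
  have h2 : Ψ.hom.snd = Ψ'.hom.snd := h
  have w1 : F.map Ψ.hom.fst ≫ b.obj.iso.hom = a.obj.iso.hom ≫ G.map Ψ.hom.snd := Ψ.hom.w
  have w2 : F.map Ψ'.hom.fst ≫ b.obj.iso.hom = a.obj.iso.hom ≫ G.map Ψ'.hom.snd := Ψ'.hom.w
  have h1 : Ψ.hom.fst = Ψ'.hom.fst := by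
    apply F.toFunctor.map_injective
    rw [← cancel_mono b.obj.iso.hom]
    rw [w1, w2, h2]
  apply ObjectProperty.hom_ext
  apply Limits.CategoricalPullback.hom_ext
  · exact h1
  · exact h2

instance fpSnd_full [F.toFunctor.Full] : (FibCat.fpSnd F G).toFunctor.Full := by
  refine ⟨fun {a b} φ₂ => ?_⟩
  obtain ⟨φ₂', hφ₂⟩ : ∃ φ₂' : a.obj.snd ⟶ b.obj.snd, φ₂' = φ₂ := ⟨φ₂, rfl⟩
  let φ₁ : a.obj.fst ⟶ b.obj.fst :=
    F.toFunctor.preimage (a.obj.iso.hom ≫ G.map φ₂' ≫ b.obj.iso.inv)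
  have w : F.map φ₁ ≫ b.obj.iso.hom = a.obj.iso.hom ≫ G.map φ₂' := by
    have : F.map φ₁ = a.obj.iso.hom ≫ G.map φ₂' ≫ b.obj.iso.inv := Functor.map_preimage _ _
    rw [this]
    simp
  refine ⟨ObjectProperty.homMk
    ({ fst := φ₁, snd := φ₂', w := w } :
      Limits.CategoricalPullback.Hom (F := F.toFunctor) (G := G.toFunctor) a.obj b.obj), ?_⟩
  exact hφ₂

theorem fpSnd_isEquivOver [F.toFunctor.Full] [F.toFunctor.Faithful]
    (hes : ∀ s : 𝒮.obj, ∃ (x : 𝒳.obj) (e : F.obj x ≅ s), 𝒮.p.IsHomLift (𝟙 (𝒮.p.obj s)) e.hom) :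
    FibCat.IsEquivOver (FibCat.fpSnd F G) := by
  apply Groth.Agent.Lib.helper10.EquivCore.isEquivOver
  intro t
  obtain ⟨x, e, he⟩ := hes (G.obj t)
  have hd : 𝒳.p.obj x = 𝒮.p.obj (G.obj t) :=
    (F.w_obj x).symm.trans (IsHomLift.domain_eq 𝒮.p (𝟙 (𝒮.p.obj (G.obj t))) e.hom)
  have hprop : 𝒮.p.IsHomLift (𝟙 (𝒳.p.obj x)) e.hom := by
    rw [hd]; exact he
  let a : (FibCat.fp F G).obj := ⟨⟨x, t, e⟩, hprop⟩
  refine ⟨a, Iso.refl _, ?_⟩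
  exact IsHomLift.id rfl

theorem fpSnd_isEquivOver_of_equiv (hF : FibCat.IsEquivOver F) :
    FibCat.IsEquivOver (FibCat.fpSnd F G) := by
  have := EquivOver.isEquivalence F hF
  exact fpSnd_isEquivOver F G (fun s => EquivOver.exists_iso F hF s)

end Groth.Agent.Lib.helper10.FpEquivBase
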