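import Mathlib.Tactic
import Groth.Agent.Lib.helper10.FpMap
import Groth.Agent.Lib.helper10.EquivCore
import Groth.Agent.Lib.helper10.FpGen
import Groth.Agent.Lib.helper10.DiagBC
import Groth.Agent.Lib.helper10.Vert

/-!
# The graph of a morphism is a base change of the diagonal (helper10 library, general universes)
-/

set_option autoImplicit false
universe v u v₂ u₂ v₃ u₃ v₄ u₄ v₅ u₅

open CategoryTheory

namespace Groth.Agent.Lib.helper10.GraphBC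

open Groth.Agent.Lib.helper10.FpGen Groth.Agent.Lib.helper10.DiagBC

variable {C : Type u} [Category.{v} C]

section Graph

variable {𝒳 : BasedCategory.{v₂, u₂} C} {𝒴 : BasedCategory.{v₃, u₃} C} {𝒯 : BasedCategory.{v₄, u₄} C}
  (p : 𝒳 ⥤ᵇ 𝒯) (q : 𝒴 ⥤ᵇ 𝒯) (g : 𝒳 ⥤ᵇ 𝒴)
  (e : BasedFunctor.comp (BasedFunctor.id 𝒳) p ≅ BasedFunctor.comp g q)

/-- `g × id : 𝒳 ×_𝒯 𝒴 ⟶ 𝒴 ×_𝒯 𝒴` -/
def H : FibCat.fp p q ⥤ᵇ FibCat.fp q q :=
  FpMap.Φ p q q q g (BasedFunctor.id 𝒴) (BasedFunctor.id 𝒯) e.symm (Iso.refl _)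

lemma H_obj_iso_hom (d : (FibCat.fp p q).obj) :
    ((H p q g e).obj d).obj.iso.hom = e.inv.toNatTrans.app d.obj.fst ≫ d.obj.iso.hom ≫ 𝟙 _ := rfl

/-- the graph -/
abbrev Γ : 𝒳 ⥤ᵇ FibCat.fp p q := FibCat.fpLift (BasedFunctor.id 𝒳) g e

lemma Γ_obj_iso_hom (x : 𝒳.obj) : ((Γ p q g e).obj x).obj.iso.hom = e.hom.toNatTrans.app x := rfl

lemma e_inv_hom (x : 𝒳.obj) : e.inv.toNatTrans.app x ≫ e.hom.toNatTrans.app x = 𝟙 _ :=
  (((BasedNatTrans.forgetful _ _).mapIso e).app x).inv_hom_id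

lemma e_hom_inv (x : 𝒳.obj) : e.hom.toNatTrans.app x ≫ e.inv.toNatTrans.app x = 𝟙 _ :=
  (((BasedNatTrans.forgetful _ _).mapIso e).app x).hom_inv_id

omit [Category.{v} C] in
lemma aux_ε {A : Type*} [Category A] {P Q : A} (u : P ⟶ P) (hu : u = 𝟙 P) (ei : P ⟶ Q) (eh : Q ⟶ P)
    (h : ei ≫ eh = 𝟙 P) : u ≫ 𝟙 P = (ei ≫ eh ≫ 𝟙 P) ≫ u := by
  subst hu
  simp [h]

/-- the 2-isomorphism of the square -/
def ε : BasedFunctor.comp (Γ p q g e) (H p q g e) ≅ BasedFunctor.comp g (FibCat.diag q) :=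
  fpIsoMk q q _ _ (Iso.refl _) (Iso.refl _) (by
    intro x
    change q.map (𝟙 _) ≫ 𝟙 _ = (e.inv.toNatTrans.app x ≫ e.hom.toNatTrans.app x ≫ 𝟙 _) ≫ q.map (𝟙 _)
    exact aux_ε _ (q.toFunctor.map_id _) _ _ (e_inv_hom p q g e x))

/-- the comparison functor `𝒳 ⟶ (𝒳 ×_𝒯 𝒴) ×_{𝒴 ×_𝒯 𝒴} 𝒴` -/
def E : 𝒳 ⥤ᵇ FibCat.fp (H p q g e) (FibCat.diag q) :=
  FibCat.fpLift (Γ p q g e) g (ε p q g e)

lemma E_fst : BasedFunctor.comp (E p q g e) (FibCat.fpFst (H p q g e) (FibCat.diag q)) = Γ p q g e := rfl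

theorem E_faithful : (E p q g e).toFunctor.Faithful where
  map_injective := by
    intro t t' m m' h
    exact congrArg (fun k => k.hom.fst.hom.fst) h

omit [Category.{v} C] in
lemma aux_id {A : Type*} [Category A] {P Q : A} (a b : P ⟶ Q) (h : a ≫ 𝟙 Q = 𝟙 P ≫ b) : a = b := by
  simpa using h

theorem E_full : (E p q g e).toFunctor.Full where
  map_surjective := by
    intro x x' h
    obtain ⟨a, ha⟩ : ∃ a : x ⟶ x', a = h.hom.fst.hom.fst := ⟨_, rfl⟩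
    obtain ⟨b, hb⟩ : ∃ b : g.obj x ⟶ g.obj x', b = h.hom.fst.hom.snd := ⟨_, rfl⟩
    obtain ⟨c, hc⟩ : ∃ c : g.obj x ⟶ g.obj x', c = h.hom.snd := ⟨_, rfl⟩
    have hw := h.hom.w
    have w₁ : g.map a ≫ 𝟙 _ = 𝟙 _ ≫ c := by
      rw [ha, hc]; exact congrArg (fun k => k.hom.fst) hw
    have w₂ : b ≫ 𝟙 _ = 𝟙 _ ≫ c := by
      rw [hb, hc]; exact congrArg (fun k => k.hom.snd) hw
    have e₁ : g.map a = c := aux_id _ _ w₁
    have e₂ : b = c := aux_id _ _ w₂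
    refine ⟨a, ?_⟩
    apply ObjectProperty.hom_ext
    apply Limits.CategoricalPullback.hom_ext
    · apply ObjectProperty.hom_ext
      apply Limits.CategoricalPullback.hom_ext
      · exact ha
      · exact (e₁.trans e₂.symm).trans hb
    · exact e₁.trans hc

omit [Category.{v} C] in
lemma aux_c2 {A : Type*} [Category A] {P Q R₁ Z : A} (ei : R₁ ⟶ P) (eh : P ⟶ R₁) (hh : eh ≫ ei = 𝟙 P)
    (i : P ⟶ Q) (a : R₁ ⟶ Z) (b : Q ⟶ Z) (bi : Z ⟶ Q) (hb : b ≫ bi = 𝟙 Q)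
    (u : P ⟶ P) (hu : u = 𝟙 P)
    (hw : a ≫ 𝟙 Z = (ei ≫ i ≫ 𝟙 Q) ≫ b) : u ≫ i = eh ≫ a ≫ bi := by
  subst hu
  rw [Category.comp_id] at hw
  rw [hw]
  simp only [Category.assoc, Category.id_comp, Category.comp_id, hb]
  rw [← Category.assoc, hh, Category.id_comp]

omit [Category.{v} C] in
lemma aux_c3 {A : Type*} [Category A] {P R : A} (u : P ⟶ P) (hu : u = 𝟙 P) (a : P ⟶ R) :
    u ≫ a = 𝟙 P ≫ a := by
  subst hu; rfl

omit [Category.{v} C] in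
lemma aux_c4 {A : Type*} [Category A] {P Q R : A} (a : P ⟶ R) (b : Q ⟶ R) (bi : R ⟶ Q)
    (hb : bi ≫ b = 𝟙 R) : (a ≫ bi) ≫ b = 𝟙 P ≫ a := by
  simp [hb]

theorem E_hes (r : (FibCat.fp (H p q g e) (FibCat.diag q)).obj) :
    ∃ (x : 𝒳.obj) (i : (E p q g e).obj x ≅ r),
      (FibCat.fp (H p q g e) (FibCat.diag q)).p.IsHomLift
        (𝟙 ((FibCat.fp (H p q g e) (FibCat.diag q)).p.obj r)) i.hom := by
  let d : (FibCat.fp p q).obj := r.obj.fst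
  let x : 𝒳.obj := d.obj.fst
  let θ₁ : g.obj x ≅ r.obj.snd := (FibCat.fpFst q q).toFunctor.mapIso r.obj.iso
  let θ₂ : d.obj.snd ≅ r.obj.snd := (FibCat.fpSnd q q).toFunctor.mapIso r.obj.iso
  have hθw : q.map θ₁.hom ≫ 𝟙 _ =
      (e.inv.toNatTrans.app x ≫ d.obj.iso.hom ≫ 𝟙 _) ≫ q.map θ₂.hom := r.obj.iso.hom.hom.w
  have compat₁ : p.map (Iso.refl x).hom ≫ d.obj.iso.hom =
      e.hom.toNatTrans.app x ≫ q.map (θ₁ ≪≫ θ₂.symm).hom := by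
    have e' : q.map (θ₁ ≪≫ θ₂.symm).hom = q.map θ₁.hom ≫ q.map θ₂.inv := q.toFunctor.map_comp _ _
    rw [e']
    refine aux_c2 (e.inv.toNatTrans.app x) (e.hom.toNatTrans.app x) (e_hom_inv p q g e x) d.obj.iso.hom
      (q.map θ₁.hom) (q.map θ₂.hom) (q.map θ₂.inv) ?_ _ (p.toFunctor.map_id _) hθw
    change q.toFunctor.map _ ≫ q.toFunctor.map _ = _
    rw [← Functor.map_comp, Iso.hom_inv_id]
    exact q.toFunctor.map_id _
  let ρ₁ : (Γ p q g e).obj x ≅ d := ObjectProperty.isoMk _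
    (Limits.CategoricalPullback.mkIso (Iso.refl x) (θ₁ ≪≫ θ₂.symm) compat₁)
  have compat : (H p q g e).map ρ₁.hom ≫ r.obj.iso.hom =
      ((E p q g e).obj x).obj.iso.hom ≫ (FibCat.diag q).map θ₁.hom := by
    apply ObjectProperty.hom_ext
    apply Limits.CategoricalPullback.hom_ext
    · exact aux_c3 _ (g.toFunctor.map_id _) _
    · exact aux_c4 θ₁.hom θ₂.hom θ₂.inv θ₂.inv_hom_id
  refine ⟨x, ObjectProperty.isoMk _ (Limits.CategoricalPullback.mkIso ρ₁ θ₁ compat), ?_⟩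
  rw [fp_lift_iff, fp_lift_iff]
  exact IsHomLift.id rfl

theorem E_isEquivOver : FibCat.IsEquivOver (E p q g e) := by
  have h1 := E_faithful p q g e
  have h2 := E_full p q g e
  exact EquivCore.isEquivOver _ (E_hes p q g e)

end Graph

section Comparison

variable {𝒳 : BasedCategory.{v₂, u₂} C} {𝒴 : BasedCategory.{v₃, u₃} C} {𝒵 : BasedCategory.{v₄, u₄} C}
  {𝒯 : BasedCategory.{v₅, u₅} C}
  (f : 𝒳 ⥤ᵇ 𝒵) (g : 𝒴 ⥤ᵇ 𝒵) (t : 𝒵 ⥤ᵇ 𝒯)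
  (e : BasedFunctor.comp (FibCat.fpFst f g) (BasedFunctor.comp f t) ≅
      BasedFunctor.comp (FibCat.fpSnd f g) (BasedFunctor.comp g t))
  (he : ∀ x, e.hom.toNatTrans.app x = t.map x.obj.iso.hom)

/-- `f × g : 𝒳 ×_𝒯 𝒴 ⟶ 𝒵 ×_𝒯 𝒵` -/
def Hc : FibCat.fp (BasedFunctor.comp f t) (BasedFunctor.comp g t) ⥤ᵇ FibCat.fp t t :=
  FpMap.Φ (BasedFunctor.comp f t) (BasedFunctor.comp g t) t t f g (BasedFunctor.id 𝒯) (Iso.refl _) (Iso.refl _)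

lemma Hc_obj_iso_hom (d : (FibCat.fp (BasedFunctor.comp f t) (BasedFunctor.comp g t)).obj) :
    ((Hc f g t).obj d).obj.iso.hom = 𝟙 _ ≫ d.obj.iso.hom ≫ 𝟙 _ := rfl

/-- the comparison `𝒳 ×_𝒵 𝒴 ⟶ 𝒳 ×_𝒯 𝒴` -/
abbrev ic : FibCat.fp f g ⥤ᵇ FibCat.fp (BasedFunctor.comp f t) (BasedFunctor.comp g t) :=
  FibCat.fpLift (FibCat.fpFst f g) (FibCat.fpSnd f g) e

lemma ic_obj_iso_hom (s : (FibCat.fp f g).obj) :
    ((ic f g t e).obj s).obj.iso.hom = e.hom.toNatTrans.app s := rfl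

omit [Category.{v} C] in
lemma aux_εc {A : Type*} [Category A] {P Q : A} (u : P ⟶ P) (hu : u = 𝟙 P) (k : P ⟶ Q) (ki : Q ⟶ P)
    (hk : k ≫ ki = 𝟙 P) : u ≫ 𝟙 P = (𝟙 P ≫ k ≫ 𝟙 Q) ≫ ki := by
  subst hu
  simp [hk]

include he in
lemma εc_compat (s : (FibCat.fp f g).obj) :
    t.map (𝟙 (f.obj s.obj.fst)) ≫ 𝟙 _ =
      (𝟙 _ ≫ e.hom.toNatTrans.app s ≫ 𝟙 _) ≫ t.map s.obj.iso.inv := by
  rw [he s]
  refine aux_εc _ (t.toFunctor.map_id _) _ _ ?_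
  change t.toFunctor.map _ ≫ t.toFunctor.map _ = _
  rw [← Functor.map_comp, Iso.hom_inv_id]
  exact t.toFunctor.map_id _

/-- the 2-isomorphism of the square -/
def εc : BasedFunctor.comp (ic f g t e) (Hc f g t) ≅
    BasedFunctor.comp (BasedFunctor.comp (FibCat.fpFst f g) f) (FibCat.diag t) :=
  fpIsoMk t t _ _ (Iso.refl _) (FibCat.fpIso f g).symm (εc_compat f g t e he)

/-- the comparison functor `𝒳 ×_𝒵 𝒴 ⟶ (𝒳 ×_𝒯 𝒴) ×_{𝒵 ×_𝒯 𝒵} 𝒵` -/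
def Ec : FibCat.fp f g ⥤ᵇ FibCat.fp (Hc f g t) (FibCat.diag t) :=
  FibCat.fpLift (ic f g t e) (BasedFunctor.comp (FibCat.fpFst f g) f) (εc f g t e he)

lemma Ec_fst : BasedFunctor.comp (Ec f g t e he) (FibCat.fpFst (Hc f g t) (FibCat.diag t)) =
    ic f g t e := rfl

theorem Ec_faithful : (Ec f g t e he).toFunctor.Faithful where
  map_injective := by
    intro s s' m m' h
    apply ObjectProperty.hom_ext
    apply Limits.CategoricalPullback.hom_ext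
    · exact congrArg (fun k => k.hom.fst.hom.fst) h
    · exact congrArg (fun k => k.hom.fst.hom.snd) h

omit [Category.{v} C] in
lemma aux_fullc {A : Type*} [Category A] {P Q P' Q' : A} (k : P ≅ Q) (k' : P' ≅ Q')
    (fa : P ⟶ P') (gb : Q ⟶ Q') (c : P ⟶ P') (h1 : fa ≫ 𝟙 _ = 𝟙 _ ≫ c)
    (h2 : gb ≫ k'.inv = k.inv ≫ c) : fa ≫ k'.hom = k.hom ≫ gb := by
  have e1 : fa = c := by simpa using h1
  subst e1
  have : gb = k.inv ≫ fa ≫ k'.hom := by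
    rw [← Category.assoc, ← h2]
    simp
  rw [this]
  simp

theorem Ec_full : (Ec f g t e he).toFunctor.Full where
  map_surjective := by
    intro s s' h
    obtain ⟨a, ha⟩ : ∃ a : s.obj.fst ⟶ s'.obj.fst, a = h.hom.fst.hom.fst := ⟨_, rfl⟩
    obtain ⟨b, hb⟩ : ∃ b : s.obj.snd ⟶ s'.obj.snd, b = h.hom.fst.hom.snd := ⟨_, rfl⟩
    obtain ⟨c, hc⟩ : ∃ c : f.obj s.obj.fst ⟶ f.obj s'.obj.fst, c = h.hom.snd := ⟨_, rfl⟩
    have hw := h.hom.w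
    have w₁ : f.map a ≫ 𝟙 _ = 𝟙 _ ≫ c := by
      rw [ha, hc]; exact congrArg (fun k => k.hom.fst) hw
    have w₂ : g.map b ≫ s'.obj.iso.inv = s.obj.iso.inv ≫ c := by
      rw [hb, hc]; exact congrArg (fun k => k.hom.snd) hw
    have w : f.map a ≫ s'.obj.iso.hom = s.obj.iso.hom ≫ g.map b :=
      aux_fullc s.obj.iso s'.obj.iso (f.map a) (g.map b) c w₁ w₂
    refine ⟨ObjectProperty.homMk ⟨a, b, w⟩, ?_⟩
    apply ObjectProperty.hom_ext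
    apply Limits.CategoricalPullback.hom_ext
    · apply ObjectProperty.hom_ext
      apply Limits.CategoricalPullback.hom_ext
      · exact ha
      · exact hb
    · have e₁ : f.map a = c := by simpa using w₁
      exact e₁.trans hc

omit [Category.{v} C] in
lemma aux_hc1 {A : Type*} [Category A] {P Q Z : A} (u : P ⟶ P) (hu : u = 𝟙 P) (w : Q ⟶ Q) (hw : w = 𝟙 Q)
    (j : P ⟶ Q) (a : P ⟶ Z) (b : Q ⟶ Z) (bi : Z ⟶ Q) (hb : b ≫ bi = 𝟙 Q)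
    (h : a ≫ 𝟙 Z = (𝟙 P ≫ j ≫ 𝟙 Q) ≫ b) : u ≫ j = (a ≫ bi) ≫ w := by
  subst hu hw
  simp only [Category.comp_id, Category.id_comp] at h
  rw [h]
  simp [hb]

omit [Category.{v} C] in
lemma aux_hc2 {A : Type*} [Category A] {P R : A} (u : P ⟶ P) (hu : u = 𝟙 P) (a : P ⟶ R) :
    u ≫ a = 𝟙 P ≫ a := by
  subst hu; rfl

omit [Category.{v} C] in
lemma aux_hc3 {A : Type*} [Category A] {P Q Z : A} (u : Q ⟶ Q) (hu : u = 𝟙 Q) (a : P ⟶ Z) (ai : Z ⟶ P)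
    (ha : ai ≫ a = 𝟙 Z) (b : Q ⟶ Z) : u ≫ b = (b ≫ ai) ≫ a := by
  subst hu
  simp [ha]

theorem Ec_hes (r : (FibCat.fp (Hc f g t) (FibCat.diag t)).obj) :
    ∃ (s : (FibCat.fp f g).obj) (i : (Ec f g t e he).obj s ≅ r),
      (FibCat.fp (Hc f g t) (FibCat.diag t)).p.IsHomLift
        (𝟙 ((FibCat.fp (Hc f g t) (FibCat.diag t)).p.obj r)) i.hom := by
  let d : (FibCat.fp (BasedFunctor.comp f t) (BasedFunctor.comp g t)).obj := r.obj.fst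
  let x : 𝒳.obj := d.obj.fst
  let y : 𝒴.obj := d.obj.snd
  let θ₁ : f.obj x ≅ r.obj.snd := (FibCat.fpFst t t).toFunctor.mapIso r.obj.iso
  let θ₂ : g.obj y ≅ r.obj.snd := (FibCat.fpSnd t t).toFunctor.mapIso r.obj.iso
  have hθw : t.map θ₁.hom ≫ 𝟙 _ = (𝟙 _ ≫ d.obj.iso.hom ≫ 𝟙 _) ≫ t.map θ₂.hom := r.obj.iso.hom.hom.w
  have hr : (FibCat.fp t t).p.IsHomLift (𝟙 (𝒳.p.obj x)) r.obj.iso.hom := r.property
  have l1 : 𝒵.p.IsHomLift (𝟙 (𝒳.p.obj x)) θ₁.hom := (fp_lift_iff t t _ r.obj.iso.hom).1 hr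
  have l2 : 𝒵.p.IsHomLift (𝟙 (𝒳.p.obj x)) θ₂.hom := fp_lift_snd t t _ r.obj.iso.hom hr
  have v1 : Vert.IsVert 𝒵.p θ₁.hom := Vert.of_lift' 𝒵.p _ l1
  have v2 : Vert.IsVert 𝒵.p θ₂.inv := Vert.inv_of_iso 𝒵.p θ₂ (Vert.of_lift' 𝒵.p _ l2)
  have hk : 𝒵.p.IsHomLift (𝟙 (𝒳.p.obj x)) (θ₁ ≪≫ θ₂.symm).hom :=
    Vert.lift 𝒵.p _ (Vert.comp 𝒵.p _ _ v1 v2) (f.w_obj x)
  let s : (FibCat.fp f g).obj := ⟨⟨x, y, θ₁ ≪≫ θ₂.symm⟩, hk⟩
  have compat₁ : (BasedFunctor.comp f t).map (Iso.refl x).hom ≫ d.obj.iso.hom =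
      e.hom.toNatTrans.app s ≫ (BasedFunctor.comp g t).map (Iso.refl y).hom := by
    rw [he s]
    have e' : t.map s.obj.iso.hom = t.map θ₁.hom ≫ t.map θ₂.inv := t.toFunctor.map_comp _ _
    rw [e']
    refine aux_hc1 _ ((BasedFunctor.comp f t).toFunctor.map_id _) _
      ((BasedFunctor.comp g t).toFunctor.map_id _) d.obj.iso.hom (t.map θ₁.hom) (t.map θ₂.hom)
      (t.map θ₂.inv) ?_ hθw
    change t.toFunctor.map _ ≫ t.toFunctor.map _ = _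
    rw [← Functor.map_comp, Iso.hom_inv_id]
    exact t.toFunctor.map_id _
  let ρ₁ : (ic f g t e).obj s ≅ d := ObjectProperty.isoMk _
    (Limits.CategoricalPullback.mkIso (Iso.refl x) (Iso.refl y) compat₁)
  have compat : (Hc f g t).map ρ₁.hom ≫ r.obj.iso.hom =
      ((Ec f g t e he).obj s).obj.iso.hom ≫ (FibCat.diag t).map θ₁.hom := by
    apply ObjectProperty.hom_ext
    apply Limits.CategoricalPullback.hom_ext
    · exact aux_hc2 _ (f.toFunctor.map_id _) _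
    · exact aux_hc3 _ (g.toFunctor.map_id _) θ₁.hom θ₁.inv θ₁.inv_hom_id θ₂.hom
  refine ⟨s, ObjectProperty.isoMk _ (Limits.CategoricalPullback.mkIso ρ₁ θ₁ compat), ?_⟩
  rw [fp_lift_iff, fp_lift_iff]
  exact IsHomLift.id rfl

theorem Ec_isEquivOver : FibCat.IsEquivOver (Ec f g t e he) := by
  have h1 := Ec_faithful f g t e he
  have h2 := Ec_full f g t e he
  exact EquivCore.isEquivOver _ (Ec_hes f g t e he)

end Comparison

end Groth.Agent.Lib.helper10.GraphBC
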