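import Mathlib.Tactic
import Groth.Agent.Lib.helper10.FpRepr
import Groth.Agent.Lib.helper10.FpSelf
import Groth.Agent.Lib.helper10.DiagRepr

/-!
# Products of functors over `C` and representability (helper10 library)
-/

set_option autoImplicit false
universe v u v₂ u₂ v₃ u₃ v₄ u₄ v₅ u₅

open CategoryTheory

namespace Groth.Agent.Lib.helper10.FpProd

open Groth.Agent.Lib.helper10.FpGen

variable {C : Type u} [Category.{v} C]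

section Swap

variable {𝒳 : BasedCategory.{v₂, u₂} C} {𝒴 : BasedCategory.{v₃, u₃} C} {𝒮 : BasedCategory.{v₄, u₄} C}
  (F : 𝒳 ⥤ᵇ 𝒮) (G : 𝒴 ⥤ᵇ 𝒮)

/-- the swap `𝒳 ×_𝒮 𝒴 ⟶ 𝒴 ×_𝒮 𝒳` -/
def swap : FibCat.fp F G ⥤ᵇ FibCat.fp G F :=
  FibCat.fpLift (FibCat.fpSnd F G) (FibCat.fpFst F G) (FibCat.fpIso F G).symm

lemma swap_fst : BasedFunctor.comp (swap F G) (FibCat.fpFst G F) = FibCat.fpSnd F G := rfl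
lemma swap_snd : BasedFunctor.comp (swap F G) (FibCat.fpSnd G F) = FibCat.fpFst F G := rfl

lemma swap_swap : BasedFunctor.comp (swap F G) (swap G F) = BasedFunctor.id _ := rfl

theorem swap_isEquivOver : FibCat.IsEquivOver (swap F G) :=
  ⟨swap G F, ⟨eqToIso (swap_swap F G)⟩, ⟨eqToIso (swap_swap G F)⟩⟩

end Swap

section IsoMk

variable {𝒜 : BasedCategory.{v₂, u₂} C} {𝒳 : BasedCategory.{v₃, u₃} C} {𝒴 : BasedCategory.{v₄, u₄} C}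

/-- a 2-isomorphism between functors into `𝒳 ×_C 𝒴` from 2-isomorphisms of the two components -/
noncomputable def isoMk (X Y : 𝒜 ⥤ᵇ FpSelf.FP 𝒳 𝒴)
    (e₁ : BasedFunctor.comp X (FibCat.fpFst (FibCat.toSelf 𝒳) (FibCat.toSelf 𝒴)) ≅
      BasedFunctor.comp Y (FibCat.fpFst (FibCat.toSelf 𝒳) (FibCat.toSelf 𝒴)))
    (e₂ : BasedFunctor.comp X (FibCat.fpSnd (FibCat.toSelf 𝒳) (FibCat.toSelf 𝒴)) ≅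
      BasedFunctor.comp Y (FibCat.fpSnd (FibCat.toSelf 𝒳) (FibCat.toSelf 𝒴))) : X ≅ Y :=
  BasedNatIso.mkNatIso
    (NatIso.ofComponents (fun t =>
      ObjectProperty.isoMk _ (Limits.CategoricalPullback.mkIso
        (((BasedNatTrans.forgetful _ _).mapIso e₁).app t) (((BasedNatTrans.forgetful _ _).mapIso e₂).app t)
        (@FpSelf.w_of_lift C _ 𝒳 𝒴 _ _ (𝟙 (𝒜.p.obj t)) (X.obj t) (Y.obj t)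
          (e₁.hom.toNatTrans.app t) (e₂.hom.toNatTrans.app t) (e₁.hom.isHomLift' t) (e₂.hom.isHomLift' t))))
      (by
        intro t t' m
        apply ObjectProperty.hom_ext
        apply Limits.CategoricalPullback.hom_ext
        · exact e₁.hom.toNatTrans.naturality m
        · exact e₂.hom.toNatTrans.naturality m))
    (by
      intro t
      rw [FpSelf.lift_iff]
      exact e₁.hom.isHomLift' t)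

end IsoMk

section Prod

variable {𝒳₁ : BasedCategory.{v₂, u₂} C} {𝒳₂ : BasedCategory.{v₃, u₃} C}
  {𝒴₁ : BasedCategory.{v₄, u₄} C} {𝒴₂ : BasedCategory.{v₅, u₅} C}
  (f₁ : 𝒳₁ ⥤ᵇ 𝒴₁) (f₂ : 𝒳₂ ⥤ᵇ 𝒴₂)

/-- `f₁ × id : 𝒳₁ × 𝒳₂ ⟶ 𝒴₁ × 𝒳₂` -/
def prodL : FpSelf.FP 𝒳₁ 𝒳₂ ⥤ᵇ FpSelf.FP 𝒴₁ 𝒳₂ :=
  FpMap.Φ (FibCat.toSelf 𝒳₁) (FibCat.toSelf 𝒳₂) (FibCat.toSelf 𝒴₁) (FibCat.toSelf 𝒳₂)
    f₁ (BasedFunctor.id 𝒳₂) (BasedFunctor.id _) (DiagRepr.selfIso _ _) (DiagRepr.selfIso _ _)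

/-- `id × f₂ : 𝒴₁ × 𝒳₂ ⟶ 𝒴₁ × 𝒴₂` -/
def prodR : FpSelf.FP 𝒴₁ 𝒳₂ ⥤ᵇ FpSelf.FP 𝒴₁ 𝒴₂ :=
  FpMap.Φ (FibCat.toSelf 𝒴₁) (FibCat.toSelf 𝒳₂) (FibCat.toSelf 𝒴₁) (FibCat.toSelf 𝒴₂)
    (BasedFunctor.id 𝒴₁) f₂ (BasedFunctor.id _) (DiagRepr.selfIso _ _) (DiagRepr.selfIso _ _)

/-- any product functor factors as `(f₁ × id) ⋙ (id × f₂)` -/
noncomputable def factorIso
    (e : BasedFunctor.comp (BasedFunctor.comp (FibCat.fpFst (FibCat.toSelf 𝒳₁) (FibCat.toSelf 𝒳₂)) f₁) (FibCat.toSelf 𝒴₁) ≅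
      BasedFunctor.comp (BasedFunctor.comp (FibCat.fpSnd (FibCat.toSelf 𝒳₁) (FibCat.toSelf 𝒳₂)) f₂) (FibCat.toSelf 𝒴₂)) :
    FibCat.fpLift (BasedFunctor.comp (FibCat.fpFst (FibCat.toSelf 𝒳₁) (FibCat.toSelf 𝒳₂)) f₁)
      (BasedFunctor.comp (FibCat.fpSnd (FibCat.toSelf 𝒳₁) (FibCat.toSelf 𝒳₂)) f₂) e ≅
      BasedFunctor.comp (prodL (𝒳₂ := 𝒳₂) f₁) (prodR (𝒴₁ := 𝒴₁) f₂) :=
  isoMk _ _ (Iso.refl _) (Iso.refl _)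

/-- `(𝒴₁ × 𝒴₂) ×_{𝒴₂} 𝒳₂ ⟶ 𝒴₁ × 𝒳₂` -/
def eR : FibCat.fp (FibCat.fpSnd (FibCat.toSelf 𝒴₁) (FibCat.toSelf 𝒴₂)) f₂ ⥤ᵇ FpSelf.FP 𝒴₁ 𝒳₂ :=
  BasedFunctor.comp (FpPaste.Ψ₂ (FibCat.toSelf 𝒴₁) (FibCat.toSelf 𝒴₂) f₂)
    (FpMap.Φ (FibCat.toSelf 𝒴₁) (BasedFunctor.comp f₂ (FibCat.toSelf 𝒴₂)) (FibCat.toSelf 𝒴₁) (FibCat.toSelf 𝒳₂)
      (BasedFunctor.id 𝒴₁) (BasedFunctor.id 𝒳₂) (BasedFunctor.id _) (Iso.refl _) (DiagRepr.selfIso _ _))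

theorem eR_isEquivOver : FibCat.IsEquivOver (eR (𝒴₁ := 𝒴₁) f₂) :=
  EquivComp.comp _ _ (FpPaste.Ψ₂_isEquivOver _ _ _)
    (FpMap.Φ_isEquivOver' _ _ _ _ _ _ _ _ _ (EquivComp.id_isEquivOver _) (EquivComp.id_isEquivOver _)
      (EquivComp.id_isEquivOver _))

/-- `id × f₂` is the base change of `f₂` -/
noncomputable def eR_iso :
    FibCat.fpFst (FibCat.fpSnd (FibCat.toSelf 𝒴₁) (FibCat.toSelf 𝒴₂)) f₂ ≅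
      BasedFunctor.comp (eR (𝒴₁ := 𝒴₁) f₂) (prodR (𝒴₁ := 𝒴₁) f₂) :=
  isoMk _ _ (Iso.refl _) (FibCat.fpIso (FibCat.fpSnd (FibCat.toSelf 𝒴₁) (FibCat.toSelf 𝒴₂)) f₂)

/-- `(𝒴₁ × 𝒳₂) ×_{𝒴₁} 𝒳₁ ⟶ 𝒳₁ × 𝒳₂` -/
def eL : FibCat.fp (FibCat.fpFst (FibCat.toSelf 𝒴₁) (FibCat.toSelf 𝒳₂)) f₁ ⥤ᵇ FpSelf.FP 𝒳₁ 𝒳₂ :=
  BasedFunctor.comp (swap (FibCat.fpFst (FibCat.toSelf 𝒴₁) (FibCat.toSelf 𝒳₂)) f₁)
    (BasedFunctor.comp (FpPaste.Ψ₁ f₁ (FibCat.toSelf 𝒴₁) (FibCat.toSelf 𝒳₂))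
      (FpMap.Φ (BasedFunctor.comp f₁ (FibCat.toSelf 𝒴₁)) (FibCat.toSelf 𝒳₂) (FibCat.toSelf 𝒳₁) (FibCat.toSelf 𝒳₂)
        (BasedFunctor.id 𝒳₁) (BasedFunctor.id 𝒳₂) (BasedFunctor.id _) (DiagRepr.selfIso _ _) (Iso.refl _)))

theorem eL_isEquivOver : FibCat.IsEquivOver (eL (𝒳₂ := 𝒳₂) f₁) :=
  EquivComp.comp _ _ (swap_isEquivOver _ _)
    (EquivComp.comp _ _ (FpPaste.Ψ₁_isEquivOver _ _ _)
      (FpMap.Φ_isEquivOver' _ _ _ _ _ _ _ _ _ (EquivComp.id_isEquivOver _) (EquivComp.id_isEquivOver _)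
        (EquivComp.id_isEquivOver _)))

/-- `f₁ × id` is the base change of `f₁` -/
noncomputable def eL_iso :
    FibCat.fpFst (FibCat.fpFst (FibCat.toSelf 𝒴₁) (FibCat.toSelf 𝒳₂)) f₁ ≅
      BasedFunctor.comp (eL (𝒳₂ := 𝒳₂) f₁) (prodL (𝒳₂ := 𝒳₂) f₁) :=
  isoMk _ _ (FibCat.fpIso (FibCat.fpFst (FibCat.toSelf 𝒴₁) (FibCat.toSelf 𝒳₂)) f₁) (Iso.refl _)

end Prod

end Groth.Agent.Lib.helper10.FpProd
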