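import Mathlib.Tactic
import Groth.Agent.Lib.helper10.FpMap
import Groth.Agent.Lib.helper10.FpPaste
import Groth.Agent.Lib.helper10.EquivComp
import Groth.Agent.Lib.helper10.FpProd
import Groth.Agent.S12782
import Groth.Prelude.Def_AlgSt4

/-!
# Formal permanence of `AlgSt.RepByAlgSpWith P` (helper10 library, general universes, any `P`)
-/

set_option autoImplicit false
universe u v₂ u₂ v₃ u₃ v₄ u₄ v₅ u₅

open CategoryTheory AlgebraicGeometry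

namespace Groth.Agent.Lib.helper10.RepWith

open AlgSt Groth.Agent.S12782

variable {S : Scheme.{u}}

/-- invariance under equivalences (no fibredness hypotheses) -/
theorem iff_of_equiv {𝒳 : BasedCategory.{v₂, u₂} (Over S)} {𝒴 : BasedCategory.{v₃, u₃} (Over S)}
    {𝒳' : BasedCategory.{v₄, u₄} (Over S)} {𝒴' : BasedCategory.{v₅, u₅} (Over S)}
    (P : MorphismProperty (AlgSp.Sp S)) (f : 𝒳 ⥤ᵇ 𝒴) (f' : 𝒳' ⥤ᵇ 𝒴') (a : 𝒳' ⥤ᵇ 𝒳) (b : 𝒴' ⥤ᵇ 𝒴)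
    (ha : FibCat.IsEquivOver a) (hb : FibCat.IsEquivOver b)
    (e : BasedFunctor.comp f' b ≅ BasedFunctor.comp a f) :
    AlgSt.RepByAlgSpWith P f ↔ AlgSt.RepByAlgSpWith P f' := by
  constructor
  · intro hf U y'
    obtain ⟨F, e₀, he₀, hP⟩ := hf U (BasedFunctor.comp y' b)
    have hΦ := FpMap.Φ_isEquivOver'
      y' f' (BasedFunctor.comp y' b) f (BasedFunctor.id (FibCat.overCat U)) a b
      (Iso.refl _) e.symm (EquivComp.id_isEquivOver _) ha hb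
    obtain ⟨Φ', ⟨η⟩, ⟨ε⟩⟩ := hΦ
    refine ⟨F, BasedFunctor.comp e₀ Φ', EquivComp.comp e₀ Φ' he₀ ⟨_, ⟨ε⟩, ⟨η⟩⟩, ?_⟩
    have hiso : BasedFunctor.comp (BasedFunctor.comp e₀ Φ') (FibCat.fpFst y' f') ≅
        BasedFunctor.comp e₀ (FibCat.fpFst (BasedFunctor.comp y' b) f) :=
      (Stk.restr e₀ _).mapIso
        ((StkEquiv.post (FibCat.fpFst (BasedFunctor.comp y' b) f) _).mapIso ε)
    rw [spMapOfOver_eq_of_iso _ _ hiso]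
    exact hP
  · intro hf' U y
    obtain ⟨b', ⟨ηb⟩, ⟨εb⟩⟩ := hb
    obtain ⟨F, e₀, he₀, hP⟩ := hf' U (BasedFunctor.comp y b')
    let α : BasedFunctor.comp (BasedFunctor.id (FibCat.overCat U)) y ≅
        BasedFunctor.comp (BasedFunctor.comp y b') b :=
      (Stk.restr y 𝒴).mapIso εb.symm
    have hΦ := FpMap.Φ_isEquivOver'
      (BasedFunctor.comp y b') f' y f (BasedFunctor.id (FibCat.overCat U)) a b
      α e.symm (EquivComp.id_isEquivOver _) ha ⟨b', ⟨ηb⟩, ⟨εb⟩⟩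
    refine ⟨F, BasedFunctor.comp e₀ _, EquivComp.comp e₀ _ he₀ hΦ, ?_⟩
    exact hP

/-- base change along the first projection -/
theorem fpFst {𝒳 : BasedCategory.{v₂, u₂} (Over S)} {𝒴 : BasedCategory.{v₃, u₃} (Over S)}
    {𝒵 : BasedCategory.{v₄, u₄} (Over S)}
    (P : MorphismProperty (AlgSp.Sp S)) (f : 𝒳 ⥤ᵇ 𝒴) (g : 𝒵 ⥤ᵇ 𝒴) (hf : AlgSt.RepByAlgSpWith P f) :
    AlgSt.RepByAlgSpWith P (FibCat.fpFst g f) := by
  intro U G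
  obtain ⟨F, e₀, he₀, hP⟩ := hf U (BasedFunctor.comp G g)
  obtain ⟨Ψ', ⟨η⟩, ⟨ε⟩⟩ := FpPaste.Ψ₁_isEquivOver G g f
  refine ⟨F, BasedFunctor.comp e₀ Ψ', EquivComp.comp e₀ Ψ' he₀ ⟨_, ⟨ε⟩, ⟨η⟩⟩, ?_⟩
  have hiso : BasedFunctor.comp (BasedFunctor.comp e₀ Ψ') (FibCat.fpFst G (FibCat.fpFst g f)) ≅
      BasedFunctor.comp e₀ (FibCat.fpFst (BasedFunctor.comp G g) f) :=
    (Stk.restr e₀ _).mapIso
      ((StkEquiv.post (FibCat.fpFst (BasedFunctor.comp G g) f) _).mapIso ε)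
  rw [spMapOfOver_eq_of_iso _ _ hiso]
  exact hP

/-- base change along the second projection -/
theorem fpSnd {𝒳 : BasedCategory.{v₂, u₂} (Over S)} {𝒴 : BasedCategory.{v₃, u₃} (Over S)}
    {𝒵 : BasedCategory.{v₄, u₄} (Over S)}
    (P : MorphismProperty (AlgSp.Sp S)) (f : 𝒳 ⥤ᵇ 𝒴) (z : 𝒵 ⥤ᵇ 𝒴) (hz : AlgSt.RepByAlgSpWith P z) :
    AlgSt.RepByAlgSpWith P (FibCat.fpSnd z f) :=
  (iff_of_equiv P (FibCat.fpFst f z) (FibCat.fpSnd z f) (FpProd.swap z f) (BasedFunctor.id _)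
    (FpProd.swap_isEquivOver z f) (EquivComp.id_isEquivOver _) (Iso.refl _)).mp (fpFst P z f hz)

/-- transfer along a 2-cartesian square -/
theorem of_cart {𝒳 : BasedCategory.{v₂, u₂} (Over S)} {𝒴 : BasedCategory.{v₃, u₃} (Over S)}
    {𝒳' : BasedCategory.{v₄, u₄} (Over S)} {𝒴' : BasedCategory.{v₅, u₅} (Over S)}
    (P : MorphismProperty (AlgSp.Sp S)) (f : 𝒳 ⥤ᵇ 𝒴) (f' : 𝒳' ⥤ᵇ 𝒴') (H : 𝒴' ⥤ᵇ 𝒴)
    (E : 𝒳' ⥤ᵇ FibCat.fp H f) (hE : FibCat.IsEquivOver E)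
    (e : f' ≅ BasedFunctor.comp E (FibCat.fpFst H f))
    (hf : AlgSt.RepByAlgSpWith P f) : AlgSt.RepByAlgSpWith P f' :=
  (iff_of_equiv P (FibCat.fpFst H f) f' E (BasedFunctor.id _) hE (EquivComp.id_isEquivOver _) e).mp
    (fpFst P f H hf)

/-- postcomposing a chart with an equivalence -/
theorem comp_equiv {𝒳 : BasedCategory.{v₂, u₂} (Over S)} {𝒴 : BasedCategory.{v₃, u₃} (Over S)}
    {𝒴' : BasedCategory.{v₄, u₄} (Over S)}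
    (P : MorphismProperty (AlgSp.Sp S)) (x : 𝒳 ⥤ᵇ 𝒴) (Ψ : 𝒴 ⥤ᵇ 𝒴') (hΨ : FibCat.IsEquivOver Ψ)
    (hx : AlgSt.RepByAlgSpWith P x) : AlgSt.RepByAlgSpWith P (BasedFunctor.comp x Ψ) := by
  obtain ⟨Ψ', hΨ'⟩ := EquivComp.symm Ψ hΨ
  obtain ⟨Ψ'', ⟨η⟩, ⟨ε⟩⟩ := hΨ
  exact (iff_of_equiv P (BasedFunctor.comp x Ψ) x (BasedFunctor.id _) Ψ (EquivComp.id_isEquivOver _)
    ⟨Ψ'', ⟨η⟩, ⟨ε⟩⟩ (Iso.refl _)).mpr hx

/-- quasi-compactness is invariant under equivalence -/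
theorem isQuasiCompact_of_equiv {𝒜 : BasedCategory.{v₂, u₂} (Over S)} {ℬ : BasedCategory.{v₃, u₃} (Over S)}
    (Ψ : 𝒜 ⥤ᵇ ℬ) (hΨ : FibCat.IsEquivOver Ψ) (h : AlgSt.IsQuasiCompact 𝒜) : AlgSt.IsQuasiCompact ℬ := by
  obtain ⟨U, x, hU, h1, h2⟩ := h
  exact ⟨U, BasedFunctor.comp x Ψ, hU, comp_equiv _ x Ψ hΨ h1, comp_equiv _ x Ψ hΨ h2⟩

end Groth.Agent.Lib.helper10.RepWith
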