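import Mathlib.Tactic
import Groth.Agent.Lib.helper10.RepWith
import Groth.Agent.Lib.helper10.DiagBC
import Groth.Agent.Lib.helper10.GraphBC
import Groth.Agent.Lib.helper10.FpEquivBase

/-!
# `RepByAlgSpWith P` of the diagonal is stable under base change (helper10 library)
-/

set_option autoImplicit false
universe u v₂ u₂ v₃ u₃ v₄ u₄ v₅ u₅

open CategoryTheory AlgebraicGeometry

namespace Groth.Agent.Lib.helper10.DiagRepWith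

variable {S : Scheme.{u}}

/-- the diagonal of the base change `𝒴' ×_𝒴 𝒳 ⟶ 𝒴'` has `P` as soon as the diagonal of `f` has -/
theorem diag_fpFst {𝒳 : BasedCategory.{v₂, u₂} (Over S)} {𝒴 : BasedCategory.{v₃, u₃} (Over S)}
    {𝒴' : BasedCategory.{v₄, u₄} (Over S)}
    (P : MorphismProperty (AlgSp.Sp S)) (f : 𝒳 ⥤ᵇ 𝒴) (g : 𝒴' ⥤ᵇ 𝒴)
    (h : AlgSt.RepByAlgSpWith P (FibCat.diag f)) :
    AlgSt.RepByAlgSpWith P (FibCat.diag (FibCat.fpFst g f)) :=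
  RepWith.of_cart P (FibCat.diag f) (FibCat.diag (FibCat.fpFst g f)) (DiagBC.H f g) (DiagBC.E f g)
    (DiagBC.E_isEquivOver f g) (Iso.refl _) h

/-- the graph of `g : 𝒳 ⟶ 𝒴` over `𝒯` has `P` as soon as the diagonal of `𝒴 ⟶ 𝒯` has -/
theorem graph {𝒳 : BasedCategory.{v₂, u₂} (Over S)} {𝒴 : BasedCategory.{v₃, u₃} (Over S)}
    {𝒯 : BasedCategory.{v₄, u₄} (Over S)}
    (P : MorphismProperty (AlgSp.Sp S)) (p : 𝒳 ⥤ᵇ 𝒯) (q : 𝒴 ⥤ᵇ 𝒯) (g : 𝒳 ⥤ᵇ 𝒴)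
    (e : BasedFunctor.comp (BasedFunctor.id 𝒳) p ≅ BasedFunctor.comp g q)
    (h : AlgSt.RepByAlgSpWith P (FibCat.diag q)) :
    AlgSt.RepByAlgSpWith P (FibCat.fpLift (BasedFunctor.id 𝒳) g e) :=
  RepWith.of_cart P (FibCat.diag q) (FibCat.fpLift (BasedFunctor.id 𝒳) g e) (GraphBC.H p q g e)
    (GraphBC.E p q g e) (GraphBC.E_isEquivOver p q g e) (Iso.refl _) h

/-- a section of `f` has `P` as soon as the diagonal of `f` has -/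
theorem section_ {𝒳 : BasedCategory.{v₂, u₂} (Over S)} {𝒯 : BasedCategory.{v₃, u₃} (Over S)}
    (P : MorphismProperty (AlgSp.Sp S)) (f : 𝒳 ⥤ᵇ 𝒯) (s : 𝒯 ⥤ᵇ 𝒳)
    (e : BasedFunctor.comp s f ≅ BasedFunctor.id 𝒯)
    (h : AlgSt.RepByAlgSpWith P (FibCat.diag f)) : AlgSt.RepByAlgSpWith P s := by
  have h1 := graph P (BasedFunctor.id 𝒯) f s e.symm h
  exact RepWith.comp_equiv P _ (FibCat.fpSnd (BasedFunctor.id 𝒯) f)
    (FpEquivBase.fpSnd_isEquivOver_of_equiv _ _ (EquivComp.id_isEquivOver _)) h1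

/-- the comparison `𝒳 ×_𝒵 𝒴 ⟶ 𝒳 ×_𝒯 𝒴` has `P` as soon as the diagonal of `𝒵 ⟶ 𝒯` has -/
theorem fpComparison {𝒳 : BasedCategory.{v₂, u₂} (Over S)} {𝒴 : BasedCategory.{v₃, u₃} (Over S)}
    {𝒵 : BasedCategory.{v₄, u₄} (Over S)} {𝒯 : BasedCategory.{v₅, u₅} (Over S)}
    (P : MorphismProperty (AlgSp.Sp S)) (f : 𝒳 ⥤ᵇ 𝒵) (g : 𝒴 ⥤ᵇ 𝒵) (t : 𝒵 ⥤ᵇ 𝒯)
    (e : BasedFunctor.comp (FibCat.fpFst f g) (BasedFunctor.comp f t) ≅
      BasedFunctor.comp (FibCat.fpSnd f g) (BasedFunctor.comp g t))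
    (he : ∀ x, e.hom.toNatTrans.app x = t.map x.obj.iso.hom)
    (h : AlgSt.RepByAlgSpWith P (FibCat.diag t)) :
    AlgSt.RepByAlgSpWith P (FibCat.fpLift (FibCat.fpFst f g) (FibCat.fpSnd f g) e) :=
  RepWith.of_cart P (FibCat.diag t) (FibCat.fpLift (FibCat.fpFst f g) (FibCat.fpSnd f g) e)
    (GraphBC.Hc f g t) (GraphBC.Ec f g t e he) (GraphBC.Ec_isEquivOver f g t e he) (Iso.refl _) h

end Groth.Agent.Lib.helper10.DiagRepWith
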