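import Mathlib.Algebra.Algebra.Epi
import Mathlib.RingTheory.TensorProduct.Basic

/-! Ring epimorphisms: characterization by ring homomorphisms. -/

open TensorProduct

namespace Groth.Agent.Lib.helper10

universe u v

/-- An epimorphism in the sense of `Algebra.IsEpi` is right-cancellable for ring homomorphisms. -/
theorem ringHom_ext_of_isEpi {R S : Type*} [CommRing R] [CommRing S] [Algebra R S]
    [Algebra.IsEpi R S] {T : Type*} [CommRing T] (f g : S →+* T)
    (h : f.comp (algebraMap R S) = g.comp (algebraMap R S)) : f = g := by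
  letI : Algebra R T := (g.comp (algebraMap R S)).toAlgebra
  let f' : S →ₐ[R] T := ⟨f, fun r => RingHom.congr_fun h r⟩
  let g' : S →ₐ[R] T := ⟨g, fun _ => rfl⟩
  ext s
  have H := (Algebra.isEpi_iff_forall_one_tmul_eq R S).1 inferInstance s
  have := congrArg (Algebra.TensorProduct.lift f' g' (fun _ _ => .all _ _)) H
  simpa [f', g'] using this.symm

/-- Conversely, right-cancellability against `S ⊗[R] S` gives `Algebra.IsEpi`. -/
theorem isEpi_of_ringHom_ext {R S : Type u} [CommRing R] [CommRing S] [Algebra R S]
    (h : ∀ (T : Type u) [CommRing T] (f g : S →+* T),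
      f.comp (algebraMap R S) = g.comp (algebraMap R S) → f = g) : Algebra.IsEpi R S := by
  rw [Algebra.isEpi_iff_forall_one_tmul_eq]
  intro a
  have := h (S ⊗[R] S) (Algebra.TensorProduct.includeRight (R := R) (A := S)).toRingHom
    Algebra.TensorProduct.includeLeftRingHom (by
      ext r
      change (1 : S) ⊗ₜ[R] algebraMap R S r = algebraMap R S r ⊗ₜ[R] (1 : S)
      simp only [Algebra.algebraMap_eq_smul_one, smul_tmul])
  exact RingHom.congr_fun this a

end Groth.Agent.Lib.helper10
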