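import Mathlib

namespace Groth.Agent.Lib.helper10.TensLoc
open CategoryTheory Limits Opposite MonoidalCategory

universe u

variable {C : Type u} [SmallCategory C] (J : GrothendieckTopology C) (R : Cᵒᵖ ⥤ CommRingCat.{u})

abbrev R0 (R : Cᵒᵖ ⥤ CommRingCat.{u}) : Cᵒᵖ ⥤ RingCat.{u} := R ⋙ forget₂ CommRingCat.{u} RingCat.{u}

variable {R}

/-- whiskering a locally surjective morphism of presheaves of modules stays locally surjective -/
lemma locSurj_whiskerRight {M M' : PresheafOfModules.{u} (R0 R)} (f : M ⟶ M')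
    [Presheaf.IsLocallySurjective J ((PresheafOfModules.toPresheaf (R0 R)).map f)]
    (N : PresheafOfModules.{u} (R0 R)) :
    Presheaf.IsLocallySurjective J ((PresheafOfModules.toPresheaf (R0 R)).map (f ▷ N)) := by
  constructor
  intro U x
  obtain ⟨x', rfl⟩ : ∃ x' : TensorProduct (R.obj (op U)) (M'.obj (op U)) (N.obj (op U)), x' = x :=
    ⟨x, rfl⟩
  induction x' using TensorProduct.induction_on with
  | zero =>
    apply J.superset_covering _ (J.top_mem U)
    intro V g _
    exact ⟨0, (map_zero _).trans (map_zero _).symm⟩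
  | tmul m' n =>
    have h1 := Presheaf.imageSieve_mem J ((PresheafOfModules.toPresheaf (R0 R)).map f) (U := op U) m'
    apply J.superset_covering _ h1
    intro V g hg
    obtain ⟨m, hm⟩ := hg
    obtain ⟨m₀, rfl⟩ : ∃ m₀ : M.obj (op V), m₀ = m := ⟨m, rfl⟩
    have hm' : f.app (op V) m₀ = M'.map g.op m' := hm
    refine ⟨(m₀ ⊗ₜ[R.obj (op V)] (N.map g.op n) :
      TensorProduct (R.obj (op V)) (M.obj (op V)) (N.obj (op V))), ?_⟩
    have h2 : (PresheafOfModules.Monoidal.tensorObj M' N).map g.op (m' ⊗ₜ[R.obj (op U)] n) =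
        M'.map g.op m' ⊗ₜ[R.obj (op V)] N.map g.op n :=
      PresheafOfModules.Monoidal.tensorObj_map_tmul g.op m' n
    have h3 : (f ▷ N).app (op V) (m₀ ⊗ₜ[R.obj (op V)] (N.map g.op n)) =
        f.app (op V) m₀ ⊗ₜ[R.obj (op V)] N.map g.op n := rfl
    exact h3.trans ((congrArg (fun z => z ⊗ₜ[R.obj (op V)] N.map g.op n) hm').trans h2.symm)
  | add x y hx hy =>
    apply J.superset_covering _ (J.intersection_covering hx hy)
    intro V g hg
    obtain ⟨⟨a, ha⟩, ⟨b, hb⟩⟩ := hg
    exact ⟨a + b, (map_add _ a b).trans (by rw [ha, hb]; exact (map_add _ x y).symm)⟩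



lemma finite_inter {ι : Type*} {U : C} (S : ι → Sieve U) (s : Finset ι) (h : ∀ i ∈ s, S i ∈ J U) :
    ∃ T ∈ J U, ∀ ⦃V : C⦄ (g : V ⟶ U), T g → ∀ i ∈ s, S i g := by
  classical
  induction s using Finset.induction_on with
  | empty => exact ⟨⊤, J.top_mem U, fun V g _ i hi => by simp at hi⟩
  | insert a s ha ih =>
    obtain ⟨T, hT, hT'⟩ := ih (fun i hi => h i (Finset.mem_insert_of_mem hi))
    refine ⟨S a ⊓ T, J.intersection_covering (h a (Finset.mem_insert_self a s)) hT, ?_⟩
    intro V g hg i hi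
    rcases Finset.mem_insert.1 hi with rfl | hi
    · exact hg.1
    · exact hT' g hg.2 i hi

lemma free_map_single (P : Cᵒᵖ ⥤ Type u) {X Y : Cᵒᵖ} (g : X ⟶ Y) (i : P.obj X) :
    ((PresheafOfModules.free (R0 R)).obj P).map g (Finsupp.single i (1 : R.obj X)) =
      Finsupp.single (P.map g i) (1 : R.obj Y) := by
  exact ModuleCat.freeDesc_apply _ _


section alg
open TensorProduct

lemma exists_rep_of_rTensor_eq_zero {A : Type*} [CommRing A] {M M' : Type*} [AddCommGroup M]
    [Module A M] [AddCommGroup M'] [Module A M'] (f : M →ₗ[A] M') (ι : Type*)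
    (x : M ⊗[A] (ι →₀ A)) (hx : f.rTensor (ι →₀ A) x = 0) :
    ∃ (s : Finset ι) (y : ι → M), (∀ i ∈ s, f (y i) = 0) ∧
      x = ∑ i ∈ s, y i ⊗ₜ[A] Finsupp.single i (1 : A) := by
  classical
  have nat : ∀ t : M ⊗[A] (ι →₀ A), finsuppScalarRight A A M' ι (f.rTensor (ι →₀ A) t) =
      Finsupp.mapRange f (map_zero f) (finsuppScalarRight A A M ι t) := by
    intro t
    induction t using TensorProduct.induction_on with
    | zero => simp
    | tmul m p =>
      ext i
      simp [finsuppScalarRight_apply_tmul_apply]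
    | add a b ha hb =>
      rw [map_add, map_add, ha, hb, map_add]
      ext i
      simp
  have hz : Finsupp.mapRange f (map_zero f) (finsuppScalarRight A A M ι x) = 0 := by
    rw [← nat, hx, map_zero]
  have key : ∀ z : ι →₀ M, (finsuppScalarRight A A M ι).symm z =
      ∑ i ∈ z.support, z i ⊗ₜ[A] Finsupp.single i (1 : A) := by
    intro z
    conv_lhs => rw [← Finsupp.sum_single z]
    rw [Finsupp.sum, map_sum]
    apply Finset.sum_congr rfl
    intro i _
    exact finsuppScalarRight_symm_apply_single i (z i)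
  refine ⟨(finsuppScalarRight A A M ι x).support, finsuppScalarRight A A M ι x, ?_, ?_⟩
  · intro i _
    have := DFunLike.congr_fun hz i
    simpa using this
  · rw [← key, LinearEquiv.symm_apply_apply]

end alg

/-- Lemma B: whiskering a locally injective morphism with a free presheaf of modules stays
locally injective -/
lemma locInj_whiskerRight_free {M M' : PresheafOfModules.{u} (R0 R)} (f : M ⟶ M')
    [Presheaf.IsLocallyInjective J ((PresheafOfModules.toPresheaf (R0 R)).map f)]
    (P : Cᵒᵖ ⥤ Type u) :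
    Presheaf.IsLocallyInjective J ((PresheafOfModules.toPresheaf (R0 R)).map
      (f ▷ (PresheafOfModules.free (R0 R)).obj P)) := by
  constructor
  intro U x y hxy
  obtain ⟨x', rfl⟩ : ∃ x' : TensorProduct (R.obj U) (M.obj U) (P.obj U →₀ R.obj U), x' = x :=
    ⟨x, rfl⟩
  obtain ⟨y', rfl⟩ : ∃ y' : TensorProduct (R.obj U) (M.obj U) (P.obj U →₀ R.obj U), y' = y :=
    ⟨y, rfl⟩
  let f' : M.obj U →ₗ[R.obj U] M'.obj U := (f.app U).hom
  have hz : (LinearMap.rTensor (P.obj U →₀ R.obj U) f') (x' - y') = 0 := by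
    rw [map_sub, sub_eq_zero]
    exact hxy
  obtain ⟨s, w, hw, hrep⟩ := exists_rep_of_rTensor_eq_zero f' (P.obj U) (x' - y') hz
  obtain ⟨T, hT, hT'⟩ := finite_inter J (U := U.unop)
    (fun i => Presheaf.equalizerSieve (F := (PresheafOfModules.toPresheaf (R0 R)).obj M) (w i) 0) s
    (fun i hi => Presheaf.equalizerSieve_mem J
      ((PresheafOfModules.toPresheaf (R0 R)).map f) (X := U) (w i) 0
      ((hw i hi).trans (map_zero _).symm))
  apply J.superset_covering _ hT
  intro V g hg
  have h0 : ∀ i ∈ s, M.map g.op (w i) = 0 := by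
    intro i hi
    exact (hT' g hg i hi).trans (map_zero _)
  set L := (PresheafOfModules.free (R0 R)).obj P with hL
  let Φ : TensorProduct (R.obj U) (M.obj U) (P.obj U →₀ R.obj U) →+
      TensorProduct (R.obj (op V)) (M.obj (op V)) (P.obj (op V) →₀ R.obj (op V)) :=
    AddMonoidHomClass.toAddMonoidHom ((PresheafOfModules.Monoidal.tensorObj M L).map g.op).hom
  have h1 : Φ (x' - y') = 0 := by
    rw [hrep, map_sum]
    apply Finset.sum_eq_zero
    intro i hi
    have h2 : (PresheafOfModules.Monoidal.tensorObj M L).map g.op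
        (w i ⊗ₜ[R.obj U] (Finsupp.single i (1 : R.obj U) : P.obj U →₀ R.obj U)) =
        M.map g.op (w i) ⊗ₜ[R.obj (op V)] L.map g.op (Finsupp.single i (1 : R.obj U)) :=
      PresheafOfModules.Monoidal.tensorObj_map_tmul g.op (w i) _
    refine h2.trans ?_
    rw [h0 i hi, TensorProduct.zero_tmul]
    rfl
  have h3 : Φ x' - Φ y' = 0 := by
    rw [← map_sub]; exact h1
  exact sub_eq_zero.1 h3

end Groth.Agent.Lib.helper10.TensLoc
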