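import Mathlib
import Groth.Prelude.Def_ModSite
import Groth.Agent.Lib.helper10.TensLoc

namespace Groth.Agent.Lib.helper10.TensCore
open CategoryTheory Limits Opposite MonoidalCategory
open Groth.Agent.Lib.helper10.TensLoc

universe u

variable {C : Type u} [SmallCategory C] {J : GrothendieckTopology C}

section iso

variable {R₀ : Cᵒᵖ ⥤ RingCat.{u}} {R : Sheaf J RingCat.{u}} (α : R₀ ⟶ R.obj)
  [Presheaf.IsLocallyInjective J α] [Presheaf.IsLocallySurjective J α]

lemma isIso_sheafification_map {M M' : PresheafOfModules.{u} R₀} (φ : M ⟶ M')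
    [Presheaf.IsLocallyInjective J ((PresheafOfModules.toPresheaf R₀).map φ)]
    [Presheaf.IsLocallySurjective J ((PresheafOfModules.toPresheaf R₀).map φ)] :
    IsIso ((PresheafOfModules.sheafification α).map φ) := by
  rw [← isIso_iff_of_reflects_iso _ (SheafOfModules.toSheaf R)]
  have h : J.W ((PresheafOfModules.toPresheaf R₀).map φ) := J.W_of_isLocallyBijective _
  exact (J.W_iff _).1 h

end iso


section pres

variable (R₀ : Cᵒᵖ ⥤ RingCat.{u})

/-- the canonical epimorphism from a free presheaf of modules -/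
noncomputable def ε (N : PresheafOfModules.{u} R₀) :
    (PresheafOfModules.free R₀).obj (N.presheaf ⋙ forget _) ⟶ N :=
  PresheafOfModules.freeObjDesc (𝟙 _)

instance (N : PresheafOfModules.{u} R₀) : Epi (ε R₀ N) := by
  apply PresheafOfModules.epi_of_surjective
  intro X n
  exact ⟨ModuleCat.freeMk n, ModuleCat.freeDesc_apply _ _⟩

lemma presentation (N : PresheafOfModules.{u} R₀) :
    ∃ (P₁ P₀ : Cᵒᵖ ⥤ Type u) (g : (PresheafOfModules.free R₀).obj P₁ ⟶
      (PresheafOfModules.free R₀).obj P₀) (p : (PresheafOfModules.free R₀).obj P₀ ⟶ N)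
      (w : g ≫ p = 0), Nonempty (IsColimit (CokernelCofork.ofπ p w)) := by
  have h1 := Abelian.epiIsCokernelOfKernel _ (kernelIsKernel (ε R₀ N))
  have h2 := isCokernelEpiComp h1 (ε R₀ (kernel (ε R₀ N)))
    (hg := inferInstanceAs (Epi (ε R₀ (kernel (ε R₀ N))))) rfl
  exact ⟨_, _, _, _, _, ⟨h2⟩⟩

end pres


lemma isIso_of_cokernel {𝒜 ℬ : Type*} [Category 𝒜] [Category ℬ] [HasZeroMorphisms 𝒜]
    [HasZeroMorphisms ℬ]
    (T T' : 𝒜 ⥤ ℬ) [T.PreservesZeroMorphisms] [T'.PreservesZeroMorphisms] (τ : T ⟶ T')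
    {L₁ L₀ N : 𝒜} (g : L₁ ⟶ L₀) (p : L₀ ⟶ N) (w : g ≫ p = 0)
    (hc : IsColimit (CokernelCofork.ofπ p w))
    [PreservesColimit (parallelPair g 0) T] [PreservesColimit (parallelPair g 0) T']
    [Epi (τ.app L₁)] [IsIso (τ.app L₀)] : IsIso (τ.app N) := by
  have h1 : IsColimit ((CokernelCofork.ofπ p w).map T) := CokernelCofork.mapIsColimit _ hc T
  have h2 : IsColimit ((CokernelCofork.ofπ p w).map T') := CokernelCofork.mapIsColimit _ hc T'
  have hz : T'.map g ≫ inv (τ.app L₀) ≫ T.map p = 0 := by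
    rw [← cancel_epi (τ.app L₁), comp_zero, ← τ.naturality_assoc, IsIso.hom_inv_id_assoc,
      ← T.map_comp, w, T.map_zero]
  obtain ⟨l, hl'⟩ : ∃ l : T'.obj N ⟶ T.obj N, T'.map p ≫ l = inv (τ.app L₀) ≫ T.map p :=
    ⟨_, (CokernelCofork.IsColimit.desc' h2 (inv (τ.app L₀) ≫ T.map p) hz).2⟩
  refine ⟨l, ?_, ?_⟩
  · apply Cofork.IsColimit.hom_ext h1
    change T.map p ≫ τ.app N ≫ l = T.map p ≫ 𝟙 _
    rw [τ.naturality_assoc, hl', IsIso.hom_inv_id_assoc, Category.comp_id]
  · apply Cofork.IsColimit.hom_ext h2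
    change T'.map p ≫ l ≫ τ.app N = T'.map p ≫ 𝟙 _
    rw [reassoc_of% hl', τ.naturality, IsIso.inv_hom_id_assoc, Category.comp_id]


section main

variable (O : Sheaf J CommRingCat.{u})

abbrev PM := PresheafOfModules.{u} (O.obj ⋙ forget₂ CommRingCat.{u} RingCat.{u})

/-- locally bijective morphisms of presheaves of modules -/
structure LB {M M' : PM O} (f : M ⟶ M') : Prop where
  inj : Presheaf.IsLocallyInjective J ((PresheafOfModules.toPresheaf _).map f)
  surj : Presheaf.IsLocallySurjective J ((PresheafOfModules.toPresheaf _).map f)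

lemma isIso_of_LB {M M' : PM O} (f : M ⟶ M') (h : LB O f) :
    IsIso ((ModSite.sheafify O).map f) := by
  have h1 : Presheaf.IsLocallyInjective J
      ((PresheafOfModules.toPresheaf (ModSite.ringSh O).obj).map f) := h.inj
  have h2 : Presheaf.IsLocallySurjective J
      ((PresheafOfModules.toPresheaf (ModSite.ringSh O).obj).map f) := h.surj
  exact isIso_sheafification_map (𝟙 (ModSite.ringSh O).obj) f

lemma free_case {M M' : PM O} (f : M ⟶ M') (h : LB O f) (P : Cᵒᵖ ⥤ Type u) :
    IsIso ((ModSite.sheafify O).map (f ▷ (PresheafOfModules.free _).obj P)) := by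
  have := h.inj
  have := h.surj
  exact isIso_of_LB O _ ⟨locInj_whiskerRight_free J f P, locSurj_whiskerRight J f _⟩


instance (M : PM O) : PreservesFiniteColimits (tensorLeft M) :=
  PreservesColimitsOfSize.preservesFiniteColimits.{u, u} _

/-- sheafification with a syntactically convenient source category -/
noncomputable def aa : PM O ⥤ ModSite.Mod O := ModSite.sheafify O

instance : PreservesFiniteColimits (aa O) := by
  have : PreservesColimitsOfSize.{0, 0} (ModSite.sheafify O) :=
    (PresheafOfModules.sheafificationAdjunction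
      (𝟙 (ModSite.ringSh O).obj)).leftAdjoint_preservesColimits
  exact PreservesColimitsOfSize.preservesFiniteColimits.{0, 0} (ModSite.sheafify O)

instance (M : PM O) : (tensorLeft M ⋙ aa O).PreservesZeroMorphisms := by
  have : PreservesFiniteColimits (tensorLeft M ⋙ aa O) := inferInstance
  exact Functor.preservesZeroMorphisms_of_preserves_initial_object

theorem whiskerRight_iso {M M' : PM O} (f : M ⟶ M') (h : LB O f) (N : PM O) :
    IsIso ((aa O).map (f ▷ N)) := by
  obtain ⟨P₁, P₀, g, p, w, ⟨hc⟩⟩ := presentation _ N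
  let τ : tensorLeft M ⋙ aa O ⟶ tensorLeft M' ⋙ aa O :=
    Functor.whiskerRight ((curriedTensor (PM O)).map f) (aa O)
  have h1 : IsIso (τ.app ((PresheafOfModules.free _).obj P₁)) := free_case O f h P₁
  have h0 : IsIso (τ.app ((PresheafOfModules.free _).obj P₀)) := free_case O f h P₀
  exact isIso_of_cokernel _ _ τ g p w hc

theorem whiskerLeft_iso (M : PM O) {N N' : PM O} (g : N ⟶ N') (h : LB O g) :
    IsIso ((aa O).map (M ◁ g)) := by
  have h1 : M ◁ g = (β_ M N).hom ≫ g ▷ M ≫ (β_ M N').inv := by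
    rw [← Category.assoc, ← BraidedCategory.braiding_naturality_right, Category.assoc,
      Iso.hom_inv_id, Category.comp_id]
  have h2 := whiskerRight_iso O g h M
  rw [h1, Functor.map_comp, Functor.map_comp]
  infer_instance

theorem tensorHom_iso {M M' N N' : PM O} (f : M ⟶ M') (g : N ⟶ N') (hf : LB O f) (hg : LB O g) :
    IsIso ((aa O).map (f ⊗ₘ g)) := by
  have h1 := whiskerRight_iso O f hf N
  have h2 := whiskerLeft_iso O M' g hg
  rw [MonoidalCategory.tensorHom_def, Functor.map_comp]
  infer_instance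

lemma LB_unit (M : PM O) :
    LB O ((PresheafOfModules.sheafificationAdjunction (𝟙 (ModSite.ringSh O).obj)).unit.app M) := by
  constructor
  · exact inferInstanceAs (Presheaf.IsLocallyInjective J (toSheafify J M.presheaf))
  · exact inferInstanceAs (Presheaf.IsLocallySurjective J (toSheafify J M.presheaf))

end main

end Groth.Agent.Lib.helper10.TensCore
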