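import Mathlib
import Groth.Prelude.Def_ModSite
import Groth.Agent.Lib.helper10.TensCore
import Groth.Agent.Lib.helper10.ModColim

namespace Groth.Agent.Lib.helper10.TensAdj
open CategoryTheory Limits Opposite MonoidalCategory
open Groth.Agent.Lib.helper10.TensCore

universe u

variable {C : Type u} [SmallCategory C] {J : GrothendieckTopology C} (O : Sheaf J CommRingCat.{u})

/-- underlying presheaf of modules -/
noncomputable def FG : ModSite.Mod O ⥤ PM O := SheafOfModules.forget (ModSite.ringSh O)

/-- unit of sheafification, with codomain in `PM O` -/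
noncomputable def uu (M : PM O) : M ⟶ (FG O).obj ((aa O).obj M) :=
  (PresheafOfModules.sheafificationAdjunction (𝟙 (ModSite.ringSh O).obj)).unit.app M

lemma uu_nat {M M' : PM O} (φ : M ⟶ M') :
    φ ≫ uu O M' = uu O M ≫ (FG O).map ((aa O).map φ) :=
  (PresheafOfModules.sheafificationAdjunction (𝟙 (ModSite.ringSh O).obj)).unit.naturality φ

lemma LB_uu (M : PM O) : LB O (uu O M) := LB_unit O M

noncomputable def eN (N : ModSite.Mod O) :
    tensorRight ((FG O).obj N) ⋙ aa O ⟶ aa O ⋙ (ModSite.tensorBi O).flip.obj N where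
  app M := (aa O).map (uu O M ▷ (FG O).obj N)
  naturality M M' φ := by
    change (aa O).map (φ ▷ (FG O).obj N) ≫ (aa O).map (uu O M' ▷ (FG O).obj N) =
      (aa O).map (uu O M ▷ (FG O).obj N) ≫
        (aa O).map ((FG O).map ((aa O).map φ) ▷ (FG O).obj N)
    rw [← Functor.map_comp, ← Functor.map_comp, ← comp_whiskerRight, ← comp_whiskerRight, uu_nat]

instance (N : ModSite.Mod O) : IsIso (eN O N) := by
  have : ∀ M, IsIso ((eN O N).app M) :=
    fun M => whiskerRight_iso O (uu O M) (LB_uu O M) ((FG O).obj N)
  exact NatIso.isIso_of_isIso_app _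


instance (N : ModSite.Mod O) (K : Type u) [SmallCategory K] :
    PreservesColimitsOfShape K (tensorRight ((FG O).obj N)) :=
  (inferInstance : PreservesColimitsOfSize.{u, u} (tensorRight ((FG O).obj N))).preservesColimitsOfShape

theorem tensor_preservesColimitsOfShape (N : ModSite.Mod O) (K : Type u) [SmallCategory K] :
    PreservesColimitsOfShape K ((ModSite.tensorBi O).flip.obj N) := by
  let T := (ModSite.tensorBi O).flip.obj N
  let adj := PresheafOfModules.sheafificationAdjunction.{u} (𝟙 (ModSite.ringSh O).obj)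
  have hL0 : PreservesColimitsOfShape K (aa O) :=
    (adj.leftAdjoint_preservesColimits : PreservesColimitsOfSize.{u, u}
      (ModSite.sheafify O)).preservesColimitsOfShape
  have hL : PreservesColimitsOfShape K (aa O ⋙ T) :=
    preservesColimitsOfShape_of_natIso (asIso (eN O N))
  refine ⟨fun {F} => ?_⟩
  let e : F ≅ (F ⋙ FG O) ⋙ aa O :=
    Functor.isoWhiskerLeft F (asIso adj.counit).symm
  have : PreservesColimit ((F ⋙ FG O) ⋙ aa O) T :=
    preservesColimit_of_preserves_colimit_cocone
      (isColimitOfPreserves (aa O) (colimit.isColimit (F ⋙ FG O)))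
      (isColimitOfPreserves (aa O ⋙ T) (colimit.isColimit _))
  exact preservesColimit_of_iso_diagram _ e.symm

theorem hasSheafHom (N : ModSite.Mod O) : ModSite.HasSheafHom N := by
  have h1 := Groth.Agent.Lib.helper10.ModColim.isGrothendieckAbelian (ModSite.ringSh O)
  have h2 : PreservesColimitsOfSize.{u, u} ((ModSite.tensorBi O).flip.obj N) :=
    ⟨fun {K} _ => tensor_preservesColimitsOfShape O N K⟩
  have h3 : WellPowered.{u} (ModSite.Mod O) := IsGrothendieckAbelian.wellPowered _
  have h4 : WellPowered.{u} (ModSite.Mod O)ᵒᵖ := Abelian.wellPowered_opposite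
  exact isLeftAdjoint_of_preservesColimits_of_isSeparating
    (isSeparator_separator (ModSite.Mod O)) _

end Groth.Agent.Lib.helper10.TensAdj
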