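import Mathlib
import Groth.Prelude.Def_ModSite
import Groth.Agent.Lib.helper10.TensAdj

namespace Groth.Agent.Lib.helper10.Flat1
open CategoryTheory Limits Opposite MonoidalCategory
open Groth.Agent.Lib.helper10.TensCore Groth.Agent.Lib.helper10.TensAdj

universe u

variable {C : Type u} [SmallCategory C] {J : GrothendieckTopology C} (O : Sheaf J CommRingCat.{u})

/-- `- ⊗_O N` -/
noncomputable abbrev T (N : ModSite.Mod O) : ModSite.Mod O ⥤ ModSite.Mod O :=
  (ModSite.tensorBi O).flip.obj N

instance (N : ModSite.Mod O) : PreservesColimitsOfSize.{u, u} (T O N) :=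
  ⟨fun {K} _ => tensor_preservesColimitsOfShape O N K⟩

instance (N : ModSite.Mod O) : PreservesFiniteColimits (T O N) :=
  PreservesColimitsOfSize.preservesFiniteColimits.{u, u} _

instance (N : ModSite.Mod O) : (T O N).PreservesZeroMorphisms :=
  Functor.preservesZeroMorphisms_of_preserves_initial_object

instance (N : ModSite.Mod O) : (T O N).Additive := by
  have := preservesBinaryBiproducts_of_preservesBinaryCoproducts (T O N)
  exact Functor.additive_of_preservesBinaryBiproducts _

lemma preservesFiniteLimits_of_mono {A B : Type*} [Category A] [Category B] [Abelian A] [Abelian B]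
    (F : A ⥤ B) [F.Additive] [PreservesFiniteColimits F]
    (h : ∀ {X Y : A} (f : X ⟶ Y), Mono f → Mono (F.map f)) : PreservesFiniteLimits F := by
  apply ((Functor.preservesFiniteLimits_tfae F).out 0 3).1
  intro S hS
  have := hS.mono_f
  have h1 : PreservesFiniteColimits F := inferInstance
  have h2 := (Functor.preservesFiniteColimits_iff_forall_exact_map_and_epi F).1 h1
  exact ⟨(h2 S hS).1, h S.f inferInstance⟩

theorem isFlat_of_preservesMono (N : ModSite.Mod O)
    (h : ∀ {X Y : ModSite.Mod O} (f : X ⟶ Y), Mono f → Mono ((T O N).map f)) :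
    ModSite.IsFlat N :=
  ⟨preservesFiniteLimits_of_mono _ h, inferInstance⟩

theorem mono_of_isFlat (N : ModSite.Mod O) (h : ModSite.IsFlat N) {X Y : ModSite.Mod O}
    (f : X ⟶ Y) [Mono f] : Mono ((T O N).map f) := by
  have := h.1
  infer_instance


/-- symmetry of the tensor product of sheaves of modules -/
noncomputable def Sw (N : ModSite.Mod O) : T O N ≅ (ModSite.tensorBi O).obj N :=
  NatIso.ofComponents (fun M => (aa O).mapIso (β_ ((FG O).obj M) ((FG O).obj N)))
    (fun {M M'} f => by
      change (aa O).map ((FG O).map f ▷ (FG O).obj N) ≫ (aa O).map (β_ _ _).hom =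
        (aa O).map (β_ _ _).hom ≫ (aa O).map ((FG O).obj N ◁ (FG O).map f)
      rw [← Functor.map_comp, ← Functor.map_comp, BraidedCategory.braiding_naturality_left])

instance (N : ModSite.Mod O) : PreservesColimitsOfSize.{u, u} ((ModSite.tensorBi O).obj N) :=
  preservesColimits_of_natIso (Sw O N)

instance (N : ModSite.Mod O) : PreservesFiniteColimits ((ModSite.tensorBi O).obj N) :=
  PreservesColimitsOfSize.preservesFiniteColimits.{u, u} _

instance (N : ModSite.Mod O) : ((ModSite.tensorBi O).obj N).PreservesZeroMorphisms :=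
  Functor.preservesZeroMorphisms_of_preserves_initial_object

instance (N : ModSite.Mod O) : ((ModSite.tensorBi O).obj N).Additive := by
  have := preservesBinaryBiproducts_of_preservesBinaryCoproducts ((ModSite.tensorBi O).obj N)
  exact Functor.additive_of_preservesBinaryBiproducts _

theorem mono_of_isFlat' (N : ModSite.Mod O) (h : ModSite.IsFlat N) {X Y : ModSite.Mod O}
    (f : X ⟶ Y) [Mono f] : Mono (((ModSite.tensorBi O).obj N).map f) := by
  have h1 := mono_of_isFlat O N h f
  have h2 : ((ModSite.tensorBi O).obj N).map f =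
      (Sw O N).inv.app X ≫ (T O N).map f ≫ (Sw O N).hom.app Y := by
    rw [(Sw O N).hom.naturality, Iso.inv_hom_id_app_assoc]
  rw [h2]
  infer_instance


/-- if `L` is flat as a presheaf of modules, its sheafification is a flat sheaf of modules -/
theorem isFlat_aa (L : PM O) (hL : ∀ {X Y : PM O} (g : X ⟶ Y), Mono g → Mono (g ▷ L)) :
    ModSite.IsFlat ((aa O).obj L) := by
  apply isFlat_of_preservesMono
  intro X Y f hf
  have hX := whiskerLeft_iso O ((FG O).obj X) (uu O L) (LB_uu O L)
  have hY := whiskerLeft_iso O ((FG O).obj Y) (uu O L) (LB_uu O L)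
  have h1 : (aa O).map ((FG O).map f ▷ L) ≫ (aa O).map ((FG O).obj Y ◁ uu O L) =
      (aa O).map ((FG O).obj X ◁ uu O L) ≫ (T O ((aa O).obj L)).map f := by
    change _ = (aa O).map ((FG O).obj X ◁ uu O L) ≫
      (aa O).map ((FG O).map f ▷ (FG O).obj ((aa O).obj L))
    rw [← Functor.map_comp, ← Functor.map_comp, whisker_exchange]
  let eX := @asIso _ _ _ _ _ hX
  let eY := @asIso _ _ _ _ _ hY
  have h2 : (T O ((aa O).obj L)).map f = eX.inv ≫
      (aa O).map ((FG O).map f ▷ L) ≫ eY.hom :=
    (Iso.eq_inv_comp eX).2 h1.symm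
  have h3 : Mono ((FG O).map f) := by
    have : (FG O).IsRightAdjoint :=
      (PresheafOfModules.sheafificationAdjunction (𝟙 (ModSite.ringSh O).obj)).isRightAdjoint
    infer_instance
  have h4 : Mono ((FG O).map f ▷ L) := hL _ h3
  have : PreservesFiniteLimits (aa O) :=
    inferInstanceAs (PreservesFiniteLimits (ModSite.sheafify O))
  have h5 : Mono ((aa O).map ((FG O).map f ▷ L)) := inferInstance
  rw [h2]
  exact mono_comp' (inferInstanceAs (Mono eX.inv)) (mono_comp' h5 (inferInstanceAs (Mono eY.hom)))


lemma mono_whiskerRight_free (P : Cᵒᵖ ⥤ Type u) {X Y : PM O} (g : X ⟶ Y) (hg : Mono g) :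
    Mono (g ▷ (PresheafOfModules.free (O.obj ⋙ forget₂ CommRingCat.{u} RingCat.{u})).obj P) := by
  apply PresheafOfModules.mono_of_injective
  intro U
  have h1 : Function.Injective (g.app U) := PresheafOfModules.injective_of_mono g U
  let g' : X.obj U →ₗ[O.obj.obj U] Y.obj U := (g.app U).hom
  exact Module.Flat.rTensor_preserves_injective_linearMap (M := P.obj U →₀ O.obj.obj U) g' h1

theorem isFlat_free (P : Cᵒᵖ ⥤ Type u) :
    ModSite.IsFlat ((aa O).obj
      ((PresheafOfModules.free (O.obj ⋙ forget₂ CommRingCat.{u} RingCat.{u})).obj P)) :=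
  isFlat_aa O _ (fun g hg => mono_whiskerRight_free O P g hg)


theorem exists_flat_epi (F : ModSite.Mod O) :
    ∃ (G : ModSite.Mod O) (π : G ⟶ F), ModSite.IsFlat G ∧ Epi π := by
  let adj := PresheafOfModules.sheafificationAdjunction.{u} (𝟙 (ModSite.ringSh O).obj)
  have h1 : (aa O).PreservesEpimorphisms :=
    inferInstanceAs (ModSite.sheafify O).PreservesEpimorphisms
  have h2 : Epi ((aa O).map (ε _ ((FG O).obj F))) := inferInstance
  refine ⟨_, (aa O).map (ε _ ((FG O).obj F)) ≫ adj.counit.app F, isFlat_free O _, ?_⟩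
  have h3 : IsIso adj.counit := inferInstance
  have h4 : IsIso (adj.counit.app F) := inferInstance
  exact epi_comp' h2 (@IsIso.epi_of_iso _ _ _ _ _ h4)

end Groth.Agent.Lib.helper10.Flat1
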