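import Mathlib
import Groth.Agent.Lib.helper10.TensAdj
import Groth.Agent.Lib.helper10.Flat1
import Groth.Agent.Lib.helper10.ModColim
import Groth.Agent.Lib.helper10.TensLoc

open CategoryTheory Opposite Limits MonoidalCategory
open Groth.Agent.Lib.helper10.TensCore Groth.Agent.Lib.helper10.TensAdj Groth.Agent.Lib.helper10.Flat1

universe u

noncomputable section

namespace Groth.Agent.Lib.helper10.EqCrit

variable {C : Type u} [SmallCategory C] {J : GrothendieckTopology C} (O : Sheaf J CommRingCat.{u})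

/-- element lifting into a kernel of presheaves of modules -/
lemma exists_kernel_lift {M N : PM O} (g : M ⟶ N) (U : Cᵒᵖ) (x : M.obj U) (hx : g.app U x = 0) :
    ∃ x' : (kernel g).obj U, (kernel.ι g).app U x' = x := by
  let S : ShortComplex (PM O) := ShortComplex.mk (kernel.ι g) g (kernel.condition g)
  have hS : S.Exact := ShortComplex.exact_kernel g
  have hS' := hS.map (PresheafOfModules.evaluation _ U)
  exact (ShortComplex.moduleCat_exact_iff _).1 hS' x hx

/-- an epimorphism after sheafification is locally surjective -/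
lemma locSurj_of_epi {M N : PM O} (l : M ⟶ N) (h : Epi ((aa O).map l)) :
    Presheaf.IsLocallySurjective J ((PresheafOfModules.toPresheaf _).map l) := by
  have hc := Groth.Agent.Lib.helper10.ModColim.toSheaf_preservesColimits (ModSite.ringSh O)
  have h1 : Epi ((SheafOfModules.toSheaf (ModSite.ringSh O)).map ((aa O).map l)) := inferInstance
  have h2 : Sheaf.IsLocallySurjective
      ((SheafOfModules.toSheaf (ModSite.ringSh O)).map ((aa O).map l)) :=
    (Sheaf.isLocallySurjective_iff_epi' _ _).2 h1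
  have h3 : Presheaf.IsLocallySurjective J
      ((presheafToSheaf J AddCommGrpCat.{u}).map ((PresheafOfModules.toPresheaf _).map l)).hom := h2
  exact (Presheaf.isLocallySurjective_presheafToSheaf_map_iff J _).1 h3

instance : PreservesFiniteLimits (aa O) :=
  inferInstanceAs (PreservesFiniteLimits
    (PresheafOfModules.sheafification.{u} (𝟙 (ModSite.ringSh O).obj)))

/-- local exactness from exactness after sheafification -/
theorem local_exact (S : ShortComplex (PM O)) (hS : (S.map (aa O)).Exact) (U : C)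
    (x : S.X₂.obj (op U)) (hx : S.g.app (op U) x = 0) :
    ∃ T ∈ J U, ∀ ⦃V : C⦄ (g : V ⟶ U), T g →
      ∃ y : S.X₁.obj (op V), S.f.app (op V) y = S.X₂.map g.op x := by
  let l : S.X₁ ⟶ kernel S.g := kernel.lift S.g S.f S.zero
  have h1 : (aa O).map l ≫ kernelComparison S.g (aa O) =
      kernel.lift ((aa O).map S.g) ((aa O).map S.f) (S.map (aa O)).zero :=
    map_lift_kernelComparison _ _ _
  have h2 : Epi (kernel.lift ((aa O).map S.g) ((aa O).map S.f) (S.map (aa O)).zero) :=
    (S.map (aa O)).exact_iff_epi_kernel_lift.1 hS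
  have h3 : Epi ((aa O).map l) := by
    have : (aa O).map l = kernel.lift ((aa O).map S.g) ((aa O).map S.f) (S.map (aa O)).zero ≫
        inv (kernelComparison S.g (aa O)) := by
      rw [← h1, Category.assoc, IsIso.hom_inv_id, Category.comp_id]
    rw [this]
    infer_instance
  have h4 := locSurj_of_epi O l h3
  obtain ⟨x', hx'⟩ := exists_kernel_lift O S.g (op U) x hx
  refine ⟨_, h4.imageSieve_mem x', ?_⟩
  intro V g hg
  obtain ⟨y, hy⟩ := hg
  refine ⟨y, ?_⟩
  have h5 : l ≫ kernel.ι S.g = S.f := kernel.lift_ι _ _ _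
  have h6 : S.f.app (op V) y = (kernel.ι S.g).app (op V) (l.app (op V) y) := by
    rw [← h5]
    rfl
  rw [h6]
  have h7 : l.app (op V) y = (kernel S.g).map g.op x' := hy
  rw [h7, ← hx']
  exact PresheafOfModules.naturality_apply (kernel.ι S.g) g.op x'

/-- exactness of the tensored complex after sheafification -/
theorem tensor_exact (S : ShortComplex (PM O)) (hS : S.Exact) (F : ModSite.Mod O)
    (hF : ModSite.IsFlat F) :
    ((S.map (tensorRight ((FG O).obj F))).map (aa O)).Exact := by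
  have h1 : (S.map (aa O)).Exact := hS.map (aa O)
  have hl := hF.1
  have hc := hF.2
  have h2 : ((S.map (aa O)).map ((ModSite.tensorBi O).flip.obj F)).Exact :=
    h1.map ((ModSite.tensorBi O).flip.obj F)
  have e : (S.map (tensorRight ((FG O).obj F))).map (aa O) ≅
      (S.map (aa O)).map ((ModSite.tensorBi O).flip.obj F) :=
    S.mapNatIso (asIso (eN O F))
  exact (ShortComplex.exact_iff_of_iso e).2 h2

section alg
open TensorProduct

lemma alg1 {R : Type*} [CommRing R] {Km Fm Qs : Type*} [AddCommGroup Km] [Module R Km]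
    [AddCommGroup Fm] [Module R Fm] (ι : Km →ₗ[R] (Qs →₀ R)) (y : Km ⊗[R] Fm) {n : ℕ}
    (q₀ : Fin n → Qs) (hq : Function.Injective q₀) (s' : Fin n → Fm)
    (Θ : Km ⊗[R] Fm →+ (Qs →₀ R) ⊗[R] Fm) (hΘ : ∀ c t, Θ (c ⊗ₜ[R] t) = ι c ⊗ₜ[R] t)
    (h : Θ y = ∑ j, (Finsupp.single (q₀ j) (1 : R)) ⊗ₜ[R] s' j) :
    ∃ (l : ℕ) (c : Fin l → Km) (t : Fin l → Fm), ∀ j, s' j = ∑ k, (ι (c k)) (q₀ j) • t k := by
  classical
  obtain ⟨S, hS⟩ := TensorProduct.exists_finset y
  let e := S.equivFin
  refine ⟨S.card, fun k => (e.symm k).1.1, fun k => (e.symm k).1.2, ?_⟩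
  intro j
  let Λ : (Qs →₀ R) ⊗[R] Fm →ₗ[R] Fm :=
    (TensorProduct.lid R Fm).toLinearMap ∘ₗ (Finsupp.lapply (q₀ j)).rTensor Fm
  have h1 := congrArg Λ h
  have h2 : Λ (∑ j', (Finsupp.single (q₀ j') (1 : R)) ⊗ₜ[R] s' j') = s' j := by
    rw [map_sum]
    rw [Finset.sum_eq_single j]
    · simp [Λ]
    · intro b _ hb
      have : q₀ b ≠ q₀ j := fun hh => hb (hq hh)
      simp [Λ, Finsupp.single_apply, this]
    · intro hj
      exact absurd (Finset.mem_univ j) hj
  have h3 : Λ (Θ y) = ∑ i ∈ S, (ι i.1) (q₀ j) • i.2 := by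
    rw [hS, map_sum, map_sum]
    apply Finset.sum_congr rfl
    intro i _
    rw [hΘ]
    simp [Λ]
  rw [← h2, ← h1, h3]
  rw [← Finset.sum_coe_sort S]
  exact Fintype.sum_equiv e _ _ (fun i => by simp)

lemma alg2 {R : Type*} [CommRing R] {A : Type*} {n m : ℕ} (ρ : A → Fin m → Fin n → R)
    (Ψ : (A × ULift.{u} (Fin n) →₀ R) →ₗ[R] (A × ULift.{u} (Fin m) →₀ R))
    (hΨ : ∀ p : A × ULift.{u} (Fin n), Ψ (Finsupp.single p 1) =
      ∑ k : Fin m, Finsupp.single (p.1, ULift.up k) (ρ p.1 k p.2.down))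
    (g : A) (k' : Fin m) (z : A × ULift.{u} (Fin n) →₀ R) :
    Ψ z (g, ULift.up k') = ∑ j : Fin n, z (g, ULift.up j) * ρ g k' j := by
  classical
  induction z using Finsupp.induction_linear with
  | zero =>
    rw [map_zero]
    simp
  | add x y hx hy =>
    rw [map_add]
    rw [Finsupp.add_apply, hx, hy, ← Finset.sum_add_distrib]
    apply Finset.sum_congr rfl
    intro j _
    rw [Finsupp.add_apply, add_mul]
  | single p c =>
    have h1 : (Finsupp.single p c : A × ULift.{u} (Fin n) →₀ R) =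
        c • (Finsupp.single p (1 : R)) := by
      rw [Finsupp.smul_single, smul_eq_mul, mul_one]
    rw [h1, map_smul, hΨ]
    obtain ⟨φ, ⟨j₀⟩⟩ := p
    rw [Finsupp.smul_apply]
    rw [Finsupp.finset_sum_apply]
    by_cases hφ : φ = g
    · subst hφ
      rw [Finset.sum_eq_single k', Finset.sum_eq_single j₀]
      · simp
      · intro b _ hb
        have : (φ, ULift.up j₀) ≠ ((φ, ULift.up b) : A × ULift.{u} (Fin n)) := by
          intro hh
          exact hb (congrArg (fun q => q.2.down) hh).symm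
        simp [Finsupp.single_apply, this]
      · intro hh; exact absurd (Finset.mem_univ _) hh
      · intro b _ hb
        have : ((φ, ULift.up b) : A × ULift.{u} (Fin m)) ≠ (φ, ULift.up k') := by
          intro hh
          exact hb (congrArg (fun q => q.2.down) hh)
        simp [Finsupp.single_apply, this]
      · intro hh; exact absurd (Finset.mem_univ _) hh
    · have e1 : ∀ b : Fin m, ((φ, ULift.up b) : A × ULift.{u} (Fin m)) ≠ (g, ULift.up k') := by
        intro b hh
        exact hφ (congrArg (fun q => q.1) hh)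
      have e2 : ∀ b : Fin n, ((φ, ULift.up j₀) : A × ULift.{u} (Fin n)) ≠ (g, ULift.up b) := by
        intro b hh
        exact hφ (congrArg (fun q => q.1) hh)
      simp [Finsupp.single_apply, e1, e2]

lemma alg3 {R : Type*} [CommRing R] {Fm Qs : Type*} [AddCommGroup Fm] [Module R Fm] {n m : ℕ}
    (q : Fin m → Qs) (ρ : Fin m → Fin n → R) (s : Fin n → Fm)
    (h : ∀ k, ∑ j, ρ k j • s j = 0) :
    ∑ j : Fin n, (∑ k : Fin m, (Finsupp.single (q k) (ρ k j) : Qs →₀ R)) ⊗ₜ[R] s j = 0 := by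
  have h1 : ∀ j : Fin n, (∑ k : Fin m, (Finsupp.single (q k) (ρ k j) : Qs →₀ R)) ⊗ₜ[R] s j =
      ∑ k : Fin m, (Finsupp.single (q k) (1 : R) : Qs →₀ R) ⊗ₜ[R] (ρ k j • s j) := by
    intro j
    rw [TensorProduct.sum_tmul]
    apply Finset.sum_congr rfl
    intro k _
    rw [TensorProduct.tmul_smul, TensorProduct.smul_tmul', Finsupp.smul_single, smul_eq_mul,
      mul_one]
  rw [Finset.sum_congr rfl (fun j _ => h1 j), Finset.sum_comm]
  apply Finset.sum_eq_zero
  intro k _
  rw [← TensorProduct.tmul_sum, h k, TensorProduct.tmul_zero]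

end alg

section cx

variable (U : C)

/-- the presheaf of sets `V ↦ (V ⟶ U) × Fin n` -/
def Q (n : ℕ) : Cᵒᵖ ⥤ Type u where
  obj V := (V.unop ⟶ U) × ULift.{u} (Fin n)
  map g := TypeCat.ofHom (fun p => (g.unop ≫ p.1, p.2))

abbrev R0 : Cᵒᵖ ⥤ RingCat.{u} := O.obj ⋙ forget₂ CommRingCat.{u} RingCat.{u}

/-- the free presheaf of modules `h_U ⊗ O^n` -/
abbrev Pn (n : ℕ) : PM O := (PresheafOfModules.free (R0 O)).obj (Q U n)

variable {U} {n m : ℕ} (r : Fin m → Fin n → O.obj.obj (op U))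

/-- the value of `ψ` on a basis element -/
def qv (V : Cᵒᵖ) (p : (Q U n).obj V) : (Pn O U m).obj V :=
  ∑ k : Fin m, Finsupp.single ((p.1, ULift.up k) : (Q U m).obj V)
    ((O.obj.map p.1.op).hom (r k p.2.down) : O.obj.obj V)

lemma free_map_single' (P : Cᵒᵖ ⥤ Type u) {X Y : Cᵒᵖ} (g : X ⟶ Y) (i : P.obj X)
    (c : O.obj.obj X) :
    ((PresheafOfModules.free (R0 O)).obj P).map g (Finsupp.single i c) =
      Finsupp.single (P.map g i) ((O.obj.map g).hom c) := by
  have h1 : (Finsupp.single i c : P.obj X →₀ O.obj.obj X) =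
      c • (Finsupp.single i (1 : O.obj.obj X) : P.obj X →₀ O.obj.obj X) := by
    rw [Finsupp.smul_single, smul_eq_mul, mul_one]
  have h2 := ((PresheafOfModules.free (R0 O)).obj P).map_smul g c
    (Finsupp.single i (1 : O.obj.obj X) : P.obj X →₀ O.obj.obj X)
  have h3 := Groth.Agent.Lib.helper10.TensLoc.free_map_single (R := O.obj) P g i
  rw [h1]
  refine h2.trans ?_
  rw [h3]
  change ((O.obj.map g).hom c) • (Finsupp.single (P.map g i) (1 : O.obj.obj Y) :
    P.obj Y →₀ O.obj.obj Y) = _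
  rw [Finsupp.smul_single, smul_eq_mul, mul_one]

lemma qv_nat {V W : Cᵒᵖ} (g : V ⟶ W) (p : (Q U n).obj V) :
    (Pn O U m).map g (qv O r V p) = qv O r W ((Q U n).map g p) := by
  unfold qv
  refine (map_sum (ConcreteCategory.hom ((Pn O U m).map g)) _ Finset.univ).trans ?_
  apply Finset.sum_congr rfl
  intro k _
  refine (free_map_single' O (Q U m) g _ _).trans ?_
  congr 1
  change (O.obj.map g).hom ((O.obj.map p.1.op).hom (r k p.2.down)) =
    (O.obj.map (g.unop ≫ p.1).op).hom (r k p.2.down)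
  rw [op_comp, O.obj.map_comp]
  rfl

/-- the morphism `ψ : h_U ⊗ O^n ⟶ h_U ⊗ O^m` given by the matrix `r` -/
def ψ : Pn O U n ⟶ Pn O U m :=
  PresheafOfModules.freeObjDesc
    { app := fun V => TypeCat.ofHom (qv O r V)
      naturality := fun V W g => by
        ext p
        exact (qv_nat O r g p).symm }

lemma ψ_single (V : Cᵒᵖ) (p : (Q U n).obj V) :
    (ψ O r).app V (Finsupp.single p (1 : O.obj.obj V)) = qv O r V p :=
  ModuleCat.freeDesc_apply _ _

/-- `ψ` on sections as a linear map of `Finsupp`s -/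
def Ψ (V : Cᵒᵖ) : ((Q U n).obj V →₀ O.obj.obj V) →ₗ[O.obj.obj V]
    ((Q U m).obj V →₀ O.obj.obj V) :=
  ((ψ O r).app V).hom

lemma Ψ_single (V : Cᵒᵖ) (p : (Q U n).obj V) :
    Ψ O r V (Finsupp.single p (1 : O.obj.obj V)) =
      ∑ k : Fin m, Finsupp.single ((p.1, ULift.up k) : (Q U m).obj V)
        ((O.obj.map p.1.op).hom (r k p.2.down) : O.obj.obj V) :=
  ψ_single O r V p

lemma ψ_coord {V : C} (g : V ⟶ U) (k' : Fin m) (z : (Q U n).obj (op V) →₀ O.obj.obj (op V)) :
    Ψ O r (op V) z (g, ULift.up k') =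
      ∑ j : Fin n, z (g, ULift.up j) * (O.obj.map g.op).hom (r k' j) :=
  alg2 (R := O.obj.obj (op V)) (A := (V ⟶ U))
    (fun φ k j => (O.obj.map φ.op).hom (r k j)) (Ψ O r (op V))
    (fun p => Ψ_single O r (op V) p) g k' z

end cx

/-- restriction of sections -/
def resS {O : Sheaf J CommRingCat.{u}} (F : ModSite.Mod O) {U V : C} (g : V ⟶ U)
    (σ : ModSite.sect F U) : ModSite.sect F V := (F.val.map g.op).hom σ

open TensorProduct in
/-- the equational criterion of flatness (matrix form), `⇒` direction -/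
theorem eq_crit (F : ModSite.Mod O) (hF : ModSite.IsFlat F) (U : C) (n m : ℕ)
    (r : Fin m → Fin n → O.obj.obj (op U)) (s : Fin n → ModSite.sect F U)
    (hrel : ∀ k, ∑ j, r k j • s j = 0) :
    ∃ T ∈ J U, ∀ ⦃V : C⦄ (g : V ⟶ U), T g →
      ∃ (l : ℕ) (t : Fin l → ModSite.sect F V) (a : Fin n → Fin l → O.obj.obj (op V)),
        (∀ j, (F.val.map g.op).hom (s j) = ∑ k, a j k • t k) ∧
        (∀ k' k, ∑ j, a j k * (O.obj.map g.op).hom (r k' j) = 0) := by
  classical
  let S₀ : ShortComplex (PM O) :=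
    ShortComplex.mk (kernel.ι (ψ O r)) (ψ O r) (kernel.condition (ψ O r))
  have hS₀ : S₀.Exact := ShortComplex.exact_kernel (ψ O r)
  let S' := S₀.map (tensorRight ((FG O).obj F))
  have hS' : (S'.map (aa O)).Exact := tensor_exact O S₀ hS₀ F hF
  let x₀ : ((Q U n).obj (op U) →₀ O.obj.obj (op U)) ⊗[O.obj.obj (op U)] (F.val.obj (op U)) :=
    ∑ j : Fin n, (Finsupp.single ((𝟙 U, ULift.up j) : (Q U n).obj (op U)) (1 : O.obj.obj (op U)))
      ⊗ₜ[O.obj.obj (op U)] s j
  let x : S'.X₂.obj (op U) := x₀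
  have hx : S'.g.app (op U) x = 0 := by
    change ((ψ O r) ▷ (FG O).obj F).app (op U) x₀ = 0
    have h1 : ((ψ O r) ▷ (FG O).obj F).app (op U) x₀ =
        ∑ j : Fin n, (∑ k : Fin m, (Finsupp.single ((𝟙 U, ULift.up k) : (Q U m).obj (op U))
          (r k j) : (Q U m).obj (op U) →₀ O.obj.obj (op U))) ⊗ₜ[O.obj.obj (op U)] s j := by
      refine (map_sum (ConcreteCategory.hom (((ψ O r) ▷ (FG O).obj F).app (op U))) _ _).trans ?_
      apply Finset.sum_congr rfl
      intro j _
      have h2 : ((ψ O r) ▷ (FG O).obj F).app (op U)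
          ((Finsupp.single ((𝟙 U, ULift.up j) : (Q U n).obj (op U)) (1 : O.obj.obj (op U)))
            ⊗ₜ[O.obj.obj (op U)] s j) =
          ((ψ O r).app (op U) (Finsupp.single ((𝟙 U, ULift.up j) : (Q U n).obj (op U))
            (1 : O.obj.obj (op U)))) ⊗ₜ[O.obj.obj (op U)] s j := rfl
      refine h2.trans ?_
      rw [ψ_single]
      unfold qv
      congr 1
      apply Finset.sum_congr rfl
      intro k _
      congr 1
      change (O.obj.map (𝟙 (op U))).hom (r k j) = r k j
      rw [O.obj.map_id]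
      rfl
    rw [h1]
    exact alg3 _ _ _ hrel
  obtain ⟨T, hT, hT'⟩ := local_exact O S' hS' U x hx
  refine ⟨T, hT, ?_⟩
  intro V g hg
  obtain ⟨y, hy⟩ := hT' g hg
  have hx2 : S'.X₂.map g.op x =
      ∑ j : Fin n, (Finsupp.single ((g, ULift.up j) : (Q U n).obj (op V)) (1 : O.obj.obj (op V)))
        ⊗ₜ[O.obj.obj (op V)] resS F g (s j) := by
    refine (map_sum (ConcreteCategory.hom (S'.X₂.map g.op)) _ _).trans ?_
    apply Finset.sum_congr rfl
    intro j _
    have h2 := PresheafOfModules.Monoidal.tensorObj_map_tmul (M₁ := Pn O U n)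
      (M₂ := (FG O).obj F) g.op
      (Finsupp.single ((𝟙 U, ULift.up j) : (Q U n).obj (op U)) (1 : O.obj.obj (op U))) (s j)
    refine h2.trans ?_
    congr 1
    refine (Groth.Agent.Lib.helper10.TensLoc.free_map_single (R := O.obj) (Q U n) g.op _).trans ?_
    congr 1
    change ((g ≫ 𝟙 U, ULift.up j) : (Q U n).obj (op V)) = _
    rw [Category.comp_id]
  let ι : (kernel (ψ O r)).obj (op V) →ₗ[O.obj.obj (op V)]
      ((Q U n).obj (op V) →₀ O.obj.obj (op V)) := ((kernel.ι (ψ O r)).app (op V)).hom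
  let Θ : ((kernel (ψ O r)).obj (op V)) ⊗[O.obj.obj (op V)] (F.val.obj (op V)) →+
      ((Q U n).obj (op V) →₀ O.obj.obj (op V)) ⊗[O.obj.obj (op V)] (F.val.obj (op V)) :=
    AddMonoidHomClass.toAddMonoidHom (S'.f.app (op V)).hom
  obtain ⟨l, c, t, hct⟩ := alg1 ι y (fun j : Fin n => ((g, ULift.up j) : (Q U n).obj (op V)))
    (fun j j' hh => congrArg (fun q => q.2.down) hh)
    (fun j => resS F g (s j)) Θ (fun _ _ => rfl) (hy.trans hx2)
  refine ⟨l, t, fun j k => ι (c k) (g, ULift.up j), hct, ?_⟩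
  intro k' k
  have h3 : (ψ O r).app (op V) ((kernel.ι (ψ O r)).app (op V) (c k)) = 0 := by
    have := congrArg (fun φ => φ.app (op V) (c k)) (kernel.condition (ψ O r))
    exact this
  have h4 := ψ_coord O r g k' (ι (c k))
  rw [← h4]
  have h5 : Ψ O r (op V) (ι (c k)) = 0 := h3
  rw [h5]
  rfl

end Groth.Agent.Lib.helper10.EqCrit
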