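import Mathlib

open TensorProduct

noncomputable section

namespace Groth.Agent.Lib.helper10.Vanish

/-- general coordinate formula -/
lemma coords {R : Type*} [CommRing R] {Fm Qs : Type*}
    [AddCommGroup Fm] [Module R Fm] (K : Submodule R (Qs →₀ R)) (y : K ⊗[R] Fm) :
    ∃ (l : ℕ) (c : Fin l → K) (t : Fin l → Fm), ∀ q : Qs,
      (TensorProduct.lid R Fm) ((Finsupp.lapply q).rTensor Fm (K.subtype.rTensor Fm y)) =
        ∑ k, (c k).1 q • t k := by
  classical
  obtain ⟨l, c, t, rfl⟩ := TensorProduct.exists_sum_tmul_eq y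
  refine ⟨l, c, t, ?_⟩
  intro q
  rw [map_sum, map_sum, map_sum]
  apply Finset.sum_congr rfl
  intro k _
  simp

lemma exact_ker_rTensor {A : Type*} [CommRing A] {M N L : Type*} [AddCommGroup M] [Module A M]
    [AddCommGroup N] [Module A N] [AddCommGroup L] [Module A L] (π : L →ₗ[A] M)
    (hπ : Function.Surjective π) :
    Function.Exact ((LinearMap.ker π).subtype.rTensor N) (π.rTensor N) := by
  have hex : Function.Exact (LinearMap.ker π).subtype π := π.exact_subtype_ker_map
  exact rTensor_exact N hex hπ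

/-- vanishing of a sum of tensors, with an arbitrary (not finitely generated) left factor -/
theorem vanish {A : Type*} [CommRing A] {M N : Type*} [AddCommGroup M] [Module A M]
    [AddCommGroup N] [Module A N] {n : ℕ} (x : Fin n → M) (y : Fin n → N)
    (h : ∑ i, x i ⊗ₜ[A] y i = 0) :
    ∃ (T : Finset M) (l : ℕ) (a : Fin n → Fin l → A) (a' : M → Fin l → A) (y' : Fin l → N),
      (∀ i, y i = ∑ j, a i j • y' j) ∧ (∀ z ∈ T, ∑ j, a' z j • y' j = 0) ∧
      (∀ j, ∑ i, a i j • x i + ∑ z ∈ T, a' z j • z = 0) := by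
  classical
  let g : Fin n ⊕ M → M := Sum.elim x id
  let π : (Fin n ⊕ M →₀ A) →ₗ[A] M := Finsupp.linearCombination A g
  have hπ : Function.Surjective π := by
    intro z
    exact ⟨Finsupp.single (Sum.inr z) 1, by simp [π, g]⟩
  have hex' := exact_ker_rTensor (N := N) π hπ
  let ζ : (Fin n ⊕ M →₀ A) ⊗[A] N := ∑ i, (Finsupp.single (Sum.inl i) (1 : A)) ⊗ₜ[A] y i
  have hζ : π.rTensor N ζ = 0 := by
    rw [map_sum]
    refine Eq.trans ?_ h
    apply Finset.sum_congr rfl
    intro i _
    simp [π, g]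
  obtain ⟨ω, hω⟩ := (hex' ζ).1 hζ
  obtain ⟨l, c, t, hct⟩ := coords (LinearMap.ker π) ω
  rw [hω] at hct
  let T : Finset M := (Finset.univ.biUnion (fun k : Fin l => (c k).1.support)).preimage Sum.inr
    (Sum.inr_injective.injOn)
  refine ⟨T, l, fun i j => (c j).1 (Sum.inl i), fun z j => (c j).1 (Sum.inr z), t, ?_, ?_, ?_⟩
  · intro i
    have := hct (Sum.inl i)
    refine Eq.trans ?_ this
    simp only [ζ, map_sum]
    rw [Finset.sum_eq_single i]
    · simp
    · intro b _ hb
      have : (Sum.inl b : Fin n ⊕ M) ≠ Sum.inl i := fun hh => hb (Sum.inl_injective hh)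
      simp [Finsupp.single_apply, this]
    · intro hh; exact absurd (Finset.mem_univ i) hh
  · intro z _
    have := hct (Sum.inr z)
    refine Eq.trans this.symm ?_
    simp only [ζ, map_sum]
    apply Finset.sum_eq_zero
    intro i _
    simp [Finsupp.single_apply]
  · intro j
    have hk : π (c j).1 = 0 := (c j).2
    rw [Finsupp.linearCombination_apply] at hk
    have hsub : (c j).1.support ⊆ (Finset.univ.map ⟨Sum.inl, Sum.inl_injective⟩) ∪
        (T.map ⟨Sum.inr, Sum.inr_injective⟩) := by
      intro q hq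
      rcases q with i | z
      · exact Finset.mem_union_left _ (Finset.mem_map.2 ⟨i, Finset.mem_univ i, rfl⟩)
      · refine Finset.mem_union_right _ (Finset.mem_map.2 ⟨z, ?_, rfl⟩)
        rw [Finset.mem_preimage, Finset.mem_biUnion]
        exact ⟨j, Finset.mem_univ j, hq⟩
    rw [Finsupp.sum_of_support_subset _ hsub _ (fun q _ => by simp)] at hk
    rw [Finset.sum_union, Finset.sum_map, Finset.sum_map] at hk
    · exact hk
    · rw [Finset.disjoint_left]
      intro q h1 h2
      obtain ⟨i, _, rfl⟩ := Finset.mem_map.1 h1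
      obtain ⟨z, _, hz⟩ := Finset.mem_map.1 h2
      exact Sum.inr_ne_inl hz

end Groth.Agent.Lib.helper10.Vanish
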