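import Mathlib
import Groth.Agent.Lib.helper10.EqCrit
import Groth.Agent.Lib.helper10.Vanish

open CategoryTheory Opposite Limits MonoidalCategory
open Groth.Agent.Lib.helper10.TensCore Groth.Agent.Lib.helper10.TensAdj Groth.Agent.Lib.helper10.Flat1

universe u

noncomputable section

namespace Groth.Agent.Lib.helper10.EqConv

variable {C : Type u} [SmallCategory C] {J : GrothendieckTopology C} (O : Sheaf J CommRingCat.{u})

/-- restriction of functions, as a ring hom -/
def ρ {U V : C} (g : V ⟶ U) : O.obj.obj (op U) →+* O.obj.obj (op V) := (O.obj.map g.op).hom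

variable {O}

/-- restriction of sections, as an additive map -/
def σ (F : ModSite.Mod O) {U V : C} (g : V ⟶ U) : ModSite.sect F U →+ ModSite.sect F V :=
  AddMonoidHomClass.toAddMonoidHom (F.val.map g.op).hom

lemma σ_smul (F : ModSite.Mod O) {U V : C} (g : V ⟶ U) (c : O.obj.obj (op U))
    (s : ModSite.sect F U) : σ F g (c • s) = ρ O g c • σ F g s :=
  F.val.map_smul g.op c s

lemma σ_comp (F : ModSite.Mod O) {U V W : C} (g : V ⟶ U) (h : W ⟶ V) (s : ModSite.sect F U) :
    σ F (h ≫ g) s = σ F h (σ F g s) :=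
  F.val.map_comp_apply g.op h.op s

lemma ρ_comp {U V W : C} (g : V ⟶ U) (h : W ⟶ V) (c : O.obj.obj (op U)) :
    ρ O (h ≫ g) c = ρ O h (ρ O g c) := by
  change (O.obj.map (h ≫ g).op).hom c = _
  rw [op_comp, O.obj.map_comp]
  rfl

/-- the single-relation criterion -/
def Crit (F : ModSite.Mod O) : Prop :=
  ∀ (U : C) (n : ℕ) (f : Fin n → O.obj.obj (op U)) (s : Fin n → ModSite.sect F U),
    ∑ j, f j • s j = 0 →
    ∃ S ∈ J U, ∀ ⦃V : C⦄ (g : V ⟶ U), S g →
      ∃ (l : ℕ) (t : Fin l → ModSite.sect F V) (a : Fin n → Fin l → O.obj.obj (op V)),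
        (∀ j, σ F g (s j) = ∑ k, a j k • t k) ∧
        (∀ k, ∑ j, a j k * ρ O g (f j) = 0)

/-- the matrix criterion -/
def MatCrit (F : ModSite.Mod O) (m : ℕ) : Prop :=
  ∀ (U : C) (n : ℕ) (r : Fin m → Fin n → O.obj.obj (op U)) (s : Fin n → ModSite.sect F U),
    (∀ k, ∑ j, r k j • s j = 0) →
    ∃ S ∈ J U, ∀ ⦃V : C⦄ (g : V ⟶ U), S g →
      ∃ (l : ℕ) (t : Fin l → ModSite.sect F V) (a : Fin n → Fin l → O.obj.obj (op V)),
        (∀ j, σ F g (s j) = ∑ k, a j k • t k) ∧
        (∀ k' k, ∑ j, a j k * ρ O g (r k' j) = 0)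

end Groth.Agent.Lib.helper10.EqConv

namespace Groth.Agent.Lib.helper10.EqConv

variable {C : Type u} [SmallCategory C] {J : GrothendieckTopology C} {O : Sheaf J CommRingCat.{u}}

/-- the sieve of arrows over which the matrix criterion conclusion holds -/
def goodSieve (F : ModSite.Mod O) {U : C} {n m : ℕ} (r : Fin m → Fin n → O.obj.obj (op U))
    (s : Fin n → ModSite.sect F U) : Sieve U where
  arrows V g := ∃ (l : ℕ) (t : Fin l → ModSite.sect F V) (a : Fin n → Fin l → O.obj.obj (op V)),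
        (∀ j, σ F g (s j) = ∑ k, a j k • t k) ∧
        (∀ k' k, ∑ j, a j k * ρ O g (r k' j) = 0)
  downward_closed := by
    rintro V W g ⟨l, t, a, h1, h2⟩ h
    refine ⟨l, fun k => σ F h (t k), fun j k => ρ O h (a j k), ?_, ?_⟩
    · intro j
      rw [σ_comp, h1, map_sum]
      apply Finset.sum_congr rfl
      intro k _
      rw [σ_smul]
    · intro k' k
      have := congrArg (ρ O h) (h2 k' k)
      rw [map_sum, map_zero] at this
      refine Eq.trans ?_ this
      apply Finset.sum_congr rfl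
      intro j _
      rw [map_mul, ρ_comp]

lemma goodSieve_zero (F : ModSite.Mod O) {U : C} {n : ℕ} (r : Fin 0 → Fin n → O.obj.obj (op U))
    (s : Fin n → ModSite.sect F U) : goodSieve F r s = ⊤ := by
  classical
  apply top_unique
  intro V g _
  refine ⟨n, fun k => σ F g (s k), fun j k => if j = k then 1 else 0, ?_, ?_⟩
  · intro j
    simp
  · intro k'
    exact Fin.elim0 k'

theorem goodSieve_mem (F : ModSite.Mod O) (hF : Crit F) : ∀ (m : ℕ) (U : C) (n : ℕ)
    (r : Fin m → Fin n → O.obj.obj (op U)) (s : Fin n → ModSite.sect F U),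
    (∀ k, ∑ j, r k j • s j = 0) → goodSieve F r s ∈ J U := by
  intro m
  induction m with
  | zero =>
    intro U n r s _
    rw [goodSieve_zero]
    exact J.top_mem U
  | succ m ih =>
    intro U n r s hrel
    obtain ⟨S₁, hS₁, h₁⟩ := hF U n (r 0) s (hrel 0)
    refine J.transitive hS₁ _ ?_
    intro V g hg
    obtain ⟨l₁, t₁, a₁, h1, h2⟩ := h₁ g hg
    let r' : Fin m → Fin l₁ → O.obj.obj (op V) := fun k' k => ∑ j, ρ O g (r k'.succ j) * a₁ j k
    have hrel' : ∀ k', ∑ k, r' k' k • t₁ k = 0 := by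
      intro k'
      have e1 := congrArg (σ F g) (hrel k'.succ)
      rw [map_sum, map_zero] at e1
      refine Eq.trans ?_ e1
      simp only [r', Finset.sum_smul]
      rw [Finset.sum_comm]
      apply Finset.sum_congr rfl
      intro j _
      rw [σ_smul, h1, Finset.smul_sum]
      apply Finset.sum_congr rfl
      intro k _
      rw [mul_smul]
    have h3 := ih V l₁ r' t₁ hrel'
    refine J.superset_covering ?_ h3
    rintro W h ⟨l₂, t₂, a₂, h4, h5⟩
    refine ⟨l₂, t₂, fun j k'' => ∑ k, ρ O h (a₁ j k) * a₂ k k'', ?_, ?_⟩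
    · intro j
      rw [σ_comp, h1, map_sum]
      simp only [Finset.sum_smul]
      rw [Finset.sum_comm]
      apply Finset.sum_congr rfl
      intro k _
      rw [σ_smul, h4, Finset.smul_sum]
      apply Finset.sum_congr rfl
      intro k'' _
      rw [mul_smul]
    · intro k' k''
      have key : ∀ k' : Fin (m + 1), ∑ j, (∑ k, ρ O h (a₁ j k) * a₂ k k'') * ρ O (h ≫ g) (r k' j) =
          ∑ k, a₂ k k'' * ρ O h (∑ j, a₁ j k * ρ O g (r k' j)) := by
        intro k'
        simp only [Finset.sum_mul, map_sum, Finset.mul_sum]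
        rw [Finset.sum_comm]
        apply Finset.sum_congr rfl
        intro k _
        apply Finset.sum_congr rfl
        intro j _
        rw [map_mul, ρ_comp]
        ring
      rw [key]
      refine Fin.cases ?_ ?_ k'
      · apply Finset.sum_eq_zero
        intro k _
        rw [h2 k, map_zero, mul_zero]
      · intro k₀
        have := h5 k₀ k''
        refine Eq.trans ?_ this
        apply Finset.sum_congr rfl
        intro k _
        congr 2
        apply Finset.sum_congr rfl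
        intro j _
        rw [mul_comm]

end Groth.Agent.Lib.helper10.EqConv

namespace Groth.Agent.Lib.helper10.EqConv

section algsec
open TensorProduct

lemma alg_core {A B : Type*} [CommRing A] [CommRing B] (ρ : A →+* B)
    {M N Fm : Type*} [AddCommGroup M] [Module A M] [AddCommGroup N] [Module A N]
    [AddCommGroup Fm] [Module A Fm]
    {M' N' Fm' : Type*} [AddCommGroup M'] [Module B M'] [AddCommGroup N'] [Module B N']
    [AddCommGroup Fm'] [Module B Fm']
    (φ : M →+ N) (φ' : M' →+ N') (hφ' : Function.Injective φ')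
    (hφ's : ∀ (b : B) x, φ' (b • x) = b • φ' x)
    (rM : M →+ M') (rN : N →+ N') (rF : Fm →+ Fm')
    (hrN : ∀ a x, rN (a • x) = ρ a • rN x)
    (hrF : ∀ a x, rF (a • x) = ρ a • rF x)
    (hnat : ∀ x, φ' (rM x) = rN (φ x))
    {n : ℕ} (x : Fin n → M) (y : Fin n → Fm)
    (T : Finset N) (l : ℕ) (a : Fin n → Fin l → A) (a' : N → Fin l → A) (y' : Fin l → Fm)
    (h1 : ∀ i, y i = ∑ j, a i j • y' j)
    (h3 : ∀ j, ∑ i, a i j • φ (x i) + ∑ z ∈ T, a' z j • z = 0)
    (l₂ : ℕ) (t : Fin l₂ → Fm') (b : Fin l → Fin l₂ → B)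
    (h4 : ∀ j, rF (y' j) = ∑ k, b j k • t k)
    (h5 : ∀ z ∈ T, ∀ k, ∑ j, b j k * ρ (a' z j) = 0) :
    ∑ i, rM (x i) ⊗ₜ[B] rF (y i) = 0 := by
  let γ : Fin l₂ → M' := fun k => ∑ i, ∑ j, (ρ (a i j) * b j k) • rM (x i)
  have hγ : ∀ k, γ k = 0 := by
    intro k
    apply hφ'
    rw [map_zero]
    have e1 : φ' (γ k) = ∑ j, b j k • rN (∑ i, a i j • φ (x i)) := by
      simp only [γ, map_sum, hφ's, hnat, hrN, Finset.smul_sum]
      rw [Finset.sum_comm]
      apply Finset.sum_congr rfl; intro j _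
      apply Finset.sum_congr rfl; intro i _
      rw [← mul_smul, mul_comm]
    rw [e1]
    have e2 : ∀ j, ∑ i, a i j • φ (x i) = - ∑ z ∈ T, a' z j • z :=
      fun j => eq_neg_of_add_eq_zero_left (h3 j)
    simp only [e2, map_neg, map_sum, hrN, smul_neg, Finset.smul_sum, Finset.sum_neg_distrib]
    rw [neg_eq_zero, Finset.sum_comm]
    apply Finset.sum_eq_zero
    intro z hz
    simp only [← mul_smul]
    rw [← Finset.sum_smul, h5 z hz k, zero_smul]
  have e : ∑ i, rM (x i) ⊗ₜ[B] rF (y i) = ∑ k, γ k ⊗ₜ[B] t k := by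
    calc ∑ i, rM (x i) ⊗ₜ[B] rF (y i)
        = ∑ i, ∑ j, ∑ k, rM (x i) ⊗ₜ[B] ((ρ (a i j) * b j k) • t k) := by
          apply Finset.sum_congr rfl; intro i _
          rw [h1, map_sum, TensorProduct.tmul_sum]
          apply Finset.sum_congr rfl; intro j _
          rw [hrF, h4, Finset.smul_sum, TensorProduct.tmul_sum]
          apply Finset.sum_congr rfl; intro k _
          rw [mul_smul]
      _ = ∑ i, ∑ k, ∑ j, rM (x i) ⊗ₜ[B] ((ρ (a i j) * b j k) • t k) :=
          Finset.sum_congr rfl (fun i _ => Finset.sum_comm)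
      _ = ∑ k, γ k ⊗ₜ[B] t k := by
          rw [Finset.sum_comm]
          apply Finset.sum_congr rfl; intro k _
          simp only [γ, TensorProduct.sum_tmul]
          apply Finset.sum_congr rfl; intro i _
          apply Finset.sum_congr rfl; intro j _
          rw [TensorProduct.smul_tmul]
  rw [e]
  simp [hγ]

end algsec

end Groth.Agent.Lib.helper10.EqConv

namespace Groth.Agent.Lib.helper10.EqConv

variable {C : Type u} [SmallCategory C] {J : GrothendieckTopology C} {O : Sheaf J CommRingCat.{u}}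

/-- restriction of sections of a presheaf of modules, as an additive map -/
def σM (M : PM O) {U V : C} (g : V ⟶ U) : M.obj (op U) →+ M.obj (op V) :=
  AddMonoidHomClass.toAddMonoidHom (M.map g.op).hom

lemma σM_smul (M : PM O) {U V : C} (g : V ⟶ U) (c : O.obj.obj (op U))
    (s : M.obj (op U)) : σM M g (c • s) = ρ O g c • σM M g s :=
  M.map_smul g.op c s

/-- a morphism of presheaves of modules on sections, as an additive map -/
def appA {M N : PM O} (φ : M ⟶ N) (U : C) : M.obj (op U) →+ N.obj (op U) :=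
  AddMonoidHomClass.toAddMonoidHom (φ.app (op U)).hom

lemma appA_smul {M N : PM O} (φ : M ⟶ N) (U : C) (c : O.obj.obj (op U)) (s : M.obj (op U)) :
    appA φ U (c • s) = c • appA φ U s :=
  (φ.app (op U)).hom.map_smul c s

lemma appA_nat {M N : PM O} (φ : M ⟶ N) {U V : C} (g : V ⟶ U) (s : M.obj (op U)) :
    appA φ V (σM M g s) = σM N g (appA φ U s) :=
  PresheafOfModules.naturality_apply φ g.op s

open TensorProduct in
theorem core (F : ModSite.Mod O) (hF : Crit F) {M N : PM O} (φ : M ⟶ N)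
    (hφ : ∀ U, Function.Injective (φ.app U)) (U : C)
    (ξ : (M ⊗ (FG O).obj F).obj (op U)) (hξ : (φ ▷ (FG O).obj F).app (op U) ξ = 0) :
    ∃ S ∈ J U, ∀ ⦃V : C⦄ (g : V ⟶ U), S g → (M ⊗ (FG O).obj F).map g.op ξ = 0 := by
  classical
  let ξ' : (M.obj (op U)) ⊗[O.obj.obj (op U)] (F.val.obj (op U)) := ξ
  obtain ⟨n, x, y, hxy⟩ := TensorProduct.exists_sum_tmul_eq ξ'
  have hξ2 : ∑ i, (appA φ U (x i)) ⊗ₜ[O.obj.obj (op U)] y i = 0 := by
    refine Eq.trans ?_ hξ
    have : ξ = ∑ i, x i ⊗ₜ[O.obj.obj (op U)] y i := hxy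
    rw [this]
    refine Eq.symm ((map_sum (ConcreteCategory.hom ((φ ▷ (FG O).obj F).app (op U))) _ _).trans ?_)
    rfl
  obtain ⟨T, l, a, a', y', h1, h2, h3⟩ :=
    Groth.Agent.Lib.helper10.Vanish.vanish (A := O.obj.obj (op U))
      (fun i => appA φ U (x i)) y hξ2
  let e := T.equivFin
  let r : Fin T.card → Fin l → O.obj.obj (op U) := fun k j => a' (e.symm k).1 j
  have hrel : ∀ k, ∑ j, r k j • y' j = 0 := fun k => h2 _ (e.symm k).2
  have hmem := goodSieve_mem F hF T.card U l r y' hrel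
  refine ⟨_, hmem, ?_⟩
  rintro V g ⟨l₂, t, b, h4, h5⟩
  have hres : (M ⊗ (FG O).obj F).map g.op ξ =
      ∑ i, (σM M g (x i)) ⊗ₜ[O.obj.obj (op V)] (σ F g (y i)) := by
    have : ξ = ∑ i, x i ⊗ₜ[O.obj.obj (op U)] y i := hxy
    rw [this]
    refine (map_sum (ConcreteCategory.hom ((M ⊗ (FG O).obj F).map g.op)) _ _).trans ?_
    rfl
  rw [hres]
  refine alg_core (ρ O g) (appA φ U) (appA φ V) (hφ (op V)) (appA_smul φ V) (σM M g) (σM N g) (σ F g)
    (σM_smul N g) (σ_smul F g) (appA_nat φ g) x y T l a a' y' h1 h3 l₂ t b h4 ?_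
  intro z hz k
  have := h5 (e ⟨z, hz⟩) k
  simp only [r, Equiv.symm_apply_apply] at this
  exact this

end Groth.Agent.Lib.helper10.EqConv

namespace Groth.Agent.Lib.helper10.EqConv

variable {C : Type u} [SmallCategory C] {J : GrothendieckTopology C} {O : Sheaf J CommRingCat.{u}}

theorem locInj (F : ModSite.Mod O) (hF : Crit F) {M N : PM O} (φ : M ⟶ N)
    (hφ : ∀ U, Function.Injective (φ.app U)) :
    Presheaf.IsLocallyInjective J ((PresheafOfModules.toPresheaf _).map (φ ▷ (FG O).obj F)) := by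
  constructor
  intro X x y h
  obtain ⟨U⟩ := X
  let x' : (M ⊗ (FG O).obj F).obj (op U) := x
  let y' : (M ⊗ (FG O).obj F).obj (op U) := y
  have h' : (φ ▷ (FG O).obj F).app (op U) x' = (φ ▷ (FG O).obj F).app (op U) y' := h
  have hξ : (φ ▷ (FG O).obj F).app (op U) (x' - y') = 0 := by
    rw [map_sub, h', sub_self]
  obtain ⟨S, hS, hS'⟩ := core F hF φ hφ U (x' - y') hξ
  refine J.superset_covering ?_ hS
  intro V g hg
  have h1 := hS' g hg
  rw [map_sub, sub_eq_zero] at h1
  exact h1

lemma mono_aa_of_locInj {M N : PM O} (l : M ⟶ N)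
    (h : Presheaf.IsLocallyInjective J ((PresheafOfModules.toPresheaf _).map l)) :
    Mono ((aa O).map l) := by
  have h3 : Presheaf.IsLocallyInjective J
      ((presheafToSheaf J AddCommGrpCat.{u}).map ((PresheafOfModules.toPresheaf _).map l)).hom :=
    (Presheaf.isLocallyInjective_presheafToSheaf_map_iff J _).2 h
  have h2 : Sheaf.IsLocallyInjective
      ((SheafOfModules.toSheaf (ModSite.ringSh O)).map ((aa O).map l)) := h3
  have h1 : Mono ((SheafOfModules.toSheaf (ModSite.ringSh O)).map ((aa O).map l)) :=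
    Sheaf.mono_of_isLocallyInjective _
  exact (SheafOfModules.toSheaf (ModSite.ringSh O)).mono_of_mono_map h1

theorem flat_of_crit (F : ModSite.Mod O) (hF : Crit F) : ModSite.IsFlat F := by
  apply isFlat_of_preservesMono
  intro X Y f hf
  change Mono ((aa O).map ((FG O).map f ▷ (FG O).obj F))
  have h3 : Mono ((FG O).map f) := by
    have : (FG O).IsRightAdjoint :=
      (PresheafOfModules.sheafificationAdjunction (𝟙 (ModSite.ringSh O).obj)).isRightAdjoint
    infer_instance
  have hinj : ∀ U, Function.Injective (((FG O).map f).app U) :=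
    fun U => PresheafOfModules.injective_of_mono _ U
  exact mono_aa_of_locInj _ (locInj F hF ((FG O).map f) hinj)

theorem main (F : ModSite.Mod O) :
    ModSite.IsFlat F ↔
      ∀ (U : C) (n : ℕ) (f : Fin n → O.obj.obj (op U)) (s : Fin n → ModSite.sect F U),
        ∑ j, f j • s j = 0 →
        ∃ S ∈ J U, ∀ ⦃V : C⦄ (g : V ⟶ U), S g →
          ∃ (l : ℕ) (t : Fin l → ModSite.sect F V) (a : Fin n → Fin l → O.obj.obj (op V)),
            (∀ j, (F.val.map g.op).hom (s j) = ∑ k, a j k • t k) ∧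
            (∀ k, ∑ j, a j k * (O.obj.map g.op).hom (f j) = 0) := by
  constructor
  · intro hF U n f s hrel
    obtain ⟨T, hT, hT'⟩ := Groth.Agent.Lib.helper10.EqCrit.eq_crit O F hF U n 1 (fun _ => f) s
      (fun _ => hrel)
    refine ⟨T, hT, ?_⟩
    intro V g hg
    obtain ⟨l, t, a, h1, h2⟩ := hT' g hg
    exact ⟨l, t, a, h1, fun k => h2 0 k⟩
  · intro h
    exact flat_of_crit F h

end Groth.Agent.Lib.helper10.EqConv
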