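import Mathlib
import Groth.Agent.Lib.helper10.DerAdj

namespace Groth.Agent.Lib.helper10.ExtAdj
open CategoryTheory Limits
open Groth.Agent.Lib.helper10

universe w w' w'' v u

variable {A : Type u} [Category.{v} A] [Abelian A]
  {B : Type u} [Category.{v} B] [Abelian B]
  {L : A ⥤ B} {R : B ⥤ A} (adj : L ⊣ R) [L.Additive] [R.Additive]
  [PreservesFiniteLimits L] [PreservesFiniteColimits L]
  [PreservesFiniteLimits R] [PreservesFiniteColimits R]

section
variable [HasDerivedCategory.{w} A] [HasDerivedCategory.{w} B]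

noncomputable def isoLS (Z' : A) (Z : B) (e : L.obj Z' ≅ Z) :
    L.mapDerivedCategory.obj ((DerivedCategory.singleFunctor A 0).obj Z') ≅
      (DerivedCategory.singleFunctor B 0).obj Z :=
  (L.mapDerivedCategorySingleFunctor 0).app Z' ≪≫ (DerivedCategory.singleFunctor B 0).mapIso e

noncomputable def Ψ (Z' : A) (Z : B) (e : L.obj Z' ≅ Z) (K : DerivedCategory B) (p : ℤ) :
    ((DerivedCategory.singleFunctor A 0).obj Z' ⟶ (R.mapDerivedCategory.obj K)⟦p⟧) ≃
      ((DerivedCategory.singleFunctor B 0).obj Z ⟶ K⟦p⟧) :=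
  (Iso.homCongr (Iso.refl _) ((R.mapDerivedCategory.commShiftIso p).app K).symm).trans
    (((DerAdj.derAdj adj).homEquiv _ _).symm.trans (Iso.homCongr (isoLS Z' Z e) (Iso.refl _)))

noncomputable def ΨAdd (Z' : A) (Z : B) (e : L.obj Z' ≅ Z) (K : DerivedCategory B) (p : ℤ) :
    ((DerivedCategory.singleFunctor A 0).obj Z' ⟶ (R.mapDerivedCategory.obj K)⟦p⟧) ≃+
      ((DerivedCategory.singleFunctor B 0).obj Z ⟶ K⟦p⟧) :=
  { toEquiv := Ψ adj Z' Z e K p
    map_add' := by
      intro f g
      simp only [Ψ, Equiv.toFun_as_coe, Equiv.trans_apply, Iso.homCongr_apply, Iso.refl_inv, Iso.refl_hom,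
        Category.id_comp, Category.comp_id, Adjunction.homEquiv_counit, Preadditive.add_comp,
        Preadditive.comp_add, Functor.map_add] }

/-- For `K = F[0]`: `R_D (F[0]) ≅ (R F)[0]`. -/
noncomputable def ΨSingle (Z' : A) (Z : B) (e : L.obj Z' ≅ Z) (F : B) (p : ℤ) :
    ((DerivedCategory.singleFunctor A 0).obj Z' ⟶ ((DerivedCategory.singleFunctor A 0).obj (R.obj F))⟦p⟧) ≃+
      ((DerivedCategory.singleFunctor B 0).obj Z ⟶ ((DerivedCategory.singleFunctor B 0).obj F)⟦p⟧) :=
  AddEquiv.trans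
    { toEquiv := Iso.homCongr (Iso.refl _)
        ((shiftFunctor _ p).mapIso ((R.mapDerivedCategorySingleFunctor 0).app F).symm)
      map_add' := by
        intro f g
        simp only [Equiv.toFun_as_coe, Iso.homCongr_apply, Iso.refl_inv, Category.id_comp,
          Preadditive.add_comp] }
    (ΨAdd adj Z' Z e ((DerivedCategory.singleFunctor B 0).obj F) p)

end

include adj in
open Abelian in
theorem extAdj [HasExt.{w'} A] [HasExt.{w''} B] (Z' : A) (Z : B) (e : L.obj Z' ≅ Z) (F : B) (n : ℕ) :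
    Nonempty (Ext Z F n ≃+ Ext Z' (R.obj F) n) := by
  let _ : HasDerivedCategory.{max u v} A := HasDerivedCategory.standard A
  let _ : HasDerivedCategory.{max u v} B := HasDerivedCategory.standard B
  exact ⟨(Ext.homAddEquiv (X := Z) (Y := F) (n := n)).trans
    ((ΨSingle adj Z' Z e F (n : ℤ)).symm.trans (Ext.homAddEquiv (X := Z') (Y := R.obj F) (n := n)).symm)⟩

end Groth.Agent.Lib.helper10.ExtAdj
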