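import Mathlib

namespace Groth.Agent.Lib.helper10.ExtCmp
open CategoryTheory Limits Abelian

universe w w' v v' u u'

lemma equiv_of_surj {P Q P' Q' : Type*} [AddCommGroup P] [AddCommGroup Q] [AddCommGroup P']
    [AddCommGroup Q'] (f : P →+ P') (g : Q →+ Q') (hf : Function.Surjective f)
    (hg : Function.Surjective g) (e : P ≃+ Q) (h : ∀ x, f x = 0 ↔ g (e x) = 0) :
    Nonempty (P' ≃+ Q') := by
  have he : (f.ker).map (e : P →+ Q) = g.ker := by
    ext y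
    constructor
    · rintro ⟨x, hx, rfl⟩
      exact (h x).1 hx
    · intro hy
      refine ⟨e.symm y, ?_, by simp⟩
      apply (h _).2
      simpa using hy
  exact ⟨(QuotientAddGroup.quotientKerEquivOfSurjective f hf).symm.trans
    ((QuotientAddGroup.congr f.ker g.ker e he).trans
      (QuotientAddGroup.quotientKerEquivOfSurjective g hg))⟩

section one
variable {A : Type u} [Category.{v} A] [Abelian A] [HasExt.{w} A]
  {S : ShortComplex A} (hS : S.ShortExact)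

/-- the connecting map `Hom(Z, S.X₃) → Ext¹(Z, S.X₁)` -/
noncomputable def δ₀ (Z : A) : (Z ⟶ S.X₃) →+ Ext Z S.X₁ 1 :=
  (hS.extClass.postcomp Z (zero_add 1)).comp Ext.addEquiv₀.symm.toAddMonoidHom

lemma δ₀_apply (Z : A) (a : Z ⟶ S.X₃) :
    δ₀ hS Z a = (Ext.mk₀ a).comp hS.extClass (zero_add 1) := rfl

lemma δ₀_surj (Z : A) (h : ∀ x : Ext Z S.X₂ 1, x = 0) : Function.Surjective (δ₀ hS Z) := by
  intro x
  obtain ⟨x₃, hx₃⟩ := Ext.covariant_sequence_exact₁ Z hS x (h _) (zero_add 1)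
  obtain ⟨a, rfl⟩ := (Ext.mk₀_bijective _ _).2 x₃
  exact ⟨a, hx₃⟩

lemma δ₀_eq_zero_iff (Z : A) (a : Z ⟶ S.X₃) :
    δ₀ hS Z a = 0 ↔ ∃ b : Z ⟶ S.X₂, b ≫ S.g = a := by
  rw [δ₀_apply]
  constructor
  · intro hx
    obtain ⟨x₂, hx₂⟩ := Ext.covariant_sequence_exact₃ Z hS (Ext.mk₀ a) (zero_add 1) hx
    obtain ⟨b, rfl⟩ := (Ext.mk₀_bijective _ _).2 x₂
    rw [Ext.mk₀_comp_mk₀] at hx₂
    exact ⟨b, (Ext.mk₀_bijective _ _).1 hx₂⟩
  · rintro ⟨b, rfl⟩
    rw [← Ext.mk₀_comp_mk₀, Ext.comp_assoc _ _ _ (add_zero 0) (zero_add 1) (by rfl),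
      hS.comp_extClass, Ext.comp_zero]

lemma δ_bij (Z : A) (p : ℕ) (h1 : ∀ x : Ext Z S.X₂ (p + 1), x = 0)
    (h2 : ∀ x : Ext Z S.X₂ (p + 2), x = 0) :
    Function.Bijective (hS.extClass.postcomp Z (rfl : p + 1 + 1 = p + 2)) := by
  constructor
  · rw [injective_iff_map_eq_zero]
    intro x hx
    obtain ⟨x₂, hx₂⟩ := Ext.covariant_sequence_exact₃ Z hS x rfl hx
    rw [← hx₂, h1 x₂, Ext.zero_comp]
  · intro x
    obtain ⟨x₃, hx₃⟩ := Ext.covariant_sequence_exact₁ Z hS x (h2 _) (rfl : p + 1 + 1 = p + 2)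
    exact ⟨x₃, hx₃⟩

end one

section two
variable {A : Type u} [Category.{v} A] [Abelian A] [HasExt.{w} A]
  {B : Type u'} [Category.{v'} B] [Abelian B] [HasExt.{w'} B]

lemma step0 {S : ShortComplex A} (hS : S.ShortExact) {S' : ShortComplex B} (hS' : S'.ShortExact)
    (X : A) (Y : B)
    (τ₂ : (X ⟶ S.X₂) ≃+ (Y ⟶ S'.X₂)) (τ₃ : (X ⟶ S.X₃) ≃+ (Y ⟶ S'.X₃))
    (hnat : ∀ b, τ₃ (b ≫ S.g) = τ₂ b ≫ S'.g)
    (hv : ∀ x : Ext X S.X₂ 1, x = 0) (hv' : ∀ x : Ext Y S'.X₂ 1, x = 0) :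
    Nonempty (Ext X S.X₁ 1 ≃+ Ext Y S'.X₁ 1) := by
  refine equiv_of_surj (δ₀ hS X) (δ₀ hS' Y) (δ₀_surj hS X hv) (δ₀_surj hS' Y hv') τ₃ ?_
  intro a
  rw [δ₀_eq_zero_iff, δ₀_eq_zero_iff]
  constructor
  · rintro ⟨b, rfl⟩
    exact ⟨τ₂ b, (hnat b).symm⟩
  · rintro ⟨b', hb'⟩
    refine ⟨τ₂.symm b', ?_⟩
    apply τ₃.injective
    rw [hnat, AddEquiv.apply_symm_apply, hb']

lemma stepS {S : ShortComplex A} (hS : S.ShortExact) {S' : ShortComplex B} (hS' : S'.ShortExact)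
    (X : A) (Y : B) (p : ℕ)
    (hv : ∀ (q : ℕ) (x : Ext X S.X₂ (q + 1)), x = 0)
    (hv' : ∀ (q : ℕ) (x : Ext Y S'.X₂ (q + 1)), x = 0)
    (e : Ext X S.X₃ (p + 1) ≃+ Ext Y S'.X₃ (p + 1)) :
    Nonempty (Ext X S.X₁ (p + 2) ≃+ Ext Y S'.X₁ (p + 2)) :=
  ⟨(AddEquiv.ofBijective _ (δ_bij hS X p (hv p) (hv (p + 1)))).symm.trans
    (e.trans (AddEquiv.ofBijective _ (δ_bij hS' Y p (hv' p) (hv' (p + 1)))))⟩

variable [EnoughInjectives A]
  (G : A ⥤ B) [G.Additive] [PreservesFiniteLimits G] [PreservesFiniteColimits G]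
  (X : A) (Y : B) (τ : ∀ M : A, (X ⟶ M) ≃+ (Y ⟶ G.obj M))
  (hτ : ∀ {M M' : A} (a : X ⟶ M) (g : M ⟶ M'), τ M' (a ≫ g) = τ M a ≫ G.map g)
  (hI : ∀ (I : A) [Injective I] (p : ℕ) (x : Ext Y (G.obj I) (p + 1)), x = 0)

noncomputable def sc (M : A) : ShortComplex A :=
  ShortComplex.mk (Injective.ι M) (cokernel.π (Injective.ι M)) (cokernel.condition _)

lemma sc_shortExact (M : A) : (sc M).ShortExact :=
  { exact := ShortComplex.exact_cokernel _
    mono_f := by change Mono (Injective.ι M); infer_instance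
    epi_g := by change Epi (cokernel.π (Injective.ι M)); infer_instance }

instance (M : A) : Injective (sc M).X₂ := by
  change Injective (Injective.under M)
  infer_instance

include hτ hI in
theorem main_succ (p : ℕ) : ∀ M : A, Nonempty (Ext X M (p + 1) ≃+ Ext Y (G.obj M) (p + 1)) := by
  induction p with
  | zero =>
    intro M
    have hS := sc_shortExact M
    have hS' : ((sc M).map G).ShortExact := hS.map_of_exact G
    exact step0 hS hS' X Y (τ _) (τ _) (fun b => hτ b _)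
      (fun x => Ext.eq_zero_of_injective x) (fun x => hI (sc M).X₂ 0 x)
  | succ p ih =>
    intro M
    have hS := sc_shortExact M
    have hS' : ((sc M).map G).ShortExact := hS.map_of_exact G
    obtain ⟨e⟩ := ih (sc M).X₃
    exact stepS hS hS' X Y p (fun q x => Ext.eq_zero_of_injective x)
      (fun q x => hI (sc M).X₂ q x) e

include hτ hI in
theorem main (p : ℕ) (M : A) : Nonempty (Ext X M p ≃+ Ext Y (G.obj M) p) := by
  cases p with
  | zero => exact ⟨Ext.addEquiv₀.trans ((τ M).trans Ext.addEquiv₀.symm)⟩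
  | succ p => exact main_succ G X Y τ hτ hI p M

end two

end Groth.Agent.Lib.helper10.ExtCmp
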