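import Mathlib
import Groth.Prelude.Def_FreeSh
import Groth.Prelude.Def_CohSite

set_option autoImplicit false
set_option linter.unusedSectionVars false
open CategoryTheory CategoryTheory.Limits CategoryTheory.Abelian Opposite

namespace Groth.Agent.Lib.helper10.KillSite

section generic

universe v' u'

variable {A : Type u'} [Category.{v'} A] [Abelian A] [HasExt.{v'} A]

/-- the short exact sequence `0 → F → I → Q → 0` with `I` injective -/
noncomputable abbrev injSES [EnoughInjectives A] (F : A) : ShortComplex A :=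
  ShortComplex.mk (Injective.ι F) (cokernel.π (Injective.ι F)) (cokernel.condition _)

lemma injSES_shortExact [EnoughInjectives A] (F : A) : (injSES F).ShortExact where
  exact := ShortComplex.exact_cokernel _
  mono_f := by dsimp [injSES]; infer_instance
  epi_g := by dsimp [injSES]; infer_instance

instance [EnoughInjectives A] (F : A) : Injective (injSES F).X₂ := by
  dsimp [injSES]; infer_instance

variable (S : ShortComplex A) (hS : S.ShortExact)

include hS in
lemma exists_preimage_δ [Injective S.X₂] (P : A) (n : ℕ) (ξ : Ext.{v'} P S.X₁ (n + 1)) :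
    ∃ y : Ext.{v'} P S.X₃ n, y.comp hS.extClass rfl = ξ :=
  Ext.covariant_sequence_exact₁ _ hS ξ (Ext.eq_zero_of_injective _) rfl

lemma precomp_δ_eq_zero {P P' : A} (g : P' ⟶ P) (n : ℕ) (y : Ext.{v'} P S.X₃ n)
    (hy : (Ext.mk₀ g).comp y (zero_add n) = 0) :
    (Ext.mk₀ g).comp (y.comp hS.extClass (rfl : n + 1 = n + 1)) (zero_add (n + 1)) = 0 := by
  rw [← Ext.comp_assoc (a₁₂ := n) _ _ _ (by omega) (by omega) (by omega), hy, Ext.zero_comp]

lemma precomp_δ_mk₀_eq_zero {P P' : A} (g : P' ⟶ P) (q : P ⟶ S.X₃) (σ : P' ⟶ S.X₂)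
    (hσ : σ ≫ S.g = g ≫ q) :
    (Ext.mk₀ g).comp ((Ext.mk₀ q).comp hS.extClass (zero_add 1)) (zero_add 1) = 0 := by
  rw [← Ext.comp_assoc_of_second_deg_zero, Ext.mk₀_comp_mk₀, ← hσ,
    ← Ext.mk₀_comp_mk₀, Ext.comp_assoc_of_second_deg_zero, hS.comp_extClass, Ext.comp_zero]

end generic

universe u

variable {C : Type u} [SmallCategory C] (J : GrothendieckTopology C)

lemma res_apply (F : Sheaf J AddCommGrpCat.{u}) {U V : C} (f : V ⟶ U) (i : ℕ) (x : CohSite.HU F i U) :
    CohSite.res F i f x =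
      (Ext.mk₀ (CohCx.freeSheafMap J f)).comp (x : Ext.{u} (CohCx.freeSheaf J U) F i)
        (zero_add i) := rfl

/-- local lifting of a map `ℤ_U ⟶ Q` along an epimorphism `I ⟶ Q` -/
lemma exists_local_lift {I Q : Sheaf J AddCommGrpCat.{u}} (π : I ⟶ Q) [Epi π] (U : C)
    (q : CohCx.freeSheaf J U ⟶ Q) :
    ∃ S : J.Cover U, ∀ a : S.Arrow, ∃ σ : CohCx.freeSheaf J a.Y ⟶ I,
      σ ≫ π = CohCx.freeSheafMap J a.f ≫ q := by
  have hloc : Sheaf.IsLocallySurjective π := (Sheaf.isLocallySurjective_iff_epi' _ π).2 inferInstance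
  refine ⟨⟨_, Presheaf.imageSieve_mem J π.hom (U := op U) (CohFree.evalGen J U Q q)⟩, ?_⟩
  rintro ⟨V, f, ⟨s, hs⟩⟩
  refine ⟨CohFree.ofSect J V _ s, ?_⟩
  apply (CohFree.homEquivSect J V Q).injective
  rw [CohFree.homEquivSect_apply, CohFree.homEquivSect_apply, CohFree.evalGen_freeSheafMap_comp]
  refine Eq.trans ?_ hs
  change (π.hom.app (op V)).hom (CohFree.evalGen J V I (CohFree.ofSect J V I s)) = _
  rw [CohFree.evalGen_ofSect]

/-- every cohomology class of positive degree is locally zero -/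
theorem exists_cover_comp_eq_zero (n : ℕ) : ∀ (F : Sheaf J AddCommGrpCat.{u}) (U : C)
    (ξ : Ext.{u} (CohCx.freeSheaf J U) F (n + 1)),
    ∃ S : J.Cover U, ∀ a : S.Arrow,
      (Ext.mk₀ (CohCx.freeSheafMap J a.f)).comp ξ (zero_add (n + 1)) = 0 := by
  induction n with
  | zero =>
    intro F U ξ
    have hS := injSES_shortExact F
    have : Epi (injSES F).g := hS.epi_g
    obtain ⟨x₃, hx₃⟩ := exists_preimage_δ (injSES F) hS _ 0 ξ
    obtain ⟨q, rfl⟩ := (Ext.mk₀_bijective _ _).2 x₃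
    obtain ⟨S, hSa⟩ := exists_local_lift J (injSES F).g U q
    refine ⟨S, fun a => ?_⟩
    obtain ⟨σ, hσ⟩ := hSa a
    have h1 := precomp_δ_mk₀_eq_zero (injSES F) hS (CohCx.freeSheafMap J a.f) q σ hσ
    rw [hx₃] at h1
    exact h1
  | succ n ih =>
    intro F U ξ
    have hS := injSES_shortExact F
    obtain ⟨y, hy⟩ := exists_preimage_δ (injSES F) hS _ (n + 1) ξ
    obtain ⟨S, hres⟩ := ih (injSES F).X₃ U y
    refine ⟨S, fun a => ?_⟩
    have h1 := precomp_δ_eq_zero (injSES F) hS (CohCx.freeSheafMap J a.f) (n + 1) y (hres a)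
    rw [hy] at h1
    exact h1

theorem kill_class (F : Sheaf J AddCommGrpCat.{u}) (U : C) (n : ℕ) (ξ : CohSite.HU F (n + 1) U) :
    ∃ (S : J.Cover U), ∀ (a : S.Arrow), CohSite.res F (n + 1) a.f ξ = 0 := by
  obtain ⟨S, hS⟩ := exists_cover_comp_eq_zero J n F U ξ
  exact ⟨S, fun a => (res_apply J F a.f (n + 1) ξ).trans (hS a)⟩

end Groth.Agent.Lib.helper10.KillSite
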