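import Mathlib
import Groth.Agent.Lib.helper10.KillSite

set_option autoImplicit false
set_option linter.unusedSectionVars false
open CategoryTheory CategoryTheory.Limits CategoryTheory.Abelian Opposite

namespace Groth.Agent.Lib.helper10.ExtProd

open Groth.Agent.Lib.helper10.KillSite

universe w v' u'

variable {A : Type u'} [Category.{v'} A] [Abelian A] [HasExt.{v'} A] [EnoughInjectives A]
  {I : Type w} (F : I → A) [HasProduct F] [HasProduct (fun i => Injective.under (F i))]

/-- the product of the injective embeddings -/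
noncomputable abbrev ιP : ∏ᶜ F ⟶ ∏ᶜ (fun i => Injective.under (F i)) :=
  Limits.Pi.map (fun i => Injective.ι (F i))

instance : Mono (ιP F) := by
  dsimp [ιP]; infer_instance

/-- the short exact sequence `0 → ∏F → ∏I → Q' → 0` -/
noncomputable abbrev prodSES : ShortComplex A :=
  ShortComplex.mk (ιP F) (cokernel.π (ιP F)) (cokernel.condition _)

lemma prodSES_shortExact : (prodSES F).ShortExact where
  exact := ShortComplex.exact_cokernel _
  mono_f := by dsimp [prodSES]; infer_instance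
  epi_g := by dsimp [prodSES]; infer_instance

instance : Injective (prodSES F).X₂ := by
  dsimp [prodSES]; infer_instance

/-- the maps `Q' → Q_i` -/
noncomputable def r (i : I) : (prodSES F).X₃ ⟶ (injSES (F i)).X₃ :=
  cokernel.desc (ιP F) (Pi.π _ i ≫ cokernel.π (Injective.ι (F i))) (by
    rw [← Category.assoc]
    have : ιP F ≫ Pi.π (fun i => Injective.under (F i)) i = Pi.π F i ≫ Injective.ι (F i) := by
      simp [ιP]
    rw [this, Category.assoc, cokernel.condition, comp_zero])

lemma g_r (i : I) : (prodSES F).g ≫ r F i = Pi.π _ i ≫ (injSES (F i)).g := by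
  simp [prodSES, r, injSES]

/-- the morphism of short complexes -/
noncomputable def φ (i : I) : prodSES F ⟶ injSES (F i) where
  τ₁ := Pi.π F i
  τ₂ := Pi.π _ i
  τ₃ := r F i
  comm₁₂ := by simp [prodSES, injSES, ιP]
  comm₂₃ := (g_r F i).symm

lemma r_jointly_mono {T : A} (z : T ⟶ (prodSES F).X₃) (hz : ∀ i, z ≫ r F i = 0) : z = 0 := by
  obtain ⟨T', e, he, z', hz'⟩ := surjective_up_to_refinements_of_epi (cokernel.π (ιP F)) z
  have h1 : ∀ i, (z' ≫ Pi.π _ i) ≫ (injSES (F i)).g = 0 := by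
    intro i
    rw [Category.assoc, ← g_r F i]
    change z' ≫ cokernel.π (ιP F) ≫ r F i = 0
    rw [← Category.assoc, ← hz', Category.assoc, hz i, comp_zero]
  have hS := fun i => injSES_shortExact (F i)
  have : ∀ i, Mono (injSES (F i)).f := fun i => (hS i).mono_f
  let w : T' ⟶ ∏ᶜ F := Pi.lift (fun i => (hS i).exact.lift (z' ≫ Pi.π _ i) (h1 i))
  have hw : w ≫ ιP F = z' := by
    apply Pi.hom_ext
    intro i
    simp only [Category.assoc, ιP, Pi.map_π, w]
    rw [← Category.assoc, Pi.lift_π]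
    exact (hS i).exact.lift_f _ _
  have : e ≫ z = e ≫ 0 := by
    rw [hz', ← hw, Category.assoc, cokernel.condition, comp_zero, comp_zero]
  exact (cancel_epi e).1 this

theorem ext_one_prod_injective (P : A) (ξ : Ext.{v'} P (∏ᶜ F) 1)
    (hξ : ∀ i, ξ.comp (Ext.mk₀ (Pi.π F i)) (add_zero 1) = 0) : ξ = 0 := by
  have hS := prodSES_shortExact F
  obtain ⟨y, hy⟩ := exists_preimage_δ (prodSES F) hS P 0 ξ
  obtain ⟨q, rfl⟩ := (Ext.mk₀_bijective _ _).2 y
  have hSi := fun i => injSES_shortExact (F i)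
  have h2 : ∀ i, (Ext.mk₀ (q ≫ r F i)).comp (hSi i).extClass (zero_add 1) = 0 := by
    intro i
    have hnat := ShortComplex.ShortExact.extClass_naturality hS (hSi i) (φ F i)
    change hS.extClass.comp (Ext.mk₀ (Pi.π F i)) (add_zero 1) =
      (Ext.mk₀ (r F i)).comp (hSi i).extClass (zero_add 1) at hnat
    rw [← Ext.mk₀_comp_mk₀, Ext.comp_assoc_of_second_deg_zero, ← hnat,
      ← Ext.comp_assoc_of_third_deg_zero, hy]
    exact hξ i
  have h3 : ∀ i, ∃ s : P ⟶ Injective.under (F i), s ≫ (injSES (F i)).g = q ≫ r F i := by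
    intro i
    obtain ⟨x₂, hx₂⟩ := Ext.covariant_sequence_exact₃ P (hSi i) (Ext.mk₀ (q ≫ r F i)) rfl (h2 i)
    obtain ⟨s, rfl⟩ := (Ext.mk₀_bijective _ _).2 x₂
    rw [Ext.mk₀_comp_mk₀] at hx₂
    exact ⟨s, (Ext.mk₀_bijective _ _).1 hx₂⟩
  choose s hs using h3
  let σ : P ⟶ ∏ᶜ (fun i => Injective.under (F i)) := Pi.lift s
  have hσ : σ ≫ (prodSES F).g = q := by
    rw [← sub_eq_zero]
    apply r_jointly_mono F
    intro i
    rw [Preadditive.sub_comp, sub_eq_zero, Category.assoc, g_r, ← Category.assoc, Pi.lift_π]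
    exact hs i
  rw [← hy, ← hσ, ← Ext.mk₀_comp_mk₀, Ext.comp_assoc_of_second_deg_zero, hS.comp_extClass,
    Ext.comp_zero]

theorem ext_one_prod_ext (P : A) (y y' : Ext.{v'} P (∏ᶜ F) 1)
    (h : ∀ i, y.comp (Ext.mk₀ (Pi.π F i)) (add_zero 1) = y'.comp (Ext.mk₀ (Pi.π F i)) (add_zero 1)) :
    y = y' := by
  rw [← sub_eq_zero]
  apply ext_one_prod_injective F P
  intro i
  rw [sub_eq_add_neg, Ext.add_comp, Ext.neg_comp, h i, add_neg_cancel]

end Groth.Agent.Lib.helper10.ExtProd
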