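import Mathlib

namespace Groth.Agent.Lib.helper10.ExtUnder
open CategoryTheory Limits Abelian

universe w v u
variable {C : Type u} [Category.{v} C] [Abelian C]

section constr
variable {S : ShortComplex C} (hS : S.ShortExact) {Q P : C} (π : S.X₃ ⟶ P)

noncomputable abbrev C' : C := kernel (S.g ≫ π)
noncomputable abbrev k : C' π ⟶ S.X₂ := kernel.ι (S.g ≫ π)

noncomputable def a : S.X₁ ⟶ C' π :=
  kernel.lift _ S.f (by rw [← Category.assoc, S.zero, zero_comp])

noncomputable def c : C' π ⟶ kernel π :=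
  kernel.lift π (k π ≫ S.g) (by rw [Category.assoc, kernel.condition])

@[reassoc] lemma a_k : a π ≫ k π = S.f := kernel.lift_ι _ _ _
@[reassoc] lemma c_ι : c π ≫ kernel.ι π = k π ≫ S.g := kernel.lift_ι _ _ _

lemma a_c : a π ≫ c π = 0 := by
  rw [← cancel_mono (kernel.ι π), Category.assoc, c_ι, a_k_assoc, S.zero, zero_comp]

noncomputable abbrev S' : ShortComplex C := ShortComplex.mk (a π) (c π) (a_c π)

include hS in
lemma S'_exact_aux {T : C} (x : T ⟶ C' π) (hx : x ≫ c π = 0) :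
    ∃ (T' : C) (p : T' ⟶ T) (_ : Epi p) (y : T' ⟶ S.X₁), p ≫ x = y ≫ a π := by
  have h1 : (x ≫ k π) ≫ S.g = 0 := by
    rw [Category.assoc, ← c_ι, ← Category.assoc, hx, zero_comp]
  obtain ⟨T', p, hp, y, hy⟩ := hS.exact.exact_up_to_refinements (x ≫ k π) h1
  refine ⟨T', p, hp, y, ?_⟩
  rw [← cancel_mono (k π), Category.assoc, Category.assoc, a_k, hy]

include hS in
lemma S'_shortExact : (S' π).ShortExact := by
  have := hS.mono_f
  have := hS.epi_g
  have hm : Mono (a π) := mono_of_mono_fac (a_k π)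
  have he : Epi (c π) := by
    rw [epi_iff_surjective_up_to_refinements]
    intro T x
    obtain ⟨T', p, hp, y, hy⟩ := surjective_up_to_refinements_of_epi S.g (x ≫ kernel.ι π)
    refine ⟨T', p, hp, kernel.lift _ y ?_, ?_⟩
    · rw [← Category.assoc, ← hy, Category.assoc, Category.assoc, kernel.condition, comp_zero,
        comp_zero]
    · rw [← cancel_mono (kernel.ι π), Category.assoc, Category.assoc, c_ι, kernel.lift_ι_assoc, hy]
  have hex : (S' π).Exact := by
    rw [ShortComplex.exact_iff_exact_up_to_refinements]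
    intro T x hx
    exact S'_exact_aux hS π x hx
  exact { exact := hex, mono_f := hm, epi_g := he }

variable (ψ : C' π ⟶ Q)

noncomputable def m : C' π ⟶ S.X₂ ⊞ Q := biprod.lift (k π) (-ψ)
noncomputable abbrev B : C := cokernel (m π ψ)
noncomputable def f : Q ⟶ B π ψ := biprod.inr ≫ cokernel.π _
noncomputable def h : S.X₂ ⟶ B π ψ := biprod.inl ≫ cokernel.π _

lemma m_desc : m π ψ ≫ biprod.desc (S.g ≫ π) (0 : Q ⟶ P) = 0 := by
  simp [m]

noncomputable def g : B π ψ ⟶ P := cokernel.desc _ (biprod.desc (S.g ≫ π) 0) (m_desc π ψ)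

lemma k_h : k π ≫ h π ψ = ψ ≫ f π ψ := by
  have h0 : m π ψ ≫ cokernel.π (m π ψ) = 0 := cokernel.condition _
  have h1 : m π ψ = k π ≫ biprod.inl + (-ψ) ≫ biprod.inr := biprod.lift_eq
  have h2 : (k π ≫ biprod.inl + (-ψ) ≫ biprod.inr) ≫ cokernel.π (m π ψ) = 0 := by
    rw [← h1]; exact h0
  rw [Preadditive.add_comp, Category.assoc, Category.assoc, Preadditive.neg_comp] at h2
  unfold h f
  exact eq_of_sub_eq_zero (by rw [sub_eq_add_neg]; exact h2)

lemma f_g : f π ψ ≫ g π ψ = 0 := by simp [f, g]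
lemma h_g : h π ψ ≫ g π ψ = S.g ≫ π := by simp [h, g]

include hS in
lemma B_shortExact [Epi π] : (ShortComplex.mk (f π ψ) (g π ψ) (f_g π ψ)).ShortExact := by
  have := hS.epi_g
  have hcok : (ShortComplex.mk (m π ψ) (cokernel.π (m π ψ)) (cokernel.condition _)).Exact :=
    ShortComplex.exact_cokernel _
  have hm : Mono (f π ψ) := by
    apply Preadditive.mono_of_cancel_zero
    intro T x hx
    have hx' : (x ≫ biprod.inr) ≫ cokernel.π (m π ψ) = 0 := by
      rw [Category.assoc]; exact hx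
    obtain ⟨T', p, hp, y, hy⟩ := hcok.exact_up_to_refinements (x ≫ biprod.inr) hx'
    have hy' : p ≫ x ≫ biprod.inr = y ≫ m π ψ := hy
    have h1 : y ≫ k π = 0 := by
      have := congrArg (fun t => t ≫ (biprod.fst : S.X₂ ⊞ Q ⟶ S.X₂)) hy'
      simp [m] at this
      exact this.symm
    have h2 : y = 0 := by
      rw [← cancel_mono (k π), h1, zero_comp]
    have h3 : p ≫ x = 0 := by
      have := congrArg (fun t => t ≫ (biprod.snd : S.X₂ ⊞ Q ⟶ Q)) hy'
      simp [m, h2] at this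
      exact this
    rw [← cancel_epi p, h3, comp_zero]
  have he : Epi (g π ψ) := by
    have : Epi (h π ψ ≫ g π ψ) := by rw [h_g]; infer_instance
    exact epi_of_epi (h π ψ) (g π ψ)
  have hex : (ShortComplex.mk (f π ψ) (g π ψ) (f_g π ψ)).Exact := by
    rw [ShortComplex.exact_iff_exact_up_to_refinements]
    intro T x hx
    have hx' : x ≫ g π ψ = 0 := hx
    obtain ⟨T', p, hp, z, hz⟩ := surjective_up_to_refinements_of_epi (cokernel.π (m π ψ)) x
    have hu : (z ≫ biprod.fst) ≫ S.g ≫ π = 0 := by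
      have h1 : z ≫ cokernel.π (m π ψ) ≫ g π ψ = 0 := by
        rw [← Category.assoc, ← hz, Category.assoc, hx', comp_zero]
      have h2 : cokernel.π (m π ψ) ≫ g π ψ = biprod.desc (S.g ≫ π) 0 := cokernel.π_desc _ _ _
      rw [h2] at h1
      have h3 : z = (z ≫ biprod.fst) ≫ biprod.inl + (z ≫ biprod.snd) ≫ biprod.inr := by
        rw [Category.assoc, Category.assoc, ← Preadditive.comp_add, biprod.total, Category.comp_id]
      rw [h3] at h1
      simpa using h1
    let u' : T' ⟶ C' π := kernel.lift _ (z ≫ biprod.fst) hu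
    have hu' : u' ≫ k π = z ≫ biprod.fst := kernel.lift_ι _ _ _
    refine ⟨T', p, hp, z ≫ biprod.snd + u' ≫ ψ, ?_⟩
    change p ≫ x = (z ≫ biprod.snd + u' ≫ ψ) ≫ f π ψ
    rw [hz, Preadditive.add_comp, Category.assoc u' ψ, ← k_h, ← Category.assoc u', hu']
    have h3 : z = (z ≫ biprod.fst) ≫ biprod.inl + (z ≫ biprod.snd) ≫ biprod.inr := by
      rw [Category.assoc, Category.assoc, ← Preadditive.comp_add, biprod.total, Category.comp_id]
    conv_lhs => rw [h3]
    rw [Preadditive.add_comp, add_comm]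
    simp only [f, h, Category.assoc]
  exact { exact := hex, mono_f := hm, epi_g := he }

end constr


noncomputable def ιS {S : ShortComplex C} {P : C} (π : S.X₃ ⟶ P) : S' π ⟶ S :=
  { τ₁ := 𝟙 _, τ₂ := k π, τ₃ := kernel.ι π
    comm₁₂ := by
      change 𝟙 _ ≫ S.f = a π ≫ k π
      rw [a_k, Category.id_comp]
    comm₂₃ := by
      change k π ≫ S.g = c π ≫ kernel.ι π
      exact (c_ι π).symm }

lemma extClass_S' [HasExt.{w} C] {S : ShortComplex C} (hS : S.ShortExact) {P : C} (π : S.X₃ ⟶ P)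
    (hS' : (S' π).ShortExact) :
    hS'.extClass = (Ext.mk₀ (kernel.ι π)).comp hS.extClass (zero_add 1) := by
  have nat := ShortComplex.ShortExact.extClass_naturality hS' hS (ιS π)
  have h1 := Ext.comp_mk₀_id hS'.extClass
  exact h1.symm.trans nat

lemma S'_class_zero [HasExt.{w} C] {S : ShortComplex C} (hS : S.ShortExact) {Q P : C} (φ : S.X₁ ⟶ Q)
    (π : S.X₃ ⟶ P) (hS' : (S' π).ShortExact)
    (hz : (Ext.mk₀ (kernel.ι π)).comp (hS.extClass.comp (Ext.mk₀ φ) (add_zero 1)) (zero_add 1) = 0) :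
    ∃ ψ : C' π ⟶ Q, a π ≫ ψ = φ := by
  have h0 : hS'.extClass.comp (Ext.mk₀ φ) (add_zero 1) = 0 := by
    rw [extClass_S' hS π hS', Ext.comp_assoc_of_third_deg_zero]
    exact hz
  obtain ⟨x₂, hx₂⟩ := Ext.contravariant_sequence_exact₁ hS' Q (Ext.mk₀ φ) (add_zero 1) h0
  obtain ⟨ψ, rfl⟩ := (Ext.mk₀_bijective _ _).2 x₂
  refine ⟨ψ, ?_⟩
  have hx₂' : (Ext.mk₀ (a π)).comp (Ext.mk₀ ψ) (zero_add 0) = Ext.mk₀ φ := hx₂
  rw [Ext.mk₀_comp_mk₀] at hx₂'
  exact (Ext.mk₀_bijective _ _).1 hx₂'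

open Abelian in
theorem main [HasExt.{w} C] {S : ShortComplex C} (hS : S.ShortExact) {Q P : C} (φ : S.X₁ ⟶ Q)
    (π : S.X₃ ⟶ P) [Epi π] :
    (∃ (B : C) (f : Q ⟶ B) (g : B ⟶ P) (h : S.X₂ ⟶ B) (w : f ≫ g = 0),
        (ShortComplex.mk f g w).ShortExact ∧ S.f ≫ h = φ ≫ f ∧ h ≫ g = S.g ≫ π) ↔
      (Ext.mk₀ (kernel.ι π)).comp (hS.extClass.comp (Ext.mk₀ φ) (add_zero 1)) (zero_add 1) = 0 := by
  constructor
  · rintro ⟨B, f, g, h, w, hB, c1, c2⟩
    let Ψ : S ⟶ ShortComplex.mk f g w :=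
      { τ₁ := φ, τ₂ := h, τ₃ := π, comm₁₂ := c1.symm, comm₂₃ := c2 }
    have nat := ShortComplex.ShortExact.extClass_naturality hS hB Ψ
    have nat' : hS.extClass.comp (Ext.mk₀ φ) (add_zero 1) =
        (Ext.mk₀ π).comp hB.extClass (zero_add 1) := nat
    rw [nat', Ext.mk₀_comp_mk₀_assoc, kernel.condition, Ext.mk₀_zero, Ext.zero_comp]
  · intro hz
    have hS' := S'_shortExact hS π
    obtain ⟨ψ, hψ⟩ := S'_class_zero hS φ π hS' hz
    refine ⟨B π ψ, f π ψ, g π ψ, h π ψ, f_g π ψ, B_shortExact hS π ψ, ?_, h_g π ψ⟩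
    rw [← a_k π, Category.assoc, k_h, ← Category.assoc, hψ]

end Groth.Agent.Lib.helper10.ExtUnder
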