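import Mathlib

open CategoryTheory Opposite Limits

universe u

noncomputable section

namespace Groth.Agent.Lib.helper10.ExtZ

variable {C : Type u} [SmallCategory C] {X : C} {R : Cᵒᵖ ⥤ RingCat.{u}}

abbrev RX (X : C) (R : Cᵒᵖ ⥤ RingCat.{u}) : (Over X)ᵒᵖ ⥤ RingCat.{u} := (Over.forget X).op ⋙ R

variable (G : PresheafOfModules.{u} (RX X R))

/-- fibre over `φ` -/
def Fib (V : C) (φ : V ⟶ X) : Type u := G.obj (op (Over.mk φ))

instance (V : C) (φ : V ⟶ X) : AddCommGroup (Fib G V φ) :=
  inferInstanceAs (AddCommGroup (G.obj (op (Over.mk φ))))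

instance (V : C) (φ : V ⟶ X) : Module (R.obj (op V)) (Fib G V φ) :=
  (G.obj (op (Over.mk φ))).isModule

open Classical in
/-- sections of the extension by zero over `V` -/
abbrev Sec (V : C) : Type u := DirectSum (V ⟶ X) (fun φ => Fib G V φ)

/-- restriction on fibres -/
def res {V W : C} (g : W ⟶ V) (φ : V ⟶ X) : Fib G V φ →+ Fib G W (g ≫ φ) :=
  AddMonoidHomClass.toAddMonoidHom (G.map (Over.homMk g rfl : Over.mk (g ≫ φ) ⟶ Over.mk φ).op).hom

lemma res_smul {V W : C} (g : W ⟶ V) (φ : V ⟶ X) (r : R.obj (op V)) (m : Fib G V φ) :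
    res G g φ (r • m) = (R.map g.op r) • res G g φ m :=
  G.map_smul (Over.homMk g rfl : Over.mk (g ≫ φ) ⟶ Over.mk φ).op r m

open Classical in
/-- the inclusion of a fibre -/
def inc {V : C} (φ : V ⟶ X) : Fib G V φ →+ Sec G V :=
  DirectSum.of (fun φ => Fib G V φ) φ

lemma inc_congr {V : C} {ψ ψ' : V ⟶ X} (h : ψ = ψ') {Z : Over X} (a : Over.mk ψ ⟶ Z)
    (a' : Over.mk ψ' ⟶ Z) (ha : a.left = a'.left) (m : G.obj (op Z)) :
    inc G ψ (G.map a.op m : G.obj (op (Over.mk ψ))) =
      inc G ψ' (G.map a'.op m : G.obj (op (Over.mk ψ'))) := by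
  subst h
  have : a = a' := Over.OverMorphism.ext ha
  rw [this]

open Classical in
/-- restriction of sections -/
def secMap {V W : C} (g : W ⟶ V) : Sec G V →+ Sec G W :=
  DirectSum.toAddMonoid (fun φ => (inc G (g ≫ φ)).comp (res G g φ))

open Classical in
@[simp] lemma secMap_inc {V W : C} (g : W ⟶ V) (φ : V ⟶ X) (m : Fib G V φ) :
    secMap G g (inc G φ m) = inc G (g ≫ φ) (res G g φ m) := by
  simp [secMap, inc]

open Classical in
lemma sec_ext {V : C} {A : Type*} [AddCommMonoid A] (f f' : Sec G V →+ A)
    (h : ∀ (φ : V ⟶ X) (m : Fib G V φ), f (inc G φ m) = f' (inc G φ m)) : f = f' :=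
  DirectSum.addHom_ext h

lemma secMap_id (V : C) : secMap G (𝟙 V) = AddMonoidHom.id _ := by
  apply sec_ext
  intro φ m
  rw [secMap_inc]
  have := inc_congr G (Category.id_comp φ) (Over.homMk (𝟙 V) rfl : Over.mk (𝟙 V ≫ φ) ⟶ Over.mk φ)
    (𝟙 _) rfl m
  refine this.trans ?_
  simp
  rfl

lemma secMap_comp {V W W' : C} (g : W ⟶ V) (g' : W' ⟶ W) :
    secMap G (g' ≫ g) = (secMap G g').comp (secMap G g) := by
  apply sec_ext
  intro φ m
  rw [secMap_inc, AddMonoidHom.comp_apply, secMap_inc, secMap_inc]
  have := inc_congr G (Category.assoc g' g φ)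
    (Over.homMk (g' ≫ g) rfl : Over.mk ((g' ≫ g) ≫ φ) ⟶ Over.mk φ)
    ((Over.homMk g' rfl : Over.mk (g' ≫ g ≫ φ) ⟶ Over.mk (g ≫ φ)) ≫
      (Over.homMk g rfl : Over.mk (g ≫ φ) ⟶ Over.mk φ)) rfl m
  refine this.trans ?_
  exact congrArg (inc G (g' ≫ g ≫ φ))
    (G.map_comp_apply (Over.homMk g rfl : Over.mk (g ≫ φ) ⟶ Over.mk φ).op
      (Over.homMk g' rfl : Over.mk (g' ≫ g ≫ φ) ⟶ Over.mk (g ≫ φ)).op m)


/-- the underlying presheaf of abelian groups of the extension by zero -/
def MM : Cᵒᵖ ⥤ Ab.{u} where
  obj V := AddCommGrpCat.of (Sec G V.unop)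
  map g := AddCommGrpCat.ofHom (secMap G g.unop)
  map_id V := by
    ext1
    exact secMap_id G V.unop
  map_comp f g := by
    ext1
    exact secMap_comp G f.unop g.unop

instance (V : Cᵒᵖ) : Module (R.obj V) ((MM G).obj V) :=
  inferInstanceAs (Module (R.obj (op V.unop)) (Sec G V.unop))

open Classical in
lemma inc_smul {V : C} (φ : V ⟶ X) (r : R.obj (op V)) (m : Fib G V φ) :
    inc G φ (r • m) = r • inc G φ m :=
  (DirectSum.lof (R.obj (op V)) (V ⟶ X) (fun φ => Fib G V φ) φ).map_smul r m

open Classical in
lemma secMap_smul {V W : C} (g : W ⟶ V) (r : R.obj (op V)) (x : Sec G V) :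
    secMap G g (r • x) = (R.map g.op r) • secMap G g x := by
  induction x using DirectSum.induction_on with
  | zero => simp
  | of φ m =>
    change secMap G g (r • inc G φ m) = _ • secMap G g (inc G φ m)
    rw [← inc_smul, secMap_inc, secMap_inc, res_smul, inc_smul]
  | add x y hx hy => rw [smul_add, map_add, hx, hy, map_add, smul_add]

/-- extension by zero of a presheaf of modules (object part) -/
def epObj : PresheafOfModules.{u} R :=
  PresheafOfModules.ofPresheaf (MM G) (fun _ _ g r x => secMap_smul G g.unop r x)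


variable {G} {G' G'' : PresheafOfModules.{u} (RX X R)}

/-- map on fibres -/
def fibMap (α : G ⟶ G') {V : C} (φ : V ⟶ X) : Fib G V φ →+ Fib G' V φ :=
  AddMonoidHomClass.toAddMonoidHom (α.app (op (Over.mk φ))).hom

lemma fibMap_smul (α : G ⟶ G') {V : C} (φ : V ⟶ X) (r : R.obj (op V)) (m : Fib G V φ) :
    fibMap α φ (r • m) = r • fibMap α φ m :=
  (α.app (op (Over.mk φ))).hom.map_smul r m

lemma fibMap_res (α : G ⟶ G') {V W : C} (g : W ⟶ V) (φ : V ⟶ X) (m : Fib G V φ) :
    fibMap α (g ≫ φ) (res G g φ m) = res G' g φ (fibMap α φ m) :=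
  PresheafOfModules.naturality_apply α
    (Over.homMk g rfl : Over.mk (g ≫ φ) ⟶ Over.mk φ).op m

open Classical in
/-- map on sections -/
def secHom (α : G ⟶ G') (V : C) : Sec G V →+ Sec G' V :=
  DirectSum.map (fun φ => fibMap α φ)

open Classical in
@[simp] lemma secHom_inc (α : G ⟶ G') {V : C} (φ : V ⟶ X) (m : Fib G V φ) :
    secHom α V (inc G φ m) = inc G' φ (fibMap α φ m) :=
  DirectSum.map_of _ _ _

open Classical in
lemma secHom_smul (α : G ⟶ G') {V : C} (r : R.obj (op V)) (x : Sec G V) :
    secHom α V (r • x) = r • secHom α V x := by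
  induction x using DirectSum.induction_on with
  | zero => simp
  | of φ m =>
    change secHom α V (r • inc G φ m) = r • secHom α V (inc G φ m)
    rw [← inc_smul, secHom_inc, secHom_inc, fibMap_smul, inc_smul]
  | add x y hx hy => rw [smul_add, map_add, hx, hy, map_add, smul_add]

lemma secHom_secMap (α : G ⟶ G') {V W : C} (g : W ⟶ V) :
    (secHom α W).comp (secMap G g) = (secMap G' g).comp (secHom α V) := by
  apply sec_ext
  intro φ m
  simp only [AddMonoidHom.comp_apply, secMap_inc, secHom_inc, fibMap_res]

/-- extension by zero of a presheaf of modules (map part) -/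
def epMap (α : G ⟶ G') : epObj G ⟶ epObj G' :=
  PresheafOfModules.homMk
    { app := fun V => AddCommGrpCat.ofHom (secHom α V.unop)
      naturality := fun V W g => by
        ext1
        exact secHom_secMap α g.unop }
    (fun V r x => secHom_smul α r x)

lemma epMap_app_inc (α : G ⟶ G') {V : C} (φ : V ⟶ X) (m : Fib G V φ) :
    (epMap α).app (op V) (inc G φ m) = inc G' φ (fibMap α φ m) :=
  secHom_inc α φ m

variable (X R) in
/-- extension by zero of presheaves of modules -/
def ep : PresheafOfModules.{u} (RX X R) ⥤ PresheafOfModules.{u} R where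
  obj G := epObj G
  map α := epMap α
  map_id G := by
    ext V : 2
    apply LinearMap.toAddMonoidHom_injective
    apply sec_ext
    intro φ m
    exact epMap_app_inc (𝟙 G) φ m
  map_comp α β := by
    ext V : 2
    apply LinearMap.toAddMonoidHom_injective
    apply sec_ext
    intro φ m
    exact (epMap_app_inc (α ≫ β) φ m).trans
      ((congrArg _ (epMap_app_inc α φ m)).trans (epMap_app_inc β φ _)).symm


variable (X R) in
/-- restriction of presheaves of modules to `Over X` -/
abbrev p₀ : PresheafOfModules.{u} R ⥤ PresheafOfModules.{u} (RX X R) :=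
  PresheafOfModules.pushforward₀ (Over.forget X) R

variable (G) in
/-- inclusion of the fibre at an object of `Over X` -/
def incO (Y : Over X) : G.obj (op Y) →+ Sec G Y.left := inc G Y.hom

lemma incO_smul (Y : Over X) (r : (RX X R).obj (op Y)) (m : G.obj (op Y)) :
    incO G Y (r • m) = (show R.obj (op Y.left) from r) • incO G Y m := inc_smul G Y.hom r m

lemma incO_map {Y Y' : Over X} (a : Y' ⟶ Y) (m : G.obj (op Y)) :
    incO G Y' (G.map a.op m) = secMap G a.left (incO G Y m) := by
  refine Eq.trans ?_ (secMap_inc G a.left Y.hom m).symm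
  exact inc_congr G (Over.w a).symm (Z := Y) a (Over.homMk a.left rfl) rfl m

variable (G) in
/-- unit of the adjunction -/
def unitApp : G ⟶ (p₀ X R).obj (epObj G) :=
  PresheafOfModules.homMk
    { app := fun Y => AddCommGrpCat.ofHom (incO G Y.unop)
      naturality := fun Y Y' a => by
        ext1
        apply AddMonoidHom.ext
        intro m
        exact incO_map a.unop m }
    (fun Y r m => incO_smul Y.unop r m)

lemma unitApp_app (Y : Over X) (m : G.obj (op Y)) :
    (unitApp G).app (op Y) m = incO G Y m := rfl


variable (F : PresheafOfModules.{u} R)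

/-- the identification of a fibre of the restriction -/
def fibId {V : C} (φ : V ⟶ X) : Fib ((p₀ X R).obj F) V φ →+ F.obj (op V) :=
  AddMonoidHom.id (F.obj (op V))

lemma fibId_smul {V : C} (φ : V ⟶ X) (r : R.obj (op V)) (m : Fib ((p₀ X R).obj F) V φ) :
    fibId F φ (r • m) = r • fibId F φ m := rfl

lemma fibId_res {V W : C} (g : W ⟶ V) (φ : V ⟶ X) (m : Fib ((p₀ X R).obj F) V φ) :
    fibId F (g ≫ φ) (res _ g φ m) = F.map g.op (fibId F φ m) := rfl

open Classical in
/-- the sum map -/
def sumMap (V : C) : Sec ((p₀ X R).obj F) V →+ F.obj (op V) :=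
  DirectSum.toAddMonoid (fun φ => fibId F φ)

open Classical in
lemma sumMap_inc {V : C} (φ : V ⟶ X) (m : Fib ((p₀ X R).obj F) V φ) :
    sumMap F V (inc _ φ m) = fibId F φ m :=
  DirectSum.toAddMonoid_of _ φ m

open Classical in
lemma sumMap_smul {V : C} (r : R.obj (op V)) (x : Sec ((p₀ X R).obj F) V) :
    sumMap F V (r • x) = r • sumMap F V x := by
  induction x using DirectSum.induction_on with
  | zero => simp
  | of φ m =>
    have h1 : sumMap F V (r • inc _ φ m) = r • sumMap F V (inc _ φ m) := by
      rw [← inc_smul, sumMap_inc, sumMap_inc, fibId_smul]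
    exact h1
  | add x y hx hy => rw [smul_add, map_add, hx, hy, map_add, smul_add]

lemma sumMap_secMap {V W : C} (g : W ⟶ V) :
    (sumMap F W).comp (secMap _ g) =
      (AddMonoidHomClass.toAddMonoidHom (F.map g.op).hom).comp (sumMap (X := X) F V) := by
  apply sec_ext
  intro φ m
  have h1 : sumMap F W (secMap _ g (inc _ φ m)) = F.map g.op (sumMap F V (inc _ φ m)) := by
    rw [secMap_inc, sumMap_inc, sumMap_inc, fibId_res]
  exact h1

/-- counit of the adjunction -/
def counitApp : epObj ((p₀ X R).obj F) ⟶ F :=
  PresheafOfModules.homMk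
    { app := fun V => AddCommGrpCat.ofHom (sumMap F V.unop)
      naturality := fun V W g => by
        ext1
        exact sumMap_secMap F g.unop }
    (fun V r x => sumMap_smul F r x)

lemma counitApp_app_inc {V : C} (φ : V ⟶ X) (m : Fib ((p₀ X R).obj F) V φ) :
    (counitApp (X := X) F).app (op V) (inc _ φ m) = fibId F φ m :=
  sumMap_inc F φ m


lemma hom_ext_ep {G : PresheafOfModules.{u} (RX X R)} {F : PresheafOfModules.{u} R}
    (a b : epObj G ⟶ F)
    (h : ∀ (V : C) (φ : V ⟶ X) (m : Fib G V φ), a.app (op V) (inc G φ m) = b.app (op V) (inc G φ m)) :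
    a = b := by
  ext V : 2
  apply LinearMap.toAddMonoidHom_injective
  apply sec_ext
  intro φ m
  exact h V.unop φ m

variable (X R) in
/-- the adjunction between extension by zero and restriction, on presheaves of modules -/
def epAdj : ep X R ⊣ p₀ X R :=
  Adjunction.mkOfUnitCounit
    { unit :=
        { app := fun G => unitApp G
          naturality := fun G G' α => by
            ext Y : 2
            apply LinearMap.ext
            intro m
            exact (secHom_inc α Y.unop.hom m).symm }
      counit :=
        { app := fun F => counitApp F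
          naturality := fun F F' β => by
            apply hom_ext_ep
            intro V φ m
            have h1 : (counitApp (X := X) F').app (op V) ((epMap ((p₀ X R).map β)).app (op V) (inc _ φ m)) =
                β.app (op V) ((counitApp (X := X) F).app (op V) (inc _ φ m)) := by
              rw [epMap_app_inc, counitApp_app_inc, counitApp_app_inc]
              rfl
            exact h1 }
      left_triangle := by
        ext G : 2
        apply hom_ext_ep
        intro V φ m
        have h1 : (counitApp (X := X) (epObj G)).app (op V)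
            ((epMap (unitApp G)).app (op V) (inc _ φ m)) = inc G φ m := by
          rw [epMap_app_inc, counitApp_app_inc]
          rfl
        exact h1
      right_triangle := by
        ext F Y : 4
        apply LinearMap.ext
        intro m
        have h1 : (counitApp (X := X) F).app (op Y.unop.left) (incO _ Y.unop m) = m :=
          counitApp_app_inc F Y.unop.hom m
        exact h1 }


section sheaf

variable {J : GrothendieckTopology C} (A : Sheaf J RingCat.{u}) (X : C)

/-- the explicit extension by zero -/
def Lp : SheafOfModules.{u} (A.over X) ⥤ SheafOfModules.{u} A :=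
  SheafOfModules.forget (A.over X) ⋙ ep X A.obj ⋙ PresheafOfModules.sheafification (𝟙 A.obj)

/-- the big right adjoint -/
def Rbig : SheafOfModules.{u} A ⥤ PresheafOfModules.{u} (RX X A.obj) :=
  (SheafOfModules.forget A ⋙ PresheafOfModules.restrictScalars (𝟙 A.obj)) ⋙ p₀ X A.obj

/-- the big adjunction -/
def adjBig : ep X A.obj ⋙ PresheafOfModules.sheafification (𝟙 A.obj) ⊣ Rbig A X :=
  (epAdj X A.obj).comp (PresheafOfModules.sheafificationAdjunction (𝟙 A.obj))

/-- comparison of right adjoints -/
def comm2 : 𝟭 _ ⋙ Rbig A X ≅ SheafOfModules.overFunctor A X ⋙ SheafOfModules.forget (A.over X) :=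
  NatIso.ofComponents (fun F => PresheafOfModules.isoMk (fun Y => Iso.refl _)
    (fun Y Y' a => by rfl)) (fun {F F'} f => by rfl)

/-- the adjunction between explicit extension by zero and restriction -/
def adjLp : Lp A X ⊣ SheafOfModules.overFunctor A X :=
  (adjBig A X).restrictFullyFaithful (iC := SheafOfModules.forget (A.over X))
    (iD := 𝟭 (SheafOfModules.{u} A))
    (SheafOfModules.fullyFaithfulForget _) (Functor.FullyFaithful.id _)
    (Iso.refl _) (comm2 A X)

lemma unit_val (G : SheafOfModules.{u} (A.over X)) :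
    ((adjLp A X).unit.app G).val =
      unitApp G.val ≫ (p₀ X A.obj).map
        ((PresheafOfModules.sheafificationAdjunction (𝟙 A.obj)).unit.app (epObj G.val)) ≫
        (comm2 A X).hom.app ((Lp A X).obj G) := by
  have := Adjunction.map_restrictFullyFaithful_unit_app (adjBig A X)
    (iC := SheafOfModules.forget (A.over X))
    (iD := 𝟭 (SheafOfModules.{u} A)) (L := Lp A X) (R := SheafOfModules.overFunctor A X)
    (SheafOfModules.fullyFaithfulForget _) (Functor.FullyFaithful.id _)
    (Iso.refl _) (comm2 A X) G
  refine this.trans ?_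
  simp [adjBig]
  rfl

lemma mono_of_injective_app {R' : Cᵒᵖ ⥤ RingCat.{u}} {M N : PresheafOfModules.{u} R'} (f : M ⟶ N)
    (h : ∀ V, Function.Injective (f.app V)) : Mono f := by
  constructor
  intro Z a b hab
  ext V z
  apply h V
  have := congrArg (fun t => PresheafOfModules.Hom.app t V z) hab
  exact this

lemma injective_app_of_mono {R' : Cᵒᵖ ⥤ RingCat.{u}} {M N : PresheafOfModules.{u} R'} (f : M ⟶ N)
    [Mono f] (V : Cᵒᵖ) : Function.Injective (f.app V) := by
  have : Mono ((PresheafOfModules.evaluation R' V).map f) := inferInstance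
  exact (ModuleCat.mono_iff_injective _).1 this

open Classical in
lemma incO_injective (G : PresheafOfModules.{u} (RX X R)) (Y : Over X) :
    Function.Injective (incO G Y) :=
  DirectSum.of_injective (β := fun φ => Fib G Y.left φ) Y.hom

lemma unit_injective (G : SheafOfModules.{u} (A.over X)) (Y : (Over X)ᵒᵖ) :
    Function.Injective (((adjLp A X).unit.app G).val.app Y) := by
  rw [injective_iff_map_eq_zero]
  intro m h
  rw [unit_val] at h
  let u := (PresheafOfModules.sheafificationAdjunction (𝟙 A.obj)).unit.app (epObj G.val)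
  have h' : u.app (op Y.unop.left) (incO G.val Y.unop m) = 0 := h
  have hli : Presheaf.IsLocallyInjective J ((PresheafOfModules.toPresheaf _).map u) :=
    inferInstanceAs (Presheaf.IsLocallyInjective J (toSheafify J (epObj G.val).presheaf))
  have hS := Presheaf.equalizerSieve_mem J ((PresheafOfModules.toPresheaf _).map u)
    (X := op Y.unop.left) (incO G.val Y.unop m) 0 (by
      refine Eq.trans h' ?_
      exact (map_zero (u.app (op Y.unop.left)).hom).symm)
  have hS' := GrothendieckTopology.overEquiv_symm_mem_over J Y.unop _ hS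
  have hsep := Presheaf.IsSheaf.isSeparated G.isSheaf
  refine hsep Y.unop _ hS' m 0 (fun Y' a ha => ?_)
  let Gv : PresheafOfModules.{u} (RX X A.obj) := G.val
  have ha' : secMap Gv a.left (incO Gv Y.unop m) = secMap Gv a.left 0 := ha
  have ha'' : incO Gv Y' (Gv.map a.op m) = 0 :=
    (incO_map (G := Gv) a m).trans (ha'.trans (map_zero _))
  have h0 : Gv.map a.op m = 0 := incO_injective _ Gv Y' (ha''.trans (map_zero _).symm)
  refine Eq.trans h0 ?_
  exact (map_zero (G.val.map a.op).hom).symm

lemma preservesFiniteLimits_of_mono' {A B : Type*} [Category A] [Category B] [Abelian A] [Abelian B]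
    (F : A ⥤ B) [F.Additive] [PreservesFiniteColimits F]
    (h : ∀ {X Y : A} (f : X ⟶ Y), Mono f → Mono (F.map f)) : PreservesFiniteLimits F := by
  apply ((Functor.preservesFiniteLimits_tfae F).out 0 3).1
  intro S hS
  have := hS.mono_f
  have h1 : PreservesFiniteColimits F := inferInstance
  have h2 := (Functor.preservesFiniteColimits_iff_forall_exact_map_and_epi F).1 h1
  exact ⟨(h2 S hS).1, h S.f inferInstance⟩

lemma additive_of_preservesFiniteColimits {A B : Type*} [Category A] [Category B] [Abelian A]
    [Abelian B] (F : A ⥤ B) [PreservesFiniteColimits F] : F.Additive := by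
  have : F.PreservesZeroMorphisms := Functor.preservesZeroMorphisms_of_preserves_initial_object
  have := preservesBinaryBiproducts_of_preservesBinaryCoproducts F
  exact Functor.additive_of_preservesBinaryBiproducts _

open Classical in
lemma ep_map_mono {G G' : PresheafOfModules.{u} (RX X R)} (α : G ⟶ G') (hα : Mono α) :
    Mono ((ep X R).map α) := by
  apply mono_of_injective_app
  intro V
  have h1 : Function.Injective (secHom α V.unop) := by
    apply (DirectSum.map_injective _).2
    intro φ
    exact injective_app_of_mono α (op (Over.mk φ))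
  exact h1

lemma Lp_map_mono {G G' : SheafOfModules.{u} (A.over X)} (f : G ⟶ G') [Mono f] :
    Mono ((Lp A X).map f) := by
  have h0 : (SheafOfModules.forget.{u} (A.over X)).PreservesMonomorphisms := inferInstance
  have h1 : Mono ((SheafOfModules.forget (A.over X)).map f) := h0.preserves f
  have h2 : Mono ((ep X A.obj).map ((SheafOfModules.forget (A.over X)).map f)) :=
    ep_map_mono _ _ h1
  exact inferInstanceAs (Mono ((PresheafOfModules.sheafification (𝟙 A.obj)).map
    ((ep X A.obj).map ((SheafOfModules.forget (A.over X)).map f))))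

theorem main (L : SheafOfModules.{u} (A.over X) ⥤ SheafOfModules.{u} A)
    (adj : L ⊣ SheafOfModules.overFunctor.{u} A X) :
    PreservesFiniteLimits L ∧ PreservesFiniteColimits L ∧ L.Faithful := by
  have hc : PreservesFiniteColimits L :=
    (adj.leftAdjoint_preservesColimits : PreservesColimitsOfSize.{u, u} L).preservesFiniteColimits
  have hcp : PreservesFiniteColimits (Lp A X) :=
    ((adjLp A X).leftAdjoint_preservesColimits :
      PreservesColimitsOfSize.{u, u} (Lp A X)).preservesFiniteColimits
  have hadd : (Lp A X).Additive := additive_of_preservesFiniteColimits _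
  have hlp : PreservesFiniteLimits (Lp A X) :=
    preservesFiniteLimits_of_mono' _ (fun f hf => Lp_map_mono A X f)
  have e : L ≅ Lp A X := adj.leftAdjointUniq (adjLp A X)
  have hm : ∀ G, Mono ((adjLp A X).unit.app G) := by
    intro G
    have : Mono ((SheafOfModules.forget (A.over X)).map ((adjLp A X).unit.app G)) :=
      mono_of_injective_app _ (fun Y => unit_injective A X G Y)
    exact Functor.mono_of_mono_map (SheafOfModules.forget (A.over X)) this
  have hf : (Lp A X).Faithful := (adjLp A X).faithful_L_of_mono_unit_app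
  exact ⟨preservesFiniteLimits_of_natIso e.symm, hc, Functor.Faithful.of_iso e.symm⟩

end sheaf

end Groth.Agent.Lib.helper10.ExtZ
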