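import Mathlib

namespace Groth.Agent.Lib.helper10.ExtZero
open CategoryTheory Limits TopologicalSpace Opposite Topology

universe u

/-- `colim` over an empty index category preserves all limits (values in abelian groups). -/
lemma isZero_colimit_of_isEmpty {K : Type u} [SmallCategory K] [IsEmpty K]
    (F : K ⥤ AddCommGrpCat.{u}) : IsZero (colimit F) := by
  rw [IsZero.iff_id_eq_zero]
  apply colimit.hom_ext
  intro j
  exact isEmptyElim j

lemma preservesLimitsOfShape_colim_of_isEmpty (K : Type u) [SmallCategory K] [IsEmpty K]
    (J : Type u) [SmallCategory J] :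
    PreservesLimitsOfShape J (colim : (K ⥤ AddCommGrpCat.{u}) ⥤ AddCommGrpCat.{u}) := by
  refine ⟨fun {D} => ⟨fun {c} _ => ⟨?_⟩⟩⟩
  have hz : ∀ F : K ⥤ AddCommGrpCat.{u}, IsZero (colim.obj F) := fun F =>
    isZero_colimit_of_isEmpty F
  exact
    { lift := fun s => 0
      fac := fun s j => (hz _).eq_of_tgt _ _
      uniq := fun s m _ => (hz _).eq_of_tgt _ _ }

variable {X Y : TopCat.{u}} {f : X ⟶ Y} (h : IsOpenEmbedding f)

lemma structuredArrow_cofiltered_or_empty (V : Opens Y) :
    IsCofiltered (StructuredArrow V h.isOpenMap.functor) ∨
      IsEmpty (StructuredArrow V h.isOpenMap.functor) := by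
  by_cases hV : V ≤ h.isOpenMap.functor.obj ⊤
  · left
    refine @IsCofiltered.mk _ _ ?_ ?_
    · constructor
      · intro A B
        have hle : V ≤ h.isOpenMap.functor.obj (A.right ⊓ B.right) := by
          intro y hy
          obtain ⟨a, ha, rfl⟩ := A.hom.le hy
          obtain ⟨b, hb, hab⟩ := B.hom.le hy
          have : b = a := h.injective hab
          subst this
          exact ⟨b, ⟨ha, hb⟩, rfl⟩
        exact ⟨⟨⟨PUnit.unit⟩, A.right ⊓ B.right, homOfLE hle⟩,
          StructuredArrow.homMk (homOfLE inf_le_left),
          StructuredArrow.homMk (homOfLE inf_le_right), trivial⟩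
      · exact fun _ _ _ _ ↦ ⟨_, 𝟙 _, by simp [eq_iff_true_of_subsingleton]⟩
    · exact ⟨StructuredArrow.mk (homOfLE hV)⟩
  · right
    constructor
    intro A
    apply hV
    exact A.hom.le.trans (h.isOpenMap.functor.map (homOfLE le_top)).le


lemma lan_preservesFiniteLimits :
    PreservesFiniteLimits (h.isOpenMap.functor.op.lan :
      ((Opens X)ᵒᵖ ⥤ AddCommGrpCat.{u}) ⥤ ((Opens Y)ᵒᵖ ⥤ AddCommGrpCat.{u})) := by
  apply preservesFiniteLimits_of_preservesFiniteLimitsOfSize.{u}
  intro J _ _
  apply preservesLimitsOfShape_of_evaluation _ J
  intro K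
  rcases structuredArrow_cofiltered_or_empty h (unop K) with hc | he
  · have : IsFiltered (CostructuredArrow h.isOpenMap.functor.op K) :=
      IsFiltered.of_equivalence (structuredArrowOpEquivalence _ (unop K))
    exact preservesLimitsOfShape_of_natIso (lanEvaluationIsoColim _ _ _).symm
  · have : IsEmpty (CostructuredArrow h.isOpenMap.functor.op K) := by
      constructor
      intro A
      exact he.false ((structuredArrowOpEquivalence h.isOpenMap.functor (unop K)).inverse.obj A).unop
    have := preservesLimitsOfShape_colim_of_isEmpty
      (CostructuredArrow h.isOpenMap.functor.op K) J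
    exact preservesLimitsOfShape_of_natIso (lanEvaluationIsoColim _ _ _).symm


/-- extension by zero `j_!` for an open embedding, as Mathlib's constructed sheaf pullback. -/
noncomputable def extZero :
    Sheaf (Opens.grothendieckTopology X) AddCommGrpCat.{u} ⥤
      Sheaf (Opens.grothendieckTopology Y) AddCommGrpCat.{u} :=
  Functor.sheafPullbackConstruction.sheafPullback h.isOpenMap.functor AddCommGrpCat.{u}
    (Opens.grothendieckTopology X) (Opens.grothendieckTopology Y)

noncomputable def extZeroAdj :
    haveI := h.functor_isContinuous
    extZero h ⊣ h.isOpenMap.functor.sheafPushforwardContinuous AddCommGrpCat.{u}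
      (Opens.grothendieckTopology X) (Opens.grothendieckTopology Y) :=
  haveI := h.functor_isContinuous
  Functor.sheafPullbackConstruction.sheafAdjunctionContinuous h.isOpenMap.functor AddCommGrpCat.{u}
    (Opens.grothendieckTopology X) (Opens.grothendieckTopology Y)

instance extZero_preservesFiniteLimits : PreservesFiniteLimits (extZero h) := by
  have := lan_preservesFiniteLimits h
  have : PreservesFiniteLimits (h.isOpenMap.functor.op.lan ⋙
      presheafToSheaf (Opens.grothendieckTopology Y) AddCommGrpCat.{u}) :=
    comp_preservesFiniteLimits _ _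
  unfold extZero Functor.sheafPullbackConstruction.sheafPullback
  apply comp_preservesFiniteLimits

instance extZero_preservesFiniteColimits : PreservesFiniteColimits (extZero h) := by
  have := (extZeroAdj h).leftAdjoint_preservesColimits
  infer_instance

instance extZero_additive : (extZero h).Additive :=
  Functor.additive_of_preserves_binary_products _

end Groth.Agent.Lib.helper10.ExtZero
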