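import Mathlib.Tactic
import Groth.Agent.Lib.helper10.EquivOver

/-!
# Lifting a functor over `C` through a fully faithful functor over `C` (helper10, general universes)

If `F : 𝒳 ⟶ 𝒴` is fully faithful and every `L a` is isomorphic over an identity to an object in the
image of `F`, then `L : 𝒜 ⟶ 𝒴` factors through `F` up to an isomorphism of functors over `C`.
-/

set_option autoImplicit false
universe v u v₂ u₂ v₃ u₃ v₄ u₄

open CategoryTheory CategoryTheory.Functor

namespace Groth.Agent.Lib.helper10.FFLift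

variable {C : Type u} [Category.{v} C] {𝒳 : BasedCategory.{v₂, u₂} C} {𝒴 : BasedCategory.{v₃, u₃} C}
  {𝒜 : BasedCategory.{v₄, u₄} C}

variable (F : 𝒳 ⥤ᵇ 𝒴) [F.toFunctor.Full] [F.toFunctor.Faithful] (L : 𝒜 ⥤ᵇ 𝒴)
  (hes : ∀ a : 𝒜.obj, ∃ (x : 𝒳.obj) (e : F.obj x ≅ L.obj a), 𝒴.p.IsHomLift (𝟙 (𝒜.p.obj a)) e.hom)

/-- chosen preimage object -/
noncomputable def liftObj (a : 𝒜.obj) : 𝒳.obj := (hes a).choose

/-- chosen isomorphism -/
noncomputable def liftIso (a : 𝒜.obj) : F.obj (liftObj F L hes a) ≅ L.obj a :=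
  (hes a).choose_spec.choose

instance liftIso_lift (a : 𝒜.obj) : 𝒴.p.IsHomLift (𝟙 (𝒜.p.obj a)) (liftIso F L hes a).hom :=
  (hes a).choose_spec.choose_spec

instance liftIso_lift_inv (a : 𝒜.obj) : 𝒴.p.IsHomLift (𝟙 (𝒜.p.obj a)) (liftIso F L hes a).inv :=
  IsHomLift.lift_id_inv 𝒴.p (𝒜.p.obj a) (liftIso F L hes a)

lemma liftObj_proj (a : 𝒜.obj) : 𝒳.p.obj (liftObj F L hes a) = 𝒜.p.obj a :=
  (F.w_obj _).symm.trans (IsHomLift.domain_eq 𝒴.p (𝟙 (𝒜.p.obj a)) (liftIso F L hes a).hom)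

/-- the morphism `F (K a) ⟶ F (K b)` induced by `f : a ⟶ b`. -/
noncomputable def liftMapAux {a b : 𝒜.obj} (f : a ⟶ b) :
    F.toFunctor.obj (liftObj F L hes a) ⟶ F.toFunctor.obj (liftObj F L hes b) :=
  (liftIso F L hes a).hom ≫ L.map f ≫ (liftIso F L hes b).inv

instance liftMapAux_lift {a b : 𝒜.obj} (f : a ⟶ b) :
    𝒴.p.IsHomLift (𝒜.p.map f) (liftMapAux F L hes f) := by
  unfold liftMapAux
  have h0 : 𝒴.p.IsHomLift (𝒜.p.map f) (L.map f) := inferInstance
  have h1 : 𝒴.p.IsHomLift (𝒜.p.map f) (L.map f ≫ (liftIso F L hes b).inv) :=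
    IsHomLift.comp_lift_id_right' 𝒴.p (𝒜.p.map f) (L.map f) (𝒜.p.obj b) (liftIso F L hes b).inv
  exact IsHomLift.comp_lift_id_left' 𝒴.p (𝒜.p.obj a) (liftIso F L hes a).hom (𝒜.p.map f) _

/-- The lifted functor over `C`. -/
noncomputable def lift : 𝒜 ⥤ᵇ 𝒳 where
  toFunctor :=
    { obj := fun a => liftObj F L hes a
      map := fun {a b} f => F.toFunctor.preimage (liftMapAux F L hes f)
      map_id := fun a => by
        apply F.toFunctor.map_injective
        simp [liftMapAux]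
      map_comp := fun {a b c} f g => by
        apply F.toFunctor.map_injective
        simp [liftMapAux] }
  w := by
    refine CategoryTheory.Functor.ext (fun a => liftObj_proj F L hes a) (fun a b f => ?_)
    have h : 𝒳.p.IsHomLift (𝒜.p.map f) (F.toFunctor.preimage (liftMapAux F L hes f)) := by
      rw [← BasedFunctor.isHomLift_iff F]
      rw [Functor.map_preimage]
      infer_instance
    exact IsHomLift.fac' 𝒳.p (𝒜.p.map f) (F.toFunctor.preimage (liftMapAux F L hes f))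

@[simp] lemma lift_obj (a : 𝒜.obj) : (lift F L hes).obj a = liftObj F L hes a := rfl

lemma map_lift_map {a b : 𝒜.obj} (f : a ⟶ b) :
    F.toFunctor.map ((lift F L hes).toFunctor.map f) = liftMapAux F L hes f :=
  Functor.map_preimage _ _

/-- `K ⋙ F ≅ L` -/
noncomputable def liftComp : BasedFunctor.comp (lift F L hes) F ≅ L :=
  BasedNatIso.mkNatIso
    (NatIso.ofComponents (fun a => liftIso F L hes a) (fun {a b} f => by
      change F.toFunctor.map ((lift F L hes).toFunctor.map f) ≫ (liftIso F L hes b).hom =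
        (liftIso F L hes a).hom ≫ L.map f
      rw [map_lift_map]
      simp [liftMapAux]))
    (fun a => by
      change 𝒴.p.IsHomLift (𝟙 (𝒜.p.obj a)) (liftIso F L hes a).hom
      infer_instance)

include hes in
theorem exists_lift : ∃ K : 𝒜 ⥤ᵇ 𝒳, Nonempty (BasedFunctor.comp K F ≅ L) :=
  ⟨lift F L hes, ⟨liftComp F L hes⟩⟩

end Groth.Agent.Lib.helper10.FFLift
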