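import Mathlib.Tactic
import Groth.Prelude.Def_FibCat2
import Groth.Agent.Lib.helper10.Yoneda2
import Groth.Agent.Lib.helper10.FiberFun

/-!
# A 1-morphism all of whose base changes to slices are fibred in setoids is faithful (helper10)
-/

set_option autoImplicit false
open CategoryTheory
universe v u
open FibCat

namespace Groth.Agent.Lib.helper10.FaithfulFp

open Groth.Agent.Lib.helper10.Yoneda2 Groth.Agent.Lib.helper10.FiberFun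

variable {C : Type u} [Category.{v} C] {𝒳 𝒴 : BasedCategory.{v, max u v} C}

lemma aux_w {A : Type*} [Category A] {X Y Z : A} (i : X ⟶ X) (hi : i = 𝟙 X) (t : X ⟶ Y)
    (g g' : Y ⟶ Z) (h : g = g') : i ≫ (t ≫ g) = t ≫ g' := by
  subst hi h
  simp

theorem fiber_faithful (h𝒴 : FibCat.IsFibGrpd 𝒴.p) (F : 𝒳 ⥤ᵇ 𝒴)
    (hF : ∀ (U : C) (y : FibCat.overCat U ⥤ᵇ 𝒴) (V : C), Quiver.IsThin ((FibCat.fp y F).p.Fiber V))
    (U : C) : (FibCat.fiberFunctor F U).Faithful := by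
  have hfib : 𝒴.p.IsFibered := isFibered_of_isFibGrpd h𝒴
  refine ⟨fun {a b} α β hαβ => ?_⟩
  have hG : F.map α.1 = F.map β.1 := congrArg (fun m => Functor.Fiber.fiberInclusion.map m) hαβ
  let ya : 𝒴.p.Fiber U := ⟨F.obj a.1, (F.w_obj a.1).trans a.2⟩
  let y : FibCat.overCat U ⥤ᵇ 𝒴 := yo U ya
  let o : Over U := Over.mk (𝟙 U)
  obtain ⟨τ, hτ⟩ : ∃ τ : pbObj U ya o ⟶ F.obj a.1, τ = pbMap U ya o := ⟨_, rfl⟩
  have hτsc : 𝒴.p.IsStronglyCartesian (𝟙 U) τ := by rw [hτ]; exact pbMap_sc U ya o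
  have hτl : 𝒴.p.IsHomLift (𝟙 U) τ := hτsc.toIsHomLift
  have hτiso : IsIso τ := Functor.IsStronglyCartesian.isIso_of_base_isIso 𝒴.p (𝟙 U) τ
  have hαl : 𝒳.p.IsHomLift (𝟙 U) α.1 := α.2
  have hβl : 𝒳.p.IsHomLift (𝟙 U) β.1 := β.2
  have hFαl : 𝒴.p.IsHomLift (𝟙 U) (F.map α.1) := inferInstance
  have hFαsc : 𝒴.p.IsStronglyCartesian (𝟙 U) (F.map α.1) := sc_of_isFibGrpd h𝒴 _ _
  have hFαiso : IsIso (F.map α.1) :=
    Functor.IsStronglyCartesian.isIso_of_base_isIso 𝒴.p (𝟙 U) (F.map α.1)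
  have hp1 : 𝒴.p.IsHomLift (𝟙 ((FibCat.overCat U).p.obj o)) τ := hτl
  have hp2 : 𝒴.p.IsHomLift (𝟙 ((FibCat.overCat U).p.obj o)) (τ ≫ F.map α.1) :=
    IsHomLift.comp_lift_id_left' 𝒴.p U τ (𝟙 U) (F.map α.1)
  have hcomp : IsIso (τ ≫ F.map α.1) := @IsIso.comp_isIso _ _ _ _ _ τ (F.map α.1) hτiso hFαiso
  let za : (FibCat.fp y F).obj := ⟨⟨o, a.1, @asIso _ _ _ _ τ hτiso⟩, hp1⟩
  let zb : (FibCat.fp y F).obj := ⟨⟨o, b.1, @asIso _ _ _ _ (τ ≫ F.map α.1) hcomp⟩, hp2⟩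
  have hyid : y.map (𝟙 o) = 𝟙 _ := y.toFunctor.map_id o
  let Ψα : za ⟶ zb := ObjectProperty.homMk
    ({ fst := 𝟙 o, snd := α.1, w := aux_w _ hyid τ _ _ rfl } :
      Limits.CategoricalPullback.Hom (F := y.toFunctor) (G := F.toFunctor) za.obj zb.obj)
  let Ψβ : za ⟶ zb := ObjectProperty.homMk
    ({ fst := 𝟙 o, snd := β.1, w := aux_w _ hyid τ _ _ hG } :
      Limits.CategoricalPullback.Hom (F := y.toFunctor) (G := F.toFunctor) za.obj zb.obj)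
  have hlα : (FibCat.fp y F).p.IsHomLift (𝟙 U) Ψα := by
    have : (FibCat.fp y F).p.map Ψα = 𝟙 U := rfl
    rw [← this]
    exact IsHomLift.map _ _
  have hlβ : (FibCat.fp y F).p.IsHomLift (𝟙 U) Ψβ := by
    have : (FibCat.fp y F).p.map Ψβ = 𝟙 U := rfl
    rw [← this]
    exact IsHomLift.map _ _
  let za' : (FibCat.fp y F).p.Fiber U := ⟨za, rfl⟩
  let zb' : (FibCat.fp y F).p.Fiber U := ⟨zb, rfl⟩
  let Ψα' : za' ⟶ zb' := ⟨Ψα, hlα⟩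
  let Ψβ' : za' ⟶ zb' := ⟨Ψβ, hlβ⟩
  have hthin := hF U y U
  have hΨ' : Ψα' = Ψβ' := Subsingleton.elim _ _
  have hΨ : Ψα = Ψβ := congrArg (fun m => m.1) hΨ'
  apply Functor.Fiber.hom_ext
  exact congrArg (fun m => m.hom.snd) hΨ

theorem faithful (h𝒳 : FibCat.IsFibGrpd 𝒳.p) (h𝒴 : FibCat.IsFibGrpd 𝒴.p) (F : 𝒳 ⥤ᵇ 𝒴)
    (hF : ∀ (U : C) (y : FibCat.overCat U ⥤ᵇ 𝒴) (V : C), Quiver.IsThin ((FibCat.fp y F).p.Fiber V)) :
    F.toFunctor.Faithful :=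
  faithful_of_fiber_faithful F h𝒳 h𝒴 (fun U => fiber_faithful h𝒴 F hF U)

end Groth.Agent.Lib.helper10.FaithfulFp
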