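import Mathlib
import Groth.Prelude.Def_ModSite
import Groth.Agent.Lib.helper10.TensAdj
import Groth.Agent.Lib.helper10.Flat1

open CategoryTheory Opposite Limits MonoidalCategory
open Groth.Agent.Lib.helper10.TensCore Groth.Agent.Lib.helper10.TensAdj Groth.Agent.Lib.helper10.Flat1

universe u

noncomputable section

namespace Groth.Agent.Lib.helper10.TensMon

variable {C : Type u} [SmallCategory C] {J : GrothendieckTopology C} (O : Sheaf J CommRingCat.{u})

/-- `A ⊗ -` -/
abbrev tl (A : ModSite.Mod O) : ModSite.Mod O ⥤ ModSite.Mod O := (ModSite.tensorBi O).obj A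

/-- the tensor product of two modules -/
abbrev tt (A B : ModSite.Mod O) : ModSite.Mod O := ((ModSite.tensorBi O).obj A).obj B

lemma tl_map (A : ModSite.Mod O) {M M' : ModSite.Mod O} (g : M ⟶ M') :
    (tl O A).map g = (aa O).map ((FG O).obj A ◁ (FG O).map g) := rfl

def E1 (A B M : ModSite.Mod O) :
    (aa O).obj (((FG O).obj A ⊗ (FG O).obj B) ⊗ (FG O).obj M) ⟶ (tl O (tt O A B)).obj M :=
  (aa O).map (uu O ((FG O).obj A ⊗ (FG O).obj B) ▷ (FG O).obj M)

instance (A B M : ModSite.Mod O) : IsIso (E1 O A B M) :=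
  whiskerRight_iso O (uu O _) (LB_uu O _) ((FG O).obj M)

def E2 (A B M : ModSite.Mod O) :
    (aa O).obj (((FG O).obj A ⊗ (FG O).obj B) ⊗ (FG O).obj M) ≅
    (aa O).obj ((FG O).obj A ⊗ ((FG O).obj B ⊗ (FG O).obj M)) :=
  (aa O).mapIso (α_ _ _ _)

def E3 (A B M : ModSite.Mod O) :
    (aa O).obj ((FG O).obj A ⊗ ((FG O).obj B ⊗ (FG O).obj M)) ⟶ (tl O B ⋙ tl O A).obj M :=
  (aa O).map ((FG O).obj A ◁ uu O ((FG O).obj B ⊗ (FG O).obj M))

instance (A B M : ModSite.Mod O) : IsIso (E3 O A B M) :=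
  whiskerLeft_iso O ((FG O).obj A) (uu O _) (LB_uu O _)

lemma n1 (A B : ModSite.Mod O) {M M' : ModSite.Mod O} (g : M ⟶ M') :
    (aa O).map (((FG O).obj A ⊗ (FG O).obj B) ◁ (FG O).map g) ≫ E1 O A B M' =
      E1 O A B M ≫ (tl O (tt O A B)).map g := by
  have h := whisker_exchange (uu O ((FG O).obj A ⊗ (FG O).obj B)) ((FG O).map g)
  exact ((aa O).map_comp _ _).symm.trans ((congrArg (aa O).map h).trans ((aa O).map_comp _ _))

lemma n2 (A B : ModSite.Mod O) {M M' : ModSite.Mod O} (g : M ⟶ M') :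
    (aa O).map (((FG O).obj A ⊗ (FG O).obj B) ◁ (FG O).map g) ≫ (E2 O A B M').hom =
      (E2 O A B M).hom ≫ (aa O).map ((FG O).obj A ◁ ((FG O).obj B ◁ (FG O).map g)) := by
  have h := associator_naturality_right ((FG O).obj A) ((FG O).obj B) ((FG O).map g)
  exact ((aa O).map_comp _ _).symm.trans ((congrArg (aa O).map h).trans ((aa O).map_comp _ _))

lemma n3 (A B : ModSite.Mod O) {M M' : ModSite.Mod O} (g : M ⟶ M') :
    (aa O).map ((FG O).obj A ◁ ((FG O).obj B ◁ (FG O).map g)) ≫ E3 O A B M' =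
      E3 O A B M ≫ (tl O B ⋙ tl O A).map g := by
  have h0 := uu_nat O ((FG O).obj B ◁ (FG O).map g)
  have h : (FG O).obj A ◁ ((FG O).obj B ◁ (FG O).map g) ≫
      (FG O).obj A ◁ uu O ((FG O).obj B ⊗ (FG O).obj M') =
      (FG O).obj A ◁ uu O ((FG O).obj B ⊗ (FG O).obj M) ≫
      (FG O).obj A ◁ (FG O).map ((aa O).map ((FG O).obj B ◁ (FG O).map g)) := by
    rw [← MonoidalCategory.whiskerLeft_comp, ← MonoidalCategory.whiskerLeft_comp, h0]
  exact ((aa O).map_comp _ _).symm.trans ((congrArg (aa O).map h).trans ((aa O).map_comp _ _))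

lemma assoc_nat (A B : ModSite.Mod O) {M M' : ModSite.Mod O} (g : M ⟶ M') :
    (tl O (tt O A B)).map g ≫ inv (E1 O A B M') ≫ (E2 O A B M').hom ≫ E3 O A B M' =
      (inv (E1 O A B M) ≫ (E2 O A B M).hom ≫ E3 O A B M) ≫ (tl O B ⋙ tl O A).map g := by
  have h1 : (tl O (tt O A B)).map g ≫ inv (E1 O A B M') =
      inv (E1 O A B M) ≫ (aa O).map (((FG O).obj A ⊗ (FG O).obj B) ◁ (FG O).map g) := by
    rw [IsIso.comp_inv_eq, Category.assoc, IsIso.eq_inv_comp]
    exact (n1 O A B g).symm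
  calc (tl O (tt O A B)).map g ≫ inv (E1 O A B M') ≫ (E2 O A B M').hom ≫ E3 O A B M'
      = ((tl O (tt O A B)).map g ≫ inv (E1 O A B M')) ≫ (E2 O A B M').hom ≫ E3 O A B M' :=
        (Category.assoc _ _ _).symm
    _ = (inv (E1 O A B M) ≫ (aa O).map (((FG O).obj A ⊗ (FG O).obj B) ◁ (FG O).map g)) ≫
          (E2 O A B M').hom ≫ E3 O A B M' :=
        congrArg (fun t => t ≫ (E2 O A B M').hom ≫ E3 O A B M') h1
    _ = inv (E1 O A B M) ≫ ((aa O).map (((FG O).obj A ⊗ (FG O).obj B) ◁ (FG O).map g) ≫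
          (E2 O A B M').hom) ≫ E3 O A B M' := by
        simp only [Category.assoc]
    _ = inv (E1 O A B M) ≫ ((E2 O A B M).hom ≫
          (aa O).map ((FG O).obj A ◁ ((FG O).obj B ◁ (FG O).map g))) ≫ E3 O A B M' :=
        congrArg (fun t => inv (E1 O A B M) ≫ t ≫ E3 O A B M') (n2 O A B g)
    _ = inv (E1 O A B M) ≫ (E2 O A B M).hom ≫
          ((aa O).map ((FG O).obj A ◁ ((FG O).obj B ◁ (FG O).map g)) ≫ E3 O A B M') := by
        simp only [Category.assoc]
    _ = inv (E1 O A B M) ≫ (E2 O A B M).hom ≫ (E3 O A B M ≫ (tl O B ⋙ tl O A).map g) :=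
        congrArg (fun t => inv (E1 O A B M) ≫ (E2 O A B M).hom ≫ t) (n3 O A B g)
    _ = _ := by simp only [Category.assoc]

/-- associativity of the tensor product of sheaves of modules -/
def assocIso (A B : ModSite.Mod O) : tl O (tt O A B) ≅ tl O B ⋙ tl O A :=
  NatIso.ofComponents
    (fun M => (asIso (E1 O A B M)).symm ≪≫ E2 O A B M ≪≫ asIso (E3 O A B M))
    (fun {M M'} g => by
      simp only [Iso.trans_hom, Iso.symm_hom, asIso_inv, asIso_hom]
      exact assoc_nat O A B g)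

/-- the counit of sheafification, an isomorphism -/
def εa (M : ModSite.Mod O) : (aa O).obj ((FG O).obj M) ≅ M :=
  (asIso (PresheafOfModules.sheafificationAdjunction.{u} (𝟙 (ModSite.ringSh O).obj)).counit).app M

lemma εa_nat {M M' : ModSite.Mod O} (g : M ⟶ M') :
    (aa O).map ((FG O).map g) ≫ (εa O M').hom = (εa O M).hom ≫ g :=
  (asIso (PresheafOfModules.sheafificationAdjunction.{u}
    (𝟙 (ModSite.ringSh O).obj)).counit).hom.naturality g

lemma unit_nat {M M' : ModSite.Mod O} (g : M ⟶ M') :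
    (tl O (ModSite.unit O)).map g ≫ ((aa O).map (λ_ ((FG O).obj M')).hom ≫ (εa O M').hom) =
      ((aa O).map (λ_ ((FG O).obj M)).hom ≫ (εa O M).hom) ≫ g := by
  have h := leftUnitor_naturality ((FG O).map g)
  have k : (aa O).map (𝟙_ (PM O) ◁ (FG O).map g) ≫ (aa O).map (λ_ ((FG O).obj M')).hom =
      (aa O).map (λ_ ((FG O).obj M)).hom ≫ (aa O).map ((FG O).map g) :=
    ((aa O).map_comp _ _).symm.trans ((congrArg (aa O).map h).trans ((aa O).map_comp _ _))
  calc (tl O (ModSite.unit O)).map g ≫ ((aa O).map (λ_ ((FG O).obj M')).hom ≫ (εa O M').hom)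
      = ((aa O).map (𝟙_ (PM O) ◁ (FG O).map g) ≫ (aa O).map (λ_ ((FG O).obj M')).hom) ≫
          (εa O M').hom := (Category.assoc _ _ _).symm
    _ = ((aa O).map (λ_ ((FG O).obj M)).hom ≫ (aa O).map ((FG O).map g)) ≫ (εa O M').hom :=
        congrArg (fun t => t ≫ (εa O M').hom) k
    _ = (aa O).map (λ_ ((FG O).obj M)).hom ≫ ((aa O).map ((FG O).map g) ≫ (εa O M').hom) :=
        Category.assoc _ _ _
    _ = (aa O).map (λ_ ((FG O).obj M)).hom ≫ ((εa O M).hom ≫ g) :=
        congrArg (fun t => (aa O).map (λ_ ((FG O).obj M)).hom ≫ t) (εa_nat O g)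
    _ = _ := (Category.assoc _ _ _).symm

/-- left unit -/
def unitIso : tl O (ModSite.unit O) ≅ 𝟭 (ModSite.Mod O) :=
  NatIso.ofComponents
    (fun M => (aa O).mapIso (λ_ ((FG O).obj M)) ≪≫ εa O M)
    (fun {M M'} g => by
      simp only [Iso.trans_hom, Functor.mapIso_hom, Functor.id_map]
      exact unit_nat O g)

/-- invertibility: the tensor product of invertible modules -/
theorem equiv_tt (L N : ModSite.Mod O) (hL : (tl O L).IsEquivalence) (hN : (tl O N).IsEquivalence) :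
    (tl O (tt O L N)).IsEquivalence :=
  Functor.isEquivalence_of_iso (assocIso O L N).symm

theorem equiv_flip (L : ModSite.Mod O) (hL : (tl O L).IsEquivalence) :
    ((ModSite.tensorBi O).flip.obj L).IsEquivalence :=
  Functor.isEquivalence_of_iso (Sw O L).symm

theorem inverse_equiv (L L' : ModSite.Mod O) (hL : (tl O L).IsEquivalence)
    (c : tt O L' L ≅ ModSite.unit O) : (tl O L').IsEquivalence := by
  let E := (tl O L).asEquivalence
  have e1 : tl O L ⋙ tl O L' ≅ 𝟭 _ :=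
    (assocIso O L' L).symm ≪≫ (ModSite.tensorBi O).mapIso c ≪≫ unitIso O
  have e2 : E.inverse ≅ tl O L' :=
    (Functor.rightUnitor _).symm ≪≫ Functor.isoWhiskerLeft E.inverse e1.symm ≪≫
      (Functor.associator _ _ _).symm ≪≫ Functor.isoWhiskerRight E.counitIso (tl O L') ≪≫
      Functor.leftUnitor _
  exact Functor.isEquivalence_of_iso e2

theorem main (L N : ModSite.Mod O) (hL : ((ModSite.tensorBi O).obj L).IsEquivalence)
    [ModSite.HasSheafHom L] :
    (((ModSite.tensorBi O).obj N).IsEquivalence →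
        ((ModSite.tensorBi O).obj (((ModSite.tensorBi O).obj L).obj N)).IsEquivalence) ∧
      ((ModSite.tensorBi O).obj ((ModSite.sheafHom L).obj (ModSite.unit O))).IsEquivalence ∧
      IsIso ((ModSite.sheafHomAdj L).counit.app (ModSite.unit O)) := by
  have hflip := equiv_flip O L hL
  have hc : IsIso (ModSite.sheafHomAdj L).counit := inferInstance
  have hc' : IsIso ((ModSite.sheafHomAdj L).counit.app (ModSite.unit O)) := inferInstance
  refine ⟨fun hN => equiv_tt O L N hL hN, ?_, hc'⟩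
  exact inverse_equiv O L _ hL (asIso ((ModSite.sheafHomAdj L).counit.app (ModSite.unit O)))

end Groth.Agent.Lib.helper10.TensMon
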