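import Mathlib
import Groth.Prelude.Def_ModSite
import Groth.Agent.Lib.helper10.TensMon
import Groth.Agent.Lib.helper10.EqConv

open CategoryTheory Opposite Limits MonoidalCategory
open Groth.Agent.Lib.helper10.TensCore Groth.Agent.Lib.helper10.TensAdj
open Groth.Agent.Lib.helper10.EqConv Groth.Agent.Lib.helper10.TensMon

universe u

noncomputable section

namespace Groth.Agent.Lib.helper10.QcSum

/-- elements of a coproduct of abelian groups are finite sums of images -/
lemma exists_finite_sum {ι : Type u} {A : ι → AddCommGrpCat.{u}} (c : Cofan A) (hc : IsColimit c)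
    (x : c.pt) : ∃ (s : Finset ι) (y : ∀ i, A i), x = ∑ i ∈ s, (c.inj i).hom (y i) := by
  classical
  let H : AddSubgroup c.pt := ⨆ i, (c.inj i).hom.range
  have hH : ∀ x : c.pt, x ∈ H := by
    let q : c.pt ⟶ AddCommGrpCat.of (c.pt ⧸ H) := AddCommGrpCat.ofHom (QuotientAddGroup.mk' H)
    have hq : q = 0 := by
      apply Cofan.IsColimit.hom_ext hc
      intro i
      ext y
      change (QuotientAddGroup.mk' H) ((c.inj i).hom y) = 0
      rw [QuotientAddGroup.mk'_apply, QuotientAddGroup.eq_zero_iff]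
      exact AddSubgroup.mem_iSup_of_mem i ⟨y, rfl⟩
    intro x
    have : q.hom x = 0 := by rw [hq]; rfl
    exact (QuotientAddGroup.eq_zero_iff x).1 this
  refine AddSubgroup.iSup_induction (C := fun x => ∃ (s : Finset ι) (y : ∀ i, A i),
    x = ∑ i ∈ s, (c.inj i).hom (y i)) _ (hH x) ?_ ?_ ?_
  · rintro i x ⟨y, rfl⟩
    refine ⟨{i}, fun j => if h : j = i then h ▸ y else 0, ?_⟩
    rw [Finset.sum_singleton]
    simp
  · exact ⟨∅, fun _ => 0, by simp⟩
  · rintro x y ⟨s₁, y₁, rfl⟩ ⟨s₂, y₂, rfl⟩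
    refine ⟨s₁ ∪ s₂, fun i => (if i ∈ s₁ then y₁ i else 0) + (if i ∈ s₂ then y₂ i else 0), ?_⟩
    simp only [map_add, Finset.sum_add_distrib]
    congr 1
    · rw [← Finset.sum_subset Finset.subset_union_left]
      · apply Finset.sum_congr rfl
        intro i hi
        rw [if_pos hi]
      · intro i _ hi
        rw [if_neg hi, map_zero]
    · rw [← Finset.sum_subset Finset.subset_union_right]
      · apply Finset.sum_congr rfl
        intro i hi
        rw [if_pos hi]
      · intro i _ hi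
        rw [if_neg hi, map_zero]

end Groth.Agent.Lib.helper10.QcSum

namespace Groth.Agent.Lib.helper10.QcSum

variable {C : Type u} [SmallCategory C] {J : GrothendieckTopology C} (O : Sheaf J CommRingCat.{u})
  {ι : Type u} (F : ι → ModSite.Mod O)

/-- underlying presheaves -/
abbrev Mp (i : ι) : PM O := (FG O).obj (F i)

/-- presheaf coproduct -/
abbrev Pp : PM O := ∐ (Mp O F)

/-- the legs of the sheafified cofan -/
def leg (i : ι) : F i ⟶ (aa O).obj (Pp O F) :=
  (εa O (F i)).inv ≫ (aa O).map (Sigma.ι (Mp O F) i)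

/-- the sheafified cofan is a colimit -/
def isColimitLeg : IsColimit (Cofan.mk ((aa O).obj (Pp O F)) (leg O F)) := by
  have hpc : PreservesColimitsOfSize.{u, u} (aa O) :=
    (PresheafOfModules.sheafificationAdjunction.{u}
      (𝟙 (ModSite.ringSh O).obj)).leftAdjoint_preservesColimits
  have h : IsColimit (Cofan.mk ((aa O).obj (Pp O F)) (fun i => (aa O).map (Sigma.ι (Mp O F) i))) :=
    isColimitCofanMkObjOfIsColimit (aa O) _ _ (coproductIsCoproduct (Mp O F))
  refine Cofan.IsColimit.mk _ (fun s => Cofan.IsColimit.desc h (fun i => (εa O (F i)).hom ≫ s.inj i))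
    (fun s i => ?_) (fun s m hm => ?_)
  · have e := Cofan.IsColimit.fac h (fun i => (εa O (F i)).hom ≫ s.inj i) i
    have e' : (aa O).map (Sigma.ι (Mp O F) i) ≫
        Cofan.IsColimit.desc h (fun i => (εa O (F i)).hom ≫ s.inj i) =
        (εa O (F i)).hom ≫ s.inj i := e
    change ((εa O (F i)).inv ≫ (aa O).map (Sigma.ι (Mp O F) i)) ≫ _ = _
    rw [Category.assoc, e', Iso.inv_hom_id_assoc]
  · apply Cofan.IsColimit.hom_ext h
    intro i
    have e := Cofan.IsColimit.fac h (fun i => (εa O (F i)).hom ≫ s.inj i) i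
    refine Eq.trans ?_ e.symm
    have := hm i
    change ((εa O (F i)).inv ≫ (aa O).map (Sigma.ι (Mp O F) i)) ≫ m = _ at this
    rw [← this, Category.assoc, Iso.hom_inv_id_assoc]
    rfl

lemma uu_FG (M : ModSite.Mod O) : uu O ((FG O).obj M) = (FG O).map (εa O M).inv := by
  have h := (PresheafOfModules.sheafificationAdjunction.{u}
    (𝟙 (ModSite.ringSh O).obj)).right_triangle_components M
  have h' : uu O ((FG O).obj M) ≫ (FG O).map (εa O M).hom = 𝟙 _ := h
  have h2 : (FG O).map (εa O M).hom ≫ (FG O).map (εa O M).inv = 𝟙 _ := by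
    rw [← (FG O).map_comp, Iso.hom_inv_id, (FG O).map_id]
  calc uu O ((FG O).obj M) = uu O ((FG O).obj M) ≫ (FG O).map (εa O M).hom ≫
        (FG O).map (εa O M).inv := by rw [h2, Category.comp_id]
    _ = _ := by rw [← Category.assoc, h', Category.id_comp]

lemma leg_eq (i : ι) : Sigma.ι (Mp O F) i ≫ uu O (Pp O F) = (FG O).map (leg O F i) := by
  unfold leg
  rw [(FG O).map_comp, ← uu_FG]
  exact uu_nat O (Sigma.ι (Mp O F) i)

end Groth.Agent.Lib.helper10.QcSum

namespace Groth.Agent.Lib.helper10.QcSum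

variable {C : Type u} [SmallCategory C] {J : GrothendieckTopology C} (O : Sheaf J CommRingCat.{u})
  {ι : Type u} (F : ι → ModSite.Mod O)

/-- a morphism of sheaves of modules on sections -/
def sm {A B : ModSite.Mod O} (φ : A ⟶ B) (V : C) : ModSite.sect A V →+ ModSite.sect B V :=
  appA ((FG O).map φ) V

lemma sm_nat {A B : ModSite.Mod O} (φ : A ⟶ B) {U V : C} (g : V ⟶ U) (s : ModSite.sect A U) :
    sm O φ V (σ A g s) = σ B g (sm O φ U s) :=
  appA_nat ((FG O).map φ) g s

lemma sm_comp {A B D : ModSite.Mod O} (φ : A ⟶ B) (ψ : B ⟶ D) (V : C) (s : ModSite.sect A V) :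
    sm O (φ ≫ ψ) V s = sm O ψ V (sm O φ V s) := rfl

lemma sm_id {A : ModSite.Mod O} (V : C) (s : ModSite.sect A V) : sm O (𝟙 A) V s = s := rfl

lemma sm_zero {A B : ModSite.Mod O} (V : C) (s : ModSite.sect A V) :
    sm O (0 : A ⟶ B) V s = 0 := rfl

/-- sections of the presheaf coproduct are finite sums -/
lemma Pp_finite_sum (V : C) (p : (Pp O F).obj (op V)) :
    ∃ (s : Finset ι) (y : ∀ i, ModSite.sect (F i) V),
      p = ∑ i ∈ s, appA (Sigma.ι (Mp O F) i) V (y i) := by
  let G₀ : PM O ⥤ AddCommGrpCat.{u} :=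
    PresheafOfModules.toPresheaf _ ⋙ (evaluation Cᵒᵖ AddCommGrpCat.{u}).obj (op V)
  have h : IsColimit (Cofan.mk (G₀.obj (Pp O F)) (fun i => G₀.map (Sigma.ι (Mp O F) i))) :=
    isColimitCofanMkObjOfIsColimit G₀ _ _ (coproductIsCoproduct (Mp O F))
  obtain ⟨s, y, hy⟩ := exists_finite_sum _ h p
  exact ⟨s, y, hy⟩

/-- local finite-sum decomposition of sections of the sheafified coproduct -/
theorem local_sum₀ (W : C) (t : ModSite.sect ((aa O).obj (Pp O F)) W) :
    ∃ R ∈ J W, ∀ ⦃V : C⦄ (g : V ⟶ W), R g →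
      ∃ (s : Finset ι) (y : ∀ i, ModSite.sect (F i) V),
        σ ((aa O).obj (Pp O F)) g t = ∑ i ∈ s, sm O (leg O F i) V (y i) := by
  have hsurj := (LB_uu O (Pp O F)).surj
  refine ⟨_, Presheaf.imageSieve_mem J ((PresheafOfModules.toPresheaf _).map (uu O (Pp O F))) t, ?_⟩
  rintro V g ⟨p, hp⟩
  obtain ⟨s, y, hy⟩ := Pp_finite_sum O F V p
  refine ⟨s, y, ?_⟩
  have hp' : appA (uu O (Pp O F)) V p = σ ((aa O).obj (Pp O F)) g t := hp
  rw [← hp', hy, map_sum]
  apply Finset.sum_congr rfl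
  intro i _
  have := leg_eq O F i
  have e : appA (uu O (Pp O F)) V (appA (Sigma.ι (Mp O F) i) V (y i)) =
      appA (Sigma.ι (Mp O F) i ≫ uu O (Pp O F)) V (y i) := rfl
  rw [e, this]
  rfl

end Groth.Agent.Lib.helper10.QcSum

namespace Groth.Agent.Lib.helper10.QcSum

variable {C : Type u} [SmallCategory C] {J : GrothendieckTopology C} (O : Sheaf J CommRingCat.{u})
  {ι : Type u} (F : ι → ModSite.Mod O)

/-- local finite-sum decomposition of sections of any coproduct -/
theorem local_sum (c : Cofan F) (hc : IsColimit c) (W : C) (t : ModSite.sect c.pt W) :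
    ∃ R ∈ J W, ∀ ⦃V : C⦄ (g : V ⟶ W), R g →
      ∃ (s : Finset ι) (y : ∀ i, ModSite.sect (F i) V),
        σ c.pt g t = ∑ i ∈ s, sm O (c.inj i) V (y i) := by
  let φ : c.pt ≅ (aa O).obj (Pp O F) := IsColimit.coconePointUniqueUpToIso hc (isColimitLeg O F)
  have hφ : ∀ i, c.inj i ≫ φ.hom = leg O F i := fun i =>
    IsColimit.comp_coconePointUniqueUpToIso_hom hc (isColimitLeg O F) ⟨i⟩
  obtain ⟨R, hR, hR'⟩ := local_sum₀ O F W (sm O φ.hom W t)
  refine ⟨R, hR, ?_⟩
  intro V g hg
  obtain ⟨s, y, hy⟩ := hR' g hg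
  refine ⟨s, y, ?_⟩
  have hinj : Function.Injective (sm O φ.hom V) := by
    intro a b hab
    have := congrArg (sm O φ.inv V) hab
    rw [← sm_comp, ← sm_comp, Iso.hom_inv_id] at this
    exact this
  apply hinj
  rw [sm_nat, hy, map_sum]
  apply Finset.sum_congr rfl
  intro i _
  rw [← sm_comp, hφ]

section proj
open Classical in
/-- projections of a coproduct -/
def pr (c : Cofan F) (hc : IsColimit c) (i : ι) : c.pt ⟶ F i :=
  Cofan.IsColimit.desc hc (fun j => if h : j = i then eqToHom (by rw [h]) else 0)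

lemma inj_pr_self (c : Cofan F) (hc : IsColimit c) (i : ι) : c.inj i ≫ pr O F c hc i = 𝟙 _ := by
  unfold pr
  rw [Cofan.IsColimit.fac, dif_pos rfl]
  rfl

lemma inj_pr_ne (c : Cofan F) (hc : IsColimit c) {i j : ι} (h : j ≠ i) :
    c.inj j ≫ pr O F c hc i = 0 := by
  unfold pr
  rw [Cofan.IsColimit.fac, dif_neg h]

lemma sm_inj_pr_self (c : Cofan F) (hc : IsColimit c) (i : ι) (V : C) (y : ModSite.sect (F i) V) :
    sm O (pr O F c hc i) V (sm O (c.inj i) V y) = y := by
  rw [← sm_comp, inj_pr_self]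
  rfl

lemma sm_inj_pr_ne (c : Cofan F) (hc : IsColimit c) {i j : ι} (h : j ≠ i) (V : C)
    (y : ModSite.sect (F j) V) :
    sm O (pr O F c hc i) V (sm O (c.inj j) V y) = 0 := by
  rw [← sm_comp, inj_pr_ne O F c hc h]
  rfl

/-- the idempotent `e_s = Σ_{i∈s} ι_i π_i` on sections -/
def es (c : Cofan F) (hc : IsColimit c) (s : Finset ι) (V : C) (t : ModSite.sect c.pt V) :
    ModSite.sect c.pt V :=
  ∑ i ∈ s, sm O (c.inj i) V (sm O (pr O F c hc i) V t)

lemma es_nat (c : Cofan F) (hc : IsColimit c) (s : Finset ι) {U V : C} (g : V ⟶ U)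
    (t : ModSite.sect c.pt U) : es O F c hc s V (σ c.pt g t) = σ c.pt g (es O F c hc s U t) := by
  unfold es
  rw [map_sum]
  apply Finset.sum_congr rfl
  intro i _
  rw [sm_nat, sm_nat]

lemma es_fix (c : Cofan F) (hc : IsColimit c) (s s' : Finset ι) (hs : s' ⊆ s) (V : C)
    (y : ∀ i, ModSite.sect (F i) V) :
    es O F c hc s V (∑ j ∈ s', sm O (c.inj j) V (y j)) = ∑ j ∈ s', sm O (c.inj j) V (y j) := by
  classical
  unfold es
  have h1 : ∀ i ∈ s, sm O (c.inj i) V (sm O (pr O F c hc i) V (∑ j ∈ s', sm O (c.inj j) V (y j))) =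
      if i ∈ s' then sm O (c.inj i) V (y i) else 0 := by
    intro i _
    rw [map_sum]
    split_ifs with hi
    · rw [Finset.sum_eq_single i]
      · rw [sm_inj_pr_self]
      · intro j _ hj
        exact sm_inj_pr_ne O F c hc hj V (y j)
      · intro h; exact absurd hi h
    · rw [Finset.sum_eq_zero, map_zero]
      intro j hj
      have : j ≠ i := fun h => hi (h ▸ hj)
      exact sm_inj_pr_ne O F c hc this V (y j)
  rw [Finset.sum_congr rfl h1, Finset.sum_ite_mem, Finset.inter_eq_right.2 hs]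

end proj

/-- every covering sieve contains a finite family generating a covering sieve -/
def FinCov (J : GrothendieckTopology C) (W : C) : Prop :=
  ∀ R ∈ J W, ∃ (n : ℕ) (V : Fin n → C) (g : ∀ k, V k ⟶ W), (∀ k, R (g k)) ∧
    Sieve.ofArrows V g ∈ J W

/-- surjectivity: sections of a coproduct over a quasi-compact object are finite sums -/
theorem sect_surj (c : Cofan F) (hc : IsColimit c) (W : C) (hW : FinCov J W)
    (t : ModSite.sect c.pt W) :
    ∃ s : Finset ι, t = ∑ i ∈ s, sm O (c.inj i) W (sm O (pr O F c hc i) W t) := by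
  classical
  obtain ⟨R, hR, hR'⟩ := local_sum O F c hc W t
  obtain ⟨n, V, g, hg, hT⟩ := hW R hR
  choose s y hy using fun k => hR' (g k) (hg k)
  refine ⟨Finset.univ.biUnion s, ?_⟩
  have key : ∀ (k : Fin n) {Y : C} (h : Y ⟶ V k), σ c.pt (h ≫ g k) t =
      σ c.pt (h ≫ g k) (es O F c hc (Finset.univ.biUnion s) W t) := by
    intro k Y h
    rw [← es_nat, σ_comp, hy k, map_sum]
    have e : ∀ i ∈ s k, σ c.pt h (sm O (c.inj i) (V k) (y k i)) =
        sm O (c.inj i) Y (σ (F i) h (y k i)) := fun i _ => (sm_nat O (c.inj i) h (y k i)).symm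
    rw [Finset.sum_congr rfl e]
    exact (es_fix O F c hc _ (s k) (Finset.subset_biUnion_of_mem s (Finset.mem_univ k)) Y
      (fun i => σ (F i) h (y k i))).symm
  have hsep := Presheaf.IsSheaf.isSeparated c.pt.isSheaf
  refine hsep W _ hT t (es O F c hc (Finset.univ.biUnion s) W t) ?_
  intro Y f hf
  obtain ⟨Z, h, g', ⟨k⟩, rfl⟩ := hf
  exact key k h

/-- injectivity -/
theorem sect_inj (c : Cofan F) (hc : IsColimit c) (W : C) (s : Finset ι)
    (y : ∀ i, ModSite.sect (F i) W) (h : ∑ i ∈ s, sm O (c.inj i) W (y i) = 0) :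
    ∀ i ∈ s, y i = 0 := by
  classical
  intro i hi
  have h1 := congrArg (sm O (pr O F c hc i) W) h
  rw [map_sum, map_zero, Finset.sum_eq_single i] at h1
  · rw [sm_inj_pr_self] at h1
    exact h1
  · intro j _ hj
    exact sm_inj_pr_ne O F c hc hj W (y j)
  · intro h'; exact absurd hi h'

end Groth.Agent.Lib.helper10.QcSum

namespace Groth.Agent.Lib.helper10.QcSum

open TopologicalSpace in
lemma finCov_of_isCompact {X : TopCat.{u}} (U : Opens X) (hU : IsCompact (U : Set X)) :
    FinCov (Opens.grothendieckTopology X) U := by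
  classical
  intro R hR
  have h1 : ∀ x : U, ∃ (V : Opens X) (f : V ⟶ U), R f ∧ x.1 ∈ V := fun x => hR x.1 x.2
  choose V f hf hx using h1
  obtain ⟨t, ht⟩ := hU.elim_finite_subcover (fun x : U => (V x : Set X)) (fun x => (V x).isOpen)
    (fun y hy => Set.mem_iUnion.2 ⟨⟨y, hy⟩, hx ⟨y, hy⟩⟩)
  let e := t.equivFin
  refine ⟨t.card, fun k => V (e.symm k).1, fun k => f (e.symm k).1, fun k => hf _, ?_⟩
  intro y hy
  obtain ⟨x, hxt, hyx⟩ : ∃ x ∈ t, y ∈ V x := by simpa using ht hy
  refine ⟨V x, f x, ?_, hyx⟩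
  have := Sieve.ofArrows_mk (fun k => V (e.symm k).1) (fun k => f (e.symm k).1) (e ⟨x, hxt⟩)
  have hk : (e.symm (e ⟨x, hxt⟩)).1 = x := by simp
  let a : V x ⟶ V (e.symm (e ⟨x, hxt⟩)).1 := eqToHom (by rw [hk])
  have h2 := (Sieve.ofArrows (fun k => V (e.symm k).1)
    (fun k => f (e.symm k).1)).downward_closed this a
  have h3 : a ≫ f (e.symm (e ⟨x, hxt⟩)).1 = f x := Subsingleton.elim _ _
  rw [h3] at h2
  exact h2

open TopologicalSpace in
theorem main_top {X : TopCat.{u}} (O : TopCat.Sheaf CommRingCat.{u} X)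
    {I : Type u} (F : I → ModSite.Mod O) [HasCoproduct F] (U : Opens X) (hU : IsCompact (U : Set X)) :
    (∀ s : ModSite.sect (∐ F) U, ∃ (S : Finset I) (t : ∀ i, ModSite.sect (F i) U),
        s = ∑ i ∈ S, ((Sigma.ι F i).val.app (Opposite.op U)).hom (t i)) ∧
      ∀ (S : Finset I) (t : ∀ i, ModSite.sect (F i) U),
        ∑ i ∈ S, ((Sigma.ι F i).val.app (Opposite.op U)).hom (t i) = 0 → ∀ i ∈ S, t i = 0 := by
  let c : Cofan F := Cofan.mk (∐ F) (Sigma.ι F)
  have hc : IsColimit c := coproductIsCoproduct F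
  constructor
  · intro s
    obtain ⟨S, hS⟩ := sect_surj O F c hc U (finCov_of_isCompact U hU) s
    exact ⟨S, fun i => sm O (pr O F c hc i) U s, hS⟩
  · intro S t h
    exact sect_inj O F c hc U S t h

end Groth.Agent.Lib.helper10.QcSum
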