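import Mathlib
import Groth.Prelude.Def_CohCx
import Groth.Agent.Lib.helper10.QcSum

open CategoryTheory Opposite Limits
open Groth.Agent.Lib.helper10.QcSum

universe u

noncomputable section

namespace Groth.Agent.Lib.helper10.QcCov

variable {C : Type u} [SmallCategory C] (J : GrothendieckTopology C)

abbrev hS (V : C) : Sheaf J (Type u) := (presheafToSheaf J (Type u)).obj (yoneda.obj V)

def ηy (V : C) : yoneda.obj V ⟶ (hS J V).obj := toSheafify J (yoneda.obj V)

instance (V : C) : Presheaf.IsLocallySurjective J (ηy J V) :=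
  inferInstanceAs (Presheaf.IsLocallySurjective J (toSheafify J (yoneda.obj V)))

instance (V : C) : Presheaf.IsLocallyInjective J (ηy J V) :=
  inferInstanceAs (Presheaf.IsLocallyInjective J (toSheafify J (yoneda.obj V)))

abbrev hm {V W : C} (a : V ⟶ W) : hS J V ⟶ hS J W :=
  (presheafToSheaf J (Type u)).map (yoneda.map a)

lemma hm_η {V W : C} (a : V ⟶ W) (Z : C) (c : Z ⟶ V) :
    (hm J a).hom.app (op Z) ((ηy J V).app (op Z) c) = (ηy J W).app (op Z) (c ≫ a) := by
  have h := toSheafify_naturality J (yoneda.map a)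
  have h2 := congrArg (fun φ => φ.app (op Z) c) h
  exact h2.symm

lemma η_res {W : C} {Z Z' : C} (h : Z' ⟶ Z) (c : Z ⟶ W) :
    (hS J W).obj.map h.op ((ηy J W).app (op Z) c) = (ηy J W).app (op Z') (h ≫ c) := by
  have := (ηy J W).naturality h.op
  exact (congrArg (fun φ => φ c) this).symm

end Groth.Agent.Lib.helper10.QcCov

namespace Groth.Agent.Lib.helper10.QcCov

variable {C : Type u} [SmallCategory C] (J : GrothendieckTopology C)

/-- the family of representable sheaves over the arrows of a sieve is jointly surjective -/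
lemma jointlySurjective_sieve (W : C) (R : Sieve W) (hR : R ∈ J W) :
    CohCx.JointlySurjective (I := Σ V : C, {g : V ⟶ W // R g})
      (L := fun i => hS J i.1) (fun i => hm J i.2.1) := by
  intro U s
  let S : Sieve U :=
    { arrows := fun V g => ∃ (i : Σ V : C, {g : V ⟶ W // R g}) (x : (hS J i.1).obj.obj (op V)),
        (hm J i.2.1).hom.app (op V) x = (hS J W).obj.map g.op s
      downward_closed := by
        rintro V V' g ⟨i, x, hx⟩ h
        refine ⟨i, (hS J i.1).obj.map h.op x, ?_⟩
        have nat := congrArg (fun φ => φ x) ((hm J i.2.1).hom.naturality h.op)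
        refine Eq.trans nat ?_
        change (hS J W).obj.map h.op ((hm J i.2.1).hom.app (op V) x) = _
        rw [hx]
        have := congrArg (fun φ => φ s) ((hS J W).obj.map_comp g.op h.op)
        exact this.symm }
  refine ⟨S, ?_, fun V g hg => hg⟩
  refine J.transitive (Presheaf.imageSieve_mem J (ηy J W) s) S ?_
  rintro V₁ g₁ ⟨a, ha⟩
  refine J.superset_covering ?_ (J.pullback_stable a hR)
  intro V₂ g₂ hg₂
  refine ⟨⟨V₂, g₂ ≫ a, hg₂⟩, (ηy J V₂).app (op V₂) (𝟙 V₂), ?_⟩
  refine (hm_η J (g₂ ≫ a) V₂ (𝟙 V₂)).trans ?_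
  rw [Category.id_comp, ← η_res]
  have ha' : (ηy J W).app (op V₁) a = (hS J W).obj.map g₁.op s := ha
  rw [ha']
  have := congrArg (fun φ => φ s) ((hS J W).obj.map_comp g₁.op g₂.op)
  exact this.symm

end Groth.Agent.Lib.helper10.QcCov

namespace Groth.Agent.Lib.helper10.QcCov

variable {C : Type u} [SmallCategory C] (J : GrothendieckTopology C)

theorem finCov_of_qc (W : C) (hW : CohCx.IsQcObject (hS J W)) : FinCov J W := by
  classical
  intro R hR
  obtain ⟨t, ht⟩ := hW (Σ V : C, {g : V ⟶ W // R g}) (fun i => hS J i.1)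
    (fun i => hm J i.2.1) (jointlySurjective_sieve J W R hR)
  obtain ⟨S', hS', hS''⟩ := ht W ((ηy J W).app (op W) (𝟙 W))
  let e := t.equivFin
  refine ⟨t.card, fun k => (e.symm k).1.1, fun k => (e.symm k).1.2.1,
    fun k => (e.symm k).1.2.2, ?_⟩
  have hTmem : ∀ i : t, (Sieve.ofArrows (fun k => (e.symm k).1.1)
      (fun k => (e.symm k).1.2.1)).arrows i.1.2.1 := by
    intro i
    have h1 := Sieve.ofArrows_mk (fun k => (e.symm k).1.1) (fun k => (e.symm k).1.2.1) (e i)
    have hk : e.symm (e i) = i := e.symm_apply_apply i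
    rw [hk] at h1
    exact h1
  refine J.transitive hS' _ ?_
  intro V' g' hg'
  obtain ⟨i, x, hx⟩ := hS'' V' g' hg'
  refine J.transitive (Presheaf.imageSieve_mem J (ηy J i.1.1) x) _ ?_
  rintro V'' h ⟨c, hc⟩
  have hc' : (ηy J i.1.1).app (op V'') c = (hS J i.1.1).obj.map h.op x := hc
  have heq : (ηy J W).app (op V'') (c ≫ i.1.2.1) = (ηy J W).app (op V'') (h ≫ g') := by
    rw [← hm_η, hc']
    have nat := congrArg (fun φ => φ x) ((hm J i.1.2.1).hom.naturality h.op)
    refine Eq.trans nat ?_
    change (hS J W).obj.map h.op ((hm J i.1.2.1).hom.app (op V') x) = _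
    rw [hx, η_res, η_res, Category.comp_id]
  refine J.superset_covering ?_ (Presheaf.equalizerSieve_mem J (ηy J W) _ _ heq)
  intro V''' h' hh'
  have hh'' : h' ≫ c ≫ i.1.2.1 = h' ≫ h ≫ g' := hh'
  change (Sieve.ofArrows (fun k => (e.symm k).1.1) (fun k => (e.symm k).1.2.1)).arrows
    ((h' ≫ h) ≫ g')
  rw [Category.assoc, ← hh'', ← Category.assoc]
  exact Sieve.downward_closed _ (hTmem i) _

end Groth.Agent.Lib.helper10.QcCov

namespace Groth.Agent.Lib.helper10.QcCov

/-- elementwise criterion for preserving coproducts, functors to abelian groups -/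
lemma preserves_of_elementwise {𝒜 : Type*} [Category 𝒜] (G : 𝒜 ⥤ AddCommGrpCat.{u}) {ι : Type u}
    [HasCoproductsOfShape ι 𝒜]
    (hsurj : ∀ (F : ι → 𝒜) (x : G.obj (∐ F)), ∃ (s : Finset ι) (y : ∀ i, G.obj (F i)),
      x = ∑ i ∈ s, (G.map (Sigma.ι F i)).hom (y i))
    (hinj : ∀ (F : ι → 𝒜) (s : Finset ι) (y : ∀ i, G.obj (F i)),
      ∑ i ∈ s, (G.map (Sigma.ι F i)).hom (y i) = 0 → ∀ i ∈ s, y i = 0) :
    PreservesColimitsOfShape (Discrete ι) G := by
  have key : ∀ F : ι → 𝒜, PreservesColimit (Discrete.functor F) G := by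
    intro F
    have hcmp : ∀ (i : ι) (y : G.obj (F i)),
        (sigmaComparison G F).hom ((Sigma.ι (fun b => G.obj (F b)) i).hom y) =
          (G.map (Sigma.ι F i)).hom y := by
      intro i y
      have := ι_comp_sigmaComparison G F i
      exact congrArg (fun φ => φ.hom y) this
    have hiso : IsIso (sigmaComparison G F) := by
      rw [ConcreteCategory.isIso_iff_bijective]
      constructor
      · refine (injective_iff_map_eq_zero (sigmaComparison G F).hom).2 ?_
        intro z hz
        obtain ⟨s, y, rfl⟩ := exists_finite_sum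
          (Cofan.mk (∐ fun b => G.obj (F b)) (Sigma.ι fun b => G.obj (F b)))
          (coproductIsCoproduct _) z
        rw [map_sum] at hz
        have hz' : ∑ i ∈ s, (G.map (Sigma.ι F i)).hom (y i) = 0 := by
          refine Eq.trans ?_ hz
          apply Finset.sum_congr rfl
          intro i _
          exact (hcmp i (y i)).symm
        have h0 := hinj F s y hz'
        apply Finset.sum_eq_zero
        intro i hi
        rw [h0 i hi, map_zero]
      · intro x
        obtain ⟨s, y, rfl⟩ := hsurj F x
        refine ⟨∑ i ∈ s, (Sigma.ι (fun b => G.obj (F b)) i).hom (y i), ?_⟩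
        rw [map_sum]
        apply Finset.sum_congr rfl
        intro i _
        exact hcmp i (y i)
    exact PreservesCoproduct.of_iso_comparison G F
  exact preservesColimitsOfShape_of_discrete G

end Groth.Agent.Lib.helper10.QcCov

namespace Groth.Agent.Lib.helper10.QcCov

variable {C : Type u} [SmallCategory C] {J : GrothendieckTopology C}

theorem main9102 (O : Sheaf J CommRingCat.{u}) (W : C)
    (hW : CohCx.IsQcObject ((presheafToSheaf J (Type u)).obj (yoneda.obj W))) (ι : Type u) :
    PreservesColimitsOfShape (Discrete ι)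
      (SheafOfModules.toSheaf (ModSite.ringSh O) ⋙
        (sheafSections J AddCommGrpCat.{u}).obj (op W)) := by
  apply preserves_of_elementwise
  · intro F x
    obtain ⟨S, hS⟩ := sect_surj O F (Cofan.mk (∐ F) (Sigma.ι F)) (coproductIsCoproduct F) W
      (finCov_of_qc J W hW) x
    exact ⟨S, fun i => sm O (pr O F _ (coproductIsCoproduct F) i) W x, hS⟩
  · intro F s y h
    exact sect_inj O F (Cofan.mk (∐ F) (Sigma.ι F)) (coproductIsCoproduct F) W s y h

end Groth.Agent.Lib.helper10.QcCov
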