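import Mathlib
import Groth.Prelude.Def_ModSite
import Groth.Agent.Lib.helper10.Flat1

namespace Groth.Agent.Lib.helper10.Flat2
open CategoryTheory Limits Opposite MonoidalCategory
open Groth.Agent.Lib.helper10.TensCore Groth.Agent.Lib.helper10.TensAdj
open Groth.Agent.Lib.helper10.Flat1

universe u

variable {C : Type u} [SmallCategory C] {J : GrothendieckTopology C} (O : Sheaf J CommRingCat.{u})


/-- abstract diagram chase used for flatness -/
lemma chase {𝒜 : Type*} [Category 𝒜] [Abelian 𝒜]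
    {X₁K X₂K X₃K X₁L X₂L X₃L X₁G X₂G : 𝒜}
    (a₁ : X₁K ⟶ X₂K) (a₂ : X₂K ⟶ X₃K) (b₁ : X₁L ⟶ X₂L) (b₂ : X₂L ⟶ X₃L) (c₁ : X₁G ⟶ X₂G)
    (j₁ : X₁K ⟶ X₁L) (j₂ : X₂K ⟶ X₂L) (j₃ : X₃K ⟶ X₃L) (q₁ : X₁L ⟶ X₁G) (q₂ : X₂L ⟶ X₂G)
    (wa : a₁ ≫ a₂ = 0) (ha : (ShortComplex.mk a₁ a₂ wa).Exact)
    (wb : b₁ ≫ b₂ = 0) [Mono b₁]
    (w₂ : j₂ ≫ q₂ = 0) (h₂ : (ShortComplex.mk j₂ q₂ w₂).Exact)
    (w₁ : j₁ ≫ q₁ = 0) [Epi q₁] [Mono j₃]
    (c1 : a₁ ≫ j₂ = j₁ ≫ b₁) (c2 : a₂ ≫ j₃ = j₂ ≫ b₂) (c3 : b₁ ≫ q₂ = q₁ ≫ c₁) :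
    Mono c₁ := by
  apply Preadditive.mono_of_cancel_zero
  intro A x hx
  obtain ⟨A₁, π₁, hπ₁, y, hy⟩ := surjective_up_to_refinements_of_epi q₁ x
  have e1 : (y ≫ b₁) ≫ q₂ = 0 := by
    rw [Category.assoc, c3, ← Category.assoc, ← hy, Category.assoc, hx, comp_zero]
  obtain ⟨A₂, π₂, hπ₂, z, hz⟩ := h₂.exact_up_to_refinements (y ≫ b₁) e1
  have e2 : z ≫ a₂ = 0 := by
    rw [← cancel_mono j₃, Category.assoc, c2, ← Category.assoc, zero_comp]
    have hz' : z ≫ j₂ = π₂ ≫ y ≫ b₁ := hz.symm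
    rw [hz', Category.assoc, Category.assoc, wb, comp_zero, comp_zero]
  obtain ⟨A₃, π₃, hπ₃, w, hw⟩ := ha.exact_up_to_refinements z e2
  have hw' : π₃ ≫ z = w ≫ a₁ := hw
  have hz' : π₂ ≫ y ≫ b₁ = z ≫ j₂ := hz
  have e3 : w ≫ j₁ = π₃ ≫ π₂ ≫ y := by
    rw [← cancel_mono b₁, Category.assoc, ← c1, ← Category.assoc, ← hw', Category.assoc,
      ← hz', Category.assoc, Category.assoc]
  have e4 : (π₃ ≫ π₂ ≫ π₁) ≫ x = 0 := by
    rw [Category.assoc, Category.assoc, hy, ← Category.assoc, ← Category.assoc,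
      Category.assoc π₃, ← e3, Category.assoc, w₁, comp_zero]
  rw [← cancel_epi (π₃ ≫ π₂ ≫ π₁), e4, comp_zero]



theorem mono_tensor_of_flat_right (S : ShortComplex (ModSite.Mod O)) (hS : S.ShortExact)
    (hF : ModSite.IsFlat S.X₃) (G : ModSite.Mod O) : Mono ((T O G).map S.f) := by
  obtain ⟨L, q, hL, hq⟩ := exists_flat_epi O G
  let B := ModSite.tensorBi O
  let Q : ShortComplex (ModSite.Mod O) := ShortComplex.mk (kernel.ι q) q (kernel.condition q)
  have hQ : Q.ShortExact := { exact := ShortComplex.exact_kernel q, mono_f := inferInstanceAs (Mono (kernel.ι q)), epi_g := hq }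
  have := hS.mono_f
  have hK := ((Functor.preservesFiniteColimits_iff_forall_exact_map_and_epi (T O (kernel q))).1
    inferInstance S hS).1
  have hL' := ((Functor.preservesFiniteColimits_iff_forall_exact_map_and_epi (T O L)).1
    inferInstance S hS).1
  have h2 := (Functor.preservesFiniteColimits_iff_forall_exact_map_and_epi (B.obj S.X₂)).1
    inferInstance Q hQ
  have h1 := (Functor.preservesFiniteColimits_iff_forall_exact_map_and_epi (B.obj S.X₁)).1
    inferInstance Q hQ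
  have m1 : Mono ((B.map S.f).app L) := mono_of_isFlat O L hL S.f
  have m3 : Mono ((B.obj S.X₃).map (kernel.ι q)) := mono_of_isFlat' O S.X₃ hF (kernel.ι q)
  have e1 : Epi ((B.obj S.X₁).map q) := h1.2
  exact chase ((B.map S.f).app (kernel q)) ((B.map S.g).app (kernel q))
    ((B.map S.f).app L) ((B.map S.g).app L) ((B.map S.f).app G)
    ((B.obj S.X₁).map (kernel.ι q)) ((B.obj S.X₂).map (kernel.ι q)) ((B.obj S.X₃).map (kernel.ι q))
    ((B.obj S.X₁).map q) ((B.obj S.X₂).map q)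
    (S.map (T O (kernel q))).zero hK (S.map (T O L)).zero (Q.map (B.obj S.X₂)).zero h2.1
    (Q.map (B.obj S.X₁)).zero
    ((B.map S.f).naturality (kernel.ι q)).symm ((B.map S.g).naturality (kernel.ι q)).symm
    ((B.map S.f).naturality q).symm

theorem tensor_shortExact (S : ShortComplex (ModSite.Mod O)) (hS : S.ShortExact)
    (hF : ModSite.IsFlat S.X₃) (G : ModSite.Mod O) : (S.map (T O G)).ShortExact := by
  have h := (Functor.preservesFiniteColimits_iff_forall_exact_map_and_epi (T O G)).1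
    inferInstance S hS
  exact { exact := h.1, mono_f := mono_tensor_of_flat_right O S hS hF G, epi_g := h.2 }


theorem tensor_shortExact' (S : ShortComplex (ModSite.Mod O)) (hS : S.ShortExact)
    (hF : ModSite.IsFlat S.X₃) (G : ModSite.Mod O) :
    (S.map ((ModSite.tensorBi O).obj G)).ShortExact :=
  (ShortComplex.shortExact_iff_of_iso (S.mapNatIso (Sw O G))).1 (tensor_shortExact O S hS hF G)

theorem flat_mid (S : ShortComplex (ModSite.Mod O)) (hS : S.ShortExact)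
    (h₁ : ModSite.IsFlat S.X₁) (h₃ : ModSite.IsFlat S.X₃) : ModSite.IsFlat S.X₂ := by
  apply isFlat_of_preservesMono
  intro M' M f hf
  let B := ModSite.tensorBi O
  have hR' := tensor_shortExact' O S hS h₃ M'
  have hR := tensor_shortExact' O S hS h₃ M
  let φ : S.map (B.obj M') ⟶ S.map (B.obj M) := S.mapNatTrans (B.map f)
  have := hR'.mono_f
  have := hR.mono_f
  have m1 : Mono φ.τ₁ := mono_of_isFlat O S.X₁ h₁ f
  have m3 : Mono φ.τ₃ := mono_of_isFlat O S.X₃ h₃ f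
  exact ShortComplex.mono_τ₂_of_exact_of_mono φ hR'.exact

theorem flat_left (S : ShortComplex (ModSite.Mod O)) (hS : S.ShortExact)
    (h₂ : ModSite.IsFlat S.X₂) (h₃ : ModSite.IsFlat S.X₃) : ModSite.IsFlat S.X₁ := by
  apply isFlat_of_preservesMono
  intro M' M f hf
  let B := ModSite.tensorBi O
  have hR' := tensor_shortExact' O S hS h₃ M'
  have hR := tensor_shortExact' O S hS h₃ M
  let φ : S.map (B.obj M') ⟶ S.map (B.obj M) := S.mapNatTrans (B.map f)
  have m0 : Mono (S.map (B.obj M')).f := hR'.mono_f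
  have m2 : Mono φ.τ₂ := mono_of_isFlat O S.X₂ h₂ f
  have h : Mono (φ.τ₁ ≫ (S.map (B.obj M)).f) := by
    rw [φ.comm₁₂]
    infer_instance
  exact mono_of_mono φ.τ₁ (S.map (B.obj M)).f

end Groth.Agent.Lib.helper10.Flat2
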