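import Mathlib
import Groth.Agent.Lib.helper10.CechTA

namespace Groth.Agent.Lib.helper10.InjModTA
open CategoryTheory Limits Opposite Abelian
open scoped Simplicial
open Groth.Agent.Lib.helper10.CechSec Groth.Agent.Lib.helper10.CechRes Groth.Agent.Lib.helper10

universe u

variable {C : Type u} [SmallCategory C] {J : GrothendieckTopology C}

section fin
variable {K' K : Sheaf J (Type u)} (f : K' ⟶ K) (W : C) (R : Type u) [Ring R]

/-- alternating sum of faces on finitely supported functions -/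
noncomputable def DnR (n : ℕ) : (A f W (n + 1) →₀ R) →+ (A f W n →₀ R) :=
  ∑ i : Fin (n + 2), ((-1 : ℤ) ^ (i : ℕ)) • Finsupp.mapDomain.addMonoidHom (face f W n i)

lemma DnR_single (n : ℕ) (x : A f W (n + 1)) (r : R) :
    DnR f W R n (Finsupp.single x r) =
      ∑ i : Fin (n + 2), ((-1 : ℤ) ^ (i : ℕ)) • Finsupp.single (face f W n i x) r := by
  simp only [DnR, AddMonoidHom.finsetSum_apply, AddMonoidHom.smul_apply,
    Finsupp.mapDomain.addMonoidHom_apply, Finsupp.mapDomain_single]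

section htpy
variable [Nonempty (K'.obj.obj (op W))]

noncomputable def HnR (n : ℕ) : (A f W n →₀ R) →+ (A f W (n + 1) →₀ R) :=
  Finsupp.mapDomain.addMonoidHom (hh f W n)

lemma D_H_R (n : ℕ) : (DnR f W R (n + 1)).comp (HnR f W R (n + 1)) =
    AddMonoidHom.id _ - (HnR f W R n).comp (DnR f W R n) := by
  apply Finsupp.addHom_ext
  intro x r
  simp only [AddMonoidHom.comp_apply, AddMonoidHom.sub_apply, AddMonoidHom.id_apply, HnR,
    Finsupp.mapDomain.addMonoidHom_apply, Finsupp.mapDomain_single, DnR_single, map_sum, map_zsmul]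
  rw [Fin.sum_univ_succ]
  simp only [Fin.val_zero, pow_zero, one_smul, face_zero_hh, Fin.val_succ, pow_succ, face_succ_hh]
  rw [sub_eq_add_neg, ← Finset.sum_neg_distrib]
  congr 1
  apply Finset.sum_congr rfl
  intro i _
  rw [mul_neg, mul_one, neg_smul]

end htpy

lemma exact_succ_R (n : ℕ) (y : A f W (n + 1) →₀ R) (hy : DnR f W R n y = 0) :
    ∃ z, DnR f W R (n + 1) z = y := by
  by_cases hne : Nonempty (K'.obj.obj (op W))
  · refine ⟨HnR f W R (n + 1) y, ?_⟩
    have h := DFunLike.congr_fun (D_H_R f W R n) y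
    simp only [AddMonoidHom.comp_apply, AddMonoidHom.sub_apply, AddMonoidHom.id_apply] at h
    rw [h, hy, map_zero, sub_zero]
  · have : IsEmpty (A f W (n + 1)) := ⟨fun x => hne ⟨pr f W (n + 1) 0 x⟩⟩
    exact ⟨0, by rw [map_zero]; exact (Subsingleton.elim _ _)⟩

end fin


section mod
variable (R₀ : Cᵒᵖ ⥤ RingCat.{u})

variable (J) in
noncomputable abbrev G₃ : Sheaf J (Type u) ⥤ PresheafOfModules.{u} R₀ :=
  sheafToPresheaf J (Type u) ⋙ PresheafOfModules.free R₀

variable {K' K : Sheaf J (Type u)} (f : K' ⟶ K)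

noncomputable abbrev NM : SimplicialObject.Augmented (PresheafOfModules.{u} R₀) :=
  ((SimplicialObject.Augmented.whiskering _ _).obj (G₃ J R₀)).obj (Arrow.mk f).augmentedCechNerve

noncomputable abbrev CxM : ChainComplex (PresheafOfModules.{u} R₀) ℕ :=
  (AlgebraicTopology.alternatingFaceMapComplex _).obj (NM R₀ f).left

lemma CxM_d (n : ℕ) : (CxM R₀ f).d (n + 1) n =
    AlgebraicTopology.AlternatingFaceMapComplex.objD (NM R₀ f).left n :=
  AlgebraicTopology.alternatingFaceMapComplex_obj_d _ _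

variable (W : C)

lemma eval_objD_M (n : ℕ) (y : A f W (n + 1) →₀ (R₀.obj (op W))) :
    (((PresheafOfModules.toPresheaf R₀).map
      (AlgebraicTopology.AlternatingFaceMapComplex.objD (NM R₀ f).left n)).app (op W)).hom y =
      DnR f W (R₀.obj (op W)) n y := by
  simp only [AlgebraicTopology.AlternatingFaceMapComplex.objD, Functor.map_sum, Functor.map_zsmul,
    NatTrans.app_sum, NatTrans.app_zsmul]
  have h1 : ∀ {M N : AddCommGrpCat.{u}} {ι : Type} (s : Finset ι) (g : ι → (M ⟶ N)),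
      (∑ x ∈ s, g x).hom = ∑ x ∈ s, (g x).hom := by
    intro M N ι s g
    exact map_sum (AddCommGrpCat.homAddEquiv (M := M) (N := N)) g s
  rw [h1]
  simp only [AddCommGrpCat.hom_zsmul]
  rfl


lemma modM_exact_succ (n : ℕ) : ((CxM R₀ f).sc' (n + 2) (n + 1) n).Exact := by
  rw [← ShortComplex.exact_map_iff_of_faithful _ (PresheafOfModules.toPresheaf R₀)]
  apply exact_of_eval
  intro W
  induction W using Opposite.rec with | _ W => ?_
  rw [ShortComplex.ab_exact_iff]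
  intro y hy
  obtain ⟨y', rfl⟩ : ∃ y' : A f W (n + 1) →₀ (R₀.obj (op W)), y' = y := ⟨y, rfl⟩
  have hy' : (((PresheafOfModules.toPresheaf R₀).map ((CxM R₀ f).d (n + 1) n)).app (op W)).hom y' = 0 := hy
  rw [CxM_d] at hy'
  have hy'' : DnR f W (R₀.obj (op W)) n y' = 0 := (eval_objD_M R₀ f W n y').symm.trans hy'
  obtain ⟨z, hz⟩ := exact_succ_R f W (R₀.obj (op W)) n y' hy''
  refine ⟨z, ?_⟩
  have hz' : (((PresheafOfModules.toPresheaf R₀).map ((CxM R₀ f).d (n + 2) (n + 1))).app (op W)).hom z = y' := by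
    rw [CxM_d]
    exact (eval_objD_M R₀ f W (n + 1) z).trans hz
  exact hz'

end mod


section cmp
variable (R₀ : Cᵒᵖ ⥤ RingCat.{u})

noncomputable abbrev adjC : (Functor.whiskeringRight Cᵒᵖ _ _).obj AddCommGrpCat.free.{u} ⊣
    (Functor.whiskeringRight Cᵒᵖ _ _).obj (forget AddCommGrpCat.{u}) :=
  AddCommGrpCat.adj.{u}.whiskerRight Cᵒᵖ

/-- the comparison bijection `Hom_{R₀}(R₀[P], M) ≃ Hom_{ℤ}(ℤ[P], M)` -/
noncomputable def cc (P : Cᵒᵖ ⥤ Type u) (M : PresheafOfModules.{u} R₀) :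
    ((PresheafOfModules.free R₀).obj P ⟶ M) ≃
      ((P ⋙ AddCommGrpCat.free.{u}) ⟶ (PresheafOfModules.toPresheaf R₀).obj M) :=
  ((PresheafOfModules.freeAdjunction R₀).homEquiv P M).trans
    ((adjC (C := C)).homEquiv P ((PresheafOfModules.toPresheaf R₀).obj M)).symm

lemma cc_nat_left {P P' : Cᵒᵖ ⥤ Type u} (g : P ⟶ P') (M : PresheafOfModules.{u} R₀)
    (ψ : (PresheafOfModules.free R₀).obj P' ⟶ M) :
    cc R₀ P M ((PresheafOfModules.free R₀).map g ≫ ψ) =
      Functor.whiskerRight g AddCommGrpCat.free.{u} ≫ cc R₀ P' M ψ := by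
  unfold cc
  simp only [Equiv.trans_apply]
  rw [Adjunction.homEquiv_naturality_left, Adjunction.homEquiv_naturality_left_symm]
  rfl

lemma cc_nat_right (P : Cᵒᵖ ⥤ Type u) {M M' : PresheafOfModules.{u} R₀}
    (ψ : (PresheafOfModules.free R₀).obj P ⟶ M) (h : M ⟶ M') :
    cc R₀ P M' (ψ ≫ h) = cc R₀ P M ψ ≫ (PresheafOfModules.toPresheaf R₀).map h := by
  unfold cc
  simp only [Equiv.trans_apply]
  rw [Adjunction.homEquiv_naturality_right]
  exact Adjunction.homEquiv_naturality_right_symm _ _ _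

lemma cc_eq (P : Cᵒᵖ ⥤ Type u) (M : PresheafOfModules.{u} R₀)
    (ψ : (PresheafOfModules.free R₀).obj P ⟶ M) :
    cc R₀ P M ψ = cc R₀ P _ (𝟙 _) ≫ (PresheafOfModules.toPresheaf R₀).map ψ := by
  rw [← cc_nat_right, Category.id_comp]

lemma cc_add (P : Cᵒᵖ ⥤ Type u) (M : PresheafOfModules.{u} R₀)
    (ψ ψ' : (PresheafOfModules.free R₀).obj P ⟶ M) :
    cc R₀ P M (ψ + ψ') = cc R₀ P M ψ + cc R₀ P M ψ' := by
  rw [cc_eq R₀ P M ψ, cc_eq R₀ P M ψ', cc_eq R₀ P M (ψ + ψ'), Functor.map_add,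
    Preadditive.comp_add]

noncomputable def ccAdd (P : Cᵒᵖ ⥤ Type u) (M : PresheafOfModules.{u} R₀) :
    ((PresheafOfModules.free R₀).obj P ⟶ M) ≃+
      ((P ⋙ AddCommGrpCat.free.{u}) ⟶ (PresheafOfModules.toPresheaf R₀).obj M) :=
  { cc R₀ P M with map_add' := cc_add R₀ P M }

end cmp


section lift
variable (R₀ : Cᵒᵖ ⥤ RingCat.{u}) {K' K : Sheaf J (Type u)} (f : K' ⟶ K)

/-- the presheaf of sets in degree `n` of the Čech nerve -/
noncomputable abbrev Pn (n : ℕ) : Cᵒᵖ ⥤ Type u := ((X f).obj (op ⦋n⦌)).obj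

lemma cc_sum {P P' : Cᵒᵖ ⥤ Type u} {ι : Type} (s : Finset ι) (a : ι → ℤ) (g : ι → (P ⟶ P'))
    (M : PresheafOfModules.{u} R₀) (ψ : (PresheafOfModules.free R₀).obj P' ⟶ M) :
    cc R₀ P M ((∑ i ∈ s, a i • (PresheafOfModules.free R₀).map (g i)) ≫ ψ) =
      (∑ i ∈ s, a i • Functor.whiskerRight (g i) AddCommGrpCat.free.{u}) ≫ cc R₀ P' M ψ := by
  rw [Preadditive.sum_comp, Preadditive.sum_comp]
  have h1 := map_sum (ccAdd R₀ P M)
    (fun i => (a i • (PresheafOfModules.free R₀).map (g i)) ≫ ψ) s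
  refine h1.trans ?_
  apply Finset.sum_congr rfl
  intro i _
  rw [Preadditive.zsmul_comp, Preadditive.zsmul_comp, map_zsmul]
  congr 1
  exact cc_nat_left R₀ (g i) M ψ

lemma cc_d (n : ℕ) (M : PresheafOfModules.{u} R₀) (ψ : (PresheafOfModules.free R₀).obj (Pn f n) ⟶ M) :
    cc R₀ (Pn f (n + 1)) M ((CxM R₀ f).d (n + 1) n ≫ ψ) =
      (CxPre f).d (n + 1) n ≫ cc R₀ (Pn f n) M ψ := by
  rw [CxM_d, CxPre_d]
  exact cc_sum R₀ Finset.univ (fun i : Fin (n + 2) => (-1 : ℤ) ^ (i : ℕ))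
    (fun i => ((X f).δ i).hom) M ψ

/-- the presheaf-level lifting property for an injective presheaf of modules -/
lemma preLift (M : PresheafOfModules.{u} R₀) [Injective M] (q : ℕ)
    (φ : (CxPre f).X (q + 1) ⟶ (PresheafOfModules.toPresheaf R₀).obj M)
    (hφ : (CxPre f).d (q + 2) (q + 1) ≫ φ = 0) :
    ∃ χ : (CxPre f).X q ⟶ (PresheafOfModules.toPresheaf R₀).obj M,
      (CxPre f).d (q + 1) q ≫ χ = φ := by
  obtain ⟨ψ, hψ⟩ := (cc R₀ (Pn f (q + 1)) M).surjective φ
  have h1 : (CxM R₀ f).d (q + 2) (q + 1) ≫ ψ = 0 := by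
    apply (cc R₀ (Pn f (q + 2)) M).injective
    refine (cc_d R₀ f (q + 1) M ψ).trans ?_
    rw [hψ, hφ]
    exact (map_zero (ccAdd R₀ (Pn f (q + 2)) M)).symm
  have hex := modM_exact_succ R₀ f q
  obtain ⟨ψ', hψ'⟩ : ∃ ψ' : (PresheafOfModules.free R₀).obj (Pn f q) ⟶ M,
      (CxM R₀ f).d (q + 1) q ≫ ψ' = ψ :=
    ⟨hex.descToInjective ψ h1, hex.comp_descToInjective ψ h1⟩
  refine ⟨cc R₀ (Pn f q) M ψ', ?_⟩
  refine (cc_d R₀ f q M ψ').symm.trans ?_
  exact (congrArg (cc R₀ (Pn f (q + 1)) M) hψ').trans hψ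

end lift


section sheaf
variable (R : Sheaf J RingCat.{u}) (I : SheafOfModules.{u} R)

noncomputable abbrev Ip : PresheafOfModules.{u} R.obj :=
  (SheafOfModules.forget R ⋙ PresheafOfModules.restrictScalars (𝟙 R.obj)).obj I

instance [Injective I] : Injective (Ip R I) :=
  Injective.injective_of_adjoint (PresheafOfModules.sheafificationAdjunction (𝟙 R.obj)) I

theorem cechLift_mod [Injective I] {K' K : Sheaf J (Type u)} (f : K' ⟶ K) :
    CechTA.CechLift ((SheafOfModules.toSheaf R).obj I) f := by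
  intro q φ hφ
  obtain ⟨φ', hφ'⟩ : ∃ φ' : (CxPre f).X (q + 1) ⟶ (PresheafOfModules.toPresheaf R.obj).obj (Ip R I),
      φ' = (sheafificationAdjunction J AddCommGrpCat.{u}).homEquiv _
        ((SheafOfModules.toSheaf R).obj I) φ := ⟨_, rfl⟩
  have h1 : (CxPre f).d (q + 2) (q + 1) ≫ φ' = 0 := by
    have h2 := (sheafificationAdjunction J AddCommGrpCat.{u}).homEquiv_naturality_left
      ((CxPre f).d (q + 2) (q + 1)) φ
    have h3 : (G₂ J).map ((CxPre f).d (q + 2) (q + 1)) ≫ φ = 0 := (Cx_d f (q + 1)) ▸ hφ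
    rw [hφ']
    refine h2.symm.trans ?_
    refine (congrArg _ h3).trans ?_
    exact Adjunction.homAddEquiv_zero _ _ _
  obtain ⟨χ', hχ'⟩ := preLift R.obj f (Ip R I) q φ' h1
  refine ⟨((sheafificationAdjunction J AddCommGrpCat.{u}).homEquiv _
        ((SheafOfModules.toSheaf R).obj I)).symm χ', ?_⟩
  have h4 := (sheafificationAdjunction J AddCommGrpCat.{u}).homEquiv_naturality_left_symm
      (Y := (SheafOfModules.toSheaf R).obj I) ((CxPre f).d (q + 1) q) χ'
  have h5 : (Cx f).d (q + 1) q ≫ ((sheafificationAdjunction J AddCommGrpCat.{u}).homEquiv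
      ((CxPre f).X q) ((SheafOfModules.toSheaf R).obj I)).symm χ' =
      (presheafToSheaf J AddCommGrpCat.{u}).map ((CxPre f).d (q + 1) q) ≫
      ((sheafificationAdjunction J AddCommGrpCat.{u}).homEquiv ((CxPre f).X q)
        ((SheafOfModules.toSheaf R).obj I)).symm χ' := by
    rw [Cx_d f q]
    rfl
  refine h5.trans ?_
  refine h4.symm.trans ?_
  exact (congrArg ((sheafificationAdjunction J AddCommGrpCat.{u}).homEquiv ((CxPre f).X (q + 1))
    ((SheafOfModules.toSheaf R).obj I)).symm (hχ'.trans hφ')).trans (Equiv.symm_apply_apply _ _)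


/-- an injective sheaf of modules has totally acyclic underlying abelian sheaf -/
theorem injMod_TA [Injective I] : CohCx.IsTotallyAcyclic ((SheafOfModules.toSheaf R).obj I) := by
  apply CechTA.main12106
  intro K' K f _ q
  exact CechTA.isZero_of_cechLift _ f (cechLift_mod R I f) q

end sheaf

end Groth.Agent.Lib.helper10.InjModTA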