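import Mathlib
import Groth.Agent.Lib.helper10.InjModTA
import Groth.Agent.Lib.helper10.ExtCmp
import Groth.Agent.Lib.helper10.ModColim

namespace Groth.Agent.Lib.helper10.ModExt
open CategoryTheory Limits Opposite Abelian
open Groth.Agent.Lib.helper10

universe u

variable {C : Type u} [SmallCategory C] {J : GrothendieckTopology C}
  (R : Sheaf J RingCat.{u}) (K : Sheaf J (Type u))

noncomputable abbrev XR : SheafOfModules.{u} R :=
  (PresheafOfModules.sheafification (𝟙 R.obj)).obj ((PresheafOfModules.free R.obj).obj K.obj)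

noncomputable abbrev YZ : Sheaf J AddCommGrpCat.{u} :=
  (presheafToSheaf J AddCommGrpCat.{u}).obj (K.obj ⋙ AddCommGrpCat.free.{u})

instance : (PresheafOfModules.sheafification (𝟙 R.obj)).Additive :=
  (PresheafOfModules.sheafificationAdjunction (𝟙 R.obj)).left_adjoint_additive

noncomputable def τ (M : SheafOfModules.{u} R) :
    (XR R K ⟶ M) ≃+ (YZ K ⟶ (SheafOfModules.toSheaf R).obj M) :=
  ((PresheafOfModules.sheafificationAdjunction (𝟙 R.obj)).homAddEquiv _ M).trans
   ((InjModTA.ccAdd R.obj K.obj (InjModTA.Ip R M)).trans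
     ((sheafificationAdjunction J AddCommGrpCat.{u}).homAddEquiv (K.obj ⋙ AddCommGrpCat.free.{u})
        ((SheafOfModules.toSheaf R).obj M)).symm)

lemma τ_nat {M M' : SheafOfModules.{u} R} (a : XR R K ⟶ M) (g : M ⟶ M') :
    τ R K M' (a ≫ g) = τ R K M a ≫ (SheafOfModules.toSheaf R).map g := by
  have h1 : (PresheafOfModules.sheafificationAdjunction (𝟙 R.obj)).homEquiv _ M' (a ≫ g) =
      (PresheafOfModules.sheafificationAdjunction (𝟙 R.obj)).homEquiv _ M a ≫
        (SheafOfModules.forget R ⋙ PresheafOfModules.restrictScalars (𝟙 R.obj)).map g :=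
    Adjunction.homEquiv_naturality_right _ _ _
  have h2 := InjModTA.cc_nat_right R.obj K.obj
    ((PresheafOfModules.sheafificationAdjunction (𝟙 R.obj)).homEquiv _ M a)
    ((SheafOfModules.forget R ⋙ PresheafOfModules.restrictScalars (𝟙 R.obj)).map g)
  have h3 := (sheafificationAdjunction J AddCommGrpCat.{u}).homEquiv_naturality_right_symm
    (X := K.obj ⋙ AddCommGrpCat.free.{u}) (Y := (SheafOfModules.toSheaf R).obj M)
    (Y' := (SheafOfModules.toSheaf R).obj M')
    (InjModTA.cc R.obj K.obj (InjModTA.Ip R M)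
      ((PresheafOfModules.sheafificationAdjunction (𝟙 R.obj)).homEquiv _ M a))
    ((SheafOfModules.toSheaf R).map g)
  refine Eq.trans ?_ h3
  refine congrArg ((sheafificationAdjunction J AddCommGrpCat.{u}).homEquiv
    (K.obj ⋙ AddCommGrpCat.free.{u}) ((SheafOfModules.toSheaf R).obj M')).symm ?_
  exact (congrArg (InjModTA.cc R.obj K.obj (InjModTA.Ip R M')) h1).trans h2

theorem main [HasExt.{u} (SheafOfModules.{u} R)] (F : SheafOfModules.{u} R) (p : ℕ) :
    Nonempty (Ext (XR R K) F p ≃+ CohCx.HK K ((SheafOfModules.toSheaf R).obj F) p) := by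
  have := ModColim.enoughInjectives R
  have : PreservesFiniteColimits (SheafOfModules.toSheaf.{u} R) := by
    have := ModColim.toSheaf_preservesColimits R
    exact PreservesColimitsOfSize.preservesFiniteColimits.{u, u} _
  refine ExtCmp.main (SheafOfModules.toSheaf.{u} R) (XR R K) (YZ K) (τ R K)
    (fun a g => τ_nat R K a g) ?_ p F
  intro I _ p x
  exact (InjModTA.injMod_TA R I K p).elim x 0

end Groth.Agent.Lib.helper10.ModExt
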