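import Mathlib
import Groth.Prelude.Def_ModSite
import Groth.Agent.Lib.helper10.Flat2
import Groth.Agent.Lib.helper10.ModExt

namespace Groth.Agent.Lib.helper10.HomTA
open CategoryTheory Limits Opposite Abelian
open Groth.Agent.Lib.helper10.TensCore Groth.Agent.Lib.helper10.TensAdj
open Groth.Agent.Lib.helper10.Flat1 Groth.Agent.Lib.helper10.Flat2

universe u

section general
variable {A : Type*} [Category A] [Abelian A] [HasExt A] [EnoughInjectives A]

/-- every Ext class of positive degree is killed by pulling back along some epimorphism -/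
lemma exists_epi_kill : ∀ (n : ℕ) (X Y : A) (x : Ext X Y (n + 1)),
    ∃ (X' : A) (π : X' ⟶ X), Epi π ∧ (Ext.mk₀ π).comp x (zero_add _) = 0 := by
  intro n
  induction n with
  | zero =>
    intro X Y x
    let S : ShortComplex A := ShortComplex.mk (Injective.ι Y) (cokernel.π (Injective.ι Y))
      (cokernel.condition _)
    have hS : S.ShortExact :=
      { exact := ShortComplex.exact_cokernel _
        mono_f := inferInstanceAs (Mono (Injective.ι Y))
        epi_g := inferInstanceAs (Epi (cokernel.π (Injective.ι Y))) }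
    have hx : x.comp (Ext.mk₀ S.f) (add_zero 1) = 0 :=
      @Ext.eq_zero_of_injective _ _ _ _ _ _ _ (inferInstanceAs (Injective (Injective.under Y))) _
    obtain ⟨x₃, hx₃⟩ := Ext.covariant_sequence_exact₁ X hS x hx (zero_add 1)
    obtain ⟨s, rfl⟩ := (Ext.mk₀_bijective _ _).2 x₃
    have : Epi S.g := hS.epi_g
    refine ⟨pullback s S.g, pullback.fst s S.g, inferInstance, ?_⟩
    rw [← hx₃]
    exact Groth.Agent.Lib.helper10.EpiKill.K2 hS (pullback.fst s S.g) s (pullback.snd s S.g)
      pullback.condition.symm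
  | succ m ih =>
    intro X Y x
    let S : ShortComplex A := ShortComplex.mk (Injective.ι Y) (cokernel.π (Injective.ι Y))
      (cokernel.condition _)
    have hS : S.ShortExact :=
      { exact := ShortComplex.exact_cokernel _
        mono_f := inferInstanceAs (Mono (Injective.ι Y))
        epi_g := inferInstanceAs (Epi (cokernel.π (Injective.ι Y))) }
    have hx : x.comp (Ext.mk₀ S.f) (add_zero _) = 0 :=
      @Ext.eq_zero_of_injective _ _ _ _ _ _ _ (inferInstanceAs (Injective (Injective.under Y))) _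
    obtain ⟨x₃, hx₃⟩ := Ext.covariant_sequence_exact₁ X hS x hx (rfl : (m + 1) + 1 = m + 1 + 1)
    obtain ⟨X', π, hπ, h⟩ := ih X S.X₃ x₃
    refine ⟨X', π, hπ, ?_⟩
    rw [← hx₃, ← Ext.comp_assoc _ _ _ (zero_add _) rfl (by omega), h, Ext.zero_comp]

end general


variable {C : Type u} [SmallCategory C] {J : GrothendieckTopology C} (O : Sheaf J CommRingCat.{u})

section
variable (F G : ModSite.Mod O) [ModSite.HasSheafHom F] [Injective G]

/-- maps to `Hom_O(F, G)` extend along monomorphisms with flat cokernel -/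
lemma extend (S : ShortComplex (ModSite.Mod O)) (hS : S.ShortExact) (hA : ModSite.IsFlat S.X₃)
    (y : S.X₁ ⟶ (ModSite.sheafHom F).obj G) :
    ∃ y' : S.X₂ ⟶ (ModSite.sheafHom F).obj G, S.f ≫ y' = y := by
  let adj := ModSite.sheafHomAdj F
  have hm : Mono ((T O F).map S.f) := mono_tensor_of_flat_right O S hS hA F
  let z : (T O F).obj S.X₁ ⟶ G := (adj.homEquiv _ _).symm y
  refine ⟨adj.homEquiv _ _ (Injective.factorThru z ((T O F).map S.f)), ?_⟩
  rw [← adj.homEquiv_naturality_left, Injective.comp_factorThru, Equiv.apply_symm_apply]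

variable [HasExt.{u} (ModSite.Mod O)]

lemma setup (n : ℕ) (A : ModSite.Mod O) (hA : ModSite.IsFlat A)
    (x : Ext A ((ModSite.sheafHom F).obj G) (n + 1)) :
    ∃ (L : ModSite.Mod O) (π : L ⟶ A), Epi π ∧ ModSite.IsFlat L ∧
      (Ext.mk₀ π).comp x (zero_add _) = 0 := by
  have := Groth.Agent.Lib.helper10.ModColim.enoughInjectives (ModSite.ringSh O)
  obtain ⟨X', π, hπ, h⟩ := exists_epi_kill n A _ x
  obtain ⟨L, ρ, hL, hρ⟩ := exists_flat_epi O X'
  refine ⟨L, ρ ≫ π, epi_comp _ _, hL, ?_⟩
  rw [← Ext.mk₀_comp_mk₀, Ext.comp_assoc _ _ _ (zero_add 0) (zero_add _) (by omega), h,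
    Ext.comp_zero]

theorem ext_flat_vanish : ∀ (q : ℕ) (A : ModSite.Mod O), ModSite.IsFlat A →
    ∀ x : Ext A ((ModSite.sheafHom F).obj G) (q + 1), x = 0 := by
  intro q
  induction q with
  | zero =>
    intro A hA x
    obtain ⟨L, π, hπ, hL, hx⟩ := setup O F G 0 A hA x
    let S : ShortComplex (ModSite.Mod O) := ShortComplex.mk (kernel.ι π) π (kernel.condition π)
    have hS : S.ShortExact :=
      { exact := ShortComplex.exact_kernel π
        mono_f := inferInstanceAs (Mono (kernel.ι π))
        epi_g := hπ }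
    obtain ⟨x₁, hx₁⟩ := Ext.contravariant_sequence_exact₃ hS _ x hx (add_zero 1)
    obtain ⟨y, rfl⟩ := (Ext.mk₀_bijective _ _).2 x₁
    obtain ⟨y', hy'⟩ := extend O F G S hS hA y
    rw [← hx₁, ← hy', ← Ext.mk₀_comp_mk₀]
    exact hS.extClass_comp_assoc _
  | succ m ih =>
    intro A hA x
    obtain ⟨L, π, hπ, hL, hx⟩ := setup O F G (m + 1) A hA x
    let S : ShortComplex (ModSite.Mod O) := ShortComplex.mk (kernel.ι π) π (kernel.condition π)
    have hS : S.ShortExact :=
      { exact := ShortComplex.exact_kernel π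
        mono_f := inferInstanceAs (Mono (kernel.ι π))
        epi_g := hπ }
    have hK : ModSite.IsFlat S.X₁ := flat_left O S hS hL hA
    obtain ⟨x₁, hx₁⟩ := Ext.contravariant_sequence_exact₃ hS _ x hx
      (show 1 + (m + 1) = m + 1 + 1 by omega)
    rw [← hx₁, ih S.X₁ hK x₁, Ext.comp_zero]

end


theorem sheafHom_TA (F G : ModSite.Mod O) [ModSite.HasSheafHom F] [Injective G] :
    CohCx.IsTotallyAcyclic (ModSite.toAb ((ModSite.sheafHom F).obj G)) := by
  have := Groth.Agent.Lib.helper10.ModColim.enoughInjectives (ModSite.ringSh O)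
  haveI : HasExt.{u} (ModSite.Mod O) := hasExt_of_enoughInjectives _
  intro K p
  obtain ⟨e⟩ := Groth.Agent.Lib.helper10.ModExt.main (ModSite.ringSh O) K
    ((ModSite.sheafHom F).obj G) (p + 1)
  have hflat : ModSite.IsFlat (Groth.Agent.Lib.helper10.ModExt.XR (ModSite.ringSh O) K) :=
    isFlat_free O K.obj
  constructor
  intro a b
  apply e.symm.injective
  rw [ext_flat_vanish O F G p _ hflat (e.symm a), ext_flat_vanish O F G p _ hflat (e.symm b)]

end Groth.Agent.Lib.helper10.HomTA
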