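import Mathlib
import Groth.Agent.Lib.helper10.ModExt

namespace Groth.Agent.Lib.helper10.ModExt0
open CategoryTheory Limits Opposite Abelian
open Groth.Agent.Lib.helper10

universe w w' v v' u u'

section gen
variable {A : Type u} [Category.{v} A] [Abelian A]
  {B : Type u'} [Category.{v'} B] [Abelian B]
  (G : A ⥤ B) [G.Additive] (X : A) (Y : B) (τ : ∀ M : A, (X ⟶ M) ≃ (Y ⟶ G.obj M))
  (hτ : ∀ {M M' : A} (a : X ⟶ M) (g : M ⟶ M'), τ M' (a ≫ g) = τ M a ≫ G.map g)

include hτ in
/-- a natural bijection `Hom(X, -) ≃ Hom(Y, G -)` with `G` additive is additive -/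
lemma add_of_nat (M : A) (a a' : X ⟶ M) : τ M (a + a') = τ M a + τ M a' := by
  have h1 : a + a' = biprod.lift a a' ≫ (biprod.fst + biprod.snd) := by
    rw [Preadditive.comp_add, biprod.lift_fst, biprod.lift_snd]
  rw [h1, hτ, G.map_add, Preadditive.comp_add, ← hτ, ← hτ, biprod.lift_fst, biprod.lift_snd]

/-- the additive version -/
noncomputable def τAdd (M : A) : (X ⟶ M) ≃+ (Y ⟶ G.obj M) :=
  { τ M with map_add' := add_of_nat G X Y τ hτ M }

end gen

section iso
variable {A : Type u} [Category.{v} A] [Abelian A] [HasExt.{w} A]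

/-- Ext is invariant under isomorphism in the first variable -/
noncomputable def extIso {X X' : A} (e : X ≅ X') (M : A) (n : ℕ) : Ext X M n ≃+ Ext X' M n :=
  { toFun := fun x => (Ext.mk₀ e.inv).comp x (zero_add n)
    invFun := fun x => (Ext.mk₀ e.hom).comp x (zero_add n)
    left_inv := fun x => by
      simp only
      rw [Ext.mk₀_comp_mk₀_assoc, e.hom_inv_id, Ext.mk₀_id_comp]
    right_inv := fun x => by
      simp only
      rw [Ext.mk₀_comp_mk₀_assoc, e.inv_hom_id, Ext.mk₀_id_comp]
    map_add' := fun x y => Ext.comp_add _ _ _ _ }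

end iso


section unit
variable {C : Type u} [SmallCategory C] (J : GrothendieckTopology C) (R : Sheaf J RingCat.{u})

/-- the terminal sheaf of sets -/
noncomputable abbrev K₀ : Sheaf J (Type u) :=
  ⟨(Functor.const Cᵒᵖ).obj PUnit.{u + 1}, Presheaf.isSheaf_of_isTerminal J Types.isTerminalPUnit⟩

variable {J}

noncomputable def τu (M : SheafOfModules.{u} R) :
    (SheafOfModules.unit R ⟶ M) ≃ (ModExt.YZ (K₀ J) ⟶ (SheafOfModules.toSheaf R).obj M) :=
  (SheafOfModules.unitHomEquiv M).trans
    (((M.val.presheaf ⋙ forget AddCommGrpCat.{u}).sectionsEquivHom PUnit.{u + 1}).trans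
      (((InjModTA.adjC (C := C)).homEquiv ((Functor.const Cᵒᵖ).obj PUnit.{u + 1}) M.val.presheaf).symm.trans
        ((sheafificationAdjunction J AddCommGrpCat.{u}).homEquiv _
          ((SheafOfModules.toSheaf R).obj M)).symm))

lemma τu_nat {M M' : SheafOfModules.{u} R} (a : SheafOfModules.unit R ⟶ M) (g : M ⟶ M') :
    τu R M' (a ≫ g) = τu R M a ≫ (SheafOfModules.toSheaf R).map g := by
  change ((sheafificationAdjunction J AddCommGrpCat.{u}).homEquiv _
      ((SheafOfModules.toSheaf R).obj M')).symm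
    (((InjModTA.adjC (C := C)).homEquiv ((Functor.const Cᵒᵖ).obj PUnit.{u + 1}) M'.val.presheaf).symm
      (((M'.val.presheaf ⋙ forget AddCommGrpCat.{u}).sectionsEquivHom PUnit.{u + 1})
        (SheafOfModules.unitHomEquiv M' (a ≫ g)))) =
    ((sheafificationAdjunction J AddCommGrpCat.{u}).homEquiv _
      ((SheafOfModules.toSheaf R).obj M)).symm
    (((InjModTA.adjC (C := C)).homEquiv ((Functor.const Cᵒᵖ).obj PUnit.{u + 1}) M.val.presheaf).symm
      (((M.val.presheaf ⋙ forget AddCommGrpCat.{u}).sectionsEquivHom PUnit.{u + 1})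
        (SheafOfModules.unitHomEquiv M a))) ≫ (SheafOfModules.toSheaf R).map g
  have h2 := Functor.sectionsEquivHom_naturality
    (Functor.whiskerRight ((SheafOfModules.toSheaf R).map g).hom (forget AddCommGrpCat.{u}))
    PUnit.{u + 1} (SheafOfModules.unitHomEquiv M a)
  have h3 := (InjModTA.adjC (C := C)).homEquiv_naturality_right_symm
    (((M.val.presheaf ⋙ forget AddCommGrpCat.{u}).sectionsEquivHom PUnit.{u + 1})
      (SheafOfModules.unitHomEquiv M a)) ((SheafOfModules.toSheaf R).map g).hom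
  have h4 := (sheafificationAdjunction J AddCommGrpCat.{u}).homEquiv_naturality_right_symm
    (Y := (SheafOfModules.toSheaf R).obj M) (Y' := (SheafOfModules.toSheaf R).obj M')
    (((InjModTA.adjC (C := C)).homEquiv ((Functor.const Cᵒᵖ).obj PUnit.{u + 1}) M.val.presheaf).symm
      (((M.val.presheaf ⋙ forget AddCommGrpCat.{u}).sectionsEquivHom PUnit.{u + 1})
      (SheafOfModules.unitHomEquiv M a))) ((SheafOfModules.toSheaf R).map g)
  refine Eq.trans ?_ h4
  refine congrArg ((sheafificationAdjunction J AddCommGrpCat.{u}).homEquiv _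
          ((SheafOfModules.toSheaf R).obj M')).symm ?_
  refine Eq.trans ?_ h3
  refine congrArg ((InjModTA.adjC (C := C)).homEquiv ((Functor.const Cᵒᵖ).obj PUnit.{u + 1})
    M'.val.presheaf).symm ?_
  exact h2


noncomputable def ez : AddCommGrpCat.free.{u}.obj PUnit.{u + 1} ≅ AddCommGrpCat.of (ULift.{u} ℤ) :=
  AddEquiv.toAddCommGrpIso ((FreeAbelianGroup.uniqueEquiv PUnit.{u + 1}).trans AddEquiv.ulift.symm)

noncomputable def eY : ModExt.YZ (K₀ J) ≅
    (constantSheaf J AddCommGrpCat.{u}).obj (AddCommGrpCat.of (ULift.{u} ℤ)) :=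
  (presheafToSheaf J AddCommGrpCat.{u}).mapIso
    ((Functor.constComp Cᵒᵖ PUnit.{u + 1} AddCommGrpCat.free.{u}).trans
      ((Functor.const Cᵒᵖ).mapIso ez))

theorem main0491 [HasExt.{u} (SheafOfModules.{u} R)] (M : SheafOfModules.{u} R) (n : ℕ) :
    Nonempty (Ext (SheafOfModules.unit R) M n ≃+ Sheaf.H.{u} ((SheafOfModules.toSheaf R).obj M) n) := by
  have := ModColim.enoughInjectives R
  have : PreservesFiniteColimits (SheafOfModules.toSheaf.{u} R) := by
    have := ModColim.toSheaf_preservesColimits R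
    exact PreservesColimitsOfSize.preservesFiniteColimits.{u, u} _
  obtain ⟨e⟩ := ExtCmp.main (SheafOfModules.toSheaf.{u} R) (SheafOfModules.unit R)
    (ModExt.YZ (K₀ J))
    (τAdd (SheafOfModules.toSheaf.{u} R) _ _ (τu R) (fun a g => τu_nat R a g))
    (fun a g => τu_nat R a g)
    (fun I _ p x => (InjModTA.injMod_TA R I (K₀ J) p).elim x 0) n M
  exact ⟨e.trans (extIso eY _ n)⟩

end unit

end Groth.Agent.Lib.helper10.ModExt0
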