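import Mathlib
import Groth.Prelude.Def_ModSite
import Groth.Prelude.Def_ModSite2
import Groth.Agent.Lib.helper10.HomTA
import Groth.Agent.Lib.helper10.ModExt0
import Groth.Agent.Lib.helper18.SSWrap
import Groth.Agent.Lib.helper18.LocCohSS

namespace Groth.Agent.Lib.helper10.LocGlobExt
open CategoryTheory Limits Opposite Abelian MonoidalCategory
open Groth.Agent.Lib.helper10.TensCore Groth.Agent.Lib.helper10.TensAdj
open Groth.Agent.Lib.helper10.Flat1 Groth.Agent.Lib.helper10.Flat2 Groth.Agent.H18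
open Groth.Agent.Lib.helper10

universe u

variable {C : Type u} [SmallCategory C] {J : GrothendieckTopology C} (O : Sheaf J CommRingCat.{u})

theorem isFlat_unit : ModSite.IsFlat (ModSite.unit O) := by
  apply isFlat_of_preservesMono
  intro X Y f hf
  have h3 : Mono ((FG O).map f) := by
    have : (FG O).IsRightAdjoint :=
      (PresheafOfModules.sheafificationAdjunction (𝟙 (ModSite.ringSh O).obj)).isRightAdjoint
    infer_instance
  have h4 : Mono ((FG O).map f ▷ (𝟙_ (PM O))) := by
    have : Mono ((FG O).map f ▷ (𝟙_ (PM O)) ≫ (ρ_ ((FG O).obj Y)).hom) := by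
      rw [rightUnitor_naturality]
      infer_instance
    exact mono_of_mono _ (ρ_ ((FG O).obj Y)).hom
  have : PreservesFiniteLimits (aa O) :=
    inferInstanceAs (PreservesFiniteLimits (ModSite.sheafify O))
  exact (inferInstance : Mono ((aa O).map ((FG O).map f ▷ (𝟙_ (PM O)))))

/-- `O ⊗_O M ≅ M` -/
noncomputable def lam (M : ModSite.Mod O) : (T O M).obj (ModSite.unit O) ≅ M :=
  (aa O).mapIso (λ_ ((FG O).obj M)) ≪≫
    (asIso (PresheafOfModules.sheafificationAdjunction (𝟙 (ModSite.ringSh O).obj)).counit).app M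


section
variable [HasExt.{u} (ModSite.Mod O)] (M : ModSite.Mod O) [ModSite.HasSheafHom M]

/-- `Hom_O(O, ℋom_O(M, N)) ≃+ Hom_O(M, N)` -/
noncomputable def homEq (N : ModSite.Mod O) :
    (ModSite.unit O ⟶ (ModSite.sheafHom M).obj N) ≃+ (M ⟶ N) :=
  ((ModSite.sheafHomAdj M).homAddEquiv (ModSite.unit O) N).symm.trans
    { toFun := fun f => (lam O M).inv ≫ f
      invFun := fun g => (lam O M).hom ≫ g
      left_inv := fun f => by simp
      right_inv := fun g => by simp
      map_add' := fun f f' => by simp }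

noncomputable def homIso : ModSite.sheafHom M ⋙ ExtDer.hF (ModSite.unit O) ≅ ExtDer.hF M :=
  NatIso.ofComponents (fun N => (homEq O M N).toAddCommGrpIso)
    (fun {N N'} g => by
      ext (f : ModSite.unit O ⟶ (ModSite.sheafHom M).obj N)
      change (lam O M).inv ≫ ((ModSite.sheafHomAdj M).homEquiv _ _).symm
          (f ≫ (ModSite.sheafHom M).map g) =
        ((lam O M).inv ≫ ((ModSite.sheafHomAdj M).homEquiv _ _).symm f) ≫ g
      rw [Adjunction.homEquiv_naturality_right_symm, Category.assoc])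

end


theorem localToGlobalZ [HasExt.{u} (ModSite.Mod O)] (M N : ModSite.Mod O) [ModSite.HasSheafHom M]
    [HasInjectiveResolutions (ModSite.Mod O)] (Z : AddCommGrpCat.{u}) (hZ : IsZero Z) :
    ∃ (E : E₂CohomologicalSpectralSequence AddCommGrpCat.{u})
      (a : SpSeq.Abutment E (fun n : ℤ =>
        if 0 ≤ n then AddCommGrpCat.of (Abelian.Ext.{u} M N n.toNat)
        else Z)),
      (∀ n : ℤ, a.IsFinite n) ∧ SpSeq.IsBounded E ∧
      ∀ p q : ℤ, Nonempty ((E.page 2 le_rfl).X (p, q) ≅
        (if 0 ≤ p ∧ 0 ≤ q then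
          AddCommGrpCat.of (ModSite.HC O ((ModSite.extSh M q.toNat).obj N) p.toNat)
          else Z)) := by
  have hT : ∀ Q : ModSite.Mod O, Injective Q → ∀ q : ℕ, 0 < q →
      IsZero (((ExtDer.hF (ModSite.unit O)).rightDerived q).obj ((ModSite.sheafHom M).obj Q)) := by
    intro Q hQ q hq
    obtain ⟨q', rfl⟩ : ∃ q', q = q' + 1 := ⟨q - 1, by omega⟩
    have e := (ExtDer.natIso (ModSite.unit O) (q' + 1)).app ((ModSite.sheafHom M).obj Q)
    refine IsZero.of_iso ?_ e
    have hs : Subsingleton ((extFunctorObj (ModSite.unit O) (q' + 1)).obj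
        ((ModSite.sheafHom M).obj Q)) :=
      ⟨fun a b => (HomTA.ext_flat_vanish O M Q q' _ (isFlat_unit O) a).trans
        (HomTA.ext_flat_vanish O M Q q' _ (isFlat_unit O) b).symm⟩
    exact AddCommGrpCat.isZero_of_subsingleton _
  refine SSWrap.ss_wrap (ModSite.sheafHom M) (ExtDer.hF (ModSite.unit O)) N hT
    Z hZ
    (fun n => AddCommGrpCat.of (Abelian.Ext.{u} M N n))
    (fun p q => AddCommGrpCat.of (ModSite.HC O ((ModSite.extSh M q).obj N) p)) ?_ ?_
  · intro n
    have e1 : ((ModSite.sheafHom M ⋙ ExtDer.hF (ModSite.unit O)).rightDerived n).obj N ≅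
        (extFunctorObj M n).obj N :=
      (ExtDer.rightDerivedIsoOfIso (homIso O M) n).app N ≪≫ (ExtDer.natIso M n).app N
    have e0 : AddCommGrpCat.of (Abelian.Ext.{u} M N n) ≅ (extFunctorObj M n).obj N := Iso.refl _
    exact ⟨e0 ≪≫ e1.symm⟩
  · intro p q
    obtain ⟨e⟩ := ModExt0.main0491 (ModSite.ringSh O) ((ModSite.extSh M q).obj N) p
    have e2 : ((ExtDer.hF (ModSite.unit O)).rightDerived p).obj ((ModSite.extSh M q).obj N) ≅
        (extFunctorObj (ModSite.unit O) p).obj ((ModSite.extSh M q).obj N) :=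
      (ExtDer.natIso (ModSite.unit O) p).app _
    have e0 : AddCommGrpCat.of (ModSite.HC O ((ModSite.extSh M q).obj N) p) ≅
        (extFunctorObj (ModSite.unit O) p).obj ((ModSite.extSh M q).obj N) :=
      e.symm.toAddCommGrpIso
    exact ⟨e0 ≪≫ e2.symm⟩


theorem localToGlobal [HasExt.{u} (ModSite.Mod O)] (M N : ModSite.Mod O) [ModSite.HasSheafHom M]
    [HasInjectiveResolutions (ModSite.Mod O)] :
    ∃ (E : E₂CohomologicalSpectralSequence AddCommGrpCat.{u})
      (a : SpSeq.Abutment E (fun n : ℤ =>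
        if 0 ≤ n then AddCommGrpCat.of (Abelian.Ext.{u} M N n.toNat)
        else AddCommGrpCat.of PUnit.{u + 1})),
      (∀ n : ℤ, a.IsFinite n) ∧ SpSeq.IsBounded E ∧
      ∀ p q : ℤ, Nonempty ((E.page 2 le_rfl).X (p, q) ≅
        (if 0 ≤ p ∧ 0 ≤ q then
          AddCommGrpCat.of (ModSite.HC O ((ModSite.extSh M q.toNat).obj N) p.toNat)
          else AddCommGrpCat.of PUnit.{u + 1})) :=
  localToGlobalZ O M N _ (AddCommGrpCat.isZero_of_subsingleton _)

end Groth.Agent.Lib.helper10.LocGlobExt
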