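import Mathlib
import Groth.Agent.Lib.helper10.ExtZ
import Groth.Agent.Lib.helper10.Flat1

open CategoryTheory Opposite Limits
open Groth.Agent.Lib.helper10.ExtZ
open Groth.Agent.Lib.helper10.TensCore Groth.Agent.Lib.helper10.TensAdj Groth.Agent.Lib.helper10.Flat1

universe u

noncomputable section

namespace Groth.Agent.Lib.helper10.ProjF

variable {C : Type u} [SmallCategory C] (X : C) (Rc : Cᵒᵖ ⥤ CommRingCat.{u})

abbrev RcX : (Over X)ᵒᵖ ⥤ CommRingCat.{u} := (Over.forget X).op ⋙ Rc

abbrev PMc := PresheafOfModules.{u} (Rc ⋙ forget₂ CommRingCat.{u} RingCat.{u})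
abbrev PMX := PresheafOfModules.{u} (RX X (Rc ⋙ forget₂ CommRingCat.{u} RingCat.{u}))

instance : MonoidalCategory (PMX X Rc) :=
  inferInstanceAs (MonoidalCategory
    (PresheafOfModules.{u} (RcX X Rc ⋙ forget₂ CommRingCat.{u} RingCat.{u})))

/-- extension by zero, commutative version -/
def epc : PMX X Rc ⥤ PMc Rc := ep X (Rc ⋙ forget₂ CommRingCat.{u} RingCat.{u})

/-- restriction, commutative version -/
def rpc : PMc Rc ⥤ PMX X Rc := p₀ X (Rc ⋙ forget₂ CommRingCat.{u} RingCat.{u})

variable {X Rc}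
variable (P : PMX X Rc) (N : PMc Rc)

abbrev RV (Rc : Cᵒᵖ ⥤ CommRingCat.{u}) (V : C) : Type u :=
  (Rc ⋙ forget₂ CommRingCat.{u} RingCat.{u}).obj (op V)

/-- fibres of the tensor product -/
abbrev tP : PMX X Rc := MonoidalCategoryStruct.tensorObj P ((rpc X Rc).obj N)

abbrev FibX (Q : PMX X Rc) (V : C) (φ : V ⟶ X) : Type u :=
  Fib (X := X) (R := Rc ⋙ forget₂ CommRingCat.{u} RingCat.{u}) Q V φ

def fibT {V : C} (φ : V ⟶ X) :
    FibX (tP P N) V φ ≃ₗ[RV Rc V] TensorProduct (RV Rc V) (FibX P V φ) (N.obj (op V)) :=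
  LinearEquiv.refl _ _


abbrev SecX (Q : PMX X Rc) (V : C) : Type u :=
  Sec (X := X) (R := Rc ⋙ forget₂ CommRingCat.{u} RingCat.{u}) Q V

abbrev incX (Q : PMX X Rc) {V : C} (φ : V ⟶ X) : FibX Q V φ →+ SecX Q V :=
  inc (X := X) (R := Rc ⋙ forget₂ CommRingCat.{u} RingCat.{u}) Q φ

/-- pure tensors in the fibre of the tensor product -/
def tm {V : C} (φ : V ⟶ X) (p : FibX P V φ) (n : N.obj (op V)) : FibX (tP P N) V φ :=
  (fibT P N φ).symm (TensorProduct.tmul (RV Rc V) p n)

open Classical in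
/-- the sectionwise isomorphism -/
def eV (V : C) : SecX (tP P N) V ≃ₗ[RV Rc V] TensorProduct (RV Rc V) (SecX P V) (N.obj (op V)) :=
  (DFinsupp.mapRange.linearEquiv (β₁ := fun φ => FibX (tP P N) V φ)
    (β₂ := fun φ => TensorProduct (RV Rc V) (FibX P V φ) (N.obj (op V)))
    (fun φ => fibT P N φ)).trans
    (TensorProduct.directSumLeft (RV Rc V) (RV Rc V) (fun φ => FibX P V φ) (N.obj (op V))).symm

open Classical in
lemma eV_inc_tm {V : C} (φ : V ⟶ X) (p : FibX P V φ) (n : N.obj (op V)) :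
    eV P N V (incX (tP P N) φ (tm P N φ p n)) = TensorProduct.tmul (RV Rc V) (incX P φ p) n := by
  have h1 : (DFinsupp.mapRange.linearEquiv (β₁ := fun φ => FibX (tP P N) V φ)
      (β₂ := fun φ => TensorProduct (RV Rc V) (FibX P V φ) (N.obj (op V)))
      (fun φ => fibT P N φ))
      (incX (tP P N) φ (tm P N φ p n)) =
      DirectSum.lof (RV Rc V) _ (fun φ => TensorProduct (RV Rc V) (FibX P V φ) (N.obj (op V))) φ
        (TensorProduct.tmul (RV Rc V) p n) := by
    refine (DFinsupp.mapRange_single (f := fun φ => fibT P N φ) (hf := fun φ => map_zero _)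
      (i := φ) (b := tm P N φ p n)).trans ?_
    rfl
  refine (congrArg (TensorProduct.directSumLeft (RV Rc V) (RV Rc V) (fun φ => FibX P V φ)
    (N.obj (op V))).symm h1).trans ?_
  exact TensorProduct.directSumLeft_symm_lof_tmul _ _ _ _ _


lemma secT_ext {V : C} {A : Type*} [AddCommMonoid A] (f f' : SecX (tP P N) V →+ A)
    (h : ∀ (φ : V ⟶ X) (p : FibX P V φ) (n : N.obj (op V)),
      f (incX (tP P N) φ (tm P N φ p n)) = f' (incX (tP P N) φ (tm P N φ p n))) : f = f' := by
  apply sec_ext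
  intro φ t
  obtain ⟨t', rfl⟩ : ∃ t', (fibT P N φ).symm t' = t := ⟨fibT P N φ t, (fibT P N φ).symm_apply_apply t⟩
  induction t' using TensorProduct.induction_on with
  | zero => rw [map_zero, map_zero, map_zero, map_zero]
  | tmul p n => exact h φ p n
  | add a b ha hb => rw [map_add, map_add, map_add, map_add, ha, hb]

lemma res_tm {V W : C} (g : W ⟶ V) (φ : V ⟶ X) (p : FibX P V φ) (n : N.obj (op V)) :
    res (tP P N) g φ (tm P N φ p n) = tm P N (g ≫ φ) (res P g φ p) (N.map g.op n) := rfl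


/-- target of the projection formula on presheaves -/
abbrev tQ : PMc Rc := MonoidalCategoryStruct.tensorObj ((epc X Rc).obj P) N

lemma tQ_map_tmul {V W : C} (g : W ⟶ V) (s : SecX P V) (n : N.obj (op V)) :
    (tQ P N).map g.op (TensorProduct.tmul (RV Rc V) s n) =
      TensorProduct.tmul (RV Rc W) (secMap P g s) (N.map g.op n) := rfl

lemma eV_nat {V W : C} (g : W ⟶ V) :
    (AddMonoidHomClass.toAddMonoidHom (eV P N W).toLinearMap).comp (secMap (tP P N) g) =
      (AddMonoidHomClass.toAddMonoidHom ((tQ P N).map g.op).hom).comp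
        (AddMonoidHomClass.toAddMonoidHom (eV P N V).toLinearMap) := by
  apply secT_ext
  intro φ p n
  have h1 : eV P N W (secMap (tP P N) g (incX (tP P N) φ (tm P N φ p n))) =
      TensorProduct.tmul (RV Rc W) (incX P (g ≫ φ) (res P g φ p)) (N.map g.op n) :=
    (congrArg (eV P N W) (secMap_inc (tP P N) g φ (tm P N φ p n))).trans
      (eV_inc_tm P N (g ≫ φ) (res P g φ p) (N.map g.op n))
  have h2 : (tQ P N).map g.op (eV P N V (incX (tP P N) φ (tm P N φ p n))) =
      TensorProduct.tmul (RV Rc W) (incX P (g ≫ φ) (res P g φ p)) (N.map g.op n) :=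
    (congrArg ((tQ P N).map g.op) (eV_inc_tm P N φ p n)).trans
      ((tQ_map_tmul P N g (incX P φ p) n).trans
        (congrArg (fun s => TensorProduct.tmul (RV Rc W) s (N.map g.op n))
          (secMap_inc P g φ p)))
  exact h1.trans h2.symm

/-- the projection formula on presheaves -/
def pf : (epc X Rc).obj (tP P N) ≅ tQ P N :=
  PresheafOfModules.isoMk (fun V => (eV P N V.unop).toModuleIso) (fun V W g => by
    apply ModuleCat.hom_ext
    apply LinearMap.toAddMonoidHom_injective
    exact eV_nat P N g.unop)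


variable {P N} {P' : PMX X Rc} {N' : PMc Rc}

/-- the tensor product of morphisms, source side -/
abbrev tPmap (α : P ⟶ P') (β : N ⟶ N') : tP P N ⟶ tP P' N' :=
  MonoidalCategoryStruct.tensorHom α ((rpc X Rc).map β)

/-- the tensor product of morphisms, target side -/
abbrev tQmap (α : P ⟶ P') (β : N ⟶ N') : tQ P N ⟶ tQ P' N' :=
  MonoidalCategoryStruct.tensorHom ((epc X Rc).map α) β

lemma fibMap_tm (α : P ⟶ P') (β : N ⟶ N') {V : C} (φ : V ⟶ X) (p : FibX P V φ) (n : N.obj (op V)) :
    fibMap (tPmap α β) φ (tm P N φ p n) = tm P' N' φ (fibMap α φ p) (β.app (op V) n) := rfl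

lemma tQmap_tmul (α : P ⟶ P') (β : N ⟶ N') {V : C} (s : SecX P V) (n : N.obj (op V)) :
    (tQmap α β).app (op V) (TensorProduct.tmul (RV Rc V) s n) =
      TensorProduct.tmul (RV Rc V) (secHom α V s) (β.app (op V) n) := rfl

lemma hom_ext_epT {F : PMc Rc} (a b : (epc X Rc).obj (tP P N) ⟶ F)
    (h : ∀ (V : C) (φ : V ⟶ X) (p : FibX P V φ) (n : N.obj (op V)),
      a.app (op V) (incX (tP P N) φ (tm P N φ p n)) =
        b.app (op V) (incX (tP P N) φ (tm P N φ p n))) : a = b := by
  ext V : 2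
  apply LinearMap.toAddMonoidHom_injective
  apply secT_ext P N
  intro φ p n
  exact h V.unop φ p n

lemma pf_nat (α : P ⟶ P') (β : N ⟶ N') :
    (epc X Rc).map (tPmap α β) ≫ (pf P' N').hom = (pf P N).hom ≫ tQmap α β := by
  apply hom_ext_epT
  intro V φ p n
  have h1 : (pf P' N').hom.app (op V) (((epc X Rc).map (tPmap α β)).app (op V)
      (incX (tP P N) φ (tm P N φ p n))) =
      TensorProduct.tmul (RV Rc V) (incX P' φ (fibMap α φ p)) (β.app (op V) n) :=
    (congrArg (eV P' N' V) (epMap_app_inc (tPmap α β) φ (tm P N φ p n))).trans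
      (eV_inc_tm P' N' φ (fibMap α φ p) (β.app (op V) n))
  have h2 : (tQmap α β).app (op V) ((pf P N).hom.app (op V) (incX (tP P N) φ (tm P N φ p n))) =
      TensorProduct.tmul (RV Rc V) (incX P' φ (fibMap α φ p)) (β.app (op V) n) :=
    (congrArg ((tQmap α β).app (op V)) (eV_inc_tm P N φ p n)).trans
      ((tQmap_tmul α β (incX P φ p) n).trans
        (congrArg (fun s => TensorProduct.tmul (RV Rc V) s (β.app (op V) n))
          (secHom_inc α φ p)))
  exact h1.trans h2.symm


section sheaf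

variable {J : GrothendieckTopology C} (O : Sheaf J CommRingCat.{u}) (X : C)

/-- the explicit extension by zero on `ModSite.Mod` -/
def LpO : ModSite.Mod (O.over X) ⥤ ModSite.Mod O := Lp (ModSite.ringSh O) X

/-- sheafification on the localised site, from `PMX` -/
def aX : PMX X O.obj ⥤ ModSite.Mod (O.over X) := aa (O.over X)

/-- forgetful functor on the localised site, to `PMX` -/
def FGX : ModSite.Mod (O.over X) ⥤ PMX X O.obj := FG (O.over X)

/-- the sheafification adjunction on the localised site -/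
def adjX : aX O X ⊣ FGX O X ⋙ PresheafOfModules.restrictScalars (𝟙 _) :=
  PresheafOfModules.sheafificationAdjunction (𝟙 (ModSite.ringSh (O.over X)).obj)

/-- comparison of right adjoints -/
def comm3 : (ModSite.restr O X ⋙ FGX O X ⋙ PresheafOfModules.restrictScalars (𝟙 _)) ≅
    Rbig (ModSite.ringSh O) X :=
  NatIso.ofComponents (fun F => PresheafOfModules.isoMk (fun Y => Iso.refl _)
    (fun Y Y' a => by rfl)) (fun {F F'} f => by rfl)

/-- `Lp ∘ a_X ≅ a ∘ ep` -/
def θ : aX O X ⋙ LpO O X ≅ epc X O.obj ⋙ aa O :=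
  (((adjX O X).comp (adjLp (ModSite.ringSh O) X)).ofNatIsoRight (comm3 O X)).leftAdjointUniq
    (adjBig (ModSite.ringSh O) X)

variable {O X}

/-- the presheaf `P ⊗ N|_X` -/
abbrev WW (P : ModSite.Mod (O.over X)) (N : ModSite.Mod O) : PMX X O.obj :=
  tP ((FGX O X).obj P) ((FG O).obj N)

lemma tens_restr_eq (P : ModSite.Mod (O.over X)) (N : ModSite.Mod O) :
    ((ModSite.tensorBi (O.over X)).obj P).obj ((ModSite.restr O X).obj N) =
      (aX O X).obj (WW P N) := rfl

lemma tens_restr_map_right (P : ModSite.Mod (O.over X)) {N N' : ModSite.Mod O} (f : N ⟶ N') :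
    ((ModSite.tensorBi (O.over X)).obj P).map ((ModSite.restr O X).map f) =
      (aX O X).map (tPmap (𝟙 ((FGX O X).obj P)) ((FG O).map f)) := rfl

lemma tens_restr_map_left {P P' : ModSite.Mod (O.over X)} (g : P ⟶ P') (N : ModSite.Mod O) :
    ((ModSite.tensorBi (O.over X)).map g).app ((ModSite.restr O X).obj N) =
      (aX O X).map (tPmap ((FGX O X).map g) (𝟙 ((FG O).obj N))) := rfl

/-- the presheaf `ep P ⊗ N` -/
abbrev QQ (P : ModSite.Mod (O.over X)) (N : ModSite.Mod O) : PM O :=
  tQ ((FGX O X).obj P) ((FG O).obj N)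

/-- the presheaf `(j_! P) ⊗ N` -/
abbrev TT (P : ModSite.Mod (O.over X)) (N : ModSite.Mod O) : PM O :=
  MonoidalCategoryStruct.tensorObj ((FG O).obj ((LpO O X).obj P)) ((FG O).obj N)

lemma tens_eq (P : ModSite.Mod (O.over X)) (N : ModSite.Mod O) :
    ((ModSite.tensorBi O).obj ((LpO O X).obj P)).obj N = (aa O).obj (TT P N) := rfl

/-- the unit map `ep P ⊗ N ⟶ (j_! P) ⊗ N` -/
def um (P : ModSite.Mod (O.over X)) (N : ModSite.Mod O) : QQ P N ⟶ TT P N :=
  MonoidalCategoryStruct.tensorHom (uu O ((epc X O.obj).obj ((FGX O X).obj P))) (𝟙 ((FG O).obj N))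

instance (P : ModSite.Mod (O.over X)) (N : ModSite.Mod O) : IsIso ((aa O).map (um P N)) :=
  whiskerRight_iso O _ (LB_uu O _) _

/-- the projection formula for the explicit extension by zero -/
def Φ (P : ModSite.Mod (O.over X)) (N : ModSite.Mod O) :
    (LpO O X).obj ((aX O X).obj (WW P N)) ≅ (aa O).obj (TT P N) :=
  (θ O X).app (WW P N) ≪≫ (aa O).mapIso (pf ((FGX O X).obj P) ((FG O).obj N)) ≪≫
    asIso ((aa O).map (um P N))

/-- the morphism `(j_! g) ⊗ f` on presheaves -/
abbrev TTmap {P P' : ModSite.Mod (O.over X)} {N N' : ModSite.Mod O} (g : P ⟶ P') (f : N ⟶ N') :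
    TT P N ⟶ TT P' N' :=
  MonoidalCategoryStruct.tensorHom ((FG O).map ((LpO O X).map g)) ((FG O).map f)

lemma um_nat {P P' : ModSite.Mod (O.over X)} {N N' : ModSite.Mod O} (g : P ⟶ P') (f : N ⟶ N') :
    tQmap ((FGX O X).map g) ((FG O).map f) ≫ um P' N' = um P N ≫ TTmap g f := by
  have h := uu_nat O ((epc X O.obj).map ((FGX O X).map g))
  have h1 : tQmap ((FGX O X).map g) ((FG O).map f) ≫ um P' N' =
      MonoidalCategoryStruct.tensorHom ((epc X O.obj).map ((FGX O X).map g) ≫
        uu O ((epc X O.obj).obj ((FGX O X).obj P'))) ((FG O).map f ≫ 𝟙 _) :=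
    MonoidalCategory.tensorHom_comp_tensorHom _ _ _ _
  have h2 : um P N ≫ TTmap g f =
      MonoidalCategoryStruct.tensorHom (uu O ((epc X O.obj).obj ((FGX O X).obj P)) ≫
        (FG O).map ((LpO O X).map g)) (𝟙 _ ≫ (FG O).map f) :=
    MonoidalCategory.tensorHom_comp_tensorHom _ _ _ _
  rw [h1, h2, Category.comp_id, Category.id_comp]
  congr 1

lemma Φ_nat {P P' : ModSite.Mod (O.over X)} {N N' : ModSite.Mod O} (g : P ⟶ P') (f : N ⟶ N') :
    (LpO O X).map ((aX O X).map (tPmap ((FGX O X).map g) ((FG O).map f))) ≫ (Φ P' N').hom =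
      (Φ P N).hom ≫ (aa O).map (TTmap g f) := by
  let w := tPmap ((FGX O X).map g) ((FG O).map f)
  have s1 : (LpO O X).map ((aX O X).map w) ≫ (θ O X).hom.app (WW P' N') =
      (θ O X).hom.app (WW P N) ≫ (aa O).map ((epc X O.obj).map w) :=
    (θ O X).hom.naturality w
  have s2 : (aa O).map ((epc X O.obj).map w) ≫
      (aa O).map (pf ((FGX O X).obj P') ((FG O).obj N')).hom =
      (aa O).map (pf ((FGX O X).obj P) ((FG O).obj N)).hom ≫
        (aa O).map (tQmap ((FGX O X).map g) ((FG O).map f)) := by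
    rw [← Functor.map_comp, ← Functor.map_comp]
    exact congrArg (aa O).map (pf_nat ((FGX O X).map g) ((FG O).map f))
  have s3 : (aa O).map (tQmap ((FGX O X).map g) ((FG O).map f)) ≫ (aa O).map (um P' N') =
      (aa O).map (um P N) ≫ (aa O).map (TTmap g f) := by
    rw [← Functor.map_comp, ← Functor.map_comp]
    exact congrArg (aa O).map (um_nat g f)
  change (LpO O X).map ((aX O X).map w) ≫ ((θ O X).hom.app (WW P' N') ≫
    (aa O).map (pf ((FGX O X).obj P') ((FG O).obj N')).hom ≫ (aa O).map (um P' N')) =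
    ((θ O X).hom.app (WW P N) ≫
    (aa O).map (pf ((FGX O X).obj P) ((FG O).obj N)).hom ≫ (aa O).map (um P N)) ≫ _
  rw [reassoc_of% s1, reassoc_of% s2, s3]
  simp only [Category.assoc]

variable (O X)

/-- comparison of the chosen extension by zero with the explicit one -/
def eL : ModSite.extZero O X ≅ LpO O X :=
  (ModSite.extZeroAdj O X).leftAdjointUniq (adjLp (ModSite.ringSh O) X)

variable {O X}

/-- the projection formula `j_!(P ⊗ N|_X) ≅ j_! P ⊗ N` -/
def projFormula (P : ModSite.Mod (O.over X)) (N : ModSite.Mod O) :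
    (ModSite.extZero O X).obj (((ModSite.tensorBi (O.over X)).obj P).obj ((ModSite.restr O X).obj N)) ≅
      ((ModSite.tensorBi O).obj ((ModSite.extZero O X).obj P)).obj N :=
  (eL O X).app _ ≪≫ Φ P N ≪≫ (((ModSite.tensorBi O).mapIso ((eL O X).app P)).app N).symm

lemma mono_of_square {A : Type*} [Category A] {a b a' b' : A} (f : a ⟶ b) (f' : a' ⟶ b')
    (i : a ≅ a') (j : b ≅ b') (h : f ≫ j.hom = i.hom ≫ f') (hf : Mono f) : Mono f' := by
  have : f' = i.inv ≫ f ≫ j.hom := by rw [h, Iso.inv_hom_id_assoc]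
  rw [this]
  infer_instance

lemma mono_of_square' {A : Type*} [Category A] {a b a' b' : A} (f : a ⟶ b) (f' : a' ⟶ b')
    (i : a ≅ a') (j : b ≅ b') (h : f ≫ j.hom = i.hom ≫ f') (hf : Mono f') : Mono f := by
  have : f = i.hom ≫ f' ≫ j.inv := by rw [← reassoc_of% h, Iso.hom_inv_id, Category.comp_id]
  rw [this]
  infer_instance

theorem isFlat_of_preservesMono' (K : ModSite.Mod O)
    (h : ∀ {A B : ModSite.Mod O} (f : A ⟶ B), Mono f → Mono (((ModSite.tensorBi O).obj K).map f)) :
    ModSite.IsFlat K := by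
  apply isFlat_of_preservesMono
  intro A B f hf
  have h1 := h f hf
  have h2 : (T O K).map f = (Sw O K).hom.app A ≫ ((ModSite.tensorBi O).obj K).map f ≫
      (Sw O K).inv.app B := by
    rw [← (Sw O K).hom.naturality_assoc, Iso.hom_inv_id_app, Category.comp_id]
  rw [h2]
  infer_instance

theorem isFlat_of_iso {K K' : ModSite.Mod O} (i : K ≅ K') (h : ModSite.IsFlat K) :
    ModSite.IsFlat K' := by
  have e : (ModSite.tensorBi O).flip.obj K ≅ (ModSite.tensorBi O).flip.obj K' :=
    (ModSite.tensorBi O).flip.mapIso i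
  have h1 := h.1
  have h2 := h.2
  exact ⟨preservesFiniteLimits_of_natIso e, preservesFiniteColimits_of_natIso e⟩

lemma e1_right (P : ModSite.Mod (O.over X)) {N N' : ModSite.Mod O} (f : N ⟶ N') :
    (aX O X).map (tPmap ((FGX O X).map (𝟙 P)) ((FG O).map f)) =
      ((ModSite.tensorBi (O.over X)).obj P).map ((ModSite.restr O X).map f) := by
  rw [CategoryTheory.Functor.map_id]
  rfl

lemma e2_right (P : ModSite.Mod (O.over X)) {N N' : ModSite.Mod O} (f : N ⟶ N') :
    (aa O).map (TTmap (𝟙 P) f) = ((ModSite.tensorBi O).obj ((LpO O X).obj P)).map f := by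
  have : TTmap (𝟙 P) f = MonoidalCategoryStruct.tensorHom (𝟙 _) ((FG O).map f) := by
    unfold TTmap
    rw [CategoryTheory.Functor.map_id, CategoryTheory.Functor.map_id]
  rw [this]
  rfl

set_option maxHeartbeats 2000000 in
lemma sq_right (P : ModSite.Mod (O.over X)) {N N' : ModSite.Mod O} (f : N ⟶ N') :
    (LpO O X).map (((ModSite.tensorBi (O.over X)).obj P).map ((ModSite.restr O X).map f)) ≫
      (Φ P N').hom = (Φ P N).hom ≫ ((ModSite.tensorBi O).obj ((LpO O X).obj P)).map f := by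
  have sq := Φ_nat (𝟙 P) f
  rw [e1_right, e2_right] at sq
  exact sq

theorem isFlat_LpO (P : ModSite.Mod (O.over X)) (hP : ModSite.IsFlat P) :
    ModSite.IsFlat ((LpO O X).obj P) := by
  apply isFlat_of_preservesMono'
  intro N N' f hf
  have m1 : Mono ((ModSite.restr O X).map f) := inferInstance
  have m2 : Mono (((ModSite.tensorBi (O.over X)).obj P).map ((ModSite.restr O X).map f)) :=
    @mono_of_isFlat' _ _ _ (O.over X) P hP _ _ _ m1
  have m3 : Mono ((LpO O X).map
      (((ModSite.tensorBi (O.over X)).obj P).map ((ModSite.restr O X).map f))) :=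
    @Lp_map_mono _ _ _ (ModSite.ringSh O) X _ _ _ m2
  exact mono_of_square _ _ (Φ P N) (Φ P N') (sq_right P f) m3

theorem isFlat_extZero (P : ModSite.Mod (O.over X)) (hP : ModSite.IsFlat P) :
    ModSite.IsFlat ((ModSite.extZero O X).obj P) :=
  isFlat_of_iso ((eL O X).app P).symm (isFlat_LpO P hP)

theorem isFlat_restr (N : ModSite.Mod O) (hN : ModSite.IsFlat N) :
    ModSite.IsFlat ((ModSite.restr O X).obj N) := by
  apply isFlat_of_preservesMono
  intro P P' g hg
  have hfaith : (LpO O X).Faithful := (main (ModSite.ringSh O) X (LpO O X)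
    (adjLp (ModSite.ringSh O) X)).2.2
  have m1 : Mono ((LpO O X).map g) := @Lp_map_mono _ _ _ (ModSite.ringSh O) X _ _ g hg
  have m2 : Mono ((T O N).map ((LpO O X).map g)) := @mono_of_isFlat _ _ _ O N hN _ _ _ m1
  have sq := Φ_nat g (𝟙 N)
  have e1 : (aX O X).map (tPmap ((FGX O X).map g) ((FG O).map (𝟙 N))) =
      (T (O.over X) ((ModSite.restr O X).obj N)).map g := by
    rw [CategoryTheory.Functor.map_id]
    rfl
  have e2 : (aa O).map (TTmap g (𝟙 N)) = (T O N).map ((LpO O X).map g) := by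
    have : TTmap g (𝟙 N) = MonoidalCategoryStruct.tensorHom ((FG O).map ((LpO O X).map g)) (𝟙 _) := by
      unfold TTmap
      rw [CategoryTheory.Functor.map_id]
    rw [this]
    rfl
  rw [e1, e2] at sq
  have m3 : Mono ((LpO O X).map ((T (O.over X) ((ModSite.restr O X).obj N)).map g)) :=
    mono_of_square' _ _ (Φ P N) (Φ P' N) sq m2
  exact Functor.mono_of_mono_map (LpO O X) m3

end sheaf

end Groth.Agent.Lib.helper10.ProjF
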