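import Mathlib
import Groth.Prelude.Def_ModSite2
import Groth.Agent.Lib.helper10.ProjF
import Groth.Agent.Lib.helper10.LocGlobExt
import Groth.Agent.Lib.helper23.ModSec

open CategoryTheory Opposite Limits
open Groth.Agent.Lib.helper10.ExtZ Groth.Agent.Lib.helper10.ProjF
open Groth.Agent.Lib.helper10.TensCore Groth.Agent.Lib.helper10.TensAdj Groth.Agent.Lib.helper10.Flat1

universe u

noncomputable section

namespace Groth.Agent.Lib.helper10.SectHom

variable {C : Type u} [SmallCategory C] {J : GrothendieckTopology C} (O : Sheaf J CommRingCat.{u})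
  (X : C)

instance extZero_additive : (ModSite.extZero O X).Additive := by
  have : PreservesFiniteColimits (ModSite.extZero O X) :=
    ((ModSite.extZeroAdj O X).leftAdjoint_preservesColimits :
      PreservesColimitsOfSize.{u, u} (ModSite.extZero O X)).preservesFiniteColimits
  exact additive_of_preservesFiniteColimits _

/-- sections over `X` are morphisms out of the free module on `X`, additively -/
def sectAddEquiv (F : ModSite.Mod O) : (ModSite.freeOn O X ⟶ F) ≃+ ModSite.sect F X :=
  { Groth.Agent.Lib.helper23.ModSec.homEquiv O X F with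
    map_add' := fun h h' => by
      have e : (ModSite.extZeroAdj O X).homEquiv _ F (h + h') =
          (ModSite.extZeroAdj O X).homEquiv _ F h + (ModSite.extZeroAdj O X).homEquiv _ F h' :=
        (ModSite.extZeroAdj O X).homAddEquiv_add _ _ h h'
      change (Groth.Agent.Lib.helper23.ModSec.sectionsEquiv O X F)
        ((SheafOfModules.unitHomEquiv _) ((ModSite.extZeroAdj O X).homEquiv _ F (h + h'))) = _
      rw [e]
      rfl }

/-- sections of the internal hom -/
def sectSheafHom (M N : ModSite.Mod O) [ModSite.HasSheafHom M] :
    ModSite.sect ((ModSite.sheafHom M).obj N) X ≃+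
      ((ModSite.restr O X).obj M ⟶ (ModSite.restr O X).obj N) :=
  let i : ((ModSite.tensorBi O).obj (ModSite.freeOn O X)).obj M ≅
      (ModSite.extZero O X).obj ((ModSite.restr O X).obj M) :=
    (projFormula (SheafOfModules.unit _) M).symm ≪≫
      (ModSite.extZero O X).mapIso
        (Groth.Agent.Lib.helper10.LocGlobExt.lam (O.over X) ((ModSite.restr O X).obj M))
  let e1 := (sectAddEquiv O X ((ModSite.sheafHom M).obj N)).symm
  let e2 := ((ModSite.sheafHomAdj M).homAddEquiv (ModSite.freeOn O X) N).symm
  let e3 : (((ModSite.tensorBi O).obj (ModSite.freeOn O X)).obj M ⟶ N) ≃+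
      ((ModSite.extZero O X).obj ((ModSite.restr O X).obj M) ⟶ N) :=
    { toFun := fun f => i.inv ≫ f
      invFun := fun f => i.hom ≫ f
      left_inv := fun f => by simp
      right_inv := fun f => by simp
      map_add' := fun f g => Preadditive.comp_add _ _ _ _ _ _ }
  let e4 := (ModSite.extZeroAdj O X).homAddEquiv ((ModSite.restr O X).obj M) N
  e1.trans (e2.trans (e3.trans e4))

end Groth.Agent.Lib.helper10.SectHom
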