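import Mathlib
import Groth.Agent.Lib.helper10.QcCov
import Groth.Agent.Lib.helper10.SectHom

open CategoryTheory Opposite Limits
open Groth.Agent.Lib.helper10.QcSum Groth.Agent.Lib.helper10.QcCov Groth.Agent.Lib.helper10.SectHom

universe u

noncomputable section

namespace Groth.Agent.Lib.helper10.Qc9103

variable {C : Type u} [SmallCategory C] {J : GrothendieckTopology C}

lemma sectAddEquiv_comp (O : Sheaf J CommRingCat.{u}) (U : C) {F G : ModSite.Mod O}
    (h : ModSite.freeOn O U ⟶ F) (f : F ⟶ G) :
    sectAddEquiv O U G (h ≫ f) = sm O f U (sectAddEquiv O U F h) :=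
  Groth.Agent.Lib.helper23.ModSec.homEquiv_comp O U h f

theorem main9103 (O : Sheaf J CommRingCat.{u}) (U : C)
    (hU : CohCx.IsQcObject ((presheafToSheaf J (Type u)).obj (yoneda.obj U))) (ι : Type u) :
    PreservesColimitsOfShape (Discrete ι) (preadditiveCoyoneda.obj (op (ModSite.freeOn O U))) := by
  classical
  apply preserves_of_elementwise
  · intro F x
    let x' : ModSite.freeOn O U ⟶ ∐ F := x
    let c : Cofan F := Cofan.mk (∐ F) (Sigma.ι F)
    have hc : IsColimit c := coproductIsCoproduct F
    obtain ⟨S, hS⟩ := sect_surj O F c hc U (finCov_of_qc J U hU) (sectAddEquiv O U _ x')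
    refine ⟨S, fun i => x' ≫ pr O F c hc i, ?_⟩
    have e : x' = ∑ i ∈ S, (x' ≫ pr O F c hc i) ≫ Sigma.ι F i := by
      apply (sectAddEquiv O U (∐ F)).injective
      rw [map_sum]
      refine hS.trans ?_
      apply Finset.sum_congr rfl
      intro i _
      rw [sectAddEquiv_comp, sectAddEquiv_comp]
      rfl
    exact e
  · intro F s y h
    let c : Cofan F := Cofan.mk (∐ F) (Sigma.ι F)
    have hc : IsColimit c := coproductIsCoproduct F
    intro j hj
    let y' : ∀ i, ModSite.freeOn O U ⟶ F i := y
    have h' : ∑ i ∈ s, y' i ≫ Sigma.ι F i = 0 := h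
    have h1 := congrArg (fun φ => φ ≫ pr O F c hc j) h'
    simp only [Preadditive.sum_comp, Category.assoc, Limits.zero_comp] at h1
    rw [Finset.sum_eq_single j] at h1
    · have e := inj_pr_self O F c hc j
      have e' : Sigma.ι F j ≫ pr O F c hc j = 𝟙 _ := e
      rw [e', Category.comp_id] at h1
      exact h1
    · intro i _ hi
      have e := inj_pr_ne O F c hc hi
      have e' : Sigma.ι F i ≫ pr O F c hc j = 0 := e
      rw [e', Limits.comp_zero]
    · intro h2; exact absurd hj h2

end Groth.Agent.Lib.helper10.Qc9103
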