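import Mathlib
import Groth.Agent.Lib.helper10.Qc9103
import Groth.Agent.Lib.helper10.ModColim

open CategoryTheory Opposite Limits
open Groth.Agent.Lib.helper10.QcSum Groth.Agent.Lib.helper10.QcCov Groth.Agent.Lib.helper10.SectHom
open Groth.Agent.Lib.helper10.Qc9103 Groth.Agent.Lib.helper10.EqConv

universe u

noncomputable section

namespace Groth.Agent.Lib.helper10.Qc9115

section abstract

variable {𝒜 : Type*} [Category 𝒜] [Abelian 𝒜]

/-- cokernel of a map into a cokernel, as a cokernel of an enlarged presentation -/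
theorem coker_iso {A₁ A₀ G F : 𝒜} (ψG : A₁ ⟶ A₀) (pG : A₀ ⟶ G) [Epi pG] (w : ψG ≫ pG = 0)
    (hfac : ∀ {Z : 𝒜} (g' : A₀ ⟶ Z), ψG ≫ g' = 0 → ∃ g : G ⟶ Z, pG ≫ g = g')
    (α : F ⟶ G) {κ : Type*} (X : κ → 𝒜) [HasCoproduct X] (ψc : ∀ a, X a ⟶ A₀)
    (u : A₁ ⟶ ∐ X) (hu : u ≫ Sigma.desc ψc = ψG)
    (e : ∀ a, X a ⟶ F) (h2 : ∀ a, ψc a ≫ pG = e a ≫ α)
    (h3 : ∀ {Z : 𝒜} (g : F ⟶ Z), (∀ a, e a ≫ g = 0) → g = 0) :
    Nonempty (cokernel α ≅ cokernel (Sigma.desc ψc)) := by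
  let ψ := Sigma.desc ψc
  have c1 : ψ ≫ pG ≫ cokernel.π α = 0 := by
    apply Sigma.hom_ext
    intro a
    rw [Sigma.ι_desc_assoc, ← Category.assoc, h2, Category.assoc, cokernel.condition,
      comp_zero, comp_zero]
  let f₁ : cokernel ψ ⟶ cokernel α := cokernel.desc ψ (pG ≫ cokernel.π α) c1
  have c2 : ψG ≫ cokernel.π ψ = 0 := by
    rw [← hu, Category.assoc, cokernel.condition, comp_zero]
  obtain ⟨gbar, hgbar⟩ := hfac (cokernel.π ψ) c2
  have c3 : α ≫ gbar = 0 := by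
    apply h3
    intro a
    rw [← Category.assoc, ← h2, Category.assoc, hgbar]
    have : ψc a = Sigma.ι X a ≫ ψ := (Sigma.ι_desc ψc a).symm
    rw [this, Category.assoc, cokernel.condition, comp_zero]
  let f₂ : cokernel α ⟶ cokernel ψ := cokernel.desc α gbar c3
  refine ⟨⟨f₂, f₁, ?_, ?_⟩⟩
  · rw [← cancel_epi (cokernel.π α), ← cancel_epi pG]
    simp only [f₁, f₂, cokernel.π_desc_assoc, Category.comp_id]
    rw [← Category.assoc, hgbar, cokernel.π_desc]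
  · rw [← cancel_epi (cokernel.π ψ)]
    simp only [f₁, f₂, cokernel.π_desc_assoc, Category.assoc, cokernel.π_desc]
    rw [Category.comp_id]
    exact hgbar

end abstract

end Groth.Agent.Lib.helper10.Qc9115

namespace Groth.Agent.Lib.helper10.Qc9115

variable {C : Type u} [SmallCategory C] {J : GrothendieckTopology C} (O : Sheaf J CommRingCat.{u})

/-- epimorphisms of sheaves of modules are locally surjective on sections -/
lemma locSurj_of_epi {M N : ModSite.Mod O} (φ : M ⟶ N) [Epi φ] (U : C) (s : ModSite.sect N U) :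
    ∃ R ∈ J U, ∀ ⦃V : C⦄ (g : V ⟶ U), R g → ∃ t : ModSite.sect M V, sm O φ V t = σ N g s := by
  have hc := Groth.Agent.Lib.helper10.ModColim.toSheaf_preservesColimits (ModSite.ringSh O)
  have h1 : Epi ((SheafOfModules.toSheaf (ModSite.ringSh O)).map φ) := inferInstance
  have h2 : Sheaf.IsLocallySurjective ((SheafOfModules.toSheaf (ModSite.ringSh O)).map φ) :=
    (Sheaf.isLocallySurjective_iff_epi' _ _).2 h1
  refine ⟨_, Presheaf.imageSieve_mem J ((SheafOfModules.toSheaf (ModSite.ringSh O)).map φ).hom s, ?_⟩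
  rintro V g ⟨t, ht⟩
  exact ⟨t, ht⟩

/-- the map of free modules induced by a morphism of the site -/
def fmap {Y U : C} (γ : Y ⟶ U) : ModSite.freeOn O Y ⟶ ModSite.freeOn O U :=
  (sectAddEquiv O Y (ModSite.freeOn O U)).symm
    (σ (ModSite.freeOn O U) γ (sectAddEquiv O U (ModSite.freeOn O U) (𝟙 _)))

lemma sect_fmap_comp {Y U : C} (γ : Y ⟶ U) {M : ModSite.Mod O} (h : ModSite.freeOn O U ⟶ M) :
    sectAddEquiv O Y M (fmap O γ ≫ h) = σ M γ (sectAddEquiv O U M h) := by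
  rw [sectAddEquiv_comp]
  unfold fmap
  rw [AddEquiv.apply_symm_apply, sm_nat, ← sectAddEquiv_comp, Category.id_comp]

/-- a finite covering family induces a jointly epimorphic family of free modules -/
lemma jointly_epi {U : C} {n : ℕ} (Y : Fin n → C) (γ : ∀ k, Y k ⟶ U)
    (hcov : Sieve.ofArrows Y γ ∈ J U) {Z : ModSite.Mod O} (g : ModSite.freeOn O U ⟶ Z)
    (hg : ∀ k, fmap O (γ k) ≫ g = 0) : g = 0 := by
  apply (sectAddEquiv O U Z).injective
  rw [map_zero]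
  have hsep := Presheaf.IsSheaf.isSeparated Z.isSheaf
  refine hsep U _ hcov _ 0 ?_
  intro V f hf
  obtain ⟨W, h, g', ⟨k⟩, rfl⟩ := hf
  have h1 : σ Z (γ k) (sectAddEquiv O U Z g) = 0 := by
    rw [← sect_fmap_comp, hg k, map_zero]
  change σ Z (h ≫ γ k) (sectAddEquiv O U Z g) = σ Z (h ≫ γ k) 0
  rw [σ_comp, h1, map_zero, map_zero]

end Groth.Agent.Lib.helper10.Qc9115

namespace Groth.Agent.Lib.helper10.Qc9115

variable {C : Type u} [SmallCategory C] {J : GrothendieckTopology C} (O : Sheaf J CommRingCat.{u})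

/-- local lifting along an epimorphism over a finite cover by members of `B` -/
lemma exists_finite_lift (B : Set C)
    (hB₁ : ∀ X : C, ∃ (κ : Type u) (Y : κ → C) (g : ∀ k, Y k ⟶ X),
      Sieve.ofArrows Y g ∈ J X ∧ ∀ k, Y k ∈ B)
    {M N : ModSite.Mod O} (φ : M ⟶ N) [Epi φ] (U : C) (hU : FinCov J U) (s : ModSite.sect N U) :
    ∃ (r : ℕ) (Y : Fin r → C) (γ : ∀ k, Y k ⟶ U) (t : ∀ k, ModSite.sect M (Y k)),
      (∀ k, Y k ∈ B) ∧ Sieve.ofArrows Y γ ∈ J U ∧ ∀ k, sm O φ (Y k) (t k) = σ N (γ k) s := by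
  obtain ⟨R, hR, hR'⟩ := locSurj_of_epi O φ U s
  let R' : Sieve U :=
    { arrows := fun V f => ∃ (Y : C) (_ : Y ∈ B) (a : V ⟶ Y) (b : Y ⟶ U), R b ∧ a ≫ b = f
      downward_closed := by
        rintro V V' f ⟨Y, hY, a, b, hb, rfl⟩ h
        exact ⟨Y, hY, h ≫ a, b, hb, by rw [Category.assoc]⟩ }
  have hR'mem : R' ∈ J U := by
    refine J.transitive hR R' ?_
    intro V g hg
    obtain ⟨κ, Yc, c, hc, hYc⟩ := hB₁ V
    refine J.superset_covering ?_ hc
    rintro W f ⟨Z, h, c', ⟨k⟩, rfl⟩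
    exact ⟨Yc k, hYc k, h, c k ≫ g, R.downward_closed hg (c k), by rw [Category.assoc]⟩
  obtain ⟨n, V, g, hg, hcov⟩ := hU R' hR'mem
  choose Yb hYb a b hb hab using hg
  choose t ht using fun k => hR' (b k) (hb k)
  refine ⟨n, Yb, b, t, hYb, ?_, ht⟩
  refine J.superset_covering ?_ hcov
  rintro W f ⟨Z, h, g', ⟨k⟩, rfl⟩
  rw [← hab k, ← Category.assoc]
  exact Sieve.downward_closed _ (Sieve.ofArrows_mk Yb b k) _

end Groth.Agent.Lib.helper10.Qc9115

namespace Groth.Agent.Lib.helper10.Qc9115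

variable {C : Type u} [SmallCategory C] {J : GrothendieckTopology C}

theorem main9115 (O : Sheaf J CommRingCat.{u}) (B : Set C)
    (hB₁ : ∀ X : C, ∃ (κ : Type u) (Y : κ → C) (g : ∀ k, Y k ⟶ X), Sieve.ofArrows Y g ∈ J X ∧ ∀ k, Y k ∈ B)
    (hB₂ : ∀ U ∈ B, CohCx.IsQcObject ((presheafToSheaf J (Type u)).obj (yoneda.obj U))) (F G : ModSite.Mod O) (α : F ⟶ G)
    (hF : (∃ (m' n' : ℕ) (V' : Fin m' → C) (U' : Fin n' → C)
        (ψ : (∐ fun j => ModSite.freeOn O (V' j)) ⟶ ∐ fun i => ModSite.freeOn O (U' i)),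
        (∀ j, V' j ∈ B) ∧ (∀ i, U' i ∈ B) ∧ Nonempty (F ≅ cokernel ψ)))
    (hG : (∃ (m' n' : ℕ) (V' : Fin m' → C) (U' : Fin n' → C)
        (ψ : (∐ fun j => ModSite.freeOn O (V' j)) ⟶ ∐ fun i => ModSite.freeOn O (U' i)),
        (∀ j, V' j ∈ B) ∧ (∀ i, U' i ∈ B) ∧ Nonempty (G ≅ cokernel ψ))) :
    (∃ (m' n' : ℕ) (V' : Fin m' → C) (U' : Fin n' → C)
        (ψ : (∐ fun j => ModSite.freeOn O (V' j)) ⟶ ∐ fun i => ModSite.freeOn O (U' i)),
        (∀ j, V' j ∈ B) ∧ (∀ i, U' i ∈ B) ∧ Nonempty (cokernel α ≅ cokernel ψ)) := by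
  classical
  obtain ⟨m, n, V, U, ψF, hV, hU, ⟨iF⟩⟩ := hF
  obtain ⟨mG, nG, VG, UG, ψG, hVG, hUG, ⟨iG⟩⟩ := hG
  let A₀ : ModSite.Mod O := ∐ fun i => ModSite.freeOn O (UG i)
  let A₁ : ModSite.Mod O := ∐ fun j => ModSite.freeOn O (VG j)
  let pG : A₀ ⟶ G := cokernel.π ψG ≫ iG.inv
  have hpG : Epi pG := epi_comp _ _
  have w : ψG ≫ pG = 0 := by
    simp only [pG]
    rw [← Category.assoc, cokernel.condition, zero_comp]
  have hfac : ∀ {Z : ModSite.Mod O} (g' : A₀ ⟶ Z), ψG ≫ g' = 0 → ∃ g : G ⟶ Z, pG ≫ g = g' :=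
    fun g' h => ⟨iG.hom ≫ cokernel.desc ψG g' h, by simp [pG]⟩
  let pF : (∐ fun i => ModSite.freeOn O (U i)) ⟶ F := cokernel.π ψF ≫ iF.inv
  have hpF : Epi pF := epi_comp _ _
  let a : ∀ i, ModSite.freeOn O (U i) ⟶ G := fun i =>
    Sigma.ι (fun i => ModSite.freeOn O (U i)) i ≫ pF ≫ α
  have hl := fun i => exists_finite_lift O B hB₁ pG (U i) (finCov_of_qc J (U i) (hB₂ _ (hU i)))
    (sectAddEquiv O (U i) G (a i))
  choose r Y γ t hY hcov ht using hl
  let κ := (Σ i : Fin n, Fin (r i)) ⊕ Fin mG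
  let objκ : κ → C := Sum.elim (fun p => Y p.1 p.2) VG
  let X : κ → ModSite.Mod O := fun q => ModSite.freeOn O (objκ q)
  let ψc : ∀ q, X q ⟶ A₀ := fun q => match q with
    | Sum.inl p => (sectAddEquiv O (Y p.1 p.2) A₀).symm (t p.1 p.2)
    | Sum.inr j => Sigma.ι (fun j => ModSite.freeOn O (VG j)) j ≫ ψG
  let e : ∀ q, X q ⟶ F := fun q => match q with
    | Sum.inl p => fmap O (γ p.1 p.2) ≫ Sigma.ι (fun i => ModSite.freeOn O (U i)) p.1 ≫ pF
    | Sum.inr j => 0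
  let u : A₁ ⟶ ∐ X := Sigma.desc (fun j => Sigma.ι X (Sum.inr j))
  have hu : u ≫ Sigma.desc ψc = ψG := by
    apply Sigma.hom_ext
    intro j
    have e1 : Sigma.ι (fun j => ModSite.freeOn O (VG j)) j ≫ u = Sigma.ι X (Sum.inr j) :=
      Sigma.ι_desc _ j
    have e2 : Sigma.ι X (Sum.inr j) ≫ Sigma.desc ψc = ψc (Sum.inr j) :=
      Sigma.ι_desc ψc (Sum.inr j)
    exact (Category.assoc _ _ _).symm.trans
      ((congrArg (fun φ => φ ≫ Sigma.desc ψc) e1).trans e2)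
  have h2 : ∀ q, ψc q ≫ pG = e q ≫ α := by
    rintro (p | j)
    · change (sectAddEquiv O (Y p.1 p.2) A₀).symm (t p.1 p.2) ≫ pG =
        (fmap O (γ p.1 p.2) ≫ Sigma.ι (fun i => ModSite.freeOn O (U i)) p.1 ≫ pF) ≫ α
      apply (sectAddEquiv O (Y p.1 p.2) G).injective
      rw [sectAddEquiv_comp, AddEquiv.apply_symm_apply, ht, Category.assoc, Category.assoc,
        sect_fmap_comp]
    · simp only [ψc, e]
      rw [Category.assoc, w, comp_zero, zero_comp]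
  have h3 : ∀ {Z : ModSite.Mod O} (g : F ⟶ Z), (∀ q, e q ≫ g = 0) → g = 0 := by
    intro Z g hg
    rw [← cancel_epi pF, comp_zero]
    apply Sigma.hom_ext
    intro i
    rw [comp_zero]
    apply jointly_epi O (Y i) (γ i) (hcov i)
    intro k
    have := hg (Sum.inl ⟨i, k⟩)
    simp only [e, Category.assoc] at this
    exact this
  obtain ⟨iso⟩ := coker_iso ψG pG w hfac α X ψc u hu e h2 h3
  let ε : Fin (Fintype.card κ) ≃ κ := (Fintype.equivFin κ).symm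
  refine ⟨Fintype.card κ, nG, fun j => objκ (ε j), UG,
    (Sigma.reindex ε X).hom ≫ Sigma.desc ψc, ?_, hUG, ?_⟩
  · intro j
    have : ∀ q : κ, objκ q ∈ B := by
      rintro (p | j')
      · exact hY p.1 p.2
      · exact hVG j'
    exact this (ε j)
  · exact ⟨iso ≪≫ (cokernelEpiComp _ _).symm⟩

end Groth.Agent.Lib.helper10.Qc9115
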