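import Mathlib
import Groth.Agent.Lib.helper10.Qc9115

open CategoryTheory Opposite Limits
open Groth.Agent.Lib.helper10.QcSum Groth.Agent.Lib.helper10.QcCov Groth.Agent.Lib.helper10.SectHom
open Groth.Agent.Lib.helper10.Qc9103 Groth.Agent.Lib.helper10.EqConv Groth.Agent.Lib.helper10.Qc9115

universe u

noncomputable section

namespace Groth.Agent.Lib.helper10.Qc9117

section abstract2
variable {𝒜 : Type*} [Category 𝒜] [Abelian 𝒜]

/-- kernel of `β` as a cokernel, through an epimorphism onto the source -/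
theorem ker_epi_comp {P Q H : 𝒜} (e : P ⟶ Q) [Epi e] (β : Q ⟶ H)
    (f₁ : kernel e ⟶ kernel (e ≫ β)) (hf₁ : f₁ ≫ kernel.ι (e ≫ β) = kernel.ι e) :
    Nonempty (kernel β ≅ cokernel f₁) := by
  let g₁ : kernel (e ≫ β) ⟶ kernel β := kernel.lift β (kernel.ι (e ≫ β) ≫ e)
    (by rw [Category.assoc, kernel.condition])
  have hg₁ : g₁ ≫ kernel.ι β = kernel.ι (e ≫ β) ≫ e := kernel.lift_ι _ _ _
  have hz : f₁ ≫ g₁ = 0 := by
    rw [← cancel_mono (kernel.ι β), Category.assoc, hg₁, ← Category.assoc, hf₁, kernel.condition,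
      zero_comp]
  let S := ShortComplex.mk f₁ g₁ hz
  have hS : S.Exact := by
    rw [ShortComplex.exact_iff_exact_up_to_refinements]
    intro T k hk
    have hk' : k ≫ g₁ = 0 := hk
    have h1 : (k ≫ kernel.ι (e ≫ β)) ≫ e = 0 := by
      rw [Category.assoc, ← hg₁, ← Category.assoc, hk', zero_comp]
    refine ⟨T, 𝟙 T, inferInstance, kernel.lift e (k ≫ kernel.ι (e ≫ β)) h1, ?_⟩
    change 𝟙 T ≫ k = kernel.lift e (k ≫ kernel.ι (e ≫ β)) h1 ≫ f₁
    rw [Category.id_comp, ← cancel_mono (kernel.ι (e ≫ β)), Category.assoc, hf₁, kernel.lift_ι]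
  have hg : Epi g₁ := by
    rw [epi_iff_surjective_up_to_refinements]
    intro T z
    obtain ⟨T', π, hπ, x, hx⟩ := surjective_up_to_refinements_of_epi e (z ≫ kernel.ι β)
    have h1 : x ≫ e ≫ β = 0 := by
      rw [← Category.assoc, ← hx, Category.assoc, Category.assoc, kernel.condition, comp_zero,
        comp_zero]
    refine ⟨T', π, hπ, kernel.lift (e ≫ β) x h1, ?_⟩
    rw [← cancel_mono (kernel.ι β), Category.assoc, Category.assoc, hg₁, kernel.lift_ι_assoc]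
    exact hx
  have hg' : Epi S.g := hg
  have hcok := hS.gIsCokernel
  exact ⟨(IsColimit.coconePointUniqueUpToIso (cokernelIsCokernel f₁) hcok).symm⟩

/-- kernel of `t ≫ q`, `q` a cokernel of `ψG`, as a cokernel -/
theorem ker_comp_coker {A' B₁ B₀ G : 𝒜} (t : A' ⟶ B₀) (ψG : B₁ ⟶ B₀) (q : B₀ ⟶ G)
    (w : ψG ≫ q = 0) (hq : IsColimit (CokernelCofork.ofπ q w))
    (f₂ : kernel ψG ⟶ kernel (biprod.desc t ψG))
    (hf₂ : f₂ ≫ kernel.ι (biprod.desc t ψG) = kernel.ι ψG ≫ biprod.inr) :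
    Nonempty (kernel (t ≫ q) ≅ cokernel f₂) := by
  let Φ : A' ⊞ B₁ ⟶ B₀ := biprod.desc t ψG
  have hΦ : ∀ {T : 𝒜} (m : T ⟶ A' ⊞ B₁), m ≫ Φ = (m ≫ biprod.fst) ≫ t + (m ≫ biprod.snd) ≫ ψG := by
    intro T m
    have : m = (m ≫ biprod.fst) ≫ biprod.inl + (m ≫ biprod.snd) ≫ biprod.inr := by
      rw [Category.assoc, Category.assoc, ← Preadditive.comp_add, biprod.total, Category.comp_id]
    conv_lhs => rw [this]
    simp only [Φ, Preadditive.add_comp, Category.assoc, biprod.inl_desc, biprod.inr_desc]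
  have c0 : (kernel.ι Φ ≫ biprod.fst) ≫ t ≫ q = 0 := by
    have h := hΦ (kernel.ι Φ)
    rw [kernel.condition] at h
    have h' : (kernel.ι Φ ≫ biprod.fst) ≫ t = - ((kernel.ι Φ ≫ biprod.snd) ≫ ψG) :=
      eq_neg_of_add_eq_zero_left h.symm
    rw [← Category.assoc, h', Preadditive.neg_comp, Category.assoc, w, comp_zero, neg_zero]
  let g₂ : kernel Φ ⟶ kernel (t ≫ q) := kernel.lift (t ≫ q) (kernel.ι Φ ≫ biprod.fst) c0
  have hg₂ : g₂ ≫ kernel.ι (t ≫ q) = kernel.ι Φ ≫ biprod.fst := kernel.lift_ι _ _ _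
  have hz : f₂ ≫ g₂ = 0 := by
    rw [← cancel_mono (kernel.ι (t ≫ q)), Category.assoc, hg₂, ← Category.assoc, hf₂,
      Category.assoc, biprod.inr_fst, comp_zero, zero_comp]
  let S := ShortComplex.mk f₂ g₂ hz
  have hS : S.Exact := by
    rw [ShortComplex.exact_iff_exact_up_to_refinements]
    intro T k hk
    have hk' : k ≫ g₂ = 0 := hk
    have h1 : (k ≫ kernel.ι Φ) ≫ biprod.fst = 0 := by
      rw [Category.assoc, ← hg₂, ← Category.assoc, hk', zero_comp]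
    have h2 : ((k ≫ kernel.ι Φ) ≫ biprod.snd) ≫ ψG = 0 := by
      have h := hΦ (k ≫ kernel.ι Φ)
      rw [Category.assoc, kernel.condition, comp_zero, h1, zero_comp, zero_add] at h
      exact h.symm
    refine ⟨T, 𝟙 T, inferInstance, kernel.lift ψG ((k ≫ kernel.ι Φ) ≫ biprod.snd) h2, ?_⟩
    change 𝟙 T ≫ k = kernel.lift ψG ((k ≫ kernel.ι Φ) ≫ biprod.snd) h2 ≫ f₂
    rw [Category.id_comp, ← cancel_mono (kernel.ι Φ), Category.assoc, hf₂, ← Category.assoc,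
      kernel.lift_ι]
    have : k ≫ kernel.ι Φ = ((k ≫ kernel.ι Φ) ≫ biprod.fst) ≫ biprod.inl +
        ((k ≫ kernel.ι Φ) ≫ biprod.snd) ≫ biprod.inr := by
      rw [Category.assoc _ biprod.fst, Category.assoc _ biprod.snd, ← Preadditive.comp_add,
        biprod.total, Category.comp_id]
    rw [h1, zero_comp, zero_add] at this
    exact this
  have hg : Epi g₂ := by
    rw [epi_iff_surjective_up_to_refinements]
    intro T z
    have hx0 : (z ≫ kernel.ι (t ≫ q) ≫ t) ≫ q = 0 := by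
      rw [Category.assoc, Category.assoc, kernel.condition, comp_zero]
    obtain ⟨T', π, hπ, y, hy⟩ :=
      (CokernelCofork.IsColimit.comp_π_eq_zero_iff_up_to_refinements hq _).1 hx0
    let m : T' ⟶ A' ⊞ B₁ := biprod.lift (π ≫ z ≫ kernel.ι (t ≫ q)) (-y)
    have hm : m ≫ Φ = 0 := by
      rw [hΦ, biprod.lift_fst, biprod.lift_snd, Preadditive.neg_comp, ← hy]
      simp only [Category.assoc]
      exact add_neg_cancel _
    refine ⟨T', π, hπ, kernel.lift Φ m hm, ?_⟩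
    rw [← cancel_mono (kernel.ι (t ≫ q)), Category.assoc, Category.assoc, hg₂,
      kernel.lift_ι_assoc, biprod.lift_fst]
  have hg' : Epi S.g := hg
  have hcok := hS.gIsCokernel
  exact ⟨(IsColimit.coconePointUniqueUpToIso (cokernelIsCokernel f₂) hcok).symm⟩

end abstract2

end Groth.Agent.Lib.helper10.Qc9117

namespace Groth.Agent.Lib.helper10.Qc9117

variable {C : Type u} [SmallCategory C] {J : GrothendieckTopology C} (O : Sheaf J CommRingCat.{u})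
  (B : Set C)

/-- finite free on `B`, arbitrary finite index type -/
def FF (M : ModSite.Mod O) : Prop :=
  ∃ (κ : Type) (_ : Fintype κ) (W : κ → C), (∀ k, W k ∈ B) ∧
    Nonempty (M ≅ ∐ fun k => ModSite.freeOn O (W k))

/-- finite free on `B`, indexed by `Fin n` -/
def FFin (M : ModSite.Mod O) : Prop :=
  ∃ (n : ℕ) (U : Fin n → C), (∀ i, U i ∈ B) ∧ Nonempty (M ≅ ∐ fun i => ModSite.freeOn O (U i))

/-- type A -/
def TA (M : ModSite.Mod O) : Prop :=
  ∃ (m' n' : ℕ) (V' : Fin m' → C) (U' : Fin n' → C)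
    (ψ : (∐ fun j => ModSite.freeOn O (V' j)) ⟶ ∐ fun i => ModSite.freeOn O (U' i)),
    (∀ j, V' j ∈ B) ∧ (∀ i, U' i ∈ B) ∧ Nonempty (M ≅ cokernel ψ)

variable {O B}

lemma TA_of_iso {M N : ModSite.Mod O} (e : M ≅ N) (h : TA O B M) : TA O B N := by
  obtain ⟨m', n', V', U', ψ, h1, h2, ⟨i⟩⟩ := h
  exact ⟨m', n', V', U', ψ, h1, h2, ⟨e.symm ≪≫ i⟩⟩

lemma FFin_of_FF {M : ModSite.Mod O} (h : FF O B M) : FFin O B M := by
  obtain ⟨κ, _, W, hW, ⟨i⟩⟩ := h
  let ε : Fin (Fintype.card κ) ≃ κ := (Fintype.equivFin κ).symm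
  exact ⟨Fintype.card κ, fun j => W (ε j), fun j => hW _,
    ⟨i ≪≫ (Sigma.reindex ε (fun k => ModSite.freeOn O (W k))).symm⟩⟩

lemma FF_of_FFin {M : ModSite.Mod O} (h : FFin O B M) : FF O B M := by
  obtain ⟨n, U, hU, hi⟩ := h
  exact ⟨Fin n, inferInstance, U, hU, hi⟩

lemma TA_of_FFin {M : ModSite.Mod O} (h : FFin O B M) : TA O B M := by
  obtain ⟨n, U, hU, ⟨i⟩⟩ := h
  exact ⟨0, n, Fin.elim0, U, 0, fun j => Fin.elim0 j, hU, ⟨i ≪≫ cokernelZeroIsoTarget.symm⟩⟩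

lemma coprod_congr {𝒜 : Type*} [Category 𝒜] {κ : Type*} (f g : κ → 𝒜) [HasCoproduct f]
    [HasCoproduct g] (h : f = g) : Nonempty (∐ f ≅ ∐ g) := by
  subst h
  exact ⟨Iso.refl _⟩

lemma FF_biprod {M N : ModSite.Mod O} (hM : FF O B M) (hN : FF O B N) : FF O B (M ⊞ N) := by
  obtain ⟨κ₁, _, W₁, hW₁, ⟨i₁⟩⟩ := hM
  obtain ⟨κ₂, _, W₂, hW₂, ⟨i₂⟩⟩ := hN
  let f₁ : κ₁ → ModSite.Mod O := fun k => ModSite.freeOn O (W₁ k)
  let f₂ : κ₂ → ModSite.Mod O := fun k => ModSite.freeOn O (W₂ k)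
  let c₁ : Cofan f₁ := Cofan.mk M (fun k => Sigma.ι f₁ k ≫ i₁.inv)
  let c₂ : Cofan f₂ := Cofan.mk N (fun k => Sigma.ι f₂ k ≫ i₂.inv)
  have h₁ : IsColimit c₁ := by
    refine IsColimit.ofIsoColimit (coproductIsCoproduct f₁) (Cofan.ext i₁.symm ?_)
    intro k
    rfl
  have h₂ : IsColimit c₂ := by
    refine IsColimit.ofIsoColimit (coproductIsCoproduct f₂) (Cofan.ext i₂.symm ?_)
    intro k
    rfl
  let bc : BinaryCofan c₁.pt c₂.pt := (BinaryBiproduct.bicone M N).toCocone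
  have hbc : IsColimit bc := BinaryBiproduct.isColimit M N
  have hcomb := Cofan.combPairIsColimit h₁ h₂ hbc
  have heq : Sum.elim f₁ f₂ = fun s => ModSite.freeOn O (Sum.elim W₁ W₂ s) := by
    funext s
    cases s <;> rfl
  obtain ⟨j⟩ := coprod_congr _ _ heq
  refine ⟨κ₁ ⊕ κ₂, inferInstance, Sum.elim W₁ W₂, ?_, ⟨?_ ≪≫ j⟩⟩
  · rintro (k | k)
    · exact hW₁ k
    · exact hW₂ k
  · exact IsColimit.coconePointUniqueUpToIso hcomb (coproductIsCoproduct (Sum.elim f₁ f₂))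

end Groth.Agent.Lib.helper10.Qc9117

namespace Groth.Agent.Lib.helper10.Qc9117

variable {C : Type u} [SmallCategory C] {J : GrothendieckTopology C} {O : Sheaf J CommRingCat.{u}}
  {B : Set C}

/-- the kernel hypothesis, for arbitrary finite free modules -/
lemma hker' (hker : ∀ (m n : ℕ) (V : Fin m → C) (U : Fin n → C)
      (φ : (∐ fun j => ModSite.freeOn O (V j)) ⟶ ∐ fun i => ModSite.freeOn O (U i)),
      (∀ j, V j ∈ B) → (∀ i, U i ∈ B) → TA O B (kernel φ))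
    {M N : ModSite.Mod O} (hM : FF O B M) (hN : FF O B N) (φ : M ⟶ N) : TA O B (kernel φ) := by
  obtain ⟨m, V, hV, ⟨iM⟩⟩ := FFin_of_FF hM
  obtain ⟨n, U, hU, ⟨iN⟩⟩ := FFin_of_FF hN
  have h := hker m n V U (iM.inv ≫ φ ≫ iN.hom) hV hU
  refine TA_of_iso ?_ h
  exact (kernel.mapIso φ (iM.inv ≫ φ ≫ iN.hom) iM iN (by simp)).symm

/-- a finite cover of a finite free module, with a lift along an epimorphism -/
lemma exists_lift_cover
    (hB₁ : ∀ X : C, ∃ (κ : Type u) (Y : κ → C) (g : ∀ k, Y k ⟶ X),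
      Sieve.ofArrows Y g ∈ J X ∧ ∀ k, Y k ∈ B)
    (hB₂ : ∀ U ∈ B, CohCx.IsQcObject ((presheafToSheaf J (Type u)).obj (yoneda.obj U)))
    {n : ℕ} (U : Fin n → C) (hU : ∀ i, U i ∈ B) {G B₀ : ModSite.Mod O}
    (α' : (∐ fun i => ModSite.freeOn O (U i)) ⟶ G) (q : B₀ ⟶ G) [Epi q] :
    ∃ (A' : ModSite.Mod O) (_ : FF O B A') (e' : A' ⟶ ∐ fun i => ModSite.freeOn O (U i))
      (_ : Epi e') (t : A' ⟶ B₀), t ≫ q = e' ≫ α' := by
  classical
  have hl := fun i => exists_finite_lift O B hB₁ q (U i) (finCov_of_qc J (U i) (hB₂ _ (hU i)))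
    (sectAddEquiv O (U i) G (Sigma.ι (fun i => ModSite.freeOn O (U i)) i ≫ α'))
  choose r Y γ t hY hcov ht using hl
  let κ := Σ i : Fin n, Fin (r i)
  let X : κ → ModSite.Mod O := fun p => ModSite.freeOn O (Y p.1 p.2)
  let e' : ∐ X ⟶ ∐ fun i => ModSite.freeOn O (U i) :=
    Sigma.desc (fun p => fmap O (γ p.1 p.2) ≫ Sigma.ι (fun i => ModSite.freeOn O (U i)) p.1)
  let tt : ∐ X ⟶ B₀ := Sigma.desc (fun p => (sectAddEquiv O (Y p.1 p.2) B₀).symm (t p.1 p.2))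
  have he' : Epi e' := by
    rw [Preadditive.epi_iff_cancel_zero]
    intro Z g hg
    apply Sigma.hom_ext
    intro i
    rw [comp_zero]
    apply jointly_epi O (Y i) (γ i) (hcov i)
    intro k
    have h1 := congrArg (fun φ => Sigma.ι X ⟨i, k⟩ ≫ φ) hg
    simp only [comp_zero] at h1
    rw [← Category.assoc] at h1
    have h2 : Sigma.ι X ⟨i, k⟩ ≫ e' =
        fmap O (γ i k) ≫ Sigma.ι (fun i => ModSite.freeOn O (U i)) i :=
      Sigma.ι_desc _ _
    rw [h2, Category.assoc] at h1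
    exact h1
  refine ⟨∐ X, ⟨κ, inferInstance, fun p => Y p.1 p.2, fun p => hY _ _, ⟨Iso.refl _⟩⟩, e', he', tt, ?_⟩
  apply Sigma.hom_ext
  intro p
  have h2 : Sigma.ι X p ≫ e' =
      fmap O (γ p.1 p.2) ≫ Sigma.ι (fun i => ModSite.freeOn O (U i)) p.1 :=
    Sigma.ι_desc _ _
  have h3 : Sigma.ι X p ≫ tt = (sectAddEquiv O (Y p.1 p.2) B₀).symm (t p.1 p.2) :=
    Sigma.ι_desc _ _
  rw [← Category.assoc, ← Category.assoc, h2, h3]
  apply (sectAddEquiv O (Y p.1 p.2) G).injective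
  rw [sectAddEquiv_comp, AddEquiv.apply_symm_apply, ht, Category.assoc, sect_fmap_comp]

end Groth.Agent.Lib.helper10.Qc9117

namespace Groth.Agent.Lib.helper10.Qc9117

variable {C : Type u} [SmallCategory C] {J : GrothendieckTopology C}

theorem main9117 (O : Sheaf J CommRingCat.{u}) (B : Set C)
    (hB₁ : ∀ X : C, ∃ (κ : Type u) (Y : κ → C) (g : ∀ k, Y k ⟶ X), Sieve.ofArrows Y g ∈ J X ∧ ∀ k, Y k ∈ B)
    (hB₂ : ∀ U ∈ B, CohCx.IsQcObject ((presheafToSheaf J (Type u)).obj (yoneda.obj U)))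
    (hker : ∀ (m n : ℕ) (V : Fin m → C) (U : Fin n → C)
      (φ : (∐ fun j => ModSite.freeOn O (V j)) ⟶ ∐ fun i => ModSite.freeOn O (U i)),
      (∀ j, V j ∈ B) → (∀ i, U i ∈ B) → TA O B (kernel φ))
    (F G : ModSite.Mod O) (α : F ⟶ G) (hF : TA O B F) (hG : TA O B G) : TA O B (kernel α) := by
  have TA_coker : ∀ {F G : ModSite.Mod O} (α : F ⟶ G), TA O B F → TA O B G → TA O B (cokernel α) :=
    fun α hF hG => main9115 O B hB₁ hB₂ _ _ α hF hG
  obtain ⟨m, n, V, U, ψF, hV, hU, ⟨iF⟩⟩ := hF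
  obtain ⟨mG, nG, VG, UG, ψG, hVG, hUG, ⟨iG⟩⟩ := hG
  have ffA₁ : FF O B (∐ fun j => ModSite.freeOn O (V j)) := ⟨Fin m, inferInstance, V, hV, ⟨Iso.refl _⟩⟩
  have ffA₀ : FF O B (∐ fun i => ModSite.freeOn O (U i)) := ⟨Fin n, inferInstance, U, hU, ⟨Iso.refl _⟩⟩
  have ffB₁ : FF O B (∐ fun j => ModSite.freeOn O (VG j)) :=
    ⟨Fin mG, inferInstance, VG, hVG, ⟨Iso.refl _⟩⟩
  have ffB₀ : FF O B (∐ fun i => ModSite.freeOn O (UG i)) :=
    ⟨Fin nG, inferInstance, UG, hUG, ⟨Iso.refl _⟩⟩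
  let p : (∐ fun i => ModSite.freeOn O (U i)) ⟶ F := cokernel.π ψF ≫ iF.inv
  have hp : Epi p := epi_comp _ _
  let q : (∐ fun i => ModSite.freeOn O (UG i)) ⟶ G := cokernel.π ψG ≫ iG.inv
  have hq : Epi q := epi_comp _ _
  have w : ψG ≫ q = 0 := by
    simp only [q]
    rw [← Category.assoc, cokernel.condition, zero_comp]
  have hqc : IsColimit (CokernelCofork.ofπ q w) :=
    IsColimit.ofIsoColimit (cokernelIsCokernel ψG) (Cofork.ext iG.symm (by simp [q]))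
  -- Step 1: the kernel of `p`
  have s1 : TA O B (kernel p) := by
    have e1 : kernel p ≅ kernel (cokernel.π ψF) := kernelCompMono _ _
    have e2 : kernel (cokernel.π ψF) ≅ cokernel (kernel.ι ψF) := (Abelian.coimageIsoImage ψF).symm
    refine TA_of_iso (e1 ≪≫ e2).symm ?_
    exact TA_coker _ (hker' hker ffA₁ ffA₀ ψF) (TA_of_FFin (FFin_of_FF ffA₁))
  -- Step 2: the kernel of `p ≫ α`
  have s2 : TA O B (kernel (p ≫ α)) := by
    obtain ⟨A', ffA', e', he', t, hte⟩ := exists_lift_cover hB₁ hB₂ U hU (p ≫ α) q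
    have k1 : TA O B (kernel e') := hker' hker ffA' ffA₀ e'
    have k2 : TA O B (kernel (e' ≫ p ≫ α)) := by
      have e3 : kernel (e' ≫ p ≫ α) ≅ kernel (t ≫ q) := kernelIsoOfEq hte.symm
      refine TA_of_iso e3.symm ?_
      let f₂ : kernel ψG ⟶ kernel (biprod.desc t ψG) :=
        kernel.lift _ (kernel.ι ψG ≫ biprod.inr) (by
          rw [Category.assoc, biprod.inr_desc, kernel.condition])
      obtain ⟨e4⟩ := ker_comp_coker t ψG q w hqc f₂ (kernel.lift_ι _ _ _)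
      refine TA_of_iso e4.symm ?_
      exact TA_coker _ (hker' hker ffB₁ ffB₀ ψG) (hker' hker (FF_biprod ffA' ffB₁) ffB₀ _)
    let f₁ : kernel e' ⟶ kernel (e' ≫ p ≫ α) :=
      kernel.lift _ (kernel.ι e') (by rw [← Category.assoc, kernel.condition, zero_comp])
    obtain ⟨e5⟩ := ker_epi_comp e' (p ≫ α) f₁ (kernel.lift_ι _ _ _)
    refine TA_of_iso e5.symm ?_
    exact TA_coker _ k1 k2
  -- Step 3
  let f₀ : kernel p ⟶ kernel (p ≫ α) :=
    kernel.lift _ (kernel.ι p) (by rw [← Category.assoc, kernel.condition, zero_comp])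
  obtain ⟨e6⟩ := ker_epi_comp p α f₀ (kernel.lift_ι _ _ _)
  refine TA_of_iso e6.symm ?_
  exact TA_coker _ s1 s2

end Groth.Agent.Lib.helper10.Qc9117
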