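import Mathlib
import Groth.Agent.Lib.helper10.Qc9117

open CategoryTheory Opposite Limits
open Groth.Agent.Lib.helper10.QcSum Groth.Agent.Lib.helper10.QcCov Groth.Agent.Lib.helper10.SectHom
open Groth.Agent.Lib.helper10.Qc9103 Groth.Agent.Lib.helper10.EqConv Groth.Agent.Lib.helper10.Qc9115
open Groth.Agent.Lib.helper10.Qc9117

universe u

noncomputable section

namespace Groth.Agent.Lib.helper10.Qc9116a

variable {C : Type u} [SmallCategory C] {J : GrothendieckTopology C} (O : Sheaf J CommRingCat.{u})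

lemma glue [HasPullbacks C] (M : ModSite.Mod O) {U : C} {r : ℕ} (Y : Fin r → C)
    (γ : ∀ k, Y k ⟶ U) (hcov : Sieve.ofArrows Y γ ∈ J U) (x : ∀ k, ModSite.sect M (Y k))
    (hx : ∀ k l, σ M (pullback.fst (γ k) (γ l)) (x k) = σ M (pullback.snd (γ k) (γ l)) (x l)) :
    ∃ m : ModSite.sect M U, ∀ k, σ M (γ k) m = x k := by
  let P : Cᵒᵖ ⥤ Type u := M.val.presheaf ⋙ forget AddCommGrpCat
  have hP : Presieve.IsSheaf J P := (isSheaf_iff_isSheaf_of_type J P).1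
    ((Presheaf.isSheaf_iff_isSheaf_forget J M.val.presheaf (forget _)).1 M.isSheaf)
  have h1 : (Presieve.ofArrows Y γ).IsSheafFor P :=
    (Presieve.isSheafFor_iff_generate _).2 (hP _ hcov)
  obtain ⟨t, ht, -⟩ := (Presieve.isSheafFor_arrows_iff_pullbacks (P := P) (π := γ)).1 h1 x hx
  exact ⟨t, ht⟩

end Groth.Agent.Lib.helper10.Qc9116a

namespace Groth.Agent.Lib.helper10.Qc9116a

variable {C : Type u} [SmallCategory C] {J : GrothendieckTopology C} (O : Sheaf J CommRingCat.{u})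

lemma fmap_comp {X Y Z : C} (a : X ⟶ Y) (b : Y ⟶ Z) : fmap O (a ≫ b) = fmap O a ≫ fmap O b := by
  apply (sectAddEquiv O X (ModSite.freeOn O Z)).injective
  rw [sect_fmap_comp]
  unfold fmap
  rw [AddEquiv.apply_symm_apply, AddEquiv.apply_symm_apply, σ_comp]

/-- the canonical map from the free modules on a family of finite families of arrows -/
def covMap {ι : Type} [Fintype ι] (U : ι → C) (r : ι → ℕ) (Y : ∀ i, Fin (r i) → C)
    (γ : ∀ i k, Y i k ⟶ U i) :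
    (∐ fun p : Σ i, Fin (r i) => ModSite.freeOn O (Y p.1 p.2)) ⟶
      ∐ fun i => ModSite.freeOn O (U i) :=
  Sigma.desc (fun p => fmap O (γ p.1 p.2) ≫ Sigma.ι (fun i => ModSite.freeOn O (U i)) p.1)

lemma ι_covMap {ι : Type} [Fintype ι] (U : ι → C) (r : ι → ℕ) (Y : ∀ i, Fin (r i) → C)
    (γ : ∀ i k, Y i k ⟶ U i) (p : Σ i, Fin (r i)) :
    Sigma.ι (fun p : Σ i, Fin (r i) => ModSite.freeOn O (Y p.1 p.2)) p ≫ covMap O U r Y γ =
      fmap O (γ p.1 p.2) ≫ Sigma.ι (fun i => ModSite.freeOn O (U i)) p.1 :=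
  Sigma.ι_desc _ _

lemma covMap_epi {ι : Type} [Fintype ι] (U : ι → C) (r : ι → ℕ) (Y : ∀ i, Fin (r i) → C)
    (γ : ∀ i k, Y i k ⟶ U i) (hcov : ∀ i, Sieve.ofArrows (Y i) (γ i) ∈ J (U i)) :
    Epi (covMap O U r Y γ) := by
  rw [Preadditive.epi_iff_cancel_zero]
  intro Z g hg
  apply Sigma.hom_ext
  intro i
  rw [comp_zero]
  apply jointly_epi O (Y i) (γ i) (hcov i)
  intro k
  have h1 := congrArg (fun φ =>
    Sigma.ι (fun p : Σ i, Fin (r i) => ModSite.freeOn O (Y p.1 p.2)) ⟨i, k⟩ ≫ φ) hg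
  simp only [comp_zero] at h1
  rw [← Category.assoc, ι_covMap, Category.assoc] at h1
  exact h1

variable [HasPullbacks C]

/-- maps out of the cover killing the Čech relations descend -/
lemma cech_desc {ι : Type} [Fintype ι] (U : ι → C) (r : ι → ℕ) (Y : ∀ i, Fin (r i) → C)
    (γ : ∀ i k, Y i k ⟶ U i) (hcov : ∀ i, Sieve.ofArrows (Y i) (γ i) ∈ J (U i))
    {M : ModSite.Mod O}
    (h : (∐ fun p : Σ i, Fin (r i) => ModSite.freeOn O (Y p.1 p.2)) ⟶ M)
    (hh : ∀ i k l, fmap O (pullback.fst (γ i k) (γ i l)) ≫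
        Sigma.ι (fun p : Σ i, Fin (r i) => ModSite.freeOn O (Y p.1 p.2)) ⟨i, k⟩ ≫ h =
      fmap O (pullback.snd (γ i k) (γ i l)) ≫
        Sigma.ι (fun p : Σ i, Fin (r i) => ModSite.freeOn O (Y p.1 p.2)) ⟨i, l⟩ ≫ h) :
    ∃ h' : (∐ fun i => ModSite.freeOn O (U i)) ⟶ M, covMap O U r Y γ ≫ h' = h := by
  let x : ∀ i k, ModSite.sect M (Y i k) := fun i k => sectAddEquiv O (Y i k) M
    (Sigma.ι (fun p : Σ i, Fin (r i) => ModSite.freeOn O (Y p.1 p.2)) ⟨i, k⟩ ≫ h)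
  have hx : ∀ i k l, σ M (pullback.fst (γ i k) (γ i l)) (x i k) =
      σ M (pullback.snd (γ i k) (γ i l)) (x i l) := by
    intro i k l
    simp only [x]
    rw [← sect_fmap_comp, ← sect_fmap_comp, hh]
  choose m hm using fun i => glue O M (Y i) (γ i) (hcov i) (x i) (hx i)
  refine ⟨Sigma.desc (fun i => (sectAddEquiv O (U i) M).symm (m i)), ?_⟩
  apply Sigma.hom_ext
  intro p
  rw [← Category.assoc, ι_covMap, Category.assoc, Sigma.ι_desc]
  apply (sectAddEquiv O (Y p.1 p.2) M).injective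
  rw [sect_fmap_comp, AddEquiv.apply_symm_apply, hm]

end Groth.Agent.Lib.helper10.Qc9116a

namespace Groth.Agent.Lib.helper10.Qc9116a

variable {C : Type u} [SmallCategory C] {J : GrothendieckTopology C} (O : Sheaf J CommRingCat.{u})
  [HasPullbacks C]

/-- the Čech relations -/
def cechRel {ι : Type} [Fintype ι] (U : ι → C) (r : ι → ℕ) (Y : ∀ i, Fin (r i) → C)
    (γ : ∀ i k, Y i k ⟶ U i) :
    (∐ fun x : Σ i, Fin (r i) × Fin (r i) =>
        ModSite.freeOn O (pullback (γ x.1 x.2.1) (γ x.1 x.2.2))) ⟶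
      ∐ fun p : Σ i, Fin (r i) => ModSite.freeOn O (Y p.1 p.2) :=
  Sigma.desc (fun x =>
    fmap O (pullback.fst (γ x.1 x.2.1) (γ x.1 x.2.2)) ≫
      Sigma.ι (fun p : Σ i, Fin (r i) => ModSite.freeOn O (Y p.1 p.2)) ⟨x.1, x.2.1⟩ -
    fmap O (pullback.snd (γ x.1 x.2.1) (γ x.1 x.2.2)) ≫
      Sigma.ι (fun p : Σ i, Fin (r i) => ModSite.freeOn O (Y p.1 p.2)) ⟨x.1, x.2.2⟩)

lemma ι_cechRel {ι : Type} [Fintype ι] (U : ι → C) (r : ι → ℕ) (Y : ∀ i, Fin (r i) → C)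
    (γ : ∀ i k, Y i k ⟶ U i) (x : Σ i, Fin (r i) × Fin (r i)) :
    Sigma.ι (fun x : Σ i, Fin (r i) × Fin (r i) =>
        ModSite.freeOn O (pullback (γ x.1 x.2.1) (γ x.1 x.2.2))) x ≫ cechRel O U r Y γ =
    fmap O (pullback.fst (γ x.1 x.2.1) (γ x.1 x.2.2)) ≫
      Sigma.ι (fun p : Σ i, Fin (r i) => ModSite.freeOn O (Y p.1 p.2)) ⟨x.1, x.2.1⟩ -
    fmap O (pullback.snd (γ x.1 x.2.1) (γ x.1 x.2.2)) ≫
      Sigma.ι (fun p : Σ i, Fin (r i) => ModSite.freeOn O (Y p.1 p.2)) ⟨x.1, x.2.2⟩ :=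
  Sigma.ι_desc _ _

lemma cechRel_covMap {ι : Type} [Fintype ι] (U : ι → C) (r : ι → ℕ) (Y : ∀ i, Fin (r i) → C)
    (γ : ∀ i k, Y i k ⟶ U i) : cechRel O U r Y γ ≫ covMap O U r Y γ = 0 := by
  apply Sigma.hom_ext
  intro x
  rw [comp_zero, ← Category.assoc, ι_cechRel, Preadditive.sub_comp, Category.assoc,
    Category.assoc, ι_covMap, ι_covMap, ← Category.assoc, ← Category.assoc, ← fmap_comp,
    ← fmap_comp, pullback.condition, sub_self]

lemma cech_epi {ι : Type} [Fintype ι] (U : ι → C) (r : ι → ℕ) (Y : ∀ i, Fin (r i) → C)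
    (γ : ∀ i k, Y i k ⟶ U i) (hcov : ∀ i, Sieve.ofArrows (Y i) (γ i) ∈ J (U i)) :
    Epi (kernel.lift (covMap O U r Y γ) (cechRel O U r Y γ) (cechRel_covMap O U r Y γ)) := by
  have hepi := covMap_epi O U r Y γ hcov
  have hc : IsColimit (CokernelCofork.ofπ (covMap O U r Y γ) (cechRel_covMap O U r Y γ)) := by
    refine CokernelCofork.IsColimit.ofπ' _ _ (fun {M} g' hg' => ?_)
    have hh : ∀ i k l, fmap O (pullback.fst (γ i k) (γ i l)) ≫
        Sigma.ι (fun p : Σ i, Fin (r i) => ModSite.freeOn O (Y p.1 p.2)) ⟨i, k⟩ ≫ g' =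
      fmap O (pullback.snd (γ i k) (γ i l)) ≫
        Sigma.ι (fun p : Σ i, Fin (r i) => ModSite.freeOn O (Y p.1 p.2)) ⟨i, l⟩ ≫ g' := by
      intro i k l
      have h1 := congrArg (fun φ => Sigma.ι (fun x : Σ i, Fin (r i) × Fin (r i) =>
        ModSite.freeOn O (pullback (γ x.1 x.2.1) (γ x.1 x.2.2))) ⟨i, (k, l)⟩ ≫ φ) hg'
      simp only [comp_zero] at h1
      rw [← Category.assoc, ι_cechRel, Preadditive.sub_comp, sub_eq_zero, Category.assoc,
        Category.assoc] at h1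
      exact h1
    exact ⟨(cech_desc O U r Y γ hcov g' hh).choose, (cech_desc O U r Y γ hcov g' hh).choose_spec⟩
  have hex := (ShortComplex.mk _ _ (cechRel_covMap O U r Y γ)).exact_of_g_is_cokernel hc
  exact (ShortComplex.exact_iff_epi_kernel_lift _).1 hex

end Groth.Agent.Lib.helper10.Qc9116a
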