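import Mathlib
import Groth.Agent.Lib.helper10.Qc9116a

open CategoryTheory Opposite Limits
open Groth.Agent.Lib.helper10.QcSum Groth.Agent.Lib.helper10.QcCov Groth.Agent.Lib.helper10.SectHom
open Groth.Agent.Lib.helper10.Qc9103 Groth.Agent.Lib.helper10.EqConv Groth.Agent.Lib.helper10.Qc9115
open Groth.Agent.Lib.helper10.Qc9117 Groth.Agent.Lib.helper10.Qc9116a

universe u

noncomputable section

namespace Groth.Agent.Lib.helper10.Qc9116b

section abstract3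
variable {𝒜 : Type*} [Category 𝒜] [Abelian 𝒜]

/-- generators of an extension -/
theorem epi_desc_of_exact (S : ShortComplex 𝒜) (hS : S.Exact) {D' A' : 𝒜} (d' : D' ⟶ S.X₁)
    [Epi d'] (t : A' ⟶ S.X₂) (ht : Epi (t ≫ S.g)) : Epi (biprod.desc (d' ≫ S.f) t) := by
  rw [epi_iff_surjective_up_to_refinements]
  intro T z
  obtain ⟨T₁, π₁, hπ₁, x, hx⟩ := surjective_up_to_refinements_of_epi (t ≫ S.g) (z ≫ S.g)
  have h0 : (π₁ ≫ z - x ≫ t) ≫ S.g = 0 := by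
    rw [Preadditive.sub_comp, Category.assoc, Category.assoc, hx, sub_self]
  obtain ⟨T₂, π₂, hπ₂, y, hy⟩ := hS.exact_up_to_refinements _ h0
  obtain ⟨T₃, π₃, hπ₃, y', hy'⟩ := surjective_up_to_refinements_of_epi d' y
  refine ⟨T₃, π₃ ≫ π₂ ≫ π₁, inferInstance, biprod.lift y' (π₃ ≫ π₂ ≫ x), ?_⟩
  have e1 : biprod.lift y' (π₃ ≫ π₂ ≫ x) ≫ biprod.desc (d' ≫ S.f) t =
      y' ≫ d' ≫ S.f + (π₃ ≫ π₂ ≫ x) ≫ t := by
    rw [biprod.lift_desc]
  rw [e1, ← Category.assoc y', ← hy', Category.assoc π₃ y, ← hy]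
  simp only [Preadditive.comp_sub, Preadditive.sub_comp, Category.assoc]
  abel

/-- the kernel sequence of a composition with an epimorphism -/
theorem ker_seq {P Q H : 𝒜} (e : P ⟶ Q) [Epi e] (β : Q ⟶ H) :
    ∃ (f₁ : kernel e ⟶ kernel (e ≫ β)) (g₁ : kernel (e ≫ β) ⟶ kernel β) (hz : f₁ ≫ g₁ = 0),
      (ShortComplex.mk f₁ g₁ hz).Exact ∧ Epi g₁ := by
  let f₁ : kernel e ⟶ kernel (e ≫ β) :=
    kernel.lift _ (kernel.ι e) (by rw [← Category.assoc, kernel.condition, zero_comp])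
  have hf₁ : f₁ ≫ kernel.ι (e ≫ β) = kernel.ι e := kernel.lift_ι _ _ _
  let g₁ : kernel (e ≫ β) ⟶ kernel β := kernel.lift β (kernel.ι (e ≫ β) ≫ e)
    (by rw [Category.assoc, kernel.condition])
  have hg₁ : g₁ ≫ kernel.ι β = kernel.ι (e ≫ β) ≫ e := kernel.lift_ι _ _ _
  have hz : f₁ ≫ g₁ = 0 := by
    rw [← cancel_mono (kernel.ι β), Category.assoc, hg₁, ← Category.assoc, hf₁, kernel.condition,
      zero_comp]
  refine ⟨f₁, g₁, hz, ?_, ?_⟩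
  · rw [ShortComplex.exact_iff_exact_up_to_refinements]
    intro T k hk
    have hk' : k ≫ g₁ = 0 := hk
    have h1 : (k ≫ kernel.ι (e ≫ β)) ≫ e = 0 := by
      rw [Category.assoc, ← hg₁, ← Category.assoc, hk', zero_comp]
    refine ⟨T, 𝟙 T, inferInstance, kernel.lift e (k ≫ kernel.ι (e ≫ β)) h1, ?_⟩
    change 𝟙 T ≫ k = kernel.lift e (k ≫ kernel.ι (e ≫ β)) h1 ≫ f₁
    rw [Category.id_comp, ← cancel_mono (kernel.ι (e ≫ β)), Category.assoc, hf₁, kernel.lift_ι]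
  · rw [epi_iff_surjective_up_to_refinements]
    intro T z
    obtain ⟨T', π, hπ, x, hx⟩ := surjective_up_to_refinements_of_epi e (z ≫ kernel.ι β)
    have h1 : x ≫ e ≫ β = 0 := by
      rw [← Category.assoc, ← hx, Category.assoc, Category.assoc, kernel.condition, comp_zero,
        comp_zero]
    refine ⟨T', π, hπ, kernel.lift (e ≫ β) x h1, ?_⟩
    rw [← cancel_mono (kernel.ι β), Category.assoc, Category.assoc, hg₁, kernel.lift_ι_assoc]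
    exact hx

/-- the kernel of the generators of an extension, as an extension -/
theorem ker_ext_seq (S : ShortComplex 𝒜) (hS : S.Exact) [Mono S.f] {A₀ C' : 𝒜}
    (p₁ : A₀ ⟶ S.X₁) [Epi p₁] (t : C' ⟶ S.X₂) (β : C' ⟶ S.X₃) (hβ : t ≫ S.g = β) :
    ∃ (f₃ : kernel p₁ ⟶ kernel (biprod.desc (p₁ ≫ S.f) t))
      (g₃ : kernel (biprod.desc (p₁ ≫ S.f) t) ⟶ kernel β) (hz : f₃ ≫ g₃ = 0),
      (ShortComplex.mk f₃ g₃ hz).Exact ∧ Epi g₃ := by
  let P : A₀ ⊞ C' ⟶ S.X₂ := biprod.desc (p₁ ≫ S.f) t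
  have hP : ∀ {T : 𝒜} (m : T ⟶ A₀ ⊞ C'),
      m ≫ P = (m ≫ biprod.fst) ≫ p₁ ≫ S.f + (m ≫ biprod.snd) ≫ t := by
    intro T m
    have : m = (m ≫ biprod.fst) ≫ biprod.inl + (m ≫ biprod.snd) ≫ biprod.inr := by
      rw [Category.assoc, Category.assoc, ← Preadditive.comp_add, biprod.total, Category.comp_id]
    conv_lhs => rw [this]
    simp only [P, Preadditive.add_comp, Category.assoc, biprod.inl_desc, biprod.inr_desc]
  have hsplit : ∀ {T : 𝒜} (m : T ⟶ A₀ ⊞ C'),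
      m = (m ≫ biprod.fst) ≫ biprod.inl + (m ≫ biprod.snd) ≫ biprod.inr := by
    intro T m
    rw [Category.assoc, Category.assoc, ← Preadditive.comp_add, biprod.total, Category.comp_id]
  have c1 : (kernel.ι p₁ ≫ biprod.inl) ≫ P = 0 := by
    simp only [P]
    rw [Category.assoc, biprod.inl_desc, ← Category.assoc, kernel.condition, zero_comp]
  let f₃ : kernel p₁ ⟶ kernel P := kernel.lift P (kernel.ι p₁ ≫ biprod.inl) c1
  have hf₃ : f₃ ≫ kernel.ι P = kernel.ι p₁ ≫ biprod.inl := kernel.lift_ι _ _ _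
  have c2 : (kernel.ι P ≫ biprod.snd) ≫ β = 0 := by
    have h := hP (kernel.ι P)
    rw [kernel.condition] at h
    have h' : (kernel.ι P ≫ biprod.snd) ≫ t = - ((kernel.ι P ≫ biprod.fst) ≫ p₁ ≫ S.f) :=
      eq_neg_of_add_eq_zero_right h.symm
    rw [← hβ, ← Category.assoc, h', Preadditive.neg_comp]
    simp only [Category.assoc, S.zero, comp_zero, neg_zero]
  let g₃ : kernel P ⟶ kernel β := kernel.lift β (kernel.ι P ≫ biprod.snd) c2
  have hg₃ : g₃ ≫ kernel.ι β = kernel.ι P ≫ biprod.snd := kernel.lift_ι _ _ _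
  have hz : f₃ ≫ g₃ = 0 := by
    rw [← cancel_mono (kernel.ι β), Category.assoc, hg₃, ← Category.assoc, hf₃, Category.assoc,
      biprod.inl_snd, comp_zero, zero_comp]
  refine ⟨f₃, g₃, hz, ?_, ?_⟩
  · rw [ShortComplex.exact_iff_exact_up_to_refinements]
    intro T k hk
    have hk' : k ≫ g₃ = 0 := hk
    have h1 : (k ≫ kernel.ι P) ≫ biprod.snd = 0 := by
      rw [Category.assoc, ← hg₃, ← Category.assoc, hk', zero_comp]
    have h2 : (((k ≫ kernel.ι P) ≫ biprod.fst) ≫ p₁) ≫ S.f = 0 := by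
      have h := hP (k ≫ kernel.ι P)
      rw [Category.assoc, kernel.condition, comp_zero, h1, zero_comp, add_zero] at h
      rw [Category.assoc]
      exact h.symm
    have h3 : ((k ≫ kernel.ι P) ≫ biprod.fst) ≫ p₁ = 0 := by
      rw [← cancel_mono S.f, h2, zero_comp]
    refine ⟨T, 𝟙 T, inferInstance, kernel.lift p₁ ((k ≫ kernel.ι P) ≫ biprod.fst) h3, ?_⟩
    change 𝟙 T ≫ k = kernel.lift p₁ ((k ≫ kernel.ι P) ≫ biprod.fst) h3 ≫ f₃
    rw [Category.id_comp, ← cancel_mono (kernel.ι P), Category.assoc, hf₃, ← Category.assoc,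
      kernel.lift_ι]
    have := hsplit (k ≫ kernel.ι P)
    rw [h1, zero_comp, add_zero] at this
    exact this
  · rw [epi_iff_surjective_up_to_refinements]
    intro T z
    have hc : ((z ≫ kernel.ι β) ≫ t) ≫ S.g = 0 := by
      rw [Category.assoc, hβ, Category.assoc, kernel.condition, comp_zero]
    obtain ⟨T₁, π₁, hπ₁, y, hy⟩ := hS.exact_up_to_refinements _ hc
    obtain ⟨T₂, π₂, hπ₂, a, ha⟩ := surjective_up_to_refinements_of_epi p₁ y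
    let m : T₂ ⟶ A₀ ⊞ C' := biprod.lift (-a) (π₂ ≫ π₁ ≫ z ≫ kernel.ι β)
    have hm : m ≫ P = 0 := by
      rw [hP, biprod.lift_fst, biprod.lift_snd, Preadditive.neg_comp, ← Category.assoc a, ← ha]
      have : (π₂ ≫ π₁ ≫ z ≫ kernel.ι β) ≫ t = π₂ ≫ (π₁ ≫ (z ≫ kernel.ι β) ≫ t) := by
        simp only [Category.assoc]
      rw [this, hy, Category.assoc]
      exact neg_add_cancel _
    refine ⟨T₂, π₂ ≫ π₁, inferInstance, kernel.lift P m hm, ?_⟩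
    rw [← cancel_mono (kernel.ι β)]
    simp only [Category.assoc]
    rw [hg₃, kernel.lift_ι_assoc, biprod.lift_snd]

end abstract3

end Groth.Agent.Lib.helper10.Qc9116b

namespace Groth.Agent.Lib.helper10.Qc9116b

variable {C : Type u} [SmallCategory C] {J : GrothendieckTopology C} {O : Sheaf J CommRingCat.{u}}
  {B : Set C}

/-- finitely generated by free modules on members of `B` -/
def FG (O : Sheaf J CommRingCat.{u}) (B : Set C) (M : ModSite.Mod O) : Prop :=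
  ∃ (D : ModSite.Mod O) (_ : FF O B D) (d : D ⟶ M), Epi d

lemma FG_of_epi {M N : ModSite.Mod O} (h : FG O B M) (π : M ⟶ N) [Epi π] : FG O B N := by
  obtain ⟨D, hD, d, hd⟩ := h
  exact ⟨D, hD, d ≫ π, epi_comp _ _⟩

lemma FG_of_FF {M : ModSite.Mod O} (h : FF O B M) : FG O B M := ⟨M, h, 𝟙 M, inferInstance⟩

/-- extensions of finitely generated modules are finitely generated -/
lemma FG_ext
    (hB₁ : ∀ X : C, ∃ (κ : Type u) (Y : κ → C) (g : ∀ k, Y k ⟶ X),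
      Sieve.ofArrows Y g ∈ J X ∧ ∀ k, Y k ∈ B)
    (hB₂ : ∀ U ∈ B, CohCx.IsQcObject ((presheafToSheaf J (Type u)).obj (yoneda.obj U)))
    (S : ShortComplex (ModSite.Mod O)) (hS : S.Exact) [Epi S.g]
    (h₁ : FG O B S.X₁) (h₃ : FG O B S.X₃) : FG O B S.X₂ := by
  obtain ⟨D', hD', d', hd'⟩ := h₁
  obtain ⟨D'', hD'', d'', hd''⟩ := h₃
  obtain ⟨n, U, hU, ⟨j⟩⟩ := FFin_of_FF hD''
  obtain ⟨A', ffA', e', he', t, hte⟩ := exists_lift_cover hB₁ hB₂ U hU (j.inv ≫ d'') S.g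
  have ht : Epi (t ≫ S.g) := by
    rw [hte]
    exact epi_comp _ _
  have := epi_desc_of_exact S hS d' t ht
  exact ⟨D' ⊞ A', FF_biprod hD' ffA', biprod.desc (d' ≫ S.f) t, this⟩

/-- the kernel of a cokernel projection is finitely generated -/
lemma FG_ker_coker {A₁ A₀ M : ModSite.Mod O} (hA₁ : FF O B A₁) (ψ : A₁ ⟶ A₀)
    (i : M ≅ cokernel ψ) : FG O B (kernel (cokernel.π ψ ≫ i.inv)) := by
  have e1 : kernel (cokernel.π ψ ≫ i.inv) ≅ kernel (cokernel.π ψ) := kernelCompMono _ _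
  have h : FG O B (kernel (cokernel.π ψ)) :=
    ⟨A₁, hA₁, Abelian.factorThruImage ψ, inferInstance⟩
  exact FG_of_epi h e1.inv

/-- a module with finitely many generators and finitely generated relations is of type A -/
lemma TA_of_epi_FG {D₀ M : ModSite.Mod O} (hD₀ : FF O B D₀) (P : D₀ ⟶ M) [Epi P]
    (hK : FG O B (kernel P)) : TA O B M := by
  obtain ⟨D, hD, d, hd⟩ := hK
  obtain ⟨m, V, hV, ⟨iD⟩⟩ := FFin_of_FF hD
  obtain ⟨n, U, hU, ⟨iD₀⟩⟩ := FFin_of_FF hD₀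
  let ψ : D ⟶ D₀ := d ≫ kernel.ι P
  have hc : IsColimit (CokernelCofork.ofπ P (kernel.condition P)) :=
    Abelian.epiIsCokernelOfKernel (KernelFork.ofι (kernel.ι P) (kernel.condition P))
      (kernelIsKernel P)
  have e1 : cokernel (kernel.ι P) ≅ M :=
    IsColimit.coconePointUniqueUpToIso (cokernelIsCokernel (kernel.ι P)) hc
  have e2 : cokernel ψ ≅ cokernel (kernel.ι P) := cokernelEpiComp d (kernel.ι P)
  let ψ' := iD.inv ≫ ψ ≫ iD₀.hom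
  have e3 : cokernel ψ ≅ cokernel ψ' := cokernel.mapIso ψ ψ' iD iD₀ (by simp [ψ'])
  exact ⟨m, n, V, U, ψ', hV, hU, ⟨e1.symm ≪≫ e2.symm ≪≫ e3⟩⟩

end Groth.Agent.Lib.helper10.Qc9116b

namespace Groth.Agent.Lib.helper10.Qc9116b

variable {C : Type u} [SmallCategory C] {J : GrothendieckTopology C} {O : Sheaf J CommRingCat.{u}}
  {B : Set C} [HasPullbacks C]

/-- the kernel of the map of free modules attached to finite covers is finitely generated -/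
lemma FG_kernel_covMap
    (hB₁ : ∀ X : C, ∃ (κ : Type u) (Y : κ → C) (g : ∀ k, Y k ⟶ X),
      Sieve.ofArrows Y g ∈ J X ∧ ∀ k, Y k ∈ B)
    (hB₃ : ∀ (U U₁ U₂ : C) (f₁ : U₁ ⟶ U) (f₂ : U₂ ⟶ U), U ∈ B → U₁ ∈ B → U₂ ∈ B →
      CohCx.IsQcObject ((presheafToSheaf J (Type u)).obj (yoneda.obj (pullback f₁ f₂))))
    {ι : Type} [Fintype ι] (U : ι → C) (hU : ∀ i, U i ∈ B) (r : ι → ℕ) (Y : ∀ i, Fin (r i) → C)
    (hY : ∀ i k, Y i k ∈ B)
    (γ : ∀ i k, Y i k ⟶ U i) (hcov : ∀ i, Sieve.ofArrows (Y i) (γ i) ∈ J (U i)) :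
    FG O B (kernel (covMap O U r Y γ)) := by
  classical
  have hZ : ∀ x : Σ i, Fin (r i) × Fin (r i),
      FinCov J (pullback (γ x.1 x.2.1) (γ x.1 x.2.2)) :=
    fun x => finCov_of_qc J _ (hB₃ _ _ _ _ _ (hU x.1) (hY _ _) (hY _ _))
  have hl := fun x : Σ i, Fin (r i) × Fin (r i) =>
    exists_finite_lift O B hB₁ (𝟙 (ModSite.freeOn O (pullback (γ x.1 x.2.1) (γ x.1 x.2.2))))
      (pullback (γ x.1 x.2.1) (γ x.1 x.2.2)) (hZ x) 0
  choose r' W b _t hW hcov' _ht using hl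
  have hepi1 := covMap_epi O (fun x : Σ i, Fin (r i) × Fin (r i) =>
    pullback (γ x.1 x.2.1) (γ x.1 x.2.2)) r' W b hcov'
  have hepi2 := cech_epi O U r Y γ hcov
  have hFF : FF O B (∐ fun p : Σ x : (Σ i, Fin (r i) × Fin (r i)), Fin (r' x) =>
      ModSite.freeOn O (W p.1 p.2)) :=
    ⟨(Σ x : (Σ i, Fin (r i) × Fin (r i)), Fin (r' x)), inferInstance, fun p => W p.1 p.2,
      fun p => hW _ _, ⟨Iso.refl _⟩⟩
  exact ⟨_, hFF, covMap O (fun x : Σ i, Fin (r i) × Fin (r i) =>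
      pullback (γ x.1 x.2.1) (γ x.1 x.2.2)) r' W b ≫
      kernel.lift _ _ (cechRel_covMap O U r Y γ), epi_comp _ _⟩

theorem main9116 (O : Sheaf J CommRingCat.{u}) (B : Set C)
    (hB₁ : ∀ X : C, ∃ (κ : Type u) (Y : κ → C) (g : ∀ k, Y k ⟶ X),
      Sieve.ofArrows Y g ∈ J X ∧ ∀ k, Y k ∈ B)
    (hB₂ : ∀ U ∈ B, CohCx.IsQcObject ((presheafToSheaf J (Type u)).obj (yoneda.obj U)))
    (hB₃ : ∀ (U U₁ U₂ : C) (f₁ : U₁ ⟶ U) (f₂ : U₂ ⟶ U), U ∈ B → U₁ ∈ B → U₂ ∈ B →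
      CohCx.IsQcObject ((presheafToSheaf J (Type u)).obj (yoneda.obj (pullback f₁ f₂))))
    (S : ShortComplex (ModSite.Mod O)) (hS : S.ShortExact)
    (h₁ : TA O B S.X₁) (h₃ : TA O B S.X₃) : TA O B S.X₂ := by
  classical
  obtain ⟨m₁, n₁, V₁, U₁, ψ₁, hV₁, hU₁, ⟨i₁⟩⟩ := h₁
  obtain ⟨m₃, n₃, V₃, U₃, ψ₃, hV₃, hU₃, ⟨i₃⟩⟩ := h₃
  have hmono := hS.mono_f
  have hepi := hS.epi_g
  let p₁ : (∐ fun i => ModSite.freeOn O (U₁ i)) ⟶ S.X₁ := cokernel.π ψ₁ ≫ i₁.inv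
  let p₃ : (∐ fun i => ModSite.freeOn O (U₃ i)) ⟶ S.X₃ := cokernel.π ψ₃ ≫ i₃.inv
  have hp₁ : Epi p₁ := epi_comp _ _
  have hp₃ : Epi p₃ := epi_comp _ _
  have hl := fun i => exists_finite_lift O B hB₁ S.g (U₃ i)
    (finCov_of_qc J (U₃ i) (hB₂ _ (hU₃ i)))
    (sectAddEquiv O (U₃ i) S.X₃ (Sigma.ι (fun i => ModSite.freeOn O (U₃ i)) i ≫ p₃))
  choose r Y γ tsec hY hcov ht using hl
  let e' := covMap O U₃ r Y γ
  have he' : Epi e' := covMap_epi O U₃ r Y γ hcov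
  let t : (∐ fun p : Σ i, Fin (r i) => ModSite.freeOn O (Y p.1 p.2)) ⟶ S.X₂ :=
    Sigma.desc (fun p => (sectAddEquiv O (Y p.1 p.2) S.X₂).symm (tsec p.1 p.2))
  have hte : t ≫ S.g = e' ≫ p₃ := by
    apply Sigma.hom_ext
    intro p
    have h3 : Sigma.ι (fun p : Σ i, Fin (r i) => ModSite.freeOn O (Y p.1 p.2)) p ≫ t =
        (sectAddEquiv O (Y p.1 p.2) S.X₂).symm (tsec p.1 p.2) :=
      Sigma.ι_desc _ _
    have h2 : Sigma.ι (fun p : Σ i, Fin (r i) => ModSite.freeOn O (Y p.1 p.2)) p ≫ e' =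
        fmap O (γ p.1 p.2) ≫ Sigma.ι (fun i => ModSite.freeOn O (U₃ i)) p.1 :=
      ι_covMap O U₃ r Y γ p
    rw [← Category.assoc, ← Category.assoc, h2, h3]
    apply (sectAddEquiv O (Y p.1 p.2) S.X₃).injective
    rw [sectAddEquiv_comp, AddEquiv.apply_symm_apply, ht, Category.assoc, sect_fmap_comp]
  have hK_e : FG O B (kernel e') := FG_kernel_covMap hB₁ hB₃ U₃ hU₃ r Y hY γ hcov
  have hK₃ : FG O B (kernel p₃) :=
    FG_ker_coker ⟨Fin m₃, inferInstance, V₃, hV₃, ⟨Iso.refl _⟩⟩ ψ₃ i₃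
  have hK₁ : FG O B (kernel p₁) :=
    FG_ker_coker ⟨Fin m₁, inferInstance, V₁, hV₁, ⟨Iso.refl _⟩⟩ ψ₁ i₁
  obtain ⟨f₁, g₁, hz₁, hex₁, hepi₁⟩ := ker_seq e' p₃
  have hK_β : FG O B (kernel (e' ≫ p₃)) := by
    have : Epi (ShortComplex.mk f₁ g₁ hz₁).g := hepi₁
    exact FG_ext hB₁ hB₂ (ShortComplex.mk f₁ g₁ hz₁) hex₁ hK_e hK₃
  obtain ⟨f₃, g₃, hz₃, hex₃, hepi₃⟩ := ker_ext_seq S hS.exact p₁ t (e' ≫ p₃) hte
  have hK_P : FG O B (kernel (biprod.desc (p₁ ≫ S.f) t)) := by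
    have : Epi (ShortComplex.mk f₃ g₃ hz₃).g := hepi₃
    exact FG_ext hB₁ hB₂ (ShortComplex.mk f₃ g₃ hz₃) hex₃ hK₁ hK_β
  have hPepi : Epi (biprod.desc (p₁ ≫ S.f) t) :=
    epi_desc_of_exact S hS.exact p₁ t (by rw [hte]; exact epi_comp _ _)
  have hFF₁ : FF O B (∐ fun i => ModSite.freeOn O (U₁ i)) :=
    ⟨Fin n₁, inferInstance, U₁, hU₁, ⟨Iso.refl _⟩⟩
  have hFF₂ : FF O B (∐ fun p : Σ i, Fin (r i) => ModSite.freeOn O (Y p.1 p.2)) :=
    ⟨(Σ i, Fin (r i)), inferInstance, fun p => Y p.1 p.2, fun p => hY _ _, ⟨Iso.refl _⟩⟩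
  exact TA_of_epi_FG (FF_biprod hFF₁ hFF₂) _ hK_P

end Groth.Agent.Lib.helper10.Qc9116b
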