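import Mathlib
import Groth.Agent.Lib.helper10.Qc9116b

open CategoryTheory Opposite Limits
open Groth.Agent.Lib.helper10.QcSum Groth.Agent.Lib.helper10.QcCov Groth.Agent.Lib.helper10.SectHom
open Groth.Agent.Lib.helper10.Qc9103 Groth.Agent.Lib.helper10.EqConv Groth.Agent.Lib.helper10.Qc9115
open Groth.Agent.Lib.helper10.Qc9117 Groth.Agent.Lib.helper10.Qc9116a Groth.Agent.Lib.helper10.Qc9116b

universe u

noncomputable section

namespace Groth.Agent.Lib.helper10.Fc9114a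

variable {C : Type u} [SmallCategory C] {J : GrothendieckTopology C} {O : Sheaf J CommRingCat.{u}}
  {B : Set C}

/-- type A modules are closed under binary direct sums -/
lemma TA_biprod
    (hB₁ : ∀ X : C, ∃ (κ : Type u) (Y : κ → C) (g : ∀ k, Y k ⟶ X),
      Sieve.ofArrows Y g ∈ J X ∧ ∀ k, Y k ∈ B)
    (hB₂ : ∀ U ∈ B, CohCx.IsQcObject ((presheafToSheaf J (Type u)).obj (yoneda.obj U)))
    {A₁ A₂ : ModSite.Mod O} (h₁ : TA O B A₁) (h₂ : TA O B A₂) : TA O B (A₁ ⊞ A₂) := by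
  obtain ⟨m₁, n₁, V₁, U₁, ψ₁, hV₁, hU₁, ⟨i₁⟩⟩ := h₁
  obtain ⟨m₂, n₂, V₂, U₂, ψ₂, hV₂, hU₂, ⟨i₂⟩⟩ := h₂
  let p₁ : (∐ fun i => ModSite.freeOn O (U₁ i)) ⟶ A₁ := cokernel.π ψ₁ ≫ i₁.inv
  let p₂ : (∐ fun i => ModSite.freeOn O (U₂ i)) ⟶ A₂ := cokernel.π ψ₂ ≫ i₂.inv
  have hp₁ : Epi p₁ := epi_comp _ _
  have hp₂ : Epi p₂ := epi_comp _ _
  let S : ShortComplex (ModSite.Mod O) :=
    ShortComplex.mk (biprod.inl : A₁ ⟶ A₁ ⊞ A₂) biprod.snd biprod.inl_snd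
  have hS : S.Exact := by
    rw [ShortComplex.exact_iff_exact_up_to_refinements]
    intro T k hk
    have hk' : k ≫ (biprod.snd : A₁ ⊞ A₂ ⟶ A₂) = 0 := hk
    refine ⟨T, 𝟙 T, inferInstance, k ≫ biprod.fst, ?_⟩
    change 𝟙 T ≫ k = (k ≫ biprod.fst) ≫ biprod.inl
    have h := congrArg (fun z => k ≫ z) (biprod.total (X := A₁) (Y := A₂))
    simp only [Preadditive.comp_add, Category.comp_id] at h
    rw [← Category.assoc k biprod.snd, hk', zero_comp, add_zero] at h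
    rw [Category.id_comp, Category.assoc]
    exact h.symm
  have hmono : Mono S.f := (inferInstance : Mono (biprod.inl : A₁ ⟶ A₁ ⊞ A₂))
  let t : (∐ fun i => ModSite.freeOn O (U₂ i)) ⟶ S.X₂ := p₂ ≫ biprod.inr
  have hβ : t ≫ S.g = p₂ := by
    change (p₂ ≫ biprod.inr) ≫ biprod.snd = p₂
    rw [Category.assoc, biprod.inr_snd, Category.comp_id]
  have hK₁ : FG O B (kernel p₁) :=
    FG_ker_coker ⟨Fin m₁, inferInstance, V₁, hV₁, ⟨Iso.refl _⟩⟩ ψ₁ i₁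
  have hK₂ : FG O B (kernel p₂) :=
    FG_ker_coker ⟨Fin m₂, inferInstance, V₂, hV₂, ⟨Iso.refl _⟩⟩ ψ₂ i₂
  obtain ⟨f₃, g₃, hz₃, hex₃, hepi₃⟩ := ker_ext_seq S hS p₁ t p₂ hβ
  have hK_P : FG O B (kernel (biprod.desc (p₁ ≫ S.f) t)) := by
    have : Epi (ShortComplex.mk f₃ g₃ hz₃).g := hepi₃
    exact FG_ext hB₁ hB₂ (ShortComplex.mk f₃ g₃ hz₃) hex₃ hK₁ hK₂
  have hPepi : Epi (biprod.desc (p₁ ≫ S.f) t) :=
    epi_desc_of_exact S hS p₁ t (by rw [hβ]; exact hp₂)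
  have hFF₁ : FF O B (∐ fun i => ModSite.freeOn O (U₁ i)) :=
    ⟨Fin n₁, inferInstance, U₁, hU₁, ⟨Iso.refl _⟩⟩
  have hFF₂ : FF O B (∐ fun i => ModSite.freeOn O (U₂ i)) :=
    ⟨Fin n₂, inferInstance, U₂, hU₂, ⟨Iso.refl _⟩⟩
  exact TA_of_epi_FG (FF_biprod hFF₁ hFF₂) _ hK_P

variable (O B) in
/-- the small category of type A modules over `F` -/
structure Lam (F : ModSite.Mod O) : Type u where
  m : ℕ
  n : ℕ
  V : Fin m → C
  U : Fin n → C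
  ψ : (∐ fun j => ModSite.freeOn O (V j)) ⟶ ∐ fun i => ModSite.freeOn O (U i)
  hV : ∀ j, V j ∈ B
  hU : ∀ i, U i ∈ B
  hom : cokernel ψ ⟶ F

variable {F : ModSite.Mod O}

abbrev Lam.obj (l : Lam O B F) : ModSite.Mod O := cokernel l.ψ

lemma Lam.ta (l : Lam O B F) : TA O B l.obj :=
  ⟨l.m, l.n, l.V, l.U, l.ψ, l.hV, l.hU, ⟨Iso.refl _⟩⟩

@[ext]
structure LHom (l₁ l₂ : Lam O B F) where
  g : l₁.obj ⟶ l₂.obj
  w : g ≫ l₂.hom = l₁.hom

instance : Category (Lam O B F) where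
  Hom := LHom
  id l := ⟨𝟙 _, Category.id_comp _⟩
  comp f g := ⟨f.g ≫ g.g, by rw [Category.assoc, g.w, f.w]⟩
  id_comp f := by
    apply LHom.ext
    exact Category.id_comp _
  comp_id f := by
    apply LHom.ext
    exact Category.comp_id _
  assoc f g h := by
    apply LHom.ext
    exact Category.assoc _ _ _

lemma comp_g {l₁ l₂ l₃ : Lam O B F} (f : l₁ ⟶ l₂) (g : l₂ ⟶ l₃) : (f ≫ g).g = f.g ≫ g.g := rfl

lemma id_g (l : Lam O B F) : (𝟙 l : l ⟶ l).g = 𝟙 l.obj := rfl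

lemma exists_lam (A : ModSite.Mod O) (hA : TA O B A) (a : A ⟶ F) :
    ∃ (l : Lam O B F) (e : A ≅ l.obj), e.hom ≫ l.hom = a := by
  obtain ⟨m, n, V, U, ψ, hV, hU, ⟨i⟩⟩ := hA
  refine ⟨⟨m, n, V, U, ψ, hV, hU, i.inv ≫ a⟩, i, ?_⟩
  change i.hom ≫ (i.inv ≫ a) = a
  rw [Iso.hom_inv_id_assoc]

variable (O B F) in
/-- the diagram -/
def DD : Lam O B F ⥤ ModSite.Mod O where
  obj l := l.obj
  map f := f.g
  map_id _ := rfl
  map_comp _ _ := rfl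

variable (O B F) in
def ιι : DD O B F ⟶ (Functor.const (Lam O B F)).obj F where
  app l := l.hom
  naturality l₁ l₂ f := by
    change f.g ≫ l₂.hom = l₁.hom ≫ 𝟙 F
    rw [f.w, Category.comp_id]

lemma isFiltered
    (hB₁ : ∀ X : C, ∃ (κ : Type u) (Y : κ → C) (g : ∀ k, Y k ⟶ X),
      Sieve.ofArrows Y g ∈ J X ∧ ∀ k, Y k ∈ B)
    (hB₂ : ∀ U ∈ B, CohCx.IsQcObject ((presheafToSheaf J (Type u)).obj (yoneda.obj U))) :
    IsFiltered (Lam O B F) := by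
  have hne : Nonempty (Lam O B F) :=
    ⟨⟨0, 0, Fin.elim0, Fin.elim0, 0, fun j => Fin.elim0 j, fun i => Fin.elim0 i, 0⟩⟩
  refine { cocone_objs := ?_, cocone_maps := ?_, nonempty := hne }
  · intro l₁ l₂
    obtain ⟨l, e, he⟩ := exists_lam (l₁.obj ⊞ l₂.obj) (TA_biprod hB₁ hB₂ l₁.ta l₂.ta)
      (biprod.desc l₁.hom l₂.hom)
    refine ⟨l, ⟨biprod.inl ≫ e.hom, ?_⟩, ⟨biprod.inr ≫ e.hom, ?_⟩, trivial⟩
    · rw [Category.assoc, he, biprod.inl_desc]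
    · rw [Category.assoc, he, biprod.inr_desc]
  · intro l₁ l₂ f g
    have hw : (f.g - g.g) ≫ l₂.hom = 0 := by
      rw [Preadditive.sub_comp, f.w, g.w, sub_self]
    have hta : TA O B (cokernel (f.g - g.g)) :=
      main9115 O B hB₁ hB₂ l₁.obj l₂.obj (f.g - g.g) l₁.ta l₂.ta
    obtain ⟨l, e, he⟩ := exists_lam (cokernel (f.g - g.g)) hta (cokernel.desc _ l₂.hom hw)
    refine ⟨l, ⟨cokernel.π _ ≫ e.hom, ?_⟩, ?_⟩
    · rw [Category.assoc, he, cokernel.π_desc]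
    · apply LHom.ext
      change f.g ≫ cokernel.π _ ≫ e.hom = g.g ≫ cokernel.π _ ≫ e.hom
      have h0 : (f.g - g.g) ≫ cokernel.π (f.g - g.g) = 0 := cokernel.condition _
      rw [Preadditive.sub_comp, sub_eq_zero] at h0
      rw [← Category.assoc, ← Category.assoc, h0]

end Groth.Agent.Lib.helper10.Fc9114a
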