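import Mathlib
import Groth.Agent.Lib.helper10.Fc9114a

open CategoryTheory Opposite Limits
open Groth.Agent.Lib.helper10.QcSum Groth.Agent.Lib.helper10.QcCov Groth.Agent.Lib.helper10.SectHom
open Groth.Agent.Lib.helper10.Qc9103 Groth.Agent.Lib.helper10.EqConv Groth.Agent.Lib.helper10.Qc9115
open Groth.Agent.Lib.helper10.Qc9117 Groth.Agent.Lib.helper10.Qc9116a Groth.Agent.Lib.helper10.Qc9116b
open Groth.Agent.Lib.helper10.Fc9114a

universe u

noncomputable section

namespace Groth.Agent.Lib.helper10.Fc9114b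

lemma epi_sigma_colimit {𝒜 : Type*} [Category 𝒜] [Preadditive 𝒜] {Λ : Type*} [Category Λ]
    (D : Λ ⥤ 𝒜) [HasColimit D] [HasCoproduct D.obj] :
    Epi (Sigma.desc (fun l => colimit.ι D l)) := by
  rw [Preadditive.epi_iff_cancel_zero]
  intro Z g hg
  apply colimit.hom_ext
  intro l
  rw [comp_zero]
  have h := congrArg (fun z => Sigma.ι D.obj l ≫ z) hg
  simp only [comp_zero] at h
  rw [← Category.assoc, Sigma.ι_desc] at h
  exact h

variable {C : Type u} [SmallCategory C] {J : GrothendieckTopology C} {O : Sheaf J CommRingCat.{u}}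
  {B : Set C}

lemma FFin_freeOn {X : C} (hX : X ∈ B) : FFin O B (ModSite.freeOn O X) := by
  refine ⟨1, fun _ => X, fun _ => hX, ⟨?_⟩⟩
  exact (coproductUniqueIso (fun _ : Fin 1 => ModSite.freeOn O X)).symm

variable {F : ModSite.Mod O}

variable (O B F) in
def ιc (l : Lam O B F) : l.obj ⟶ colimit (DD O B F) := colimit.ι (DD O B F) l

variable (O B F) in
def φc : colimit (DD O B F) ⟶ F := colimit.desc (DD O B F) (Cocone.mk F (ιι O B F))

lemma ιc_φc (l : Lam O B F) : ιc O B F l ≫ φc O B F = l.hom :=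
  colimit.ι_desc (Cocone.mk F (ιι O B F)) l

lemma map_ιc {l₁ l₂ : Lam O B F} (f : l₁ ⟶ l₂) : f.g ≫ ιc O B F l₂ = ιc O B F l₁ :=
  colimit.w (DD O B F) f

variable (O B F) in
def qc : (∐ fun l : Lam O B F => l.obj) ⟶ colimit (DD O B F) := Sigma.desc (fun l => ιc O B F l)

lemma ι_qc (l : Lam O B F) :
    Sigma.ι (fun l : Lam O B F => l.obj) l ≫ qc O B F = ιc O B F l := Sigma.ι_desc _ _

instance : Epi (qc O B F) := by
  rw [Preadditive.epi_iff_cancel_zero]
  intro Z g hg
  apply colimit.hom_ext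
  intro l
  rw [comp_zero]
  have h := congrArg (fun z => Sigma.ι (fun l : Lam O B F => l.obj) l ≫ z) hg
  simp only [comp_zero] at h
  rw [← Category.assoc, ι_qc] at h
  exact h

/-- a section of a stage killed in `F` dies in the colimit -/
lemma kill
    (hB₁ : ∀ X : C, ∃ (κ : Type u) (Y : κ → C) (g : ∀ k, Y k ⟶ X),
      Sieve.ofArrows Y g ∈ J X ∧ ∀ k, Y k ∈ B)
    (hB₂ : ∀ U ∈ B, CohCx.IsQcObject ((presheafToSheaf J (Type u)).obj (yoneda.obj U)))
    (l₀ : Lam O B F) {W : C} (hW : W ∈ B) (z : ModSite.sect l₀.obj W)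
    (hz : sm O l₀.hom W z = 0) : sm O (ιc O B F l₀) W z = 0 := by
  let zt : ModSite.freeOn O W ⟶ l₀.obj := (sectAddEquiv O W l₀.obj).symm z
  have hzt : sectAddEquiv O W l₀.obj zt = z := AddEquiv.apply_symm_apply _ _
  have h0 : zt ≫ l₀.hom = 0 := by
    apply (sectAddEquiv O W F).injective
    rw [sectAddEquiv_comp, hzt, hz, map_zero]
  have hta : TA O B (cokernel zt) :=
    main9115 O B hB₁ hB₂ (ModSite.freeOn O W) l₀.obj zt (TA_of_FFin (FFin_freeOn hW)) l₀.ta
  obtain ⟨l', e', he'⟩ := exists_lam (cokernel zt) hta (cokernel.desc zt l₀.hom h0)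
  let b : l₀ ⟶ l' := ⟨cokernel.π zt ≫ e'.hom, by rw [Category.assoc, he', cokernel.π_desc]⟩
  have hb : (cokernel.π zt ≫ e'.hom) ≫ ιc O B F l' = ιc O B F l₀ := map_ιc b
  rw [← hb, sm_comp, sm_comp]
  have h1 : sm O (cokernel.π zt) W z = 0 := by
    rw [← hzt, ← sectAddEquiv_comp, cokernel.condition, map_zero]
  rw [h1, map_zero, map_zero]

theorem main9114 (O : Sheaf J CommRingCat.{u}) (B : Set C)
    (hB₁ : ∀ X : C, ∃ (κ : Type u) (Y : κ → C) (g : ∀ k, Y k ⟶ X),
      Sieve.ofArrows Y g ∈ J X ∧ ∀ k, Y k ∈ B)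
    (hB₂ : ∀ U ∈ B, CohCx.IsQcObject ((presheafToSheaf J (Type u)).obj (yoneda.obj U)))
    (F : ModSite.Mod O) :
    ∃ (Λ : Type u) (_ : SmallCategory Λ) (_ : IsFiltered Λ) (D : Λ ⥤ ModSite.Mod O)
      (ι : D ⟶ (Functor.const Λ).obj F),
      (∀ l, TA O B (D.obj l)) ∧ Nonempty (IsColimit (Cocone.mk F ι)) := by
  classical
  have hfil : IsFiltered (Lam O B F) := isFiltered hB₁ hB₂
  refine ⟨Lam O B F, inferInstance, hfil, DD O B F, ιι O B F, fun l => l.ta, ?_⟩
  have hiso : IsIso (φc O B F) := by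
    apply Groth.Agent.Lib.helper23.ModSec.isIso_of_bijective_on O B hB₁
    intro X hX
    change Function.Bijective (sm O (φc O B F) X)
    constructor
    · rw [injective_iff_map_eq_zero]
      intro tt htt
      obtain ⟨r, Y, γ, ts, hY, hcov, hts⟩ := exists_finite_lift O B hB₁ (qc O B F) X
        (finCov_of_qc J X (hB₂ X hX)) tt
      have hk : ∀ k, σ (colimit (DD O B F)) (γ k) tt = 0 := by
        intro k
        rw [← hts k]
        obtain ⟨s, hs⟩ := sect_surj O (fun l : Lam O B F => l.obj)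
          (Cofan.mk _ (Sigma.ι (fun l : Lam O B F => l.obj))) (coproductIsCoproduct _) (Y k)
          (finCov_of_qc J (Y k) (hB₂ _ (hY k))) (ts k)
        obtain ⟨l₀, hl₀⟩ := IsFiltered.sup_objs_exists s
        let a' : ∀ l : Lam O B F, l.obj ⟶ l₀.obj := fun l =>
          if h : l ∈ s then (Classical.choice (hl₀ h)).g else 0
        have ha' : ∀ l ∈ s, a' l ≫ ιc O B F l₀ = ιc O B F l := by
          intro l hl
          simp only [a', dif_pos hl]
          exact map_ιc _
        let y : ∀ l : Lam O B F, ModSite.sect l.obj (Y k) := fun l =>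
          sm O (pr O (fun l : Lam O B F => l.obj)
            (Cofan.mk _ (Sigma.ι (fun l : Lam O B F => l.obj))) (coproductIsCoproduct _) l) (Y k) (ts k)
        let z : ModSite.sect l₀.obj (Y k) := ∑ l ∈ s, sm O (a' l) (Y k) (y l)
        have e1 : sm O (qc O B F) (Y k) (ts k) = sm O (ιc O B F l₀) (Y k) z := by
          conv_lhs => rw [hs]
          rw [map_sum, map_sum]
          apply Finset.sum_congr rfl
          intro l hl
          have e2 : sm O (qc O B F) (Y k)
              (sm O ((Cofan.mk _ (Sigma.ι (fun l : Lam O B F => l.obj))).inj l) (Y k) (y l)) =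
              sm O (ιc O B F l) (Y k) (y l) := by
            rw [← sm_comp]
            exact congrArg (fun w => sm O w (Y k) (y l)) (ι_qc l)
          rw [e2, ← ha' l hl, sm_comp]
        rw [e1]
        apply kill hB₁ hB₂ l₀ (hY k) z
        have e3 : sm O l₀.hom (Y k) z = sm O (φc O B F) (Y k) (sm O (ιc O B F l₀) (Y k) z) := by
          rw [← sm_comp, ιc_φc]
        rw [e3, ← e1, hts k, sm_nat, htt, map_zero]
      have hsep := Presheaf.IsSheaf.isSeparated (colimit (DD O B F)).isSheaf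
      refine hsep X _ hcov tt 0 ?_
      intro V f hf
      obtain ⟨W, h, g', ⟨k⟩, rfl⟩ := hf
      change σ _ (h ≫ γ k) tt = σ _ (h ≫ γ k) 0
      rw [σ_comp, hk k, map_zero, map_zero]
    · intro x
      obtain ⟨l, e, he⟩ := exists_lam (B := B) (ModSite.freeOn O X) (TA_of_FFin (FFin_freeOn hX))
        ((sectAddEquiv O X F).symm x)
      refine ⟨sectAddEquiv O X _ (e.hom ≫ ιc O B F l), ?_⟩
      rw [← sectAddEquiv_comp, Category.assoc, ιc_φc, he, AddEquiv.apply_symm_apply]
  have : IsIso ((colimit.isColimit (DD O B F)).desc (Cocone.mk F (ιι O B F))) := hiso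
  exact ⟨IsColimit.ofPointIso (colimit.isColimit (DD O B F))⟩

end Groth.Agent.Lib.helper10.Fc9114b
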