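import Mathlib

namespace Groth.Agent.Lib.helper10.FibOp
open CategoryTheory Opposite Functor

universe u v u₂ v₂
variable {C : Type u} [Category.{v} C] {𝒳 : Type u₂} [Category.{v₂} 𝒳]

lemma homLift_op (p : 𝒳 ⥤ C) {R S : C} {a b : 𝒳} (f : R ⟶ S) (φ : a ⟶ b)
    (h : p.IsHomLift f φ) : p.op.IsHomLift f.op φ.op := by
  cases h
  exact Functor.IsHomLift.map φ.op

lemma homLift_unop (p : 𝒳 ⥤ C) {R S : Cᵒᵖ} {a b : 𝒳ᵒᵖ} (f : R ⟶ S) (φ : a ⟶ b)
    (h : p.op.IsHomLift f φ) : p.IsHomLift f.unop φ.unop := by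
  cases h
  exact Functor.IsHomLift.map φ.unop

/-- composition of cocartesian arrows in a fibered category (no cofibration hypothesis). -/
lemma cocart_comp (p : 𝒳 ⥤ C) [p.IsFibered] {R S T : C} (f : R ⟶ S) (g : S ⟶ T)
    {a b c : 𝒳} (φ : a ⟶ b) (ψ : b ⟶ c) [p.IsCocartesian f φ] [p.IsCocartesian g ψ] :
    p.IsCocartesian (f ≫ g) (φ ≫ ψ) := by
  refine { toIsHomLift := inferInstance, universal_property := ?_ }
  intro c' χ hχ
  have hc' : p.obj c' = T := IsHomLift.codomain_eq p (f ≫ g) χ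
  -- cartesian lift of g at c'
  obtain ⟨b', γ, hγ⟩ := IsPreFibered.exists_isCartesian p hc' g
  have : p.IsStronglyCartesian g γ := inferInstance
  -- φ' : a ⟶ b' over f
  let φ' : a ⟶ b' := IsStronglyCartesian.map p g γ (f' := f ≫ g) (g := f) rfl χ
  have hφ' : p.IsHomLift f φ' := IsStronglyCartesian.map_isHomLift p g γ rfl χ
  have hφ'γ : φ' ≫ γ = χ := IsStronglyCartesian.fac p g γ rfl χ
  let σ : b ⟶ b' := IsCocartesian.map p f φ φ'
  have hσ : p.IsHomLift (𝟙 S) σ := IsCocartesian.map_isHomLift p f φ φ'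
  have hφσ : φ ≫ σ = φ' := IsCocartesian.fac p f φ φ'
  have : p.IsHomLift g (σ ≫ γ) := by
    have := IsHomLift.comp (p := p) (𝟙 S) g σ γ
    simpa using this
  let τ : c ⟶ c' := IsCocartesian.map p g ψ (σ ≫ γ)
  have hτ : p.IsHomLift (𝟙 T) τ := IsCocartesian.map_isHomLift p g ψ (σ ≫ γ)
  have hψτ : ψ ≫ τ = σ ≫ γ := IsCocartesian.fac p g ψ (σ ≫ γ)
  refine ⟨τ, ⟨hτ, ?_⟩, ?_⟩
  · rw [Category.assoc, hψτ, ← Category.assoc, hφσ, hφ'γ]
  · rintro τ' ⟨hτ', hτ'χ⟩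
    have := hτ'
    have : p.IsHomLift g (ψ ≫ τ') := by
      have := IsHomLift.comp (p := p) g (𝟙 T) ψ τ'
      simpa using this
    let σ' : b ⟶ b' := IsCartesian.map p g γ (ψ ≫ τ')
    have hσ' : p.IsHomLift (𝟙 S) σ' := IsCartesian.map_isHomLift p g γ (ψ ≫ τ')
    have hσ'γ : σ' ≫ γ = ψ ≫ τ' := IsCartesian.fac p g γ (ψ ≫ τ')
    have : p.IsHomLift f (φ ≫ σ') := by
      have := IsHomLift.comp (p := p) f (𝟙 S) φ σ'
      simpa using this
    have h1 : φ ≫ σ' = φ' := by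
      apply IsStronglyCartesian.map_uniq p g γ rfl χ
      rw [Category.assoc, hσ'γ, ← Category.assoc, hτ'χ]
    have h2 : σ' = σ := IsCocartesian.map_uniq p f φ φ' σ' h1
    have h3 : ψ ≫ τ' = σ ≫ γ := by rw [← hσ'γ, h2]
    exact IsCocartesian.map_uniq p g ψ (σ ≫ γ) τ' h3


lemma cart_op_of_cocart (p : 𝒳 ⥤ C) {R S : Cᵒᵖ} {a b : 𝒳ᵒᵖ} (f : R ⟶ S) (φ : a ⟶ b)
    (h : p.IsCocartesian f.unop φ.unop) : p.op.IsCartesian f φ := by
  have hl : p.op.IsHomLift f φ := homLift_op p f.unop φ.unop h.toIsHomLift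
  refine { toIsHomLift := hl, universal_property := ?_ }
  intro a' φ' hφ'
  have : p.IsHomLift f.unop φ'.unop := homLift_unop p f φ' hφ'
  obtain ⟨χ, ⟨hχ1, hχ2⟩, hχu⟩ := h.universal_property φ'.unop
  refine ⟨χ.op, ⟨homLift_op p (𝟙 R.unop) χ hχ1, ?_⟩, ?_⟩
  · apply Quiver.Hom.unop_inj
    exact hχ2
  · rintro y ⟨hy1, hy2⟩
    apply Quiver.Hom.unop_inj
    apply hχu
    refine ⟨homLift_unop p (𝟙 R) y hy1, ?_⟩
    have := congrArg Quiver.Hom.unop hy2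
    exact this

lemma cocart_of_cart_op (p : 𝒳 ⥤ C) {R S : Cᵒᵖ} {a b : 𝒳ᵒᵖ} (f : R ⟶ S) (φ : a ⟶ b)
    (h : p.op.IsCartesian f φ) : p.IsCocartesian f.unop φ.unop := by
  have hl : p.IsHomLift f.unop φ.unop := homLift_unop p f φ h.toIsHomLift
  refine { toIsHomLift := hl, universal_property := ?_ }
  intro b' φ' hφ'
  have : p.op.IsHomLift f φ'.op := homLift_op p f.unop φ' hφ'
  obtain ⟨χ, ⟨hχ1, hχ2⟩, hχu⟩ := h.universal_property φ'.op
  refine ⟨χ.unop, ⟨homLift_unop p (𝟙 R) χ hχ1, ?_⟩, ?_⟩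
  · have := congrArg Quiver.Hom.unop hχ2
    exact this
  · rintro y ⟨hy1, hy2⟩
    apply Quiver.Hom.op_inj
    apply hχu
    refine ⟨homLift_op p (𝟙 R.unop) y hy1, ?_⟩
    apply Quiver.Hom.unop_inj
    exact hy2

lemma cocart_op_of_cart (p : 𝒳 ⥤ C) {R S : C} {a b : 𝒳} (f : R ⟶ S) (φ : a ⟶ b)
    (h : p.IsCartesian f φ) : p.op.IsCocartesian f.op φ.op := by
  have hl : p.op.IsHomLift f.op φ.op := homLift_op p f φ h.toIsHomLift
  refine { toIsHomLift := hl, universal_property := ?_ }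
  intro b' φ' hφ'
  have : p.IsHomLift f φ'.unop := homLift_unop p f.op φ' hφ'
  obtain ⟨χ, ⟨hχ1, hχ2⟩, hχu⟩ := h.universal_property φ'.unop
  refine ⟨χ.op, ⟨homLift_op p (𝟙 R) χ hχ1, ?_⟩, ?_⟩
  · apply Quiver.Hom.unop_inj
    exact hχ2
  · rintro y ⟨hy1, hy2⟩
    apply Quiver.Hom.unop_inj
    apply hχu
    refine ⟨homLift_unop p (𝟙 (op R)) y hy1, ?_⟩
    have := congrArg Quiver.Hom.unop hy2
    exact this

lemma cart_of_cocart_op (p : 𝒳 ⥤ C) {R S : C} {a b : 𝒳} (f : R ⟶ S) (φ : a ⟶ b)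
    (h : p.op.IsCocartesian f.op φ.op) : p.IsCartesian f φ := by
  have hl : p.IsHomLift f φ := homLift_unop p f.op φ.op h.toIsHomLift
  refine { toIsHomLift := hl, universal_property := ?_ }
  intro a' φ' hφ'
  have : p.op.IsHomLift f.op φ'.op := homLift_op p f φ' hφ'
  obtain ⟨χ, ⟨hχ1, hχ2⟩, hχu⟩ := h.universal_property φ'.op
  refine ⟨χ.unop, ⟨homLift_unop p (𝟙 (op R)) χ hχ1, ?_⟩, ?_⟩
  · have := congrArg Quiver.Hom.unop hχ2
    exact this
  · rintro y ⟨hy1, hy2⟩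
    apply Quiver.Hom.op_inj
    apply hχu
    refine ⟨homLift_op p (𝟙 R) y hy1, ?_⟩
    apply Quiver.Hom.unop_inj
    exact hy2

theorem main (p : 𝒳 ⥤ C) [p.IsPreFibered] [p.op.IsPreFibered] : p.IsFibered ↔ p.op.IsFibered := by
  constructor
  · intro h
    refine { toIsPreFibered := inferInstance, comp := ?_ }
    intro R S T f g a b c φ ψ hφ hψ
    have h1 : p.IsCocartesian f.unop φ.unop := cocart_of_cart_op p f φ hφ
    have h2 : p.IsCocartesian g.unop ψ.unop := cocart_of_cart_op p g ψ hψ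
    have h3 : p.IsCocartesian (g.unop ≫ f.unop) (ψ.unop ≫ φ.unop) := cocart_comp p g.unop f.unop ψ.unop φ.unop
    exact cart_op_of_cocart p (f ≫ g) (φ ≫ ψ) h3
  · intro h
    refine { toIsPreFibered := inferInstance, comp := ?_ }
    intro R S T f g a b c φ ψ hφ hψ
    have h1 : p.op.IsCocartesian f.op φ.op := cocart_op_of_cart p f φ hφ
    have h2 : p.op.IsCocartesian g.op ψ.op := cocart_op_of_cart p g ψ hψ
    have h3 : p.op.IsCocartesian (g.op ≫ f.op) (ψ.op ≫ φ.op) := cocart_comp p.op g.op f.op ψ.op φ.op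
    exact cart_of_cocart_op p (f ≫ g) (φ ≫ ψ) h3

end Groth.Agent.Lib.helper10.FibOp
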