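import Mathlib
import Groth.Prelude.Def_FilD

namespace Groth.Agent.Lib.helper10.FilExt
open CategoryTheory Limits Opposite FilD

universe v u
variable {A : Type u} [Category.{v} A] [Abelian A]

/-- extension step: in an abelian category, extend compatible maps from `X` and `Y'` to `Y`
when `X ∩ Y' = X'` inside `Y` and the target is injective. -/
lemma step {X' X Y' Y I : A} (jX : X' ⟶ X) (jY : Y' ⟶ Y) (u' : X' ⟶ Y') (u : X ⟶ Y)
    [Mono jY] [Mono u] [Mono u'] (sq : u' ≫ jY = jX ≫ u)
    (hstrict : imageSubobject (u' ≫ jY) = imageSubobject u ⊓ Subobject.mk jY)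
    [Injective I] (f : X ⟶ I) (g' : Y' ⟶ I) (hfg : u' ≫ g' = jX ≫ f) :
    ∃ g : Y ⟶ I, u ≫ g = f ∧ jY ≫ g = g' := by
  let m : X ⊞ Y' ⟶ Y := biprod.desc u jY
  let n : X ⊞ Y' ⟶ I := biprod.desc f g'
  have key : kernel.ι m ≫ n = 0 := by
    set κ := kernel.ι m with hκ
    let x : kernel m ⟶ X := κ ≫ biprod.fst
    let y : kernel m ⟶ Y' := κ ≫ biprod.snd
    have hκm : κ ≫ m = 0 := kernel.condition m
    have hdec : κ = x ≫ biprod.inl + y ≫ biprod.inr := by
      simp only [x, y, Category.assoc]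
      rw [← Preadditive.comp_add, biprod.total, Category.comp_id]
    have h1 : x ≫ u + y ≫ jY = 0 := by
      have := hκm
      rw [hdec] at this
      simpa [m] using this
    have h2 : x ≫ u = (-y) ≫ jY := by
      rw [Preadditive.neg_comp]
      exact eq_neg_of_add_eq_zero_left h1
    -- x ≫ u factors through both subobjects
    have hf1 : (imageSubobject u).Factors (x ≫ u) := imageSubobject_factors_comp_self (f := u) x
    have hf2 : (Subobject.mk jY).Factors (x ≫ u) := by
      rw [h2]
      apply Subobject.factors_of_factors_right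
      rw [Subobject.mk_factors_iff]
      exact ⟨𝟙 _, Category.id_comp _⟩
    have hf3 : (imageSubobject (u' ≫ jY)).Factors (x ≫ u) := by
      rw [hstrict]
      exact (Subobject.inf_factors _).2 ⟨hf1, hf2⟩
    -- the image of the mono `u' ≫ jY` is `X'`
    have hmono : Mono (u' ≫ jY) := mono_comp _ _
    obtain ⟨t, ht⟩ : ∃ t : kernel m ⟶ X', t ≫ u' ≫ jY = x ≫ u := by
      have e : imageSubobject (u' ≫ jY) = Subobject.mk (u' ≫ jY) := imageSubobject_mono _
      rw [e, Subobject.mk_factors_iff] at hf3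
      exact hf3
    have ht1 : t ≫ jX = x := by
      rw [← cancel_mono u, Category.assoc, ← sq, ht]
    have ht2 : t ≫ u' = -y := by
      rw [← cancel_mono jY, Category.assoc, ht, h2]
    calc κ ≫ n = (x ≫ biprod.inl + y ≫ biprod.inr) ≫ n := by rw [← hdec]
      _ = x ≫ f + y ≫ g' := by simp [n]
      _ = 0 := by
        rw [← ht1, Category.assoc, ← hfg, ← Category.assoc, ht2, Preadditive.neg_comp,
          neg_add_cancel]
  let n' : Abelian.coimage m ⟶ I := cokernel.desc (kernel.ι m) n key
  let g : Y ⟶ I := Injective.factorThru n' (Abelian.factorThruCoimage m)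
  have hg : m ≫ g = n := by
    have h1 : Abelian.coimage.π m ≫ Abelian.factorThruCoimage m = m := Abelian.coimage.fac m
    have h2 : Abelian.factorThruCoimage m ≫ g = n' := Injective.comp_factorThru _ _
    have h3 : Abelian.coimage.π m ≫ n' = n := cokernel.π_desc _ _ _
    rw [← h1, Category.assoc, h2, h3]
  refine ⟨g, ?_, ?_⟩
  · have := congrArg (fun t => biprod.inl ≫ t) hg
    simpa [m, n] using this
  · have := congrArg (fun t => biprod.inr ≫ t) hg
    simpa [m, n] using this


section mono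
variable {X Y : FilF A} (u : X ⟶ Y)

lemma ι_app_mono (q : ℤᵒᵖ) : Mono ((kernel.ι u.hom).app q) := by
  have : Mono (kernel.ι u.hom) := inferInstance
  exact (NatTrans.mono_iff_mono_app (kernel.ι u.hom)).1 this q

lemma kernel_map_mono {p q : ℤᵒᵖ} (f : p ⟶ q) : Mono ((kernel u.hom).map f) := by
  have := ι_app_mono u p
  have := ι_app_mono u q
  have := X.property.1 f
  have h : (kernel u.hom).map f ≫ (kernel.ι u.hom).app q =
      (kernel.ι u.hom).app p ≫ X.obj.map f := (kernel.ι u.hom).naturality f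
  have : Mono ((kernel u.hom).map f ≫ (kernel.ι u.hom).app q) := by
    rw [h]; exact mono_comp _ _
  exact mono_of_mono _ ((kernel.ι u.hom).app q)

lemma ι_app_comp (q : ℤᵒᵖ) : (kernel.ι u.hom).app q ≫ u.hom.app q = 0 := by
  rw [← NatTrans.comp_app, kernel.condition]; rfl

/-- lifting into the kernel functor evaluated at `p`. -/
lemma exists_lift {p : ℤᵒᵖ} {T : A} (z : T ⟶ X.obj.obj p) (hz : z ≫ u.hom.app p = 0) :
    ∃ w : T ⟶ (kernel u.hom).obj p, w ≫ (kernel.ι u.hom).app p = z := by
  let G := (evaluation ℤᵒᵖ A).obj p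
  have hz' : z ≫ G.map u.hom = 0 := hz
  refine ⟨kernel.lift (G.map u.hom) z hz' ≫ (PreservesKernel.iso G u.hom).inv, ?_⟩
  have h1 : (PreservesKernel.iso G u.hom).inv ≫ G.map (kernel.ι u.hom) = kernel.ι (G.map u.hom) := by
    rw [Iso.inv_comp_eq, PreservesKernel.iso_hom, kernelComparison_comp_ι]
  have h2 : (kernel.ι u.hom).app p = G.map (kernel.ι u.hom) := rfl
  rw [h2, Category.assoc, h1, kernel.lift_ι]

lemma kernel_map_epi {p q : ℤᵒᵖ} (f : p ⟶ q) [IsIso (X.obj.map f)] [IsIso (Y.obj.map f)] :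
    Epi ((kernel u.hom).map f) := by
  rw [epi_iff_surjective_up_to_refinements]
  intro T z
  let z' : T ⟶ X.obj.obj p := z ≫ (kernel.ι u.hom).app q ≫ inv (X.obj.map f)
  have hz' : z' ≫ u.hom.app p = 0 := by
    rw [← cancel_mono (Y.obj.map f), zero_comp]
    simp only [z', Category.assoc]
    rw [← u.hom.naturality f, IsIso.inv_hom_id_assoc, ι_app_comp, comp_zero]
  obtain ⟨w, hw⟩ := exists_lift u z' hz'
  refine ⟨T, 𝟙 T, inferInstance, w, ?_⟩
  have := ι_app_mono u q
  rw [← cancel_mono ((kernel.ι u.hom).app q), Category.id_comp, Category.assoc,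
    (kernel.ι u.hom).naturality f, ← Category.assoc, hw]
  simp [z']

lemma isFinFil_kernel : IsFinFil A (kernel u.hom) := by
  refine ⟨fun p q f => kernel_map_mono u f, ?_, ?_⟩
  · obtain ⟨b, hb⟩ := X.property.2.1
    refine ⟨b, fun p hp => ?_⟩
    have := ι_app_mono u (op p)
    exact IsZero.of_mono ((kernel.ι u.hom).app (op p)) (hb p hp)
  · obtain ⟨a₁, h₁⟩ := X.property.2.2
    obtain ⟨a₂, h₂⟩ := Y.property.2.2
    refine ⟨min a₁ a₂, fun p q f hp => ?_⟩
    have := h₁ f (hp.trans (min_le_left _ _))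
    have := h₂ f (hp.trans (min_le_right _ _))
    have := kernel_map_mono u f
    have := kernel_map_epi u f
    exact isIso_of_mono_of_epi _

lemma hom_mono [Mono u] : Mono u.hom := by
  let K : FilF A := ⟨kernel u.hom, isFinFil_kernel u⟩
  let κ : K ⟶ X := ObjectProperty.homMk (kernel.ι u.hom)
  have h : κ ≫ u = 0 ≫ u := by
    apply ObjectProperty.hom_ext
    rw [zero_comp]
    exact kernel.condition u.hom
  have h2 : κ = 0 := (cancel_mono u).1 h
  have h3 : kernel.ι u.hom = 0 := congrArg (fun t => t.hom) h2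
  exact Preadditive.mono_of_kernel_zero h3

lemma app_mono [Mono u] (p : ℤᵒᵖ) : Mono (u.hom.app p) := by
  have := hom_mono u
  exact (NatTrans.mono_iff_mono_app u.hom).1 this p

end mono


section inj
variable (I : FilF A)

lemma injective_step (hI : IsFilteredInjective I) (p : ℤ)
    (h : Injective (I.obj.obj (op (p + 1)))) : Injective (I.obj.obj (op p)) := by
  have hm : Mono (I.obj.map (stepHom p)) := I.property.1 _
  let S : ShortComplex A := ShortComplex.mk (I.obj.map (stepHom p))
    (cokernel.π (I.obj.map (stepHom p))) (cokernel.condition _)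
  have hex : S.Exact := ShortComplex.exact_cokernel _
  have : Mono S.f := hm
  have : Epi S.g := by dsimp [S]; infer_instance
  let r : S.X₂ ⟶ S.X₁ := Injective.factorThru (𝟙 _) S.f
  have hr : S.f ≫ r = 𝟙 _ := Injective.comp_factorThru _ _
  let spl : S.Splitting := ShortComplex.Splitting.ofExactOfRetraction S hex r hr inferInstance
  have h3 : Injective S.X₃ := hI p
  have h1 : Injective S.X₁ := h
  have : Injective (S.X₁ ⊞ S.X₃) := inferInstance
  exact Injective.of_iso spl.isoBinaryBiproduct.symm this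

lemma injective_level_aux (hI : IsFilteredInjective I) (b : ℤ)
    (hb : ∀ p : ℤ, b ≤ p → IsZero (I.obj.obj (op p))) :
    ∀ (n : ℕ) (p : ℤ), b - p ≤ n → Injective (I.obj.obj (op p))
  | 0, p, h => by
    have hz := hb p (by omega)
    exact Injective.of_iso hz.isoZero.symm inferInstance
  | n + 1, p, h => by
    apply injective_step I hI p
    exact injective_level_aux hI b hb n (p + 1) (by push_cast at h; omega)

lemma injective_level (hI : IsFilteredInjective I) (p : ℤ) : Injective (I.obj.obj (op p)) := by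
  obtain ⟨b, hb⟩ := I.property.2.1
  exact injective_level_aux I hI b hb (b - p).toNat p (by omega)

end inj


section ext
variable {X Y I : FilF A} (u : X ⟶ Y) [Mono u] (hu : IsStrict u) (hI : IsFilteredInjective I)
  (f : X ⟶ I)

/-- transition map `F_{p+1} ⟶ F_p` -/
abbrev tr (F : FilF A) (p : ℤ) : F.obj.obj (op (p + 1)) ⟶ F.obj.obj (op p) := F.obj.map (stepHom p)

include hu hI in
lemma ext_step (p : ℤ) (g' : Y.obj.obj (op (p + 1)) ⟶ I.obj.obj (op (p + 1)))
    (hg' : u.hom.app (op (p + 1)) ≫ g' = f.hom.app (op (p + 1))) :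
    ∃ g : Y.obj.obj (op p) ⟶ I.obj.obj (op p), u.hom.app (op p) ≫ g = f.hom.app (op p) ∧
      tr Y p ≫ g = g' ≫ tr I p := by
  have := app_mono u (op p)
  have := app_mono u (op (p + 1))
  have : Mono (tr Y p) := Y.property.1 _
  have := injective_level I hI p
  have sq : u.hom.app (op (p + 1)) ≫ tr Y p = tr X p ≫ u.hom.app (op p) :=
    (u.hom.naturality (stepHom p)).symm
  have hst := hu p (p + 1) (Int.le_add_one le_rfl)
  have hfg : u.hom.app (op (p + 1)) ≫ (g' ≫ tr I p) = tr X p ≫ f.hom.app (op p) := by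
    rw [← Category.assoc, hg']
    exact (f.hom.naturality (stepHom p)).symm
  exact step (tr X p) (tr Y p) (u.hom.app (op (p + 1))) (u.hom.app (op p)) sq hst
    (f.hom.app (op p)) (g' ≫ tr I p) hfg

/-- compatible family above level `m`. -/
structure Good (m : ℤ) (G : ∀ p : ℤ, Y.obj.obj (op p) ⟶ I.obj.obj (op p)) : Prop where
  c1 : ∀ p, m ≤ p → u.hom.app (op p) ≫ G p = f.hom.app (op p)
  c2 : ∀ p, m ≤ p → tr Y p ≫ G p = G (p + 1) ≫ tr I p

lemma good_zero : ∃ b : ℤ, Good u f b (fun _ => 0) := by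
  obtain ⟨b, hb⟩ := Y.property.2.1
  refine ⟨b, ⟨fun p hp => ?_, fun p hp => ?_⟩⟩
  · have := app_mono u (op p)
    have hX : IsZero (X.obj.obj (op p)) := IsZero.of_mono (u.hom.app (op p)) (hb p hp)
    exact hX.eq_of_src _ _
  · exact (hb (p + 1) (by omega)).eq_of_src _ _

include hu hI in
lemma good_succ (m : ℤ) (G : ∀ p : ℤ, Y.obj.obj (op p) ⟶ I.obj.obj (op p)) (hG : Good u f m G) :
    ∃ g : Y.obj.obj (op (m - 1)) ⟶ I.obj.obj (op (m - 1)),
      Good u f (m - 1) (Function.update G (m - 1) g) := by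
  obtain ⟨g, hg1, hg2⟩ := ext_step u hu hI f (m - 1) (G (m - 1 + 1)) (hG.c1 _ (by omega))
  refine ⟨g, ⟨fun p hp => ?_, fun p hp => ?_⟩⟩
  · by_cases hpm : p = m - 1
    · subst hpm
      rw [Function.update_self]
      exact hg1
    · rw [Function.update_of_ne hpm]
      exact hG.c1 p (by omega)
  · by_cases hpm : p = m - 1
    · subst hpm
      rw [Function.update_self, Function.update_of_ne (by omega)]
      exact hg2
    · rw [Function.update_of_ne hpm, Function.update_of_ne (by omega)]
      exact hG.c2 p (by omega)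

/-- the sequence of partial families -/
noncomputable def seq (b : ℤ) (h0 : Good u f b (fun _ => 0)) :
    ∀ n : ℕ, {G : ∀ p : ℤ, Y.obj.obj (op p) ⟶ I.obj.obj (op p) // Good u f (b - n) G}
  | 0 => ⟨fun _ => 0, by simpa using h0⟩
  | n + 1 =>
    let prev := seq b h0 n
    ⟨Function.update prev.1 (b - n - 1) (Classical.choose (good_succ u hu hI f (b - n) prev.1 prev.2)),
      by
        have := Classical.choose_spec (good_succ u hu hI f (b - n) prev.1 prev.2)
        have e : b - ((n + 1 : ℕ) : ℤ) = b - n - 1 := by push_cast; ring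
        rw [e]
        exact this⟩

lemma seq_succ_eq (b : ℤ) (h0 : Good u f b (fun _ => 0)) (n : ℕ) (q : ℤ) (hq : b - n ≤ q) :
    (seq u hu hI f b h0 (n + 1)).1 q = (seq u hu hI f b h0 n).1 q := by
  change Function.update _ _ _ q = _
  rw [Function.update_of_ne (by omega)]

lemma seq_add_eq (b : ℤ) (h0 : Good u f b (fun _ => 0)) (n k : ℕ) (q : ℤ) (hq : b - n ≤ q) :
    (seq u hu hI f b h0 (n + k)).1 q = (seq u hu hI f b h0 n).1 q := by
  induction k with
  | zero => rfl
  | succ k ih =>
    rw [← add_assoc, seq_succ_eq u hu hI f b h0 (n + k) q (by push_cast; omega), ih]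

include hu hI in
/-- a global compatible family -/
lemma exists_family : ∃ G : ∀ p : ℤ, Y.obj.obj (op p) ⟶ I.obj.obj (op p),
    (∀ p, u.hom.app (op p) ≫ G p = f.hom.app (op p)) ∧
    (∀ p, tr Y p ≫ G p = G (p + 1) ≫ tr I p) := by
  obtain ⟨b, h0⟩ := good_zero u f
  refine ⟨fun p => (seq u hu hI f b h0 (b - p).toNat).1 p, fun p => ?_, fun p => ?_⟩
  · exact (seq u hu hI f b h0 (b - p).toNat).2.c1 p (by omega)
  · have h1 := (seq u hu hI f b h0 (b - p).toNat).2.c2 p (by omega)
    have h2 : (seq u hu hI f b h0 (b - (p + 1)).toNat).1 (p + 1) =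
        (seq u hu hI f b h0 (b - p).toNat).1 (p + 1) := by
      obtain ⟨k, hk⟩ : ∃ k : ℕ, (b - p).toNat = (b - (p + 1)).toNat + k :=
        ⟨(b - p).toNat - (b - (p + 1)).toNat, by omega⟩
      rw [hk]
      exact (seq_add_eq u hu hI f b h0 _ k (p + 1) (by omega)).symm
    change _ = (seq u hu hI f b h0 (b - (p + 1)).toNat).1 (p + 1) ≫ _
    rw [h2]
    exact h1


omit [Abelian A] in
/-- step-compatibility implies naturality for all `q ≤ p`. -/
lemma nat_of_step {Y I : FilF A} (G : ∀ p : ℤ, Y.obj.obj (op p) ⟶ I.obj.obj (op p))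
    (hG : ∀ p, tr Y p ≫ G p = G (p + 1) ≫ tr I p) (q : ℤ) :
    ∀ (p : ℤ), q ≤ p → ∀ (h : q ≤ p),
      Y.obj.map (homOfLE h).op ≫ G q = G p ≫ I.obj.map (homOfLE h).op := by
  intro p hp
  induction p, hp using Int.leInduction with
  | base =>
    intro h
    have e : (homOfLE h).op = 𝟙 (op q) := Quiver.Hom.unop_inj (Subsingleton.elim _ _)
    rw [e, Y.obj.map_id, I.obj.map_id, Category.id_comp, Category.comp_id]
  | succ p hqp ih =>
    intro h
    have e : (homOfLE h).op = stepHom p ≫ (homOfLE hqp).op :=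
      Quiver.Hom.unop_inj (Subsingleton.elim _ _)
    rw [e, Y.obj.map_comp, I.obj.map_comp, Category.assoc, ih hqp, ← Category.assoc]
    have := hG p
    dsimp only [tr] at this
    rw [this, Category.assoc]

include hu hI in
theorem exists_extension : ∃ g : Y ⟶ I, u ≫ g = f := by
  obtain ⟨G, h1, h2⟩ := exists_family u hu hI f
  let η : Y.obj ⟶ I.obj :=
    { app := fun P => G P.unop
      naturality := fun P Q φ => by
        have e : φ = (homOfLE (leOfHom φ.unop)).op := Quiver.Hom.unop_inj (Subsingleton.elim _ _)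
        rw [e]
        exact nat_of_step G h2 Q.unop P.unop (leOfHom φ.unop) (leOfHom φ.unop) }
  refine ⟨ObjectProperty.homMk η, ?_⟩
  apply ObjectProperty.hom_ext
  apply NatTrans.ext
  funext P
  exact h1 P.unop

end ext

end Groth.Agent.Lib.helper10.FilExt
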