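import Mathlib
import Groth.Prelude.Def_SpSeq
set_option autoImplicit false
universe v u
open CategoryTheory CategoryTheory.Limits

namespace Groth.Agent.Lib.helper10.FilStrict

variable {A : Type u} [Category.{v} A] [Abelian A]

theorem imageSubobject_epi_comp {X' X Y : A} (h : X' ⟶ X) [Epi h] (f : X ⟶ Y) :
    imageSubobject (h ≫ f) = imageSubobject f := by
  have hle := imageSubobject_comp_le h f
  have : IsIso (Subobject.ofLE _ _ hle) := isIso_of_mono_of_epi _
  refine le_antisymm hle ?_
  exact Subobject.le_of_comm (inv (Subobject.ofLE _ _ hle)) (by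
    rw [IsIso.inv_comp_eq, Subobject.ofLE_arrow])

theorem imageSubobject_comp_eq {X Y Z : A} (a : X ⟶ Y) (g : Y ⟶ Z) :
    imageSubobject (a ≫ g) = imageSubobject ((imageSubobject a).arrow ≫ g) := by
  have : a ≫ g = factorThruImageSubobject a ≫ ((imageSubobject a).arrow ≫ g) := by
    rw [← Category.assoc, imageSubobject_arrow_comp]
  rw [this, imageSubobject_epi_comp]

theorem imageSubobject_comp_mono {X Y Z : A} (a : X ⟶ Y) (g : Y ⟶ Z) [Mono g] :
    imageSubobject (a ≫ g) = (Subobject.map g).obj (imageSubobject a) := by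
  rw [imageSubobject_comp_eq, imageSubobject_mono]
  conv_rhs => rw [← Subobject.mk_arrow (imageSubobject a), Subobject.map_mk]


open SpSeq

theorem strict_comp_mono {K L M : SpSeq.FilObj A} (f : K ⟶ L) (g : L ⟶ M)
    (hf : SpSeq.FilObj.IsStrict f) (hg : SpSeq.FilObj.IsStrict g) [Mono g.hom] :
    SpSeq.FilObj.IsStrict (f ≫ g) := by
  intro p
  change imageSubobject ((K.fil p).arrow ≫ f.hom ≫ g.hom) = imageSubobject (f.hom ≫ g.hom) ⊓ M.fil p
  rw [← Category.assoc, imageSubobject_comp_mono, hf p, Subobject.inf_map,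
    imageSubobject_comp_mono f.hom g.hom]
  have h2 : (Subobject.map g.hom).obj (L.fil p) = imageSubobject g.hom ⊓ M.fil p := by
    rw [← hg p, imageSubobject_mono]
    conv_lhs => rw [← Subobject.mk_arrow (L.fil p), Subobject.map_mk]
  rw [h2, ← inf_assoc]
  congr 1
  rw [inf_eq_left, ← imageSubobject_comp_mono]
  exact imageSubobject_comp_le _ _

theorem strict_comp_epi {K L M : SpSeq.FilObj A} (f : K ⟶ L) (g : L ⟶ M)
    (hf : SpSeq.FilObj.IsStrict f) (hg : SpSeq.FilObj.IsStrict g) [Epi f.hom] :
    SpSeq.FilObj.IsStrict (f ≫ g) := by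
  intro p
  change imageSubobject ((K.fil p).arrow ≫ f.hom ≫ g.hom) = imageSubobject (f.hom ≫ g.hom) ⊓ M.fil p
  have htop : imageSubobject f.hom = ⊤ := by
    have h1 : Epi (factorThruImageSubobject f.hom ≫ (imageSubobject f.hom).arrow) := by
      rw [imageSubobject_arrow_comp]; infer_instance
    have h2 : Epi (imageSubobject f.hom).arrow := epi_of_epi (factorThruImageSubobject f.hom) _
    have h3 : IsIso (imageSubobject f.hom).arrow := isIso_of_mono_of_epi _
    exact Subobject.eq_top_of_isIso_arrow _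
  rw [← Category.assoc, imageSubobject_comp_eq, hf p, imageSubobject_epi_comp f.hom g.hom, htop,
    top_inf_eq]
  exact hg p

end Groth.Agent.Lib.helper10.FilStrict
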