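import Mathlib
import Groth.Prelude.Def_ModSite

open CategoryTheory Opposite Limits

universe u

noncomputable section

namespace Groth.Agent.Lib.helper10.TermSec

variable {C : Type u} [SmallCategory C] {J : GrothendieckTopology C}
  {O : Sheaf J CommRingCat.{u}} {X : C} (hX : IsTerminal X)

/-- the global section attached to an element over the terminal object -/
def secOf (N : ModSite.Mod O) (x : N.val.obj (op X)) : N.sections :=
  PresheafOfModules.sectionsMk (fun Y => N.val.map (hX.from Y.unop).op x) (by
    intro Y Z f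
    have hw : f.unop ≫ hX.from Y.unop = hX.from Z.unop := hX.hom_ext _ _
    change N.val.presheaf.map f (N.val.presheaf.map (hX.from Y.unop).op x) =
      N.val.presheaf.map (hX.from Z.unop).op x
    rw [← hw, op_comp, Functor.map_comp]
    rfl)

/-- sections are elements over the terminal object -/
def secT (N : ModSite.Mod O) : N.sections ≃ N.val.obj (op X) where
  toFun s := s.val (op X)
  invFun := secOf hX N
  left_inv s := by
    apply PresheafOfModules.sections_ext
    intro V
    exact PresheafOfModules.sections_property s (hX.from V.unop).op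
  right_inv x := by
    change N.val.map (hX.from X).op x = x
    have e : hX.from X = 𝟙 X := hX.hom_ext _ _
    rw [e]
    have h : N.val.map (𝟙 (op X)) x = x := by
      rw [PresheafOfModules.map_id]
      rfl
    exact h

/-- morphisms from the unit are elements over the terminal object -/
def E (N : ModSite.Mod O) : (ModSite.unit O ⟶ N) ≃ N.val.obj (op X) :=
  (SheafOfModules.unitHomEquiv N).trans (secT hX N)

lemma E_apply (N : ModSite.Mod O) (σ : ModSite.unit O ⟶ N) :
    E hX N σ = σ.val.app (op X) (1 : O.obj.obj (op X)) := rfl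

lemma E_comp {N N' : ModSite.Mod O} (σ : ModSite.unit O ⟶ N) (β : N ⟶ N') :
    E hX N' (σ ≫ β) = β.val.app (op X) (E hX N σ) := rfl

lemma E_add (N : ModSite.Mod O) (σ σ' : ModSite.unit O ⟶ N) :
    E hX N (σ + σ') = E hX N σ + E hX N σ' := by
  rw [E_apply, E_apply, E_apply]
  rfl

lemma E_zero (N : ModSite.Mod O) : E hX N 0 = 0 := by
  rw [E_apply]
  rfl

/-- `E` as an additive equivalence -/
def EAdd (N : ModSite.Mod O) : (ModSite.unit O ⟶ N) ≃+ N.val.obj (op X) :=
  { E hX N with map_add' := E_add hX N }

lemma E_sum (N : ModSite.Mod O) {ι : Type*} (s : Finset ι)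
    (f : ι → (ModSite.unit O ⟶ N)) : E hX N (∑ i ∈ s, f i) = ∑ i ∈ s, E hX N (f i) :=
  map_sum (EAdd hX N) f s

/-- cast of scalars -/
def toR (c : O.obj.obj (op X)) : (ModSite.ringSh O).obj.obj (op X) := c

/-- multiplication by a scalar, as an endomorphism of the unit -/
def mc (c : O.obj.obj (op X)) : ModSite.unit O ⟶ ModSite.unit O :=
  (E hX (ModSite.unit O)).symm c

lemma E_mc (c : O.obj.obj (op X)) : E hX (ModSite.unit O) (mc hX c) = c :=
  (E hX (ModSite.unit O)).apply_symm_apply c

lemma E_mc_comp (N : ModSite.Mod O) (c : O.obj.obj (op X)) (τ : ModSite.unit O ⟶ N) :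
    E hX N (mc hX c ≫ τ) = toR c • E hX N τ := by
  rw [E_comp, E_mc]
  have h1 : (c : (ModSite.unit O).val.obj (op X)) =
      toR c • (1 : (ModSite.ringSh O).obj.obj (op X)) := by
    change c = c * 1
    rw [mul_one]
  refine (congrArg (fun z => τ.val.app (op X) z) h1).trans ?_
  exact (τ.val.app (op X)).hom.map_smul (toR c) _

lemma hom_ext_E {N : ModSite.Mod O} {σ σ' : ModSite.unit O ⟶ N}
    (h : E hX N σ = E hX N σ') : σ = σ' := (E hX N).injective h

lemma mc_E (u : ModSite.unit O ⟶ ModSite.unit O) : mc hX (E hX (ModSite.unit O) u) = u :=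
  (E hX (ModSite.unit O)).symm_apply_apply u

section free

variable {I : Type u} [DecidableEq I]

/-- the projections of a free module -/
def pr (j : I) : SheafOfModules.free (R := ModSite.ringSh O) I ⟶ ModSite.unit O :=
  Cofan.IsColimit.desc (SheafOfModules.isColimitFreeCofan I)
    (fun i => if i = j then 𝟙 _ else 0)

lemma ι_pr (i j : I) :
    SheafOfModules.ιFree (R := ModSite.ringSh O) i ≫ pr j = if i = j then 𝟙 _ else 0 :=
  Cofan.IsColimit.fac (SheafOfModules.isColimitFreeCofan I) _ i

lemma sum_pr_ι [Fintype I] :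
    ∑ j : I, pr (O := O) j ≫ SheafOfModules.ιFree j = 𝟙 _ := by
  apply Cofan.IsColimit.hom_ext (SheafOfModules.isColimitFreeCofan I)
  intro i
  change SheafOfModules.ιFree i ≫ _ = SheafOfModules.ιFree i ≫ _
  rw [Preadditive.comp_sum, Category.comp_id]
  rw [Finset.sum_eq_single i]
  · rw [← Category.assoc, ι_pr, if_pos rfl, Category.id_comp]
  · intro b _ hb
    rw [← Category.assoc, ι_pr, if_neg (Ne.symm hb), zero_comp]
  · intro h; exact absurd (Finset.mem_univ i) h

/-- decomposition of a section of a finite free module -/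
lemma decomp [Fintype I] (z : ModSite.unit O ⟶ SheafOfModules.free (R := ModSite.ringSh O) I) :
    z = ∑ j : I, mc hX (E hX _ (z ≫ pr j)) ≫ SheafOfModules.ιFree j := by
  conv_lhs => rw [← Category.comp_id z, ← sum_pr_ι, Preadditive.comp_sum]
  apply Finset.sum_congr rfl
  intro j _
  rw [mc_E, Category.assoc]

end free

end Groth.Agent.Lib.helper10.TermSec
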