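import Mathlib
import Groth.Agent.Lib.helper10.TermSec

open CategoryTheory Opposite Limits
open Groth.Agent.Lib.helper10.TermSec

universe u

noncomputable section

namespace Groth.Agent.Lib.helper10.FinProj

variable {C : Type u} [SmallCategory C] {J : GrothendieckTopology C}
  {O : Sheaf J CommRingCat.{u}} {X : C} (hX : IsTerminal X)

/-- the finite free module -/
abbrev Fr (O : Sheaf J CommRingCat.{u}) (n : ℕ) : ModSite.Mod O :=
  SheafOfModules.free (R := ModSite.ringSh O) (ULift.{u} (Fin n))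

/-- the basis sections -/
def e (n : ℕ) (k : ULift.{u} (Fin n)) : (Fr O n).val.obj (op X) :=
  E hX (Fr O n) (SheafOfModules.ιFree k)

lemma gen (n : ℕ) (z : (Fr O n).val.obj (op X)) :
    z = ∑ k : ULift.{u} (Fin n),
      toR (E hX _ ((E hX (Fr O n)).symm z ≫ pr k)) • e hX n k := by
  classical
  have h1 := decomp hX ((E hX (Fr O n)).symm z)
  have h2 := congrArg (E hX (Fr O n)) h1
  rw [Equiv.apply_symm_apply, E_sum] at h2
  refine h2.trans ?_
  apply Finset.sum_congr rfl
  intro k _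
  rw [E_mc_comp]
  rfl

include hX in
lemma KL_inj (n : ℕ) {N : ModSite.Mod O} (ψ ψ' : Fr O n ⟶ N)
    (h : ψ.val.app (op X) = ψ'.val.app (op X)) : ψ = ψ' := by
  apply Cofan.IsColimit.hom_ext (SheafOfModules.isColimitFreeCofan (ULift.{u} (Fin n)))
  intro k
  change SheafOfModules.ιFree k ≫ ψ = SheafOfModules.ιFree k ≫ ψ'
  apply hom_ext_E hX
  rw [E_comp, E_comp, h]

include hX in
lemma KL_surj (n : ℕ) {N : ModSite.Mod O} (h : (Fr O n).val.obj (op X) ⟶ N.val.obj (op X)) :
    ∃ ψ : Fr O n ⟶ N, ψ.val.app (op X) = h := by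
  classical
  let ψ : Fr O n ⟶ N :=
    Cofan.IsColimit.desc (SheafOfModules.isColimitFreeCofan (ULift.{u} (Fin n)))
      (fun k => (E hX N).symm (h (e hX n k)))
  have hψ : ∀ k, SheafOfModules.ιFree k ≫ ψ = (E hX N).symm (h (e hX n k)) := fun k =>
    Cofan.IsColimit.fac (SheafOfModules.isColimitFreeCofan (ULift.{u} (Fin n))) _ k
  refine ⟨ψ, ?_⟩
  ext z
  rw [gen hX n z, map_sum, map_sum]
  apply Finset.sum_congr rfl
  intro k _
  rw [map_smul, map_smul]
  congr 1
  have h1 : ψ.val.app (op X) (e hX n k) = E hX N (SheafOfModules.ιFree k ≫ ψ) := rfl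
  rw [h1, hψ, Equiv.apply_symm_apply]

/-- the ring of global sections -/
abbrev RX (O : Sheaf J CommRingCat.{u}) (X : C) : Type u := (ModSite.ringSh O).obj.obj (op X)

/-- coordinates of a global section of the finite free module -/
def coord (n : ℕ) : (Fr O n).val.obj (op X) →ₗ[RX O X] (ULift.{u} (Fin n) → RX O X) := by
  classical
  exact LinearMap.pi (fun k => ((pr (O := O) k).val.app (op X)).hom)

/-- linear combinations of the basis sections -/
def toΓ (n : ℕ) : (ULift.{u} (Fin n) → RX O X) →ₗ[RX O X] (Fr O n).val.obj (op X) :=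
  Fintype.linearCombination (RX O X) (e hX n)

lemma coord_e (n : ℕ) (k : ULift.{u} (Fin n)) :
    coord n (e hX n k) = Pi.single k (1 : RX O X) := by
  classical
  ext j
  change (pr (O := O) j).val.app (op X) (e hX n k) = _
  have h1 : (pr (O := O) j).val.app (op X) (e hX n k) =
      E hX _ (SheafOfModules.ιFree k ≫ pr j) := rfl
  rw [h1, ι_pr]
  by_cases hkj : k = j
  · subst hkj
    rw [if_pos rfl, Pi.single_eq_same]
    rfl
  · rw [if_neg hkj, Pi.single_eq_of_ne (Ne.symm hkj), E_zero]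
    rfl

lemma toΓ_coord (n : ℕ) (z : (Fr O n).val.obj (op X)) : toΓ hX n (coord n z) = z := by
  classical
  rw [toΓ, Fintype.linearCombination_apply]
  refine Eq.trans ?_ (gen hX n z).symm
  apply Finset.sum_congr rfl
  intro k _
  congr 1
  change (pr (O := O) k).val.app (op X) z = _
  have : (pr (O := O) k).val.app (op X) z =
      (pr (O := O) k).val.app (op X) (E hX _ ((E hX (Fr O n)).symm z)) := by
    rw [Equiv.apply_symm_apply]
  exact this

lemma coord_toΓ (n : ℕ) (c : ULift.{u} (Fin n) → RX O X) : coord n (toΓ hX n c) = c := by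
  classical
  rw [toΓ, Fintype.linearCombination_apply, map_sum]
  have : ∀ k, coord n (c k • e hX n k) = Pi.single k (c k) := by
    intro k
    rw [map_smul, coord_e]
    ext j
    by_cases hkj : k = j
    · subst hkj
      simp
    · simp [Pi.single_eq_of_ne (Ne.symm hkj)]
  rw [Finset.sum_congr rfl (fun k _ => this k)]
  exact Finset.univ_sum_single c

/-- global sections of the finite free module form a free module -/
def θ (n : ℕ) : (ULift.{u} (Fin n) → RX O X) ≃ₗ[RX O X] (Fr O n).val.obj (op X) :=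
  LinearEquiv.ofLinear (toΓ hX n) (coord n)
    (LinearMap.ext (toΓ_coord hX n)) (LinearMap.ext (coord_toΓ hX n))

lemma comp_app {A B D : ModSite.Mod O} (f : A ⟶ B) (g : B ⟶ D) (x : A.val.obj (op X)) :
    (f ≫ g).val.app (op X) x = g.val.app (op X) (f.val.app (op X) x) := rfl

include hX in
theorem part2 (E₀ : ModSite.Mod O)
    (hE : ∃ (n : ℕ) (i : E₀ ⟶ Fr O n) (p : Fr O n ⟶ E₀), i ≫ p = 𝟙 E₀) :
    Module.Finite (RX O X) (E₀.val.obj (op X)) ∧ Module.Projective (RX O X) (E₀.val.obj (op X)) := by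
  obtain ⟨n, i, p, hip⟩ := hE
  let li : E₀.val.obj (op X) →ₗ[RX O X] (Fr O n).val.obj (op X) := (i.val.app (op X)).hom
  let lp : (Fr O n).val.obj (op X) →ₗ[RX O X] E₀.val.obj (op X) := (p.val.app (op X)).hom
  have h1 : lp ∘ₗ li = LinearMap.id := by
    ext x
    change p.val.app (op X) (i.val.app (op X) x) = x
    rw [← comp_app, hip]
    rfl
  have hfin : Module.Finite (RX O X) ((Fr O n).val.obj (op X)) := Module.Finite.equiv (θ hX n)
  have hproj : Module.Projective (RX O X) ((Fr O n).val.obj (op X)) :=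
    Module.Projective.of_equiv (θ hX n)
  constructor
  · refine Module.Finite.of_surjective lp ?_
    intro y
    exact ⟨li y, LinearMap.congr_fun h1 y⟩
  · exact Module.Projective.of_split li lp h1

include hX in
theorem part1 (E₀ E₁ : ModSite.Mod O)
    (hE : ∃ (n : ℕ) (i : E₀ ⟶ Fr O n) (p : Fr O n ⟶ E₀), i ≫ p = 𝟙 E₀) :
    Function.Bijective (fun φ : E₀ ⟶ E₁ => φ.val.app (op X)) := by
  obtain ⟨n, i, p, hip⟩ := hE
  constructor
  · intro φ φ' h
    have h' : φ.val.app (op X) = φ'.val.app (op X) := h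
    have h1 : p ≫ φ = p ≫ φ' := by
      apply KL_inj hX
      ext z
      rw [comp_app, comp_app, h']
    calc φ = (i ≫ p) ≫ φ := by rw [hip, Category.id_comp]
      _ = i ≫ p ≫ φ' := by rw [Category.assoc, h1]
      _ = φ' := by rw [← Category.assoc, hip, Category.id_comp]
  · intro h
    obtain ⟨ψ, hψ⟩ := KL_surj hX n (N := E₁) (p.val.app (op X) ≫ h)
    refine ⟨i ≫ ψ, ?_⟩
    change (i ≫ ψ).val.app (op X) = h
    ext z
    rw [comp_app, hψ]
    change h (p.val.app (op X) (i.val.app (op X) z)) = h z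
    rw [← comp_app, hip]
    rfl

include hX in
theorem part3 (M : ModuleCat.{u} (RX O X)) (hfin : Module.Finite (RX O X) M)
    (hproj : Module.Projective (RX O X) M) :
    ∃ E₀ : ModSite.Mod O, (∃ (n : ℕ) (i : E₀ ⟶ Fr O n) (p : Fr O n ⟶ E₀), i ≫ p = 𝟙 E₀) ∧
      Nonempty (E₀.val.obj (op X) ≅ M) := by
  obtain ⟨n, q₀, hq₀⟩ := Module.Finite.exists_fin' (RX O X) M
  let q' : (ULift.{u} (Fin n) → RX O X) →ₗ[RX O X] M :=
    q₀ ∘ₗ (LinearEquiv.funCongrLeft (RX O X) (RX O X) (Equiv.ulift.{u} (α := Fin n)).symm).toLinearMap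
  have hq' : Function.Surjective q' := by
    intro m
    obtain ⟨c, hc⟩ := hq₀ m
    refine ⟨(LinearEquiv.funCongrLeft (RX O X) (RX O X) (Equiv.ulift.{u} (α := Fin n)).symm).symm c, ?_⟩
    change q₀ ((LinearEquiv.funCongrLeft (RX O X) (RX O X) (Equiv.ulift.{u} (α := Fin n)).symm)
      ((LinearEquiv.funCongrLeft (RX O X) (RX O X) (Equiv.ulift.{u} (α := Fin n)).symm).symm c)) = m
    rw [LinearEquiv.apply_symm_apply, hc]
  obtain ⟨s, hs⟩ := Module.projective_lifting_property q' LinearMap.id hq'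
  have hs' : ∀ m, q' (s m) = m := fun m => LinearMap.congr_fun hs m
  let e' : (Fr O n).val.obj (op X) →ₗ[RX O X] (Fr O n).val.obj (op X) :=
    (θ hX n).toLinearMap ∘ₗ s ∘ₗ q' ∘ₗ (θ hX n).symm.toLinearMap
  have he' : ∀ z, e' (e' z) = e' z := by
    intro z
    change (θ hX n) (s (q' ((θ hX n).symm ((θ hX n) (s (q' ((θ hX n).symm z))))))) = _
    rw [LinearEquiv.symm_apply_apply, hs']
    rfl
  obtain ⟨ε, hε⟩ := KL_surj hX n (N := Fr O n) (ModuleCat.ofHom e')
  have hεz : ∀ z, ε.val.app (op X) z = e' z := by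
    intro z
    rw [hε]
    rfl
  have hidem : ε ≫ ε = ε := by
    apply KL_inj hX
    ext z
    rw [comp_app, hεz, hεz, he']
  obtain ⟨E₀, i, p, hip, hpi⟩ := IsIdempotentComplete.idempotents_split (Fr O n) ε hidem
  refine ⟨E₀, ⟨n, i, p, hip⟩, ⟨?_⟩⟩
  have h1 : ∀ y : E₀.val.obj (op X), p.val.app (op X) (i.val.app (op X) y) = y := by
    intro y
    rw [← comp_app, hip]
    rfl
  have h2 : ∀ z, i.val.app (op X) (p.val.app (op X) z) = e' z := by
    intro z
    rw [← comp_app, hpi, hεz]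
  let fwd : E₀.val.obj (op X) →ₗ[RX O X] M :=
    q' ∘ₗ (θ hX n).symm.toLinearMap ∘ₗ (i.val.app (op X)).hom
  let bwd : M →ₗ[RX O X] E₀.val.obj (op X) :=
    (p.val.app (op X)).hom ∘ₗ (θ hX n).toLinearMap ∘ₗ s
  refine (LinearEquiv.ofLinear fwd bwd ?_ ?_).toModuleIso
  · ext m
    change q' ((θ hX n).symm (i.val.app (op X) (p.val.app (op X) ((θ hX n) (s m))))) = m
    rw [h2]
    change q' ((θ hX n).symm ((θ hX n) (s (q' ((θ hX n).symm ((θ hX n) (s m))))))) = m
    rw [LinearEquiv.symm_apply_apply, LinearEquiv.symm_apply_apply, hs', hs']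
  · ext y
    change p.val.app (op X) ((θ hX n) (s (q' ((θ hX n).symm (i.val.app (op X) y))))) = y
    have h3 : (θ hX n) (s (q' ((θ hX n).symm (i.val.app (op X) y)))) =
        e' (i.val.app (op X) y) := rfl
    rw [h3, ← h2, h1, h1]

end Groth.Agent.Lib.helper10.FinProj
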