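import Mathlib
import Groth.Prelude.Def_ModSite
import Groth.Agent.Lib.helper10.Flat2

namespace Groth.Agent.Lib.helper10.Flat3
open CategoryTheory Limits Opposite MonoidalCategory
open Groth.Agent.Lib.helper10.TensCore Groth.Agent.Lib.helper10.TensAdj
open Groth.Agent.Lib.helper10.Flat1

universe u

variable {C : Type u} [SmallCategory C] {J : GrothendieckTopology C} (O : Sheaf J CommRingCat.{u})

theorem flat_colimit {I : Type u} [SmallCategory I] [HasExactColimitsOfShape I (ModSite.Mod O)]
    (D : I ⥤ ModSite.Mod O) (hD : ∀ i, ModSite.IsFlat (D.obj i)) (c : Cocone D)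
    (hc : IsColimit c) : ModSite.IsFlat c.pt := by
  apply isFlat_of_preservesMono
  intro M' M f hf
  let B := ModSite.tensorBi O
  have h1 : IsColimit ((B.obj M').mapCocone c) := isColimitOfPreserves _ hc
  have h2 : IsColimit ((B.obj M).mapCocone c) := isColimitOfPreserves _ hc
  let φ : D ⋙ B.obj M' ⟶ D ⋙ B.obj M := Functor.whiskerLeft D (B.map f)
  have : ∀ i, Mono (φ.app i) := fun i => mono_of_isFlat O (D.obj i) (hD i) f
  have : Mono φ := NatTrans.mono_of_mono_app φ
  exact colim.map_mono' φ h1 h2 ((B.map f).app c.pt)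
    (fun j => ((B.map f).naturality (c.ι.app j)))

theorem flat_filtered {I : Type u} [SmallCategory I] [IsFiltered I]
    (D : I ⥤ ModSite.Mod O) (hD : ∀ i, ModSite.IsFlat (D.obj i)) (c : Cocone D)
    (hc : IsColimit c) : ModSite.IsFlat c.pt := by
  have := Groth.Agent.Lib.helper10.ModColim.hasExactColimitsOfShape (ModSite.ringSh O) I
  exact flat_colimit O D hD c hc

theorem flat_cofan {ι : Type u} (F : ι → ModSite.Mod O) (hF : ∀ i, ModSite.IsFlat (F i))
    (c : Cofan F) (hc : IsColimit c) : ModSite.IsFlat c.pt := by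
  have h1 := Groth.Agent.Lib.helper10.ModColim.isGrothendieckAbelian (ModSite.ringSh O)
  have h0 : HasFiniteBiproducts (ModSite.Mod O) := HasFiniteBiproducts.of_hasFiniteProducts
  have h2 : AB4OfSize.{u} (ModSite.Mod O) := AB4.of_AB5 _
  exact flat_colimit O (Discrete.functor F) (fun i => hF i.as) c hc

end Groth.Agent.Lib.helper10.Flat3
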