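import Mathlib
import Groth.Prelude.Def_ModSite
import Groth.Agent.Lib.helper10.Flat2

namespace Groth.Agent.Lib.helper10.Flat4
open CategoryTheory Limits Opposite MonoidalCategory
open Groth.Agent.Lib.helper10.TensCore Groth.Agent.Lib.helper10.TensAdj
open Groth.Agent.Lib.helper10.Flat1

universe u

variable {C : Type u} [SmallCategory C] {J : GrothendieckTopology C} (O : Sheaf J CommRingCat.{u})

/-- `M ↦ a(M.val ⊗ L) ≅ M ⊗_O aL`, natural in `M` -/
noncomputable def n1 (L : PM O) : FG O ⋙ tensorRight L ⋙ aa O ≅ T O ((aa O).obj L) :=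
  NatIso.ofComponents
    (fun M => @asIso _ _ _ _ _ (whiskerLeft_iso O ((FG O).obj M) (uu O L) (LB_uu O L)))
    (fun {M' M} f => by
      change (aa O).map ((FG O).map f ▷ L) ≫ (aa O).map ((FG O).obj M ◁ uu O L) =
        (aa O).map ((FG O).obj M' ◁ uu O L) ≫
          (aa O).map ((FG O).map f ▷ (FG O).obj ((aa O).obj L))
      rw [← Functor.map_comp, ← Functor.map_comp, whisker_exchange])

/-- associativity: `- ⊗ (G ⊗ F) ≅ (- ⊗ G) ⊗ F` -/
noncomputable def assocIso (G F : ModSite.Mod O) :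
    T O (((ModSite.tensorBi O).obj G).obj F) ≅ T O G ⋙ T O F :=
  (n1 O ((FG O).obj G ⊗ (FG O).obj F)).symm ≪≫
    Functor.isoWhiskerLeft (FG O)
      (Functor.isoWhiskerRight (tensorRightTensor ((FG O).obj G) ((FG O).obj F)) (aa O)) ≪≫
    Functor.isoWhiskerLeft (FG O ⋙ tensorRight ((FG O).obj G)) (asIso (eN O F))

theorem flat_tensor (G F : ModSite.Mod O) (hG : ModSite.IsFlat G) (hF : ModSite.IsFlat F) :
    ModSite.IsFlat (((ModSite.tensorBi O).obj G).obj F) := by
  have h1 := hG.1
  have h2 := hF.1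
  have : PreservesFiniteLimits (T O G ⋙ T O F) := comp_preservesFiniteLimits _ _
  exact ⟨preservesFiniteLimits_of_natIso (assocIso O G F).symm, inferInstance⟩

end Groth.Agent.Lib.helper10.Flat4
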