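import Mathlib
import Groth.Agent.Lib.helper10.ExtZero
import Groth.Agent.Lib.helper10.DerAdj
import Groth.Prelude.Def_FreeSh
import Groth.Prelude.Def_CohCx
import Groth.Prelude.Def_CohTop

namespace Groth.Agent.Lib.helper10.RestrDer
open CategoryTheory Limits TopologicalSpace Opposite Topology
open Groth.Agent.Lib.helper10

universe u

/-- Yoneda: an object-level iso from a natural family of hom-bijections. -/
def isoOfHomEquiv {C : Type*} [Category C] {A B : C} (φ : ∀ F : C, (A ⟶ F) ≃ (B ⟶ F))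
    (nat : ∀ {F G : C} (f : A ⟶ F) (g : F ⟶ G), φ G (f ≫ g) = φ F f ≫ g) : A ≅ B where
  hom := (φ B).symm (𝟙 B)
  inv := φ A (𝟙 A)
  hom_inv_id := by
    apply (φ A).injective
    rw [nat, Equiv.apply_symm_apply, Category.id_comp]
  inv_hom_id := by
    rw [← nat, Category.id_comp, Equiv.apply_symm_apply]

variable {X : TopCat.{u}} (U : Opens X)

lemma isOpenEmbedding_incl : IsOpenEmbedding (TopCat.Hom.hom (TopCat.ofHom ⟨_, continuous_subtype_val⟩ :
      TopCat.of U ⟶ X)) := U.isOpenEmbedding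

abbrev G : Opens (TopCat.of U) ⥤ Opens X := (isOpenEmbedding_incl U).isOpenMap.functor

lemma G_top : (G U).obj ⊤ = U := by
  ext x
  constructor
  · rintro ⟨y, -, rfl⟩
    exact y.2
  · intro hx
    exact ⟨⟨x, hx⟩, trivial, rfl⟩


noncomputable abbrev Lf : CohTop.Ab (TopCat.of U) ⥤ CohTop.Ab X :=
  ExtZero.extZero (isOpenEmbedding_incl U)

noncomputable abbrev adjLR : Lf U ⊣ CohTop.restrFunctor U :=
  ExtZero.extZeroAdj (isOpenEmbedding_incl U)

noncomputable abbrev Zt : CohTop.Ab (TopCat.of U) :=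
  CohCx.freeSheaf (Opens.grothendieckTopology (TopCat.of U)) (⊤ : Opens (TopCat.of U))

noncomputable abbrev ZU : CohTop.Ab X := CohCx.freeSheaf (Opens.grothendieckTopology X) U

/-- `F(j(⊤)) ≅ F(U)` -/
noncomputable def tIso (F : CohTop.Ab X) :
    F.obj.obj (op ((G U).obj ⊤)) ≅ F.obj.obj (op U) :=
  F.obj.mapIso (eqToIso (congrArg op (G_top U)))

noncomputable def secEquiv (F : CohTop.Ab X) :
    ((CohTop.restrFunctor U).obj F).obj.obj (op ⊤) ≃ F.obj.obj (op U) :=
  (tIso U F).addCommGroupIsoToAddEquiv.toEquiv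

lemma secEquiv_nat {F F' : CohTop.Ab X} (g : F ⟶ F')
    (y : ((CohTop.restrFunctor U).obj F).obj.obj (op ⊤)) :
    secEquiv U F' ((g.hom.app (op ((G U).obj ⊤))).hom y) =
      (g.hom.app (op U)).hom (secEquiv U F y) :=
  (ConcreteCategory.congr_hom (g.hom.naturality (eqToHom (congrArg op (G_top U)))) y).symm

noncomputable def φ (F : CohTop.Ab X) : ((Lf U).obj (Zt U) ⟶ F) ≃ (ZU U ⟶ F) :=
  ((adjLR U).homEquiv (Zt U) F).trans
    ((CohFree.homEquivSect _ (⊤ : Opens (TopCat.of U)) ((CohTop.restrFunctor U).obj F)).toEquiv.trans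
      ((secEquiv U F).trans (CohFree.homEquivSect _ U F).symm.toEquiv))

lemma φ_nat {F F' : CohTop.Ab X} (f : (Lf U).obj (Zt U) ⟶ F) (g : F ⟶ F') :
    φ U F' (f ≫ g) = φ U F f ≫ g := by
  apply (CohFree.homEquivSect _ U F').injective
  have h1 : (adjLR U).homEquiv (Zt U) F' (f ≫ g) =
      (adjLR U).homEquiv (Zt U) F f ≫ (CohTop.restrFunctor U).map g :=
    Adjunction.homEquiv_naturality_right _ _ _
  have h2 : CohFree.homEquivSect _ U F' (φ U F f ≫ g) =
      (g.hom.app (op U)).hom (CohFree.homEquivSect _ U F (φ U F f)) := rfl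
  rw [h2]
  unfold φ
  simp only [Equiv.trans_apply, AddEquiv.toEquiv_eq_coe,
    AddEquiv.apply_symm_apply, EquivLike.coe_coe, h1]
  have h3 : CohFree.homEquivSect _ (⊤ : Opens (TopCat.of U)) ((CohTop.restrFunctor U).obj F')
      ((adjLR U).homEquiv (Zt U) F f ≫ (CohTop.restrFunctor U).map g) =
      (g.hom.app (op ((G U).obj ⊤))).hom
        (CohFree.homEquivSect _ (⊤ : Opens (TopCat.of U)) ((CohTop.restrFunctor U).obj F)
          ((adjLR U).homEquiv (Zt U) F f)) := rfl
  rw [h3]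
  exact secEquiv_nat U g _

/-- `j_!(ℤ_⊤) ≅ ℤ_U` -/
noncomputable def eIso : (Lf U).obj (Zt U) ≅ ZU U := isoOfHomEquiv (φ U) (φ_nat U)


section main
variable [HasDerivedCategory.{u} (CohTop.Ab X)] [HasDerivedCategory.{u} (CohTop.Ab (TopCat.of U))]
  [PreservesFiniteLimits (CohTop.restrFunctor U)] [PreservesFiniteColimits (CohTop.restrFunctor U)]

noncomputable instance : PreservesFiniteLimits (Lf U) :=
  ExtZero.extZero_preservesFiniteLimits (isOpenEmbedding_incl U)
noncomputable instance : PreservesFiniteColimits (Lf U) :=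
  ExtZero.extZero_preservesFiniteColimits (isOpenEmbedding_incl U)
noncomputable instance : (Lf U).Additive :=
  ExtZero.extZero_additive (isOpenEmbedding_incl U)

noncomputable abbrev dAdj : (Lf U).mapDerivedCategory ⊣ (CohTop.restrFunctor U).mapDerivedCategory :=
  DerAdj.derAdj (adjLR U)

/-- `L_D (ℤ_⊤[0]) ≅ ℤ_U[0]` -/
noncomputable def isoLS :
    (Lf U).mapDerivedCategory.obj ((DerivedCategory.singleFunctor (CohTop.Ab (TopCat.of U)) 0).obj (Zt U)) ≅
      (DerivedCategory.singleFunctor (CohTop.Ab X) 0).obj (ZU U) :=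
  ((Lf U).mapDerivedCategorySingleFunctor 0).app (Zt U) ≪≫
    (DerivedCategory.singleFunctor (CohTop.Ab X) 0).mapIso (eIso U)

noncomputable def Ψ (K : DerivedCategory (CohTop.Ab X)) (p : ℤ) :
    CohCx.HDU ((CohTop.restrFunctor U).mapDerivedCategory.obj K) p (⊤ : Opens (TopCat.of U)) ≃
      CohCx.HDU K p U :=
  (Iso.homCongr (Iso.refl _) (((CohTop.restrFunctor U).mapDerivedCategory.commShiftIso p).app K).symm).trans
    (((dAdj U).homEquiv _ _).symm.trans (Iso.homCongr (isoLS U) (Iso.refl _)))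

theorem main (K : DerivedCategory (CohTop.Ab X)) (p : ℤ) :
    Nonempty (CohCx.HDU K p U ≃+
      CohCx.HDU ((CohTop.restrFunctor U).mapDerivedCategory.obj K) p (⊤ : Opens (TopCat.of U))) := by
  refine ⟨AddEquiv.symm { toEquiv := Ψ U K p, map_add' := ?_ }⟩
  intro f g
  simp only [Ψ, Equiv.toFun_as_coe, Equiv.trans_apply, Iso.homCongr_apply, Iso.refl_inv, Iso.refl_hom,
    Category.id_comp, Category.comp_id, Adjunction.homEquiv_counit, Preadditive.add_comp,
    Preadditive.comp_add, Functor.map_add]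

end main

end Groth.Agent.Lib.helper10.RestrDer
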