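import Mathlib
import Groth.Agent.Lib.helper10.ExtAdj
import Groth.Agent.Lib.helper10.RestrDer
import Groth.Prelude.Def_CohSite

namespace Groth.Agent.Lib.helper10.FlatCoh
open CategoryTheory Limits Opposite
open Groth.Agent.Lib.helper10

universe u

section general
variable {C : Type u} [SmallCategory C] (J : GrothendieckTopology C)

noncomputable abbrev cZ : Sheaf J AddCommGrpCat.{u} :=
  (constantSheaf J AddCommGrpCat.{u}).obj (AddCommGrpCat.of (ULift ℤ))

variable {T : C} (hT : IsTerminal T)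

/-- `(ℤ ⟶ G) ≃+ G(T)` for sheaves on a site with terminal object `T`. -/
noncomputable def E (G : Sheaf J AddCommGrpCat.{u}) :
    (cZ J ⟶ G) ≃+ G.obj.obj (op T) :=
  AddEquiv.trans ((constantSheafAdj J AddCommGrpCat.{u} hT).homAddEquiv _ G)
    (AddCommGrpCat.uliftZMultiplesAddEquiv _)

lemma E_nat {G G' : Sheaf J AddCommGrpCat.{u}} (a : cZ J ⟶ G) (h : G ⟶ G') :
    E J hT G' (a ≫ h) = (h.hom.app (op T)).hom (E J hT G a) := by
  have h1 : (constantSheafAdj J AddCommGrpCat.{u} hT).homEquiv _ G' (a ≫ h) =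
      (constantSheafAdj J AddCommGrpCat.{u} hT).homEquiv _ G a ≫
        ((sheafSections J AddCommGrpCat.{u}).obj (op T)).map h :=
    Adjunction.homEquiv_naturality_right _ _ _
  change AddCommGrpCat.uliftZMultiplesAddEquiv _
    ((constantSheafAdj J AddCommGrpCat.{u} hT).homEquiv _ G' (a ≫ h)) = _
  rw [h1]
  rfl

end general

variable {C D : Type u} [SmallCategory C] [SmallCategory D]
    (J : GrothendieckTopology C) (K : GrothendieckTopology D) (u : C ⥤ D)
    [u.IsContinuous J K]

noncomputable abbrev Lf : Sheaf J AddCommGrpCat.{u} ⥤ Sheaf K AddCommGrpCat.{u} :=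
  u.sheafPullback AddCommGrpCat.{u} J K

noncomputable abbrev adjLR : Lf J K u ⊣ CohSite.push K J u :=
  u.sheafAdjunctionContinuous AddCommGrpCat.{u} J K

variable {T : C} (hT : IsTerminal T) (hT' : IsTerminal (u.obj T))

noncomputable def E' (F : Sheaf K AddCommGrpCat.{u}) :
    (cZ J ⟶ (CohSite.push K J u).obj F) ≃+ F.obj.obj (op (u.obj T)) :=
  E J hT ((CohSite.push K J u).obj F)

lemma E'_nat {F F' : Sheaf K AddCommGrpCat.{u}} (a : cZ J ⟶ (CohSite.push K J u).obj F)
    (g : F ⟶ F') :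
    E' J K u hT F' (a ≫ (CohSite.push K J u).map g) = (g.hom.app (op (u.obj T))).hom (E' J K u hT F a) :=
  E_nat J hT a ((CohSite.push K J u).map g)

noncomputable def φ (F : Sheaf K AddCommGrpCat.{u}) :
    ((Lf J K u).obj (cZ J) ⟶ F) ≃ (cZ K ⟶ F) :=
  ((adjLR J K u).homEquiv (cZ J) F).trans
    ((E' J K u hT F).toEquiv.trans (E K hT' F).symm.toEquiv)

lemma φ_apply (F : Sheaf K AddCommGrpCat.{u}) (f : (Lf J K u).obj (cZ J) ⟶ F) :
    φ J K u hT hT' F f = (E K hT' F).symm
      (E' J K u hT F ((adjLR J K u).homEquiv (cZ J) F f)) := rfl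

lemma φ_nat {F F' : Sheaf K AddCommGrpCat.{u}} (f : (Lf J K u).obj (cZ J) ⟶ F) (g : F ⟶ F') :
    φ J K u hT hT' F' (f ≫ g) = φ J K u hT hT' F f ≫ g := by
  apply (E K hT' F').injective
  have h1 : (adjLR J K u).homEquiv (cZ J) F' (f ≫ g) =
      (adjLR J K u).homEquiv (cZ J) F f ≫ (CohSite.push K J u).map g :=
    Adjunction.homEquiv_naturality_right _ _ _
  rw [E_nat, φ_apply, φ_apply, AddEquiv.apply_symm_apply, AddEquiv.apply_symm_apply, h1]
  exact E'_nat J K u hT _ _

noncomputable def eIso : (Lf J K u).obj (cZ J) ≅ cZ K :=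
  RestrDer.isoOfHomEquiv (φ J K u hT hT') (φ_nat J K u hT hT')

include hT hT' in
theorem main [u.IsCocontinuous J K] [RepresentablyFlat u]
    (F : Sheaf K AddCommGrpCat.{u}) (p : ℕ) :
    Nonempty (Sheaf.H ((CohSite.push K J u).obj F) p ≃+ Sheaf.H F p) := by
  have := (adjLR J K u).rightAdjoint_preservesLimits
  have := (adjLR J K u).leftAdjoint_preservesColimits
  have : PreservesFiniteColimits (CohSite.push K J u) := by
    have := (u.sheafAdjunctionCocontinuous AddCommGrpCat.{u} J K).leftAdjoint_preservesColimits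
    infer_instance
  have : PreservesFiniteLimits (Lf J K u) := by
    have : ReflectsLimits (forget AddCommGrpCat.{u}) := reflectsLimits_of_reflectsIsomorphisms
    exact Functor.sheafPullbackConstruction.preservesFiniteLimits u AddCommGrpCat.{u} J K
  have : (Lf J K u).Additive := Functor.additive_of_preserves_binary_products _
  obtain ⟨e⟩ := ExtAdj.extAdj (adjLR J K u) (cZ J) (cZ K) (eIso J K u hT hT') F p
  exact ⟨e.symm⟩

end Groth.Agent.Lib.helper10.FlatCoh
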