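import Mathlib
import Groth.Prelude.Def_ModSite
import Groth.Agent.Lib.helper10.Flat2

namespace Groth.Agent.Lib.helper10.FlatCx
open CategoryTheory Limits Opposite
open Groth.Agent.Lib.helper10.TensCore Groth.Agent.Lib.helper10.Flat1 Groth.Agent.Lib.helper10.Flat2

universe u

section general
variable {𝒜 : Type*} [Category 𝒜] [Abelian 𝒜]

lemma splice {A B D Z Z' : 𝒜} (f : A ⟶ B) (g : B ⟶ D) (w : f ≫ g = 0)
    (e : A ⟶ Z) (k : Z ⟶ B) (p : B ⟶ Z') (m : Z' ⟶ D) [Epi e] [Mono m]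
    (hf : f = e ≫ k) (hg : g = p ≫ m) (wkp : k ≫ p = 0)
    (h : (ShortComplex.mk k p wkp).Exact) : (ShortComplex.mk f g w).Exact := by
  have wfp : f ≫ p = 0 := by rw [hf, Category.assoc, wkp, comp_zero]
  let φ : ShortComplex.mk f p wfp ⟶ ShortComplex.mk k p wkp :=
    { τ₁ := e, τ₂ := 𝟙 _, τ₃ := 𝟙 _
      comm₁₂ := by simp [hf]
      comm₂₃ := by simp }
  have : Epi φ.τ₁ := inferInstanceAs (Epi e)
  have : IsIso φ.τ₂ := inferInstanceAs (IsIso (𝟙 B))
  have : Mono φ.τ₃ := inferInstanceAs (Mono (𝟙 Z'))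
  have h1 : (ShortComplex.mk f p wfp).Exact := (ShortComplex.exact_iff_of_epi_of_isIso_of_mono φ).2 h
  let ψ : ShortComplex.mk f p wfp ⟶ ShortComplex.mk f g w :=
    { τ₁ := 𝟙 _, τ₂ := 𝟙 _, τ₃ := m
      comm₁₂ := by simp
      comm₂₃ := by simp [hg] }
  have : Epi ψ.τ₁ := inferInstanceAs (Epi (𝟙 A))
  have : IsIso ψ.τ₂ := inferInstanceAs (IsIso (𝟙 B))
  have : Mono ψ.τ₃ := inferInstanceAs (Mono m)
  exact (ShortComplex.exact_iff_of_epi_of_isIso_of_mono ψ).1 h1

variable (K : ChainComplex 𝒜 ℤ)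

noncomputable abbrev Zc (i : ℤ) : 𝒜 := kernel (K.d i (i - 1))

noncomputable def toZ (i : ℤ) : K.X i ⟶ Zc K (i - 1) :=
  kernel.lift (K.d (i - 1) (i - 1 - 1)) (K.d i (i - 1)) (K.d_comp_d _ _ _)

@[reassoc]
lemma toZ_ι (i : ℤ) : toZ K i ≫ kernel.ι (K.d (i - 1) (i - 1 - 1)) = K.d i (i - 1) :=
  kernel.lift_ι _ _ _

lemma ι_toZ (i : ℤ) : kernel.ι (K.d i (i - 1)) ≫ toZ K i = 0 := by
  rw [← cancel_mono (kernel.ι (K.d (i - 1) (i - 1 - 1))), Category.assoc, toZ_ι, kernel.condition,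
    zero_comp]

noncomputable def Sc (i : ℤ) : ShortComplex 𝒜 :=
  ShortComplex.mk (kernel.ι (K.d i (i - 1))) (toZ K i) (ι_toZ K i)

lemma epi_toZ (hK : K.Acyclic) (i : ℤ) : Epi (toZ K i) := by
  have h := (K.exactAt_iff' i (i - 1) (i - 1 - 1)
    (by rw [ChainComplex.prev]; omega) (by rw [ChainComplex.next])).1 (hK (i - 1))
  exact (ShortComplex.exact_iff_epi_kernel_lift _).1 h

lemma Sc_shortExact (hK : K.Acyclic) (i : ℤ) : (Sc K i).ShortExact := by
  have := epi_toZ K hK i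
  refine { exact := ?_, mono_f := (by dsimp [Sc]; infer_instance), epi_g := this }
  apply ShortComplex.exact_of_f_is_kernel
  exact isKernelOfComp (kernel.ι (K.d (i - 1) (i - 1 - 1))) (K.d i (i - 1))
    (kernelIsKernel (K.d i (i - 1))) (ι_toZ K i) (toZ_ι K i)

end general


variable {C : Type u} [SmallCategory C] {J : GrothendieckTopology C} (O : Sheaf J CommRingCat.{u})

lemma isFlat_of_isZero (A : ModSite.Mod O) (hA : IsZero A) : ModSite.IsFlat A := by
  apply isFlat_of_preservesMono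
  intro X Y f hf
  have h0 : IsZero ((T O A).obj X) := Functor.map_isZero ((ModSite.tensorBi O).obj X) hA
  constructor
  intro Z g h _
  exact h0.eq_of_tgt g h

theorem acyclic_tensor (M : ChainComplex (ModSite.Mod O) ℤ) (F : ModSite.Mod O)
    (hb : ∃ i₀ : ℤ, ∀ i, i < i₀ → IsZero (M.X i)) (hM : ∀ i, ModSite.IsFlat (M.X i))
    (hac : M.Acyclic) :
    (((T O F).mapHomologicalComplex (ComplexShape.down ℤ)).obj M).Acyclic := by
  obtain ⟨i₀, hi₀⟩ := hb
  have hZn : ∀ (n : ℕ) (i : ℤ), i < i₀ + n → ModSite.IsFlat (Zc M i) := by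
    intro n
    induction n with
    | zero =>
      intro i hi
      exact isFlat_of_isZero O _ (IsZero.of_mono (kernel.ι _) (hi₀ i (by simpa using hi)))
    | succ n ih =>
      intro i hi
      exact flat_left O (Sc M i) (Sc_shortExact M hac i) (hM i)
        (ih (i - 1) (by push_cast at hi; omega))
  have hZ : ∀ i, ModSite.IsFlat (Zc M i) := fun i =>
    hZn (i - i₀ + 1).toNat i (by omega)
  intro j
  obtain ⟨i, rfl⟩ : ∃ i, j = i - 1 := ⟨j + 1, by omega⟩
  rw [HomologicalComplex.exactAt_iff' _ i (i - 1) (i - 1 - 1)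
    (by rw [ChainComplex.prev]; omega) (by rw [ChainComplex.next])]
  have hS1 := tensor_shortExact O (Sc M (i - 1)) (Sc_shortExact M hac (i - 1)) (hZ (i - 1 - 1)) F
  have hS2 := tensor_shortExact O (Sc M (i - 1 - 1)) (Sc_shortExact M hac (i - 1 - 1))
    (hZ (i - 1 - 1 - 1)) F
  have := epi_toZ M hac i
  have he : Epi ((T O F).map (toZ M i)) := inferInstance
  have hm : Mono ((T O F).map (kernel.ι (M.d (i - 1 - 1) (i - 1 - 1 - 1)))) := hS2.mono_f
  have key : (ShortComplex.mk ((T O F).map (M.d i (i - 1))) ((T O F).map (M.d (i - 1) (i - 1 - 1)))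
      (by rw [← Functor.map_comp, M.d_comp_d, Functor.map_zero])).Exact :=
    splice ((T O F).map (M.d i (i - 1))) ((T O F).map (M.d (i - 1) (i - 1 - 1))) _
      ((T O F).map (toZ M i)) ((T O F).map (kernel.ι (M.d (i - 1) (i - 1 - 1))))
      ((T O F).map (toZ M (i - 1))) ((T O F).map (kernel.ι (M.d (i - 1 - 1) (i - 1 - 1 - 1))))
      (by rw [← Functor.map_comp, toZ_ι]) (by rw [← Functor.map_comp, toZ_ι])
      ((Sc M (i - 1)).map (T O F)).zero hS1.exact
  exact key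

end Groth.Agent.Lib.helper10.FlatCx
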