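import Mathlib.Tactic
import Groth.Agent.Lib.helper10.FiberFun
import Groth.Agent.S6400

/-!
# The projections of a 2-fibre product over `C` are fibred in groupoids (helper10)
-/

set_option autoImplicit false
open CategoryTheory
universe v u
open FibCat

namespace Groth.Agent.Lib.helper10.FpProj

open Groth.Agent.Lib.helper10.FiberFun Groth.Agent.S6400

variable {C : Type u} [Category.{v} C] {𝒳 𝒴 𝒮 : BasedCategory.{v, max u v} C}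
  (F : 𝒳 ⥤ᵇ 𝒮) (G : 𝒴 ⥤ᵇ 𝒮)

lemma fpFst_lift_iff {x' x : 𝒳.obj} (f : x' ⟶ x) {a b : (FibCat.fp F G).obj} (Ψ : a ⟶ b) :
    (FibCat.fpFst F G).toFunctor.IsHomLift f Ψ ↔
      ∃ (h1 : a.obj.fst = x') (h2 : b.obj.fst = x), Ψ.hom.fst = eqToHom h1 ≫ f ≫ eqToHom h2.symm := by
  constructor
  · intro h
    exact ⟨IsHomLift.domain_eq (FibCat.fpFst F G).toFunctor f Ψ,
      IsHomLift.codomain_eq (FibCat.fpFst F G).toFunctor f Ψ,
      IsHomLift.fac' (FibCat.fpFst F G).toFunctor f Ψ⟩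
  · rintro ⟨h1, h2, h3⟩
    exact IsHomLift.of_fac' (FibCat.fpFst F G).toFunctor f Ψ h1 h2 h3

theorem isFibGrpd_fpFst (h𝒴 : FibCat.IsFibGrpd 𝒴.p) (h𝒮 : FibCat.IsFibGrpd 𝒮.p) :
    FibCat.IsFibGrpd (FibCat.fpFst F G).toFunctor := by
  refine ⟨?_, ?_⟩
  · intro t x' f
    change x' ⟶ t.obj.fst at f
    have hγ : 𝒮.p.IsHomLift (𝟙 (𝒳.p.obj t.obj.fst)) t.obj.iso.hom := t.property
    have hy : 𝒴.p.obj t.obj.snd = 𝒳.p.obj t.obj.fst :=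
      (G.w_obj t.obj.snd).symm.trans (IsHomLift.codomain_eq 𝒮.p (𝟙 (𝒳.p.obj t.obj.fst)) t.obj.iso.hom)
    -- lift `u = p f` to `b : y' ⟶ y`
    have := isFibered_of_isFibGrpd h𝒴
    obtain ⟨y', b, hb⟩ := IsPreFibered.exists_isCartesian 𝒴.p hy (𝒳.p.map f)
    have hbl : 𝒴.p.IsHomLift (𝒳.p.map f) b := inferInstance
    have hGb : 𝒮.p.IsStronglyCartesian (𝒳.p.map f) (G.map b) := sc_of_isFibGrpd h𝒮 _ _
    have hFf : 𝒮.p.IsHomLift (𝒳.p.map f) (F.map f ≫ t.obj.iso.hom) :=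
      IsHomLift.comp_lift_id_right' 𝒮.p (𝒳.p.map f) (F.map f) (𝒳.p.obj t.obj.fst) t.obj.iso.hom
    have hcomp : 𝒮.p.IsStronglyCartesian (𝒳.p.map f) (F.map f ≫ t.obj.iso.hom) :=
      sc_of_isFibGrpd h𝒮 _ _
    have hid : 𝒳.p.map f = (Iso.refl (𝒳.p.obj x')).hom ≫ 𝒳.p.map f := by simp
    let γ' : F.obj x' ≅ G.obj y' :=
      Functor.IsStronglyCartesian.domainIsoOfBaseIso 𝒮.p (g := Iso.refl (𝒳.p.obj x')) hid (G.map b)
        (F.map f ≫ t.obj.iso.hom)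
    have hγ'lift : 𝒮.p.IsHomLift (𝟙 (𝒳.p.obj x')) γ'.hom :=
      Functor.IsStronglyCartesian.domainUniqueUpToIso_inv_isHomLift 𝒮.p
        (g := Iso.refl (𝒳.p.obj x')) hid (G.map b) (F.map f ≫ t.obj.iso.hom)
    have hγ'fac : γ'.hom ≫ G.map b = F.map f ≫ t.obj.iso.hom :=
      Functor.IsStronglyCartesian.fac 𝒮.p (𝒳.p.map f) (G.map b) hid (F.map f ≫ t.obj.iso.hom)
    let t' : (FibCat.fp F G).obj := ⟨⟨x', y', γ'⟩, hγ'lift⟩
    let Φ : t' ⟶ t := ObjectProperty.homMk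
      ({ fst := f, snd := b, w := hγ'fac.symm } :
        Limits.CategoricalPullback.Hom (F := F.toFunctor) (G := G.toFunctor) ⟨x', y', γ'⟩ t.obj)
    refine ⟨t', Φ, ?_⟩
    exact (fpFst_lift_iff F G f Φ).2 ⟨rfl, rfl, by simp [Φ]⟩
  · intro t' t Φ
    refine { toIsHomLift := inferInstance, universal_property' := ?_ }
    intro s g τ hτ
    have hτ0 := @IsHomLift.eq_of_isHomLift _ _ _ _ (FibCat.fpFst F G).toFunctor s t _ τ hτ
    obtain ⟨g', hg'⟩ : ∃ g' : s.obj.fst ⟶ t'.obj.fst, g' = g := ⟨g, rfl⟩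
    have hτ' : g' ≫ Φ.hom.fst = τ.hom.fst := by rw [hg']; exact hτ0
    clear hτ0
    subst hg'
    rename' g' => g
    have hbl : 𝒴.p.IsHomLift (𝒳.p.map Φ.hom.fst) Φ.hom.snd := FibCat.fp_isHomLift_snd F G Φ
    have hτl : 𝒴.p.IsHomLift (𝒳.p.map τ.hom.fst) τ.hom.snd := FibCat.fp_isHomLift_snd F G τ
    have hb : 𝒴.p.IsStronglyCartesian (𝒳.p.map Φ.hom.fst) Φ.hom.snd := sc_of_isFibGrpd h𝒴 _ _
    have hGb : 𝒮.p.IsStronglyCartesian (𝒳.p.map Φ.hom.fst) (G.map Φ.hom.snd) :=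
      sc_of_isFibGrpd h𝒮 _ _
    have hv : 𝒳.p.map τ.hom.fst = 𝒳.p.map g ≫ 𝒳.p.map Φ.hom.fst := by
      rw [← hτ', Functor.map_comp]
    let β : s.obj.snd ⟶ t'.obj.snd :=
      Functor.IsStronglyCartesian.map 𝒴.p (𝒳.p.map Φ.hom.fst) Φ.hom.snd hv τ.hom.snd
    have hβ : 𝒴.p.IsHomLift (𝒳.p.map g) β :=
      Functor.IsStronglyCartesian.map_isHomLift 𝒴.p (𝒳.p.map Φ.hom.fst) Φ.hom.snd hv τ.hom.snd
    have hβf : β ≫ Φ.hom.snd = τ.hom.snd :=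
      Functor.IsStronglyCartesian.fac 𝒴.p (𝒳.p.map Φ.hom.fst) Φ.hom.snd hv τ.hom.snd
    have hFg : 𝒮.p.IsHomLift (𝒳.p.map g) (F.map g) := inferInstance
    have hGβ : 𝒮.p.IsHomLift (𝒳.p.map g) (G.map β) := inferInstance
    have hs : 𝒮.p.IsHomLift (𝟙 (𝒳.p.obj s.obj.fst)) s.obj.iso.hom := s.property
    have ht' : 𝒮.p.IsHomLift (𝟙 (𝒳.p.obj t'.obj.fst)) t'.obj.iso.hom := t'.property
    have hl1 : 𝒮.p.IsHomLift (𝒳.p.map g) (F.map g ≫ t'.obj.iso.hom) :=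
      IsHomLift.comp_lift_id_right' 𝒮.p (𝒳.p.map g) (F.map g) (𝒳.p.obj t'.obj.fst) t'.obj.iso.hom
    have hl2 : 𝒮.p.IsHomLift (𝒳.p.map g) (s.obj.iso.hom ≫ G.map β) :=
      IsHomLift.comp_lift_id_left' 𝒮.p (𝒳.p.obj s.obj.fst) s.obj.iso.hom (𝒳.p.map g) (G.map β)
    have hw : F.map g ≫ t'.obj.iso.hom = s.obj.iso.hom ≫ G.map β := by
      apply Functor.IsStronglyCartesian.ext 𝒮.p (𝒳.p.map Φ.hom.fst) (G.map Φ.hom.snd)
        (𝒳.p.map g)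
      rw [Category.assoc, ← Φ.hom.w, ← Category.assoc, ← F.map_comp, hτ', Category.assoc,
        ← G.map_comp, hβf]
      exact τ.hom.w
    let χ : s ⟶ t' := ObjectProperty.homMk
      ({ fst := g, snd := β, w := hw } :
        Limits.CategoricalPullback.Hom (F := F.toFunctor) (G := G.toFunctor) s.obj t'.obj)
    have hχ : (FibCat.fpFst F G).toFunctor.IsHomLift g χ :=
      (fpFst_lift_iff F G g χ).2 ⟨rfl, rfl, by simp [χ]⟩
    refine ⟨χ, ⟨hχ, ?_⟩, ?_⟩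
    · apply ObjectProperty.hom_ext
      apply Limits.CategoricalPullback.hom_ext
      · exact hτ'
      · exact hβf
    · rintro χ' ⟨hχ'1, hχ'2⟩
      have e0 : χ'.hom.fst = g :=
        (@IsHomLift.eq_of_isHomLift _ _ _ _ (FibCat.fpFst F G).toFunctor s t' g χ' hχ'1).symm
      have h2 : 𝒴.p.IsHomLift (𝒳.p.map g) χ'.hom.snd := by
        have : 𝒴.p.IsHomLift (𝒳.p.map χ'.hom.fst) χ'.hom.snd := FibCat.fp_isHomLift_snd F G χ'
        rwa [e0] at this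
      have e2 : χ'.hom.snd ≫ Φ.hom.snd = τ.hom.snd := by
        have := congrArg (fun m => m.hom.snd) hχ'2
        exact this
      apply ObjectProperty.hom_ext
      apply Limits.CategoricalPullback.hom_ext
      · exact e0
      · exact Functor.IsStronglyCartesian.map_uniq 𝒴.p (𝒳.p.map Φ.hom.fst) Φ.hom.snd hv
          τ.hom.snd χ'.hom.snd e2

lemma fpSnd_lift_iff {y' y : 𝒴.obj} (f : y' ⟶ y) {a b : (FibCat.fp F G).obj} (Ψ : a ⟶ b) :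
    (FibCat.fpSnd F G).toFunctor.IsHomLift f Ψ ↔
      ∃ (h1 : a.obj.snd = y') (h2 : b.obj.snd = y), Ψ.hom.snd = eqToHom h1 ≫ f ≫ eqToHom h2.symm := by
  constructor
  · intro h
    exact ⟨IsHomLift.domain_eq (FibCat.fpSnd F G).toFunctor f Ψ,
      IsHomLift.codomain_eq (FibCat.fpSnd F G).toFunctor f Ψ,
      IsHomLift.fac' (FibCat.fpSnd F G).toFunctor f Ψ⟩
  · rintro ⟨h1, h2, h3⟩
    exact IsHomLift.of_fac' (FibCat.fpSnd F G).toFunctor f Ψ h1 h2 h3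

lemma lift_unique {𝒵 : Type*} [Category 𝒵] (p : 𝒵 ⥤ C) {R S : C} (f f' : R ⟶ S) {a b : 𝒵}
    (φ : a ⟶ b) [p.IsHomLift f φ] [p.IsHomLift f' φ] : f = f' :=
  (IsHomLift.fac p f φ).trans (IsHomLift.fac p f' φ).symm

lemma fp_obj_snd_proj (t : (FibCat.fp F G).obj) : 𝒴.p.obj t.obj.snd = 𝒳.p.obj t.obj.fst := by
  have hγ : 𝒮.p.IsHomLift (𝟙 (𝒳.p.obj t.obj.fst)) t.obj.iso.hom := t.property
  exact (G.w_obj t.obj.snd).symm.trans
    (IsHomLift.codomain_eq 𝒮.p (𝟙 (𝒳.p.obj t.obj.fst)) t.obj.iso.hom)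

theorem isFibGrpd_fpSnd (h𝒳 : FibCat.IsFibGrpd 𝒳.p) (h𝒮 : FibCat.IsFibGrpd 𝒮.p) :
    FibCat.IsFibGrpd (FibCat.fpSnd F G).toFunctor := by
  refine ⟨?_, ?_⟩
  · intro t y' f
    change y' ⟶ t.obj.snd at f
    have hγ : 𝒮.p.IsHomLift (𝟙 (𝒳.p.obj t.obj.fst)) t.obj.iso.hom := t.property
    have hy : 𝒴.p.obj t.obj.snd = 𝒳.p.obj t.obj.fst := fp_obj_snd_proj F G t
    have := isFibered_of_isFibGrpd h𝒳
    obtain ⟨x', a, ha⟩ := IsPreFibered.exists_isCartesian 𝒳.p hy.symm (𝒴.p.map f)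
    have hal : 𝒳.p.IsHomLift (𝒴.p.map f) a := inferInstance
    have hx' : 𝒳.p.obj x' = 𝒴.p.obj y' := IsHomLift.domain_eq 𝒳.p (𝒴.p.map f) a
    have hGf : 𝒮.p.IsStronglyCartesian (𝒴.p.map f) (G.map f) := sc_of_isFibGrpd h𝒮 _ _
    have hFa : 𝒮.p.IsHomLift (𝒴.p.map f) (F.map a ≫ t.obj.iso.hom) :=
      IsHomLift.comp_lift_id_right' 𝒮.p (𝒴.p.map f) (F.map a) (𝒳.p.obj t.obj.fst) t.obj.iso.hom
    have hcomp : 𝒮.p.IsStronglyCartesian (𝒴.p.map f) (F.map a ≫ t.obj.iso.hom) :=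
      sc_of_isFibGrpd h𝒮 _ _
    have hid : 𝒴.p.map f = (Iso.refl (𝒴.p.obj y')).hom ≫ 𝒴.p.map f := by simp
    let γ' : F.obj x' ≅ G.obj y' :=
      Functor.IsStronglyCartesian.domainIsoOfBaseIso 𝒮.p (g := Iso.refl (𝒴.p.obj y')) hid (G.map f)
        (F.map a ≫ t.obj.iso.hom)
    have hγ'lift : 𝒮.p.IsHomLift (𝟙 (𝒴.p.obj y')) γ'.hom :=
      Functor.IsStronglyCartesian.domainUniqueUpToIso_inv_isHomLift 𝒮.p
        (g := Iso.refl (𝒴.p.obj y')) hid (G.map f) (F.map a ≫ t.obj.iso.hom)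
    have hγ'fac : γ'.hom ≫ G.map f = F.map a ≫ t.obj.iso.hom :=
      Functor.IsStronglyCartesian.fac 𝒮.p (𝒴.p.map f) (G.map f) hid (F.map a ≫ t.obj.iso.hom)
    have hprop : 𝒮.p.IsHomLift (𝟙 (𝒳.p.obj x')) γ'.hom := by
      rw [hx']; exact hγ'lift
    let t' : (FibCat.fp F G).obj := ⟨⟨x', y', γ'⟩, hprop⟩
    let Φ : t' ⟶ t := ObjectProperty.homMk
      ({ fst := a, snd := f, w := hγ'fac.symm } :
        Limits.CategoricalPullback.Hom (F := F.toFunctor) (G := G.toFunctor) ⟨x', y', γ'⟩ t.obj)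
    refine ⟨t', Φ, ?_⟩
    exact (fpSnd_lift_iff F G f Φ).2 ⟨rfl, rfl, by simp [Φ]⟩
  · intro t' t Φ
    refine { toIsHomLift := inferInstance, universal_property' := ?_ }
    intro s g τ hτ
    have hτ0 := @IsHomLift.eq_of_isHomLift _ _ _ _ (FibCat.fpSnd F G).toFunctor s t _ τ hτ
    obtain ⟨g', hg'⟩ : ∃ g' : s.obj.snd ⟶ t'.obj.snd, g' = g := ⟨g, rfl⟩
    have hτ' : g' ≫ Φ.hom.snd = τ.hom.snd := by rw [hg']; exact hτ0
    clear hτ0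
    subst hg'
    rename' g' => g
    have hbl : 𝒴.p.IsHomLift (𝒳.p.map Φ.hom.fst) Φ.hom.snd := FibCat.fp_isHomLift_snd F G Φ
    have hτl : 𝒴.p.IsHomLift (𝒳.p.map τ.hom.fst) τ.hom.snd := FibCat.fp_isHomLift_snd F G τ
    have ha : 𝒳.p.IsStronglyCartesian (𝒳.p.map Φ.hom.fst) Φ.hom.fst := sc_of_isFibGrpd h𝒳 _ _
    have hGb : 𝒮.p.IsStronglyCartesian (𝒳.p.map Φ.hom.fst) (G.map Φ.hom.snd) :=
      sc_of_isFibGrpd h𝒮 _ _
    -- the morphism of `C` under `g`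
    have es : 𝒴.p.obj s.obj.snd = 𝒳.p.obj s.obj.fst := fp_obj_snd_proj F G s
    have et' : 𝒴.p.obj t'.obj.snd = 𝒳.p.obj t'.obj.fst := fp_obj_snd_proj F G t'
    obtain ⟨w, hw0⟩ : ∃ w : 𝒳.p.obj s.obj.fst ⟶ 𝒳.p.obj t'.obj.fst,
        w = eqToHom es.symm ≫ 𝒴.p.map g ≫ eqToHom et' := ⟨_, rfl⟩
    have hgw : 𝒴.p.IsHomLift w g := IsHomLift.of_fac 𝒴.p w g es et' hw0
    have hv : 𝒳.p.map τ.hom.fst = w ≫ 𝒳.p.map Φ.hom.fst := by
      have h1 : 𝒴.p.IsHomLift (w ≫ 𝒳.p.map Φ.hom.fst) (g ≫ Φ.hom.snd) := inferInstance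
      rw [hτ'] at h1
      exact lift_unique 𝒴.p _ _ τ.hom.snd
    let α : s.obj.fst ⟶ t'.obj.fst :=
      Functor.IsStronglyCartesian.map 𝒳.p (𝒳.p.map Φ.hom.fst) Φ.hom.fst hv τ.hom.fst
    have hα : 𝒳.p.IsHomLift w α :=
      Functor.IsStronglyCartesian.map_isHomLift 𝒳.p (𝒳.p.map Φ.hom.fst) Φ.hom.fst hv τ.hom.fst
    have hαf : α ≫ Φ.hom.fst = τ.hom.fst :=
      Functor.IsStronglyCartesian.fac 𝒳.p (𝒳.p.map Φ.hom.fst) Φ.hom.fst hv τ.hom.fst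
    have hFα : 𝒮.p.IsHomLift w (F.map α) := inferInstance
    have hGg : 𝒮.p.IsHomLift w (G.map g) := inferInstance
    have hs : 𝒮.p.IsHomLift (𝟙 (𝒳.p.obj s.obj.fst)) s.obj.iso.hom := s.property
    have ht' : 𝒮.p.IsHomLift (𝟙 (𝒳.p.obj t'.obj.fst)) t'.obj.iso.hom := t'.property
    have hl1 : 𝒮.p.IsHomLift w (F.map α ≫ t'.obj.iso.hom) :=
      IsHomLift.comp_lift_id_right' 𝒮.p w (F.map α) (𝒳.p.obj t'.obj.fst) t'.obj.iso.hom
    have hl2 : 𝒮.p.IsHomLift w (s.obj.iso.hom ≫ G.map g) :=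
      IsHomLift.comp_lift_id_left' 𝒮.p (𝒳.p.obj s.obj.fst) s.obj.iso.hom w (G.map g)
    have hw : F.map α ≫ t'.obj.iso.hom = s.obj.iso.hom ≫ G.map g := by
      apply Functor.IsStronglyCartesian.ext 𝒮.p (𝒳.p.map Φ.hom.fst) (G.map Φ.hom.snd) w
      rw [Category.assoc, ← Φ.hom.w, ← Category.assoc, ← F.map_comp, hαf, Category.assoc,
        ← G.map_comp, hτ']
      exact τ.hom.w
    let χ : s ⟶ t' := ObjectProperty.homMk
      ({ fst := α, snd := g, w := hw } :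
        Limits.CategoricalPullback.Hom (F := F.toFunctor) (G := G.toFunctor) s.obj t'.obj)
    have hχ : (FibCat.fpSnd F G).toFunctor.IsHomLift g χ :=
      (fpSnd_lift_iff F G g χ).2 ⟨rfl, rfl, by simp [χ]⟩
    refine ⟨χ, ⟨hχ, ?_⟩, ?_⟩
    · apply ObjectProperty.hom_ext
      apply Limits.CategoricalPullback.hom_ext
      · exact hαf
      · exact hτ'
    · rintro χ' ⟨hχ'1, hχ'2⟩
      have e0 : χ'.hom.snd = g :=
        (@IsHomLift.eq_of_isHomLift _ _ _ _ (FibCat.fpSnd F G).toFunctor s t' g χ' hχ'1).symm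
      have h2 : 𝒳.p.IsHomLift w χ'.hom.fst := by
        have h3 : 𝒴.p.IsHomLift (𝒳.p.map χ'.hom.fst) χ'.hom.snd := FibCat.fp_isHomLift_snd F G χ'
        rw [e0] at h3
        have e4 : 𝒳.p.map χ'.hom.fst = w := lift_unique 𝒴.p _ _ g
        rw [← e4]; infer_instance
      have e2 : χ'.hom.fst ≫ Φ.hom.fst = τ.hom.fst := by
        have := congrArg (fun m => m.hom.fst) hχ'2
        exact this
      apply ObjectProperty.hom_ext
      apply Limits.CategoricalPullback.hom_ext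
      · exact Functor.IsStronglyCartesian.map_uniq 𝒳.p (𝒳.p.map Φ.hom.fst) Φ.hom.fst hv
          τ.hom.fst χ'.hom.fst e2
      · exact e0

end Groth.Agent.Lib.helper10.FpProj
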