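import Mathlib.Tactic
import Groth.Prelude.Def_FibCat2
import Groth.Agent.Lib.helper10.Vert
import Groth.Agent.Lib.helper10.FiberFun

/-!
# Lifting morphisms into the image of a functor between categories fibred in groupoids (helper10)

For `G : 𝒵 ⟶ 𝒴` over `C` with `𝒵`, `𝒴` fibred in groupoids and `a : y ⟶ G z₀`, there are `m : z₁ ⟶ z₀`
and a vertical isomorphism `ε : y ≅ G z₁` with `ε ≫ G m = a`.  General universes.
-/

set_option autoImplicit false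
universe v u v₂ u₂ v₃ u₃

open CategoryTheory

namespace Groth.Agent.Lib.helper10.LiftIso

open Groth.Agent.Lib.helper10.Vert Groth.Agent.Lib.helper10.FiberFun

variable {C : Type u} [Category.{v} C] {𝒵 : BasedCategory.{v₂, u₂} C} {𝒴 : BasedCategory.{v₃, u₃} C}

/-- a vertical morphism in a category fibred in groupoids is an isomorphism -/
lemma isIso_of_isVert {𝒳 : Type u₂} [Category.{v₂} 𝒳] {p : 𝒳 ⥤ C} (hp : FibCat.IsFibGrpd p)
    {a b : 𝒳} (φ : a ⟶ b) (h : IsVert p φ) : IsIso φ := by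
  have hsc : p.IsStronglyCartesian (p.map φ) φ := hp.isStronglyCartesian φ
  obtain ⟨e, he⟩ := h
  have : IsIso (p.map φ) := by rw [he]; infer_instance
  exact Functor.IsStronglyCartesian.isIso_of_base_isIso p (p.map φ) φ

theorem exists_lift_iso (h𝒵 : FibCat.IsFibGrpd 𝒵.p) (h𝒴 : FibCat.IsFibGrpd 𝒴.p)
    (G : 𝒵 ⥤ᵇ 𝒴) (z₀ : 𝒵.obj) {y : 𝒴.obj} (a : y ⟶ G.obj z₀) :
    ∃ (z₁ : 𝒵.obj) (m : z₁ ⟶ z₀) (ε : y ≅ G.obj z₁),
      IsVert 𝒴.p ε.hom ∧ ε.hom ≫ G.map m = a ∧ 𝒵.p.obj z₁ = 𝒴.p.obj y := by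
  obtain ⟨z₁, m, hm⟩ := h𝒵.exists_lift (x := z₀) (𝒴.p.map a ≫ eqToHom (G.w_obj z₀))
  have d : 𝒵.p.obj z₁ = 𝒴.p.obj y :=
    IsHomLift.domain_eq 𝒵.p (𝒴.p.map a ≫ eqToHom (G.w_obj z₀)) m
  have fm : 𝒵.p.map m = eqToHom d ≫ (𝒴.p.map a ≫ eqToHom (G.w_obj z₀)) := by
    have := IsHomLift.fac' 𝒵.p (𝒴.p.map a ≫ eqToHom (G.w_obj z₀)) m
    simpa using this
  have hGm : 𝒴.p.map (G.map m) = eqToHom (G.w_obj z₁) ≫ 𝒵.p.map m ≫ eqToHom (G.w_obj z₀).symm := by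
    have := Functor.congr_hom G.w m
    simpa using this
  have hd' : 𝒴.p.obj y = 𝒴.p.obj (G.obj z₁) := d.symm.trans (G.w_obj z₁).symm
  have key : 𝒴.p.map a = eqToHom hd' ≫ 𝒴.p.map (G.map m) := by
    rw [hGm, fm]
    simp
  have hsc : 𝒴.p.IsStronglyCartesian (𝒴.p.map (G.map m)) (G.map m) := h𝒴.isStronglyCartesian _
  have hl : 𝒴.p.IsHomLift (eqToHom hd' ≫ 𝒴.p.map (G.map m)) a := by
    rw [← key]
    exact IsHomLift.map 𝒴.p a
  let χ : y ⟶ G.obj z₁ := Functor.IsStronglyCartesian.map 𝒴.p (𝒴.p.map (G.map m)) (G.map m)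
    (g := eqToHom hd') rfl a
  have hχ : χ ≫ G.map m = a :=
    Functor.IsStronglyCartesian.fac 𝒴.p (𝒴.p.map (G.map m)) (G.map m) (g := eqToHom hd') rfl a
  have hχl : 𝒴.p.IsHomLift (eqToHom hd') χ :=
    Functor.IsStronglyCartesian.map_isHomLift 𝒴.p (𝒴.p.map (G.map m)) (G.map m)
      (g := eqToHom hd') rfl a
  have hχv : IsVert 𝒴.p χ := by
    refine ⟨hd', ?_⟩
    have := IsHomLift.fac' 𝒴.p (eqToHom hd') χ
    simpa using this
  have hiso : IsIso χ := isIso_of_isVert h𝒴 χ hχv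
  exact ⟨z₁, m, asIso χ, hχv, hχ, d⟩

end Groth.Agent.Lib.helper10.LiftIso
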