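import Mathlib.Tactic
import Groth.Prelude.Def_StGerb
import Groth.Agent.Lib.helper10.EquivOver
import Groth.Agent.Lib.helper10.FiberFun
import Groth.Agent.Lib.helper10.LiftIso
import Groth.Agent.Lib.helper10.FpGen
import Groth.Agent.Lib.helper10.Vert

/-!
# Formal permanence of `Gerb.IsGerbeOver` (helper10 library, general universes)
-/

set_option autoImplicit false
universe v u v₂ u₂ v₃ u₃ v₄ u₄

open CategoryTheory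

namespace Groth.Agent.Lib.helper10.GerbLib

open Groth.Agent.Lib.helper10.FpGen

variable {C : Type u} [Category.{v} C] (J : GrothendieckTopology C)

section Primed

variable {𝒳 : BasedCategory.{v₂, u₂} C} {𝒴 : BasedCategory.{v₃, u₃} C} (F : 𝒳 ⥤ᵇ 𝒴)

/-- `LocSurjObj` with the base object as a variable -/
lemma locSurjObj' (h : Gerb.LocSurjObj J F) (U : C) (y : 𝒴.obj) (hy : 𝒴.p.obj y = U) :
    ∃ R ∈ J U, ∀ ⦃V : C⦄ (f : V ⟶ U), R f → ∃ (x : 𝒳.obj) (g : F.obj x ⟶ y), 𝒴.p.IsHomLift f g := by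
  subst hy
  exact h y

/-- `LocSurjHom` with the base object as a variable -/
lemma locSurjHom' (h : Gerb.LocSurjHom J F) (U : C) (x x' : 𝒳.obj) (hx : 𝒳.p.obj x = U)
    (b : F.obj x ⟶ F.obj x') (hb : 𝒴.p.IsHomLift (𝟙 U) b) :
    ∃ R ∈ J U, ∀ ⦃V : C⦄ (f : V ⟶ U), R f →
      ∃ (x₀ : 𝒳.obj) (φ : x₀ ⟶ x) (ψ : x₀ ⟶ x'),
        𝒳.p.IsHomLift f φ ∧ 𝒳.p.IsHomLift f ψ ∧ F.map φ ≫ b = F.map ψ := by
  subst hx
  exact h x x' b hb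

end Primed

section Iso

variable {𝒳 : BasedCategory.{v₂, u₂} C} {𝒴 : BasedCategory.{v₃, u₃} C} {F F' : 𝒳 ⥤ᵇ 𝒴}

omit [Category.{v} C] in
lemma aux_iso {A : Type*} [Category A] {P₀ P P' Q₀ Q Q' : A} (α₀ : P₀ ≅ Q₀) (α : P ≅ Q) (α' : P' ≅ Q')
    (Fφ : P₀ ⟶ P) (Fψ : P₀ ⟶ P') (F'φ : Q₀ ⟶ Q) (F'ψ : Q₀ ⟶ Q') (b : Q ⟶ Q')
    (n1 : Fφ ≫ α.hom = α₀.hom ≫ F'φ) (n2 : Fψ ≫ α'.hom = α₀.hom ≫ F'ψ)
    (h : Fφ ≫ (α.hom ≫ b ≫ α'.inv) = Fψ) : F'φ ≫ b = F'ψ := by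
  rw [← cancel_epi α₀.hom, ← n2, ← h]
  simp only [Category.assoc, Iso.inv_hom_id, Category.comp_id]
  rw [← Category.assoc, ← n1, Category.assoc]

/-- invariance under 2-isomorphism -/
theorem of_iso (α : F ≅ F') (h : Gerb.IsGerbeOver J F) : Gerb.IsGerbeOver J F' := by
  have hα : ∀ x : 𝒳.obj, 𝒴.p.IsHomLift (𝟙 (𝒳.p.obj x)) (α.hom.toNatTrans.app x) := fun x =>
    α.hom.isHomLift' x
  have hαi : ∀ x : 𝒳.obj, 𝒴.p.IsHomLift (𝟙 (𝒳.p.obj x)) (α.inv.toNatTrans.app x) := fun x =>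
    α.inv.isHomLift' x
  let αx : ∀ x : 𝒳.obj, F.obj x ≅ F'.obj x := fun x => ((BasedNatTrans.forgetful _ _).mapIso α).app x
  refine ⟨?_, ?_⟩
  · intro y
    obtain ⟨R, hR, hRf⟩ := h.1 y
    refine ⟨R, hR, fun V f hf => ?_⟩
    obtain ⟨x, g, hg⟩ := hRf f hf
    have hV : 𝒳.p.obj x = V := (F.w_obj x).symm.trans (IsHomLift.domain_eq 𝒴.p f g)
    have h1 : 𝒴.p.IsHomLift (𝟙 V) (α.inv.toNatTrans.app x) := by rw [← hV]; exact hαi x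
    exact ⟨x, α.inv.toNatTrans.app x ≫ g,
      @IsHomLift.comp_lift_id_left' _ _ _ _ 𝒴.p _ _ _ V (α.inv.toNatTrans.app x) h1 _ _ f g hg⟩
  · intro x x' b hb
    have hx' : 𝒳.p.obj x' = 𝒳.p.obj x :=
      (F'.w_obj x').symm.trans (IsHomLift.codomain_eq 𝒴.p (𝟙 (𝒳.p.obj x)) b)
    have l1 : 𝒴.p.IsHomLift (𝟙 (𝒳.p.obj x)) (α.inv.toNatTrans.app x') := by rw [← hx']; exact hαi x'
    have l2 : 𝒴.p.IsHomLift (𝟙 (𝒳.p.obj x)) (b ≫ α.inv.toNatTrans.app x') := by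
      have := IsHomLift.comp_lift_id_left' 𝒴.p (𝒳.p.obj x) b (𝟙 (𝒳.p.obj x)) (α.inv.toNatTrans.app x')
      exact this
    have l3 : 𝒴.p.IsHomLift (𝟙 (𝒳.p.obj x)) (α.hom.toNatTrans.app x ≫ b ≫ α.inv.toNatTrans.app x') := by
      have h0 := hα x
      exact IsHomLift.comp_lift_id_left' 𝒴.p (𝒳.p.obj x) (α.hom.toNatTrans.app x) (𝟙 (𝒳.p.obj x))
        (b ≫ α.inv.toNatTrans.app x')
    obtain ⟨R, hR, hRf⟩ := h.2 x x' (α.hom.toNatTrans.app x ≫ b ≫ α.inv.toNatTrans.app x') l3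
    refine ⟨R, hR, fun V f hf => ?_⟩
    obtain ⟨x₀, φ, ψ, hφ, hψ, hφψ⟩ := hRf f hf
    refine ⟨x₀, φ, ψ, hφ, hψ, ?_⟩
    exact aux_iso (αx x₀) (αx x) (αx x') (F.map φ) (F.map ψ) (F'.map φ) (F'.map ψ) b
      (α.hom.toNatTrans.naturality φ) (α.hom.toNatTrans.naturality ψ) hφψ

end Iso

section Precomp

variable {𝒳' : BasedCategory.{v₄, u₄} C} {𝒳 : BasedCategory.{v₂, u₂} C} {𝒴 : BasedCategory.{v₃, u₃} C}
  (a : 𝒳' ⥤ᵇ 𝒳) (F : 𝒳 ⥤ᵇ 𝒴)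

/-- precomposition with an equivalence over `C` -/
theorem precomp_equiv (ha : FibCat.IsEquivOver a) (h : Gerb.IsGerbeOver J F) :
    Gerb.IsGerbeOver J (BasedFunctor.comp a F) := by
  have hae := EquivOver.isEquivalence a ha
  have : a.toFunctor.Full := hae.full
  have : a.toFunctor.Faithful := hae.faithful
  refine ⟨?_, ?_⟩
  · intro y
    obtain ⟨R, hR, hRf⟩ := h.1 y
    refine ⟨R, hR, fun V f hf => ?_⟩
    obtain ⟨x, g, hg⟩ := hRf f hf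
    obtain ⟨x', θ, hθ⟩ := EquivOver.exists_iso a ha x
    have hV : 𝒳.p.obj x = V := (F.w_obj x).symm.trans (IsHomLift.domain_eq 𝒴.p f g)
    have h1 : 𝒳.p.IsHomLift (𝟙 V) θ.hom := by rw [← hV]; exact hθ
    have h2 : 𝒴.p.IsHomLift (𝟙 V) (F.map θ.hom) := (BasedFunctor.isHomLift_iff F _ _).2 h1
    exact ⟨x', F.map θ.hom ≫ g,
      @IsHomLift.comp_lift_id_left' _ _ _ _ 𝒴.p _ _ _ V (F.map θ.hom) h2 _ _ f g hg⟩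
  · intro x₁ x₂ b hb
    obtain ⟨R, hR, hRf⟩ := locSurjHom' J F h.2 (𝒳'.p.obj x₁) (a.obj x₁) (a.obj x₂) (a.w_obj x₁) b hb
    refine ⟨R, hR, fun V f hf => ?_⟩
    obtain ⟨x₀, φ, ψ, hφ, hψ, hφψ⟩ := hRf f hf
    obtain ⟨x₀', θ, hθ⟩ := EquivOver.exists_iso a ha x₀
    have hV : 𝒳.p.obj x₀ = V := IsHomLift.domain_eq 𝒳.p f φ
    have h1 : 𝒳.p.IsHomLift (𝟙 V) θ.hom := by rw [← hV]; exact hθ
    have l1 : 𝒳.p.IsHomLift f (θ.hom ≫ φ) := IsHomLift.comp_lift_id_left' 𝒳.p V θ.hom f φ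
    have l2 : 𝒳.p.IsHomLift f (θ.hom ≫ ψ) := IsHomLift.comp_lift_id_left' 𝒳.p V θ.hom f ψ
    let φ' : x₀' ⟶ x₁ := a.toFunctor.preimage (θ.hom ≫ φ)
    let ψ' : x₀' ⟶ x₂ := a.toFunctor.preimage (θ.hom ≫ ψ)
    have eφ : a.map φ' = θ.hom ≫ φ := a.toFunctor.map_preimage _
    have eψ : a.map ψ' = θ.hom ≫ ψ := a.toFunctor.map_preimage _
    have lφ : 𝒳'.p.IsHomLift f φ' := by
      rw [← BasedFunctor.isHomLift_iff a, eφ]; exact l1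
    have lψ : 𝒳'.p.IsHomLift f ψ' := by
      rw [← BasedFunctor.isHomLift_iff a, eψ]; exact l2
    refine ⟨x₀', φ', ψ', lφ, lψ, ?_⟩
    change F.map (a.map φ') ≫ b = F.map (a.map ψ')
    rw [eφ, eψ]
    change F.toFunctor.map (θ.hom ≫ φ) ≫ b = F.toFunctor.map (θ.hom ≫ ψ)
    rw [Functor.map_comp, Functor.map_comp, Category.assoc]
    exact congrArg (fun k => F.toFunctor.map θ.hom ≫ k) hφψ

end Precomp

section BaseChange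

variable {𝒳 : BasedCategory.{v₂, u₂} C} {𝒴 : BasedCategory.{v₃, u₃} C} {𝒴' : BasedCategory.{v₄, u₄} C}
  (F : 𝒳 ⥤ᵇ 𝒴) (G : 𝒴' ⥤ᵇ 𝒴)

omit [Category.{v} C] in
lemma aux_bc {A : Type*} [Category A] {P₀ Q₀ P Q P' Q' : A} (ι₀ : P₀ ⟶ Q₀) (ι : P ≅ Q) (ι' : P' ≅ Q')
    (Gπ : P₀ ⟶ P) (Gβ : P ⟶ P') (Fφ : Q₀ ⟶ Q) (Fψ : Q₀ ⟶ Q')
    (w : ι₀ ≫ Fφ = Gπ ≫ ι.hom) (h : Fφ ≫ (ι.inv ≫ Gβ ≫ ι'.hom) = Fψ) :
    (Gπ ≫ Gβ) ≫ ι'.hom = ι₀ ≫ Fψ := by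
  rw [← h, ← Category.assoc, w]
  simp

/-- base change of a gerbe -/
theorem fpFst (h𝒴 : FibCat.IsFibGrpd 𝒴.p) (h𝒴' : FibCat.IsFibGrpd 𝒴'.p) (h : Gerb.IsGerbeOver J F) :
    Gerb.IsGerbeOver J (FibCat.fpFst G F) := by
  refine ⟨?_, ?_⟩
  · intro y'
    obtain ⟨R, hR, hRf⟩ := locSurjObj' J F h.1 (𝒴'.p.obj y') (G.obj y') (G.w_obj y')
    refine ⟨R, hR, fun V f hf => ?_⟩
    obtain ⟨x, g, hg⟩ := hRf f hf
    obtain ⟨y'₀, π, hπ⟩ := h𝒴'.exists_lift (x := y') f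
    have hV : 𝒴'.p.obj y'₀ = V := IsHomLift.domain_eq 𝒴'.p f π
    have hGπ : 𝒴.p.IsHomLift f (G.map π) := (BasedFunctor.isHomLift_iff G _ _).2 hπ
    have hsc : 𝒴.p.IsStronglyCartesian f (G.map π) := FiberFun.sc_of_isFibGrpd h𝒴 f (G.map π)
    have hid : f = 𝟙 V ≫ f := (Category.id_comp f).symm
    obtain ⟨χ, hχ⟩ : ∃ χ : F.obj x ⟶ G.obj y'₀,
        χ = Functor.IsStronglyCartesian.map 𝒴.p f (G.map π) hid g := ⟨_, rfl⟩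
    have lχ : 𝒴.p.IsHomLift (𝟙 V) χ := by
      rw [hχ]; exact Functor.IsStronglyCartesian.map_isHomLift 𝒴.p f (G.map π) hid g
    have vχ : Vert.IsVert 𝒴.p χ := Vert.of_lift' 𝒴.p χ lχ
    have iχ : IsIso χ := LiftIso.isIso_of_isVert h𝒴 χ vχ
    have vinv : Vert.IsVert 𝒴.p (@asIso _ _ _ _ χ iχ).inv :=
      Vert.inv_of_iso 𝒴.p (@asIso _ _ _ _ χ iχ) vχ
    have hprop : 𝒴.p.IsHomLift (𝟙 (𝒴'.p.obj y'₀)) (@asIso _ _ _ _ χ iχ).symm.hom :=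
      Vert.lift 𝒴.p _ vinv (G.w_obj y'₀)
    let t : (FibCat.fp G F).obj := ⟨⟨y'₀, x, (@asIso _ _ _ _ χ iχ).symm⟩, hprop⟩
    refine ⟨t, π, ?_⟩
    exact hπ
  · intro t t' β hβ
    have hU : 𝒳.p.obj t.obj.snd = 𝒴'.p.obj t.obj.fst := fp_obj_snd_proj G F t
    have v1 : Vert.IsVert 𝒴.p t.obj.iso.inv :=
      Vert.inv_of_iso 𝒴.p t.obj.iso (Vert.of_lift' 𝒴.p _ t.property)
    have v2 : Vert.IsVert 𝒴.p (G.map β) := Vert.map G β (Vert.of_lift' 𝒴'.p β hβ)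
    have v3 : Vert.IsVert 𝒴.p t'.obj.iso.hom := Vert.of_lift' 𝒴.p _ t'.property
    have vb : Vert.IsVert 𝒴.p (t.obj.iso.inv ≫ G.map β ≫ t'.obj.iso.hom) :=
      Vert.comp _ _ _ v1 (Vert.comp _ _ _ v2 v3)
    have hb : 𝒴.p.IsHomLift (𝟙 (𝒴'.p.obj t.obj.fst)) (t.obj.iso.inv ≫ G.map β ≫ t'.obj.iso.hom) :=
      Vert.lift 𝒴.p _ vb ((F.w_obj t.obj.snd).trans hU)
    obtain ⟨R, hR, hRf⟩ := locSurjHom' J F h.2 (𝒴'.p.obj t.obj.fst) t.obj.snd t'.obj.snd hU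
      (t.obj.iso.inv ≫ G.map β ≫ t'.obj.iso.hom) hb
    refine ⟨R, hR, fun V f hf => ?_⟩
    obtain ⟨x₀, φ, ψ, hφ, hψ, hφψ⟩ := hRf f hf
    obtain ⟨y'₀, π, hπ⟩ := h𝒴'.exists_lift (x := t.obj.fst) f
    have hπ' : 𝒴'.p.IsHomLift f π := hπ
    have hGπ : 𝒴.p.IsHomLift f (G.map π) := (BasedFunctor.isHomLift_iff G _ _).2 hπ
    have hFφ : 𝒴.p.IsHomLift f (F.map φ) := (BasedFunctor.isHomLift_iff F _ _).2 hφ
    have hsc : 𝒴.p.IsStronglyCartesian f (F.map φ) := FiberFun.sc_of_isFibGrpd h𝒴 f (F.map φ)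
    have hid : f = 𝟙 V ≫ f := (Category.id_comp f).symm
    have hti : 𝒴.p.IsHomLift (𝟙 (𝒴'.p.obj t.obj.fst)) t.obj.iso.hom := t.property
    have hcomp : 𝒴.p.IsHomLift f (G.map π ≫ t.obj.iso.hom) :=
      IsHomLift.comp_lift_id_right' 𝒴.p f (G.map π) (𝒴'.p.obj t.obj.fst) t.obj.iso.hom
    have hβ' : 𝒴'.p.IsHomLift (𝟙 (𝒴'.p.obj t.obj.fst)) β := hβ
    obtain ⟨ι₀, hι₀⟩ : ∃ ι₀ : G.obj y'₀ ⟶ F.obj x₀,
        ι₀ = Functor.IsStronglyCartesian.map 𝒴.p f (F.map φ) hid (G.map π ≫ t.obj.iso.hom) := ⟨_, rfl⟩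
    have lι : 𝒴.p.IsHomLift (𝟙 V) ι₀ := by
      rw [hι₀]
      exact Functor.IsStronglyCartesian.map_isHomLift 𝒴.p f (F.map φ) hid (G.map π ≫ t.obj.iso.hom)
    have fι : ι₀ ≫ F.map φ = G.map π ≫ t.obj.iso.hom := by
      rw [hι₀]
      exact Functor.IsStronglyCartesian.fac 𝒴.p f (F.map φ) hid (G.map π ≫ t.obj.iso.hom)
    have vι : Vert.IsVert 𝒴.p ι₀ := Vert.of_lift' 𝒴.p ι₀ lι
    have iι : IsIso ι₀ := LiftIso.isIso_of_isVert h𝒴 ι₀ vι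
    have hprop : 𝒴.p.IsHomLift (𝟙 (𝒴'.p.obj y'₀)) (@asIso _ _ _ _ ι₀ iι).hom :=
      Vert.lift 𝒴.p _ vι (G.w_obj y'₀)
    let t₀ : (FibCat.fp G F).obj := ⟨⟨y'₀, x₀, @asIso _ _ _ _ ι₀ iι⟩, hprop⟩
    have wΦ : G.map π ≫ t.obj.iso.hom = t₀.obj.iso.hom ≫ F.map φ := fι.symm
    let Φ : t₀ ⟶ t := ObjectProperty.homMk
      ({ fst := π, snd := φ, w := wΦ } :
        Limits.CategoricalPullback.Hom (F := G.toFunctor) (G := F.toFunctor) t₀.obj t.obj)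
    have wΨ : G.map (π ≫ β) ≫ t'.obj.iso.hom = t₀.obj.iso.hom ≫ F.map ψ := by
      have e1 : G.map (π ≫ β) = G.map π ≫ G.map β := G.toFunctor.map_comp _ _
      rw [e1]
      exact aux_bc ι₀ t.obj.iso t'.obj.iso (G.map π) (G.map β) (F.map φ) (F.map ψ) fι hφψ
    let Ψ : t₀ ⟶ t' := ObjectProperty.homMk
      ({ fst := π ≫ β, snd := ψ, w := wΨ } :
        Limits.CategoricalPullback.Hom (F := G.toFunctor) (G := F.toFunctor) t₀.obj t'.obj)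
    have lΦ : (FibCat.fp G F).p.IsHomLift f Φ := (fp_lift_iff G F f Φ).2 hπ
    have lπβ : 𝒴'.p.IsHomLift f (π ≫ β) :=
      @IsHomLift.comp_lift_id_right' _ _ _ _ 𝒴'.p _ _ _ _ _ f π hπ' (𝒴'.p.obj t.obj.fst) β hβ
    have lΨ : (FibCat.fp G F).p.IsHomLift f Ψ := (fp_lift_iff G F f Ψ).2 lπβ
    exact ⟨t₀, Φ, Ψ, lΦ, lΨ, rfl⟩

end BaseChange

end Groth.Agent.Lib.helper10.GerbLib
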