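import Mathlib
set_option autoImplicit false
universe u
open CategoryTheory TopologicalSpace Opposite

namespace Groth.Agent.Lib.helper10.InducingPush

variable {Z X : TopCat.{u}} (i : Z ⟶ X)

/-- largest open of `X` with preimage contained in `W`. -/
noncomputable def c (W : Opens Z) : Opens X := sSup {V | (Opens.map i).obj V ≤ W}

theorem c_mono {W W' : Opens Z} (h : W ≤ W') : c i W ≤ c i W' :=
  sSup_le_sSup (fun _ hV => le_trans hV h)

theorem le_c (V : Opens X) : V ≤ c i ((Opens.map i).obj V) :=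
  le_sSup (show V ∈ {V' | (Opens.map i).obj V' ≤ (Opens.map i).obj V} from Set.mem_ofPred.2 (le_refl _))

theorem map_c_le (W : Opens Z) : (Opens.map i).obj (c i W) ≤ W := by
  intro z hz
  have hz' : i z ∈ c i W := hz
  rw [c, Opens.mem_sSup] at hz'
  obtain ⟨V, hV, hzV⟩ := hz'
  exact hV hzV

theorem map_c (hi : Topology.IsInducing i) (W : Opens Z) : (Opens.map i).obj (c i W) = W := by
  apply le_antisymm (map_c_le i W)
  obtain ⟨V, hV, hVW⟩ := hi.isOpen_iff.1 W.2
  have hW : (Opens.map i).obj ⟨V, hV⟩ = W := by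
    ext z
    have : z ∈ (i : Z → X) ⁻¹' V ↔ z ∈ W.carrier := by rw [hVW]
    exact this
  calc W = (Opens.map i).obj ⟨V, hV⟩ := hW.symm
    _ ≤ (Opens.map i).obj (c i W) := (Opens.map i).monotone (le_sSup (show (⟨V, hV⟩ : Opens X) ∈ {V' | (Opens.map i).obj V' ≤ W} from Set.mem_ofPred.2 hW.le))


theorem faithful (hi : Topology.IsInducing i) : (TopCat.Sheaf.pushforward (Type u) i).Faithful := by
  constructor
  intro F G α β h
  apply Sheaf.hom_ext
  ext ⟨W⟩ : 2
  have h1 := congrArg (fun γ => γ.hom.app (op (c i W))) h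
  dsimp [TopCat.Sheaf.pushforward, Functor.sheafPushforwardContinuous] at h1
  have e := map_c i hi W
  have n1 := α.hom.naturality (eqToHom (by rw [e]) : op W ⟶ op ((Opens.map i).obj (c i W)))
  have n2 := β.hom.naturality (eqToHom (by rw [e]) : op W ⟶ op ((Opens.map i).obj (c i W)))
  have : IsIso (G.obj.map (eqToHom (by rw [e]) : op W ⟶ op ((Opens.map i).obj (c i W)))) := by
    rw [eqToHom_map]; infer_instance
  rw [← cancel_mono (G.obj.map (eqToHom (by rw [e]) : op W ⟶ op ((Opens.map i).obj (c i W))))]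
  rw [← n1, ← n2]
  exact congrArg _ h1

theorem full (hi : Topology.IsInducing i) : (TopCat.Sheaf.pushforward (Type u) i).Full := by
  constructor
  intro F G γ
  have e := map_c i hi
  let a : ∀ W : Opens Z, op W ⟶ op ((Opens.map i).obj (c i W)) :=
    fun W => eqToHom (by rw [e])
  let b : ∀ W : Opens Z, op ((Opens.map i).obj (c i W)) ⟶ op W :=
    fun W => eqToHom (by rw [e])
  let α : F.obj ⟶ G.obj :=
    { app := fun W => F.obj.map (a W.unop) ≫ γ.hom.app (op (c i W.unop)) ≫
        G.obj.map (b W.unop)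
      naturality := by
        rintro ⟨W⟩ ⟨W'⟩ f
        have n : F.obj.map ((Opens.map i).map (homOfLE (c_mono i (leOfHom f.unop)))).op ≫
            γ.hom.app (op (c i W')) =
            γ.hom.app (op (c i W)) ≫
            G.obj.map ((Opens.map i).map (homOfLE (c_mono i (leOfHom f.unop)))).op :=
          γ.hom.naturality (homOfLE (c_mono i (leOfHom f.unop))).op
        dsimp
        simp only [Category.assoc]
        rw [← G.obj.map_comp, ← F.obj.map_comp_assoc]
        have h1 : f ≫ a W' = a W ≫ ((Opens.map i).map (homOfLE (c_mono i (leOfHom f.unop)))).op :=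
          Subsingleton.elim _ _
        have h2 : b W ≫ f = ((Opens.map i).map (homOfLE (c_mono i (leOfHom f.unop)))).op ≫ b W' :=
          Subsingleton.elim _ _
        rw [h1, h2, F.obj.map_comp_assoc, G.obj.map_comp]
        congr 1
        exact (Category.assoc _ _ _).symm.trans
          ((congrArg (· ≫ G.obj.map (b W')) n).trans (Category.assoc _ _ _)) }
  refine ⟨⟨α⟩, ?_⟩
  apply Sheaf.hom_ext
  ext ⟨V⟩ : 2
  have n : F.obj.map ((Opens.map i).map (homOfLE (le_c i V))).op ≫ γ.hom.app (op V) =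
      γ.hom.app (op (c i ((Opens.map i).obj V))) ≫
      G.obj.map ((Opens.map i).map (homOfLE (le_c i V))).op :=
    γ.hom.naturality (homOfLE (le_c i V)).op
  change α.app (op ((Opens.map i).obj V)) = γ.hom.app (op V)
  dsimp [α]
  have h1 : b ((Opens.map i).obj V) = ((Opens.map i).map (homOfLE (le_c i V))).op :=
    Subsingleton.elim _ _
  rw [h1]
  have h2 : a ((Opens.map i).obj V) ≫ ((Opens.map i).map (homOfLE (le_c i V))).op = 𝟙 _ :=
    Subsingleton.elim _ _
  have h3 : F.obj.map (a ((Opens.map i).obj V)) ≫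
      F.obj.map ((Opens.map i).map (homOfLE (le_c i V))).op = 𝟙 _ := by
    rw [← F.obj.map_comp, h2, F.obj.map_id]
  refine (congrArg (F.obj.map (a ((Opens.map i).obj V)) ≫ ·) n.symm).trans ?_
  exact (Category.assoc _ _ _).symm.trans ((congrArg (· ≫ γ.hom.app (op V)) h3).trans (Category.id_comp _))


theorem stalk_unique (hi : Topology.IsClosedEmbedding i) (F : Z.Sheaf (Type u)) (x : X)
    (hx : x ∉ Set.range i) :
    Nonempty (Unique (((TopCat.Sheaf.pushforward (Type u) i).obj F).presheaf.stalk x)) := by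
  let P := ((TopCat.Sheaf.pushforward (Type u) i).obj F).presheaf
  let O : Opens X := ⟨(Set.range i)ᶜ, hi.isClosed_range.isOpen_compl⟩
  have hxO : x ∈ O := hx
  have hbot : ∀ V : Opens X, V ≤ O → (Opens.map i).obj V = ⊥ := by
    intro V hV
    ext z
    simp only [Opens.map_coe, Set.mem_preimage, SetLike.mem_coe, Opens.coe_bot,
      Set.mem_empty_iff_false, iff_false]
    intro hz
    exact hV hz ⟨z, rfl⟩
  have huniq : ∀ V : Opens X, V ≤ O → Nonempty (Unique (P.obj (op V))) := by
    intro V hV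
    exact ⟨Limits.Types.isTerminalEquivUnique _ (F.isTerminalOfEqEmpty (hbot V hV))⟩
  obtain ⟨uO⟩ := huniq O le_rfl
  refine ⟨{ default := P.germ O x hxO uO.default, uniq := ?_ }⟩
  intro t
  obtain ⟨U, hxU, s, rfl⟩ := TopCat.Presheaf.exists_germ_eq P t
  obtain ⟨uW⟩ := huniq (U ⊓ O) inf_le_right
  have h1 := TopCat.Presheaf.germ_res_apply P (homOfLE (inf_le_left : U ⊓ O ≤ U)) x ⟨hxU, hxO⟩ s
  have h2 := TopCat.Presheaf.germ_res_apply P (homOfLE (inf_le_right : U ⊓ O ≤ O)) x ⟨hxU, hxO⟩ uO.default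
  rw [← h1, ← h2]
  congr 1
  exact (uW.uniq _).trans (uW.uniq _).symm

end Groth.Agent.Lib.helper10.InducingPush
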