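import Mathlib.Tactic
import Groth.Agent.Lib.helper10.Inertia
import Groth.Agent.Lib.helper10.EquivOfEq
import Groth.Agent.S6400

/-!
# The relative inertia is `𝒳 ×_{Δ, 𝒳 ×_𝒴 𝒳, Δ} 𝒳` (helper10)
-/

set_option autoImplicit false
open CategoryTheory
universe v u
open FibCat

namespace Groth.Agent.Lib.helper10.InertiaFp

open Groth.Agent.Lib.helper10.FiberFun

variable {C : Type u} [Category.{v} C] {𝒳 𝒴 : BasedCategory.{v, max u v} C} (F : 𝒳 ⥤ᵇ 𝒴)

lemma diag_iso_hom (a : 𝒳.obj) : ((FibCat.diag F).obj a).obj.iso.hom = 𝟙 (F.obj a) := rfl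

/-- the automorphism `(α, 𝟙)` of `Δ x` -/
def autIso (t : FibCat.InertiaObj F) : (FibCat.diag F).obj t.pt ≅ (FibCat.diag F).obj t.pt :=
  ObjectProperty.isoMk _ (Limits.CategoricalPullback.mkIso t.aut (Iso.refl t.pt) (by
    have e : ((FibCat.diag F).obj t.pt).obj.iso.hom = 𝟙 _ := rfl
    rw [e]
    change F.map t.aut.hom ≫ 𝟙 _ = 𝟙 _ ≫ F.toFunctor.map (𝟙 t.pt)
    rw [t.map_aut, CategoryTheory.Functor.map_id]))

@[simp] lemma autIso_hom_fst (t : FibCat.InertiaObj F) : (autIso F t).hom.hom.fst = t.aut.hom := rfl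
@[simp] lemma autIso_hom_snd (t : FibCat.InertiaObj F) : (autIso F t).hom.hom.snd = 𝟙 t.pt := rfl

lemma autIso_prop (t : FibCat.InertiaObj F) :
    (FibCat.fp F F).p.IsHomLift (𝟙 (𝒳.p.obj t.pt)) (autIso F t).hom := by
  rw [Groth.Agent.S6400.fp_lift_iff]
  exact Inertia.aut_lift F t

/-- object part of `E` -/
def EObj (t : FibCat.InertiaObj F) : (FibCat.fp (FibCat.diag F) (FibCat.diag F)).obj :=
  ⟨⟨t.pt, t.pt, autIso F t⟩, autIso_prop F t⟩

/-- morphism part of `E` -/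
def EMap {t t' : FibCat.InertiaObj F} (φ : t ⟶ t') : EObj F t ⟶ EObj F t' :=
  ObjectProperty.homMk
    ({ fst := φ.hom
       snd := φ.hom
       w := by
        apply ObjectProperty.hom_ext
        apply Limits.CategoricalPullback.hom_ext
        · exact φ.comm.symm
        · exact (Category.comp_id _).trans (Category.id_comp _).symm } :
      Limits.CategoricalPullback.Hom (F := (FibCat.diag F).toFunctor) (G := (FibCat.diag F).toFunctor)
        (EObj F t).obj (EObj F t').obj)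

/-- the functor `E` -/
def E : FibCat.inertia F ⥤ᵇ FibCat.fp (FibCat.diag F) (FibCat.diag F) where
  toFunctor :=
    { obj := EObj F
      map := fun φ => EMap F φ
      map_id := fun t => by
        apply ObjectProperty.hom_ext
        apply Limits.CategoricalPullback.hom_ext <;> rfl
      map_comp := fun φ ψ => by
        apply ObjectProperty.hom_ext
        apply Limits.CategoricalPullback.hom_ext <;> rfl }
  w := rfl

lemma E_fst : BasedFunctor.comp (E F) (FibCat.fpFst _ _) = FibCat.inertiaToBase F := rfl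

lemma E_snd : BasedFunctor.comp (E F) (FibCat.fpSnd _ _) = FibCat.inertiaToBase F := rfl

lemma E_faithful : (E F).toFunctor.Faithful := by
  constructor
  intro t t' φ ψ h
  apply FibCat.InertiaObj.hom_ext
  exact congrArg (fun m => m.hom.fst) h

lemma E_full : (E F).toFunctor.Full := by
  constructor
  intro t t' M
  obtain ⟨a, ha⟩ : ∃ a : t.pt ⟶ t'.pt, a = M.hom.fst := ⟨_, rfl⟩
  obtain ⟨b, hb⟩ : ∃ b : t.pt ⟶ t'.pt, b = M.hom.snd := ⟨_, rfl⟩
  have hw := M.hom.w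
  have h1 : a ≫ t'.aut.hom = t.aut.hom ≫ b := by
    rw [ha, hb]
    exact congrArg (fun m => m.hom.fst) hw
  have h2 : a ≫ 𝟙 _ = 𝟙 _ ≫ b := by
    rw [ha, hb]
    exact congrArg (fun m => m.hom.snd) hw
  have hab : a = b := by simpa using h2
  let φ : t ⟶ t' := ⟨a, by rw [h1, hab]⟩
  refine ⟨φ, ?_⟩
  apply ObjectProperty.hom_ext
  apply Limits.CategoricalPullback.hom_ext
  · exact ha
  · exact hab.trans hb

lemma E_essSurj : (E F).toFunctor.EssSurj := by
  constructor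
  intro T
  have hγiso : IsIso T.obj.iso.hom.hom := by
    have : IsIso ((FibCat.fpProp F F).ι.map T.obj.iso.hom) := inferInstance
    exact this
  obtain ⟨γ₁, hγ₁⟩ : ∃ γ₁ : T.obj.fst ⟶ T.obj.snd, γ₁ = T.obj.iso.hom.hom.fst := ⟨_, rfl⟩
  obtain ⟨γ₂, hγ₂⟩ : ∃ γ₂ : T.obj.fst ⟶ T.obj.snd, γ₂ = T.obj.iso.hom.hom.snd := ⟨_, rfl⟩
  have i1 : IsIso γ₁ := by
    rw [hγ₁]
    exact inferInstanceAs
      (IsIso ((Limits.CategoricalPullback.π₁ _ _).mapIso (asIso T.obj.iso.hom.hom)).hom)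
  have i2 : IsIso γ₂ := by
    rw [hγ₂]
    exact inferInstanceAs
      (IsIso ((Limits.CategoricalPullback.π₂ _ _).mapIso (asIso T.obj.iso.hom.hom)).hom)
  have hw : F.map γ₁ = F.map γ₂ := by
    have := T.obj.iso.hom.hom.w
    have e1 : ((FibCat.diag F).obj T.obj.fst).obj.iso.hom = 𝟙 _ := rfl
    have e2 : ((FibCat.diag F).obj T.obj.snd).obj.iso.hom = 𝟙 _ := rfl
    rw [e1, e2] at this
    rw [hγ₁, hγ₂]
    exact (Category.comp_id _).symm.trans (this.trans (Category.id_comp _))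
  let α : T.obj.fst ≅ T.obj.fst := asIso γ₁ ≪≫ (asIso γ₂).symm
  have hα : F.map α.hom = 𝟙 (F.obj T.obj.fst) := by
    change F.toFunctor.map (γ₁ ≫ inv γ₂) = 𝟙 _
    rw [Functor.map_comp, Functor.map_inv]
    change F.map γ₁ ≫ inv (F.map γ₂) = 𝟙 _
    rw [hw, IsIso.hom_inv_id]
  let t : FibCat.InertiaObj F := ⟨T.obj.fst, α, hα⟩
  let e₂ : T.obj.fst ≅ T.obj.snd := asIso γ₂
  refine ⟨t, ⟨ObjectProperty.isoMk _ (Limits.CategoricalPullback.mkIso (Iso.refl _) e₂ ?_)⟩⟩
  apply ObjectProperty.hom_ext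
  apply Limits.CategoricalPullback.hom_ext
  · refine Eq.trans (b := 𝟙 T.obj.fst ≫ γ₁) ?_ (Eq.trans (b := (γ₁ ≫ inv γ₂) ≫ γ₂) ?_ ?_)
    · rw [hγ₁]; rfl
    · rw [Category.id_comp, Category.assoc, IsIso.inv_hom_id, Category.comp_id]
    · rfl
  · refine Eq.trans (b := 𝟙 T.obj.fst ≫ γ₂) ?_ ?_
    · rw [hγ₂]; rfl
    · rfl

theorem E_isEquivOver (hF : FibCat.PreservesStronglyCartesian F) [𝒳.p.IsFibered] :
    FibCat.IsEquivOver (E F) := by
  have := Inertia.isFibered F hF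
  have : (E F).toFunctor.IsEquivalence :=
    { faithful := E_faithful F, full := E_full F, essSurj := E_essSurj F }
  exact EquivOfEq.isEquivOver_of_isEquivalence (E F)

end Groth.Agent.Lib.helper10.InertiaFp
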