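import Mathlib
set_option autoImplicit false
universe u
open CategoryTheory Opposite

namespace Groth.Agent.Lib.helper10.InjModRes

variable {C : Type u} [SmallCategory C] {J : GrothendieckTopology C} (O : Sheaf J RingCat.{u})

noncomputable def adj := (PresheafOfModules.freeAdjunction O.obj).comp
    (PresheafOfModules.sheafificationAdjunction (𝟙 O.obj))

theorem mono_free {F G : Cᵒᵖ ⥤ Type u} (f : F ⟶ G) [Mono f] :
    Mono ((PresheafOfModules.free O.obj).map f) := by
  apply PresheafOfModules.mono_of_injective
  intro X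
  have : Mono (f.app X) := inferInstance
  have hinj : Function.Injective (f.app X) := (mono_iff_injective _).1 this
  dsimp [PresheafOfModules.free]
  exact Finsupp.mapDomain_injective hinj

theorem surj (I : SheafOfModules.{u} O) [Injective I]
    {U U' : C} (a : U' ⟶ U) [Mono a] : Function.Surjective (I.val.map a.op) := by
  intro s'
  let A := adj O
  have hm : Mono ((PresheafOfModules.free O.obj ⋙ PresheafOfModules.sheafification (𝟙 O.obj)).map
      (yoneda.map a)) := by
    have := mono_free O (yoneda.map a)
    dsimp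
    infer_instance
  let G := (SheafOfModules.forget O ⋙ PresheafOfModules.restrictScalars (𝟙 O.obj)) ⋙
    PresheafOfModules.toPresheaf O.obj ⋙ (Functor.whiskeringRight Cᵒᵖ Ab (Type u)).obj (forget Ab)
  let t' : (G.obj I).obj (op U') := s'
  let φ' := (A.homEquiv (yoneda.obj U') I).symm (yonedaEquiv.symm t')
  obtain ⟨ψ, hψ⟩ := Injective.factors φ' ((PresheafOfModules.free O.obj ⋙ PresheafOfModules.sheafification (𝟙 O.obj)).map
      (yoneda.map a))
  refine ⟨yonedaEquiv (A.homEquiv _ _ ψ), ?_⟩
  have h1 := A.homEquiv_naturality_left (yoneda.map a) ψ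
  rw [hψ] at h1
  have h2 : A.homEquiv (yoneda.obj U') I φ' = yonedaEquiv.symm t' := Equiv.apply_symm_apply _ _
  rw [h2] at h1
  have h3 : t' = yonedaEquiv (yoneda.map a ≫ (A.homEquiv (yoneda.obj U) I) ψ) :=
    (Equiv.apply_symm_apply yonedaEquiv t').symm.trans (congrArg yonedaEquiv h1)
  have h4 := yonedaEquiv_naturality ((A.homEquiv (yoneda.obj U) I) ψ) a
  exact h4.trans h3.symm

end Groth.Agent.Lib.helper10.InjModRes
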