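import Mathlib
set_option autoImplicit false
universe v u
open CategoryTheory CategoryTheory.Limits Pretriangulated

namespace Groth.Agent.Lib.helper10.KMinus

variable {V : Type u} [Category.{v} V] [Preadditive V] [HasZeroObject V] [HasBinaryBiproducts V]

open CochainComplex HomologicalComplex ZeroObject

lemma isStrictlyLE_mappingCone {K L : CochainComplex V ℤ} (f : K ⟶ L)
    (n₁ n₂ n : ℤ) [K.IsStrictlyLE n₁] [L.IsStrictlyLE n₂] (hn₁ : n₁ - 1 ≤ n)
    (hn₂ : n₂ ≤ n) :
    (mappingCone f).IsStrictlyLE n := by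
  rw [isStrictlyLE_iff]
  intro i hi
  simp only [mappingCone.isZero_X_iff]
  exact ⟨K.isZero_of_isStrictlyLE n₁ _, L.isZero_of_isStrictlyLE n₂ _⟩

/-- bounded above -/
def minus : ObjectProperty (HomotopyCategory V (ComplexShape.up ℤ)) :=
  fun K => ∃ n : ℤ, CochainComplex.IsStrictlyLE K.as n

def bdd : ObjectProperty (HomotopyCategory V (ComplexShape.up ℤ)) :=
  fun K => ∃ a b : ℤ, CochainComplex.IsStrictlyGE K.as a ∧ CochainComplex.IsStrictlyLE K.as b

instance : (minus (V := V)).ContainsZero where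
  exists_zero :=
    ⟨(HomotopyCategory.quotient _ _).obj 0, Functor.map_isZero _ (isZero_zero _),
      ⟨0, (inferInstance : (0 : CochainComplex V ℤ).IsStrictlyLE 0)⟩⟩

instance : (bdd (V := V)).ContainsZero where
  exists_zero :=
    ⟨(HomotopyCategory.quotient _ _).obj 0, Functor.map_isZero _ (isZero_zero _),
      ⟨0, 0, (inferInstance : (0 : CochainComplex V ℤ).IsStrictlyGE 0),
        (inferInstance : (0 : CochainComplex V ℤ).IsStrictlyLE 0)⟩⟩

instance : (minus (V := V)).IsStableUnderShift ℤ where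
  isStableUnderShiftBy n :=
    { le_shift K hK := by
        obtain ⟨K : CochainComplex _ _, rfl⟩ := K.quotient_obj_surjective
        obtain ⟨q, hq⟩ := hK
        rw [ObjectProperty.prop_shift_iff, HomotopyCategory.shift_quotient_obj]
        have : K.IsStrictlyLE q := hq
        exact ⟨q - n, K.isStrictlyLE_shift q n (q - n) (by lia)⟩ }

instance : (bdd (V := V)).IsStableUnderShift ℤ where
  isStableUnderShiftBy n :=
    { le_shift K hK := by
        obtain ⟨K : CochainComplex _ _, rfl⟩ := K.quotient_obj_surjective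
        obtain ⟨a, b, ha, hb⟩ := hK
        rw [ObjectProperty.prop_shift_iff, HomotopyCategory.shift_quotient_obj]
        have : K.IsStrictlyGE a := ha
        have : K.IsStrictlyLE b := hb
        exact ⟨a - n, b - n, K.isStrictlyGE_shift a n (a - n) (by lia),
          K.isStrictlyLE_shift b n (b - n) (by lia)⟩ }


set_option backward.defeqAttrib.useBackward true in
set_option backward.isDefEq.respectTransparency false in
instance : (minus (V := V)).IsTriangulatedClosed₃ where
  ext₃' T hT h₁ h₂ := by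
    obtain ⟨n₁, hn₁⟩ := h₁
    obtain ⟨n₂, hn₂⟩ := h₂
    have : CochainComplex.IsStrictlyLE T.obj₁.as n₁ := hn₁
    have : CochainComplex.IsStrictlyLE T.obj₂.as n₂ := hn₂
    obtain ⟨f : T.obj₁.as ⟶ T.obj₂.as, hf⟩ := (HomotopyCategory.quotient _ _).map_surjective T.mor₁
    refine ⟨_, ?_,
      ⟨Triangle.π₃.mapIso (isoTriangleOfIso₁₂ T _ hT (HomotopyCategory.mappingCone_triangleh_distinguished f)
        (Iso.refl _) (Iso.refl _) ?_)⟩⟩
    · exact ⟨max (n₁ - 1) n₂, isStrictlyLE_mappingCone f n₁ n₂ _ (le_max_left _ _) (le_max_right _ _)⟩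
    · simp [hf]

set_option backward.defeqAttrib.useBackward true in
set_option backward.isDefEq.respectTransparency false in
instance : (bdd (V := V)).IsTriangulatedClosed₃ where
  ext₃' T hT h₁ h₂ := by
    obtain ⟨a₁, n₁, ha₁, hn₁⟩ := h₁
    obtain ⟨a₂, n₂, ha₂, hn₂⟩ := h₂
    have : CochainComplex.IsStrictlyLE T.obj₁.as n₁ := hn₁
    have : CochainComplex.IsStrictlyLE T.obj₂.as n₂ := hn₂
    have : CochainComplex.IsStrictlyGE T.obj₁.as a₁ := ha₁
    have : CochainComplex.IsStrictlyGE T.obj₂.as a₂ := ha₂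
    obtain ⟨f : T.obj₁.as ⟶ T.obj₂.as, hf⟩ := (HomotopyCategory.quotient _ _).map_surjective T.mor₁
    refine ⟨_, ?_,
      ⟨Triangle.π₃.mapIso (isoTriangleOfIso₁₂ T _ hT (HomotopyCategory.mappingCone_triangleh_distinguished f)
        (Iso.refl _) (Iso.refl _) ?_)⟩⟩
    · exact ⟨min (a₁ - 1) a₂, max (n₁ - 1) n₂,
        CochainComplex.isStrictlyGE_mappingCone f a₁ a₂ _ (by simp) (by simp),
        isStrictlyLE_mappingCone f n₁ n₂ _ (le_max_left _ _) (le_max_right _ _)⟩
    · simp [hf]

theorem main :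
    (ObjectProperty.IsTriangulated (fun K : HomotopyCategory V (ComplexShape.up ℤ) => ∃ n : ℤ, CochainComplex.IsStrictlyLE K.as n)) ∧
    (ObjectProperty.IsTriangulated (fun K : HomotopyCategory V (ComplexShape.up ℤ) =>
      ∃ a b : ℤ, CochainComplex.IsStrictlyGE K.as a ∧ CochainComplex.IsStrictlyLE K.as b)) := by
  constructor
  · exact (show (minus (V := V)).IsTriangulated from
      { toIsTriangulatedClosed₂ := .of_isTriangulatedClosed₃ })
  · exact (show (bdd (V := V)).IsTriangulated from
      { toIsTriangulatedClosed₂ := .of_isTriangulatedClosed₃ })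

end Groth.Agent.Lib.helper10.KMinus
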