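import Mathlib
import Groth.Agent.Lib.helper10.CechPush
import Groth.Agent.Lib.helper18.SSWrap
import Groth.Agent.Lib.helper18.PshPush
import Groth.Agent.Lib.helper18.LocCohSS

namespace Groth.Agent.Lib.helper10.LeraySS
open CategoryTheory Limits Opposite Abelian
open Groth.Agent.Lib.helper10 Groth.Agent.H18
open ZeroObject

universe u

variable {C D : Type u} [SmallCategory C] [SmallCategory D]
  (J : GrothendieckTopology C) (K : GrothendieckTopology D) (u : D ⥤ C) [u.IsContinuous K J]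

/-- `Γ(V, u_* -) ≅ Γ(uV, -)` -/
noncomputable def compIso (V : D) :
    CohSite.push J K u ⋙ ExtDer.hF (CohCx.freeSheaf K V) ≅ ExtDer.hF (CohCx.freeSheaf J (u.obj V)) :=
  Functor.isoWhiskerLeft (CohSite.push J K u) (PshDer.σ K (op V)).symm ≪≫
    (NatIso.ofComponents (fun M => Iso.refl _) :
      CohSite.push J K u ⋙ PshDer.T K ⋙ PshDer.E (op V) ≅ PshDer.T J ⋙ PshDer.E (op (u.obj V))) ≪≫
    PshDer.σ J (op (u.obj V))

variable [PreservesFiniteLimits (u.sheafPullback (Type u) K J)]

theorem leray (M : Sheaf J AddCommGrpCat.{u}) (V : D) :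
    ∃ (E : E₂CohomologicalSpectralSequence AddCommGrpCat.{u})
      (a : SpSeq.Abutment E (fun n : ℤ =>
        if 0 ≤ n then AddCommGrpCat.of (CohSite.HU M n.toNat (u.obj V)) else AddCommGrpCat.of PUnit.{u + 1})),
      (∀ n, a.IsFinite n) ∧ SpSeq.IsBounded E ∧
      ∀ p q : ℤ, Nonempty ((E.page 2 le_rfl).X (p, q) ≅
        (if 0 ≤ p ∧ 0 ≤ q then AddCommGrpCat.of (CohSite.HU ((CohSite.Rpush J K u q.toNat).obj M) p.toNat V)
         else AddCommGrpCat.of PUnit.{u + 1})) := by
  have hT : ∀ Q : Sheaf J AddCommGrpCat.{u}, Injective Q → ∀ q : ℕ, 0 < q →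
      IsZero (((ExtDer.hF (CohCx.freeSheaf K V)).rightDerived q).obj ((CohSite.push J K u).obj Q)) := by
    intro Q hQ q hq
    obtain ⟨q', rfl⟩ : ∃ q', q = q' + 1 := ⟨q - 1, by omega⟩
    have hTA : CohCx.IsTotallyAcyclic ((CohSite.push J K u).obj Q) :=
      CechPush.ta_push J K u Q (CechTA.inj_TA Q)
    have hs : Subsingleton (Ext (CohCx.freeSheaf K V) ((CohSite.push J K u).obj Q) (q' + 1)) :=
      Groth.Agent.S0864.result _ hTA V q'
    have e := (ExtDer.natIso (CohCx.freeSheaf K V) (q' + 1)).app ((CohSite.push J K u).obj Q)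
    refine IsZero.of_iso ?_ e
    have hs' : Subsingleton ((extFunctorObj (CohCx.freeSheaf K V) (q' + 1)).obj
        ((CohSite.push J K u).obj Q)) := hs
    exact AddCommGrpCat.isZero_of_subsingleton _
  refine SSWrap.ss_wrap (CohSite.push J K u) (ExtDer.hF (CohCx.freeSheaf K V)) M hT
    (AddCommGrpCat.of PUnit.{u + 1}) (AddCommGrpCat.isZero_of_subsingleton _)
    (fun n => AddCommGrpCat.of (CohSite.HU M n (u.obj V)))
    (fun p q => AddCommGrpCat.of (CohSite.HU ((CohSite.Rpush J K u q).obj M) p V)) ?_ ?_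
  · intro n
    have e1 : ((CohSite.push J K u ⋙ ExtDer.hF (CohCx.freeSheaf K V)).rightDerived n).obj M ≅
        (extFunctorObj (CohCx.freeSheaf J (u.obj V)) n).obj M :=
      (ExtDer.rightDerivedIsoOfIso (compIso J K u V) n).app M ≪≫ (ExtDer.natIso _ n).app M
    have e0 : AddCommGrpCat.of (CohSite.HU M n (u.obj V)) ≅
        (extFunctorObj (CohCx.freeSheaf J (u.obj V)) n).obj M := Iso.refl _
    exact ⟨e0 ≪≫ e1.symm⟩
  · intro p q
    have e2 : ((ExtDer.hF (CohCx.freeSheaf K V)).rightDerived p).obj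
        (((CohSite.push J K u).rightDerived q).obj M) ≅
        (extFunctorObj (CohCx.freeSheaf K V) p).obj (((CohSite.push J K u).rightDerived q).obj M) :=
      (ExtDer.natIso (CohCx.freeSheaf K V) p).app _
    have e0 : AddCommGrpCat.of (CohSite.HU ((CohSite.Rpush J K u q).obj M) p V) ≅
        (extFunctorObj (CohCx.freeSheaf K V) p).obj (((CohSite.push J K u).rightDerived q).obj M) :=
      Iso.refl _
    exact ⟨e0 ≪≫ e2.symm⟩


section rel
variable {B : Type u} [SmallCategory B] (L : GrothendieckTopology B)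
  (w : B ⥤ D) [w.IsContinuous L K] [PreservesFiniteLimits (w.sheafPullback (Type u) L K)]
  [(w ⋙ u).IsContinuous L J]

omit [PreservesFiniteLimits (u.sheafPullback (Type u) K J)]
  [PreservesFiniteLimits (w.sheafPullback (Type u) L K)] in
/-- higher direct images of a sheaf with vanishing higher cohomology on all objects vanish -/
lemma isZero_Rpush_of_limp (F : Sheaf K AddCommGrpCat.{u}) (hF : CechPush.Limp K F) (q : ℕ) :
    IsZero ((CohSite.Rpush K L w (q + 1)).obj F) := by
  obtain ⟨e⟩ := PshPush.Rpush_iso K L w F (q + 1)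
  refine IsZero.of_iso ?_ e
  apply Functor.map_isZero
  apply Functor.isZero
  intro W
  have hs : Subsingleton ((F.cohomologyPresheaf (q + 1)).obj (op (w.obj W.unop))) :=
    hF (w.obj W.unop) q
  have hs' : Subsingleton ((w.op ⋙ F.cohomologyPresheaf (q + 1)).obj W) := hs
  exact AddCommGrpCat.isZero_of_subsingleton _

theorem leray_rel (M : Sheaf J AddCommGrpCat.{u}) :
    ∃ (E : E₂CohomologicalSpectralSequence (Sheaf L AddCommGrpCat.{u}))
      (a : SpSeq.Abutment E (fun n : ℤ =>
        if 0 ≤ n then (CohSite.Rpush J L (w ⋙ u) n.toNat).obj M else 0)),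
      (∀ n, a.IsFinite n) ∧ SpSeq.IsBounded E ∧
      ∀ p q : ℤ, Nonempty ((E.page 2 le_rfl).X (p, q) ≅
        (if 0 ≤ p ∧ 0 ≤ q then (CohSite.Rpush K L w p.toNat).obj ((CohSite.Rpush J K u q.toNat).obj M) else 0)) := by
  have hT : ∀ Q : Sheaf J AddCommGrpCat.{u}, Injective Q → ∀ q : ℕ, 0 < q →
      IsZero (((CohSite.push K L w).rightDerived q).obj ((CohSite.push J K u).obj Q)) := by
    intro Q hQ q hq
    obtain ⟨q', rfl⟩ : ∃ q', q = q' + 1 := ⟨q - 1, by omega⟩
    have hTA : CohCx.IsTotallyAcyclic ((CohSite.push J K u).obj Q) :=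
      CechPush.ta_push J K u Q (CechTA.inj_TA Q)
    exact isZero_Rpush_of_limp K L w _ (fun U p => Groth.Agent.S0864.result _ hTA U p) q'
  have : PreservesFiniteLimits (CohSite.push K L w) := by
    have : PreservesLimitsOfSize.{0, 0} (CohSite.push K L w) :=
      (PushTA.adjAb K L w).rightAdjoint_preservesLimits
    exact PreservesLimitsOfSize.preservesFiniteLimits.{0, 0} _
  refine SSWrap.ss_wrap (CohSite.push J K u) (CohSite.push K L w) M hT
    (0 : Sheaf L AddCommGrpCat.{u}) (isZero_zero _)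
    (fun n => (CohSite.Rpush J L (w ⋙ u) n).obj M)
    (fun p q => (CohSite.Rpush K L w p).obj ((CohSite.Rpush J K u q).obj M)) ?_ ?_
  · intro n
    have e0 : CohSite.push J L (w ⋙ u) ≅ CohSite.push J K u ⋙ CohSite.push K L w := Iso.refl _
    exact ⟨(ExtDer.rightDerivedIsoOfIso e0 n).app M⟩
  · intro p q
    exact ⟨Iso.refl _⟩

end rel

end Groth.Agent.Lib.helper10.LeraySS
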