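import Mathlib
import Groth.Prelude.Def_ModSite

open CategoryTheory Opposite Limits

universe u

noncomputable section

namespace Groth.Agent.Lib.helper10.SliceSec

variable {C : Type u} [SmallCategory C] {J : GrothendieckTopology C}
  (O : Sheaf J CommRingCat.{u}) (W : C)

/-- the terminal object of the slice -/
abbrev TW : Over W := Over.mk (𝟙 W)

variable {O W}

/-- sections over the terminal object of the slice -/
abbrev evT (N : ModSite.Mod (O.over W)) : Type u := N.val.obj (op (TW W))

/-- the canonical map to the terminal object -/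
abbrev toT (Y : Over W) : Y ⟶ TW W := Over.homMk Y.hom

/-- the global section attached to an element over the terminal object -/
def secOf (N : ModSite.Mod (O.over W)) (x : evT N) : N.sections :=
  PresheafOfModules.sectionsMk (fun Y => N.val.map (toT Y.unop).op x) (by
    intro X Y f
    have hw : f.unop ≫ toT X.unop = toT Y.unop := by
      ext
      simp
    change N.val.presheaf.map f (N.val.presheaf.map (toT X.unop).op x) =
      N.val.presheaf.map (toT Y.unop).op x
    rw [← hw, op_comp, Functor.map_comp]
    rfl)

/-- sections are elements over the terminal object -/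
def secT (N : ModSite.Mod (O.over W)) : N.sections ≃ evT N where
  toFun s := s.val (op (TW W))
  invFun := secOf N
  left_inv s := by
    apply PresheafOfModules.sections_ext
    intro V
    exact PresheafOfModules.sections_property s (toT V.unop).op
  right_inv x := by
    change N.val.map (toT (TW W)).op x = x
    have e : toT (TW W) = 𝟙 (TW W) := by
      ext
      simp
    rw [e]
    have h : N.val.map (𝟙 (op (TW W))) x = x := by
      rw [PresheafOfModules.map_id]
      rfl
    exact h

/-- morphisms from the unit are elements over the terminal object -/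
def E (N : ModSite.Mod (O.over W)) : (ModSite.unit (O.over W) ⟶ N) ≃ evT N :=
  (SheafOfModules.unitHomEquiv N).trans (secT N)

lemma E_apply (N : ModSite.Mod (O.over W)) (σ : ModSite.unit (O.over W) ⟶ N) :
    E N σ = σ.val.app (op (TW W)) (1 : O.obj.obj (op W)) := rfl

lemma E_comp {N N' : ModSite.Mod (O.over W)} (σ : ModSite.unit (O.over W) ⟶ N) (β : N ⟶ N') :
    E N' (σ ≫ β) = β.val.app (op (TW W)) (E N σ) := rfl

lemma E_add (N : ModSite.Mod (O.over W)) (σ σ' : ModSite.unit (O.over W) ⟶ N) :
    E N (σ + σ') = E N σ + E N σ' := by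
  rw [E_apply, E_apply, E_apply]
  rfl

lemma E_zero (N : ModSite.Mod (O.over W)) : E N 0 = 0 := by
  rw [E_apply]
  rfl

/-- `E` as an additive equivalence -/
def EAdd (N : ModSite.Mod (O.over W)) : (ModSite.unit (O.over W) ⟶ N) ≃+ evT N :=
  { E N with map_add' := E_add N }

lemma E_sum (N : ModSite.Mod (O.over W)) {ι : Type*} (s : Finset ι)
    (f : ι → (ModSite.unit (O.over W) ⟶ N)) : E N (∑ i ∈ s, f i) = ∑ i ∈ s, E N (f i) :=
  map_sum (EAdd N) f s

/-- multiplication by a scalar, as an endomorphism of the unit -/
def mc (c : O.obj.obj (op W)) : ModSite.unit (O.over W) ⟶ ModSite.unit (O.over W) :=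
  (E (ModSite.unit (O.over W))).symm c

lemma E_mc (c : O.obj.obj (op W)) : E (ModSite.unit (O.over W)) (mc c) = c :=
  (E (ModSite.unit (O.over W))).apply_symm_apply c

/-- cast of scalars -/
def toRT (c : O.obj.obj (op W)) : (ModSite.ringSh (O.over W)).obj.obj (op (TW W)) := c

lemma E_mc_comp (N : ModSite.Mod (O.over W)) (c : O.obj.obj (op W))
    (τ : ModSite.unit (O.over W) ⟶ N) :
    E N (mc c ≫ τ) = toRT c • E N τ := by
  rw [E_comp, E_mc]
  have h1 : (c : (ModSite.unit (O.over W)).val.obj (op (TW W))) =
      toRT c • (1 : (ModSite.ringSh (O.over W)).obj.obj (op (TW W))) := by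
    change c = c * 1
    rw [mul_one]
  refine (congrArg (fun z => τ.val.app (op (TW W)) z) h1).trans ?_
  exact (τ.val.app (op (TW W))).hom.map_smul (toRT c) _

lemma hom_ext_E {N : ModSite.Mod (O.over W)} {σ σ' : ModSite.unit (O.over W) ⟶ N}
    (h : E N σ = E N σ') : σ = σ' := (E N).injective h

lemma mc_E (u : ModSite.unit (O.over W) ⟶ ModSite.unit (O.over W)) :
    mc (O := O) (W := W) (E (ModSite.unit (O.over W)) u) = u :=
  (E (ModSite.unit (O.over W))).symm_apply_apply u

lemma mc_comp (c d : O.obj.obj (op W)) : mc (O := O) c ≫ mc d = mc (c * d) := by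
  apply hom_ext_E
  rw [E_mc_comp, E_mc, E_mc]
  rfl

lemma mc_add (c d : O.obj.obj (op W)) : mc (O := O) (c + d) = mc c + mc d := by
  apply hom_ext_E
  rw [E_add, E_mc, E_mc, E_mc]
  rfl

lemma mc_zero : mc (O := O) (W := W) 0 = 0 := by
  apply hom_ext_E
  rw [E_mc, E_zero]
  rfl

lemma mc_sum {ι : Type*} (s : Finset ι) (f : ι → O.obj.obj (op W)) :
    mc (O := O) (∑ i ∈ s, f i) = ∑ i ∈ s, mc (f i) := by
  classical
  induction s using Finset.induction_on with
  | empty => simp [mc_zero]
  | insert a s ha ih => rw [Finset.sum_insert ha, Finset.sum_insert ha, mc_add, ih]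

section free

variable {I : Type u} [DecidableEq I]

/-- the projections of a free module -/
def pr (j : I) : SheafOfModules.free (R := ModSite.ringSh (O.over W)) I ⟶ ModSite.unit (O.over W) :=
  Cofan.IsColimit.desc (SheafOfModules.isColimitFreeCofan I)
    (fun i => if i = j then 𝟙 _ else 0)

lemma ι_pr (i j : I) :
    SheafOfModules.ιFree (R := ModSite.ringSh (O.over W)) i ≫ pr j = if i = j then 𝟙 _ else 0 :=
  Cofan.IsColimit.fac (SheafOfModules.isColimitFreeCofan I) _ i

lemma sum_pr_ι [Fintype I] :
    ∑ j : I, pr (O := O) (W := W) j ≫ SheafOfModules.ιFree j = 𝟙 _ := by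
  apply Cofan.IsColimit.hom_ext (SheafOfModules.isColimitFreeCofan I)
  intro i
  change SheafOfModules.ιFree i ≫ _ = SheafOfModules.ιFree i ≫ _
  rw [Preadditive.comp_sum, Category.comp_id]
  rw [Finset.sum_eq_single i]
  · rw [← Category.assoc, ι_pr, if_pos rfl, Category.id_comp]
  · intro b _ hb
    rw [← Category.assoc, ι_pr, if_neg (Ne.symm hb), zero_comp]
  · intro h; exact absurd (Finset.mem_univ i) h

/-- decomposition of a section of a finite free module -/
lemma decomp [Fintype I] (z : ModSite.unit (O.over W) ⟶
    SheafOfModules.free (R := ModSite.ringSh (O.over W)) I) :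
    z = ∑ j : I, mc (O := O) (W := W) (E _ (z ≫ pr j)) ≫ SheafOfModules.ιFree j := by
  conv_lhs => rw [← Category.comp_id z, ← sum_pr_ι, Preadditive.comp_sum]
  apply Finset.sum_congr rfl
  intro j _
  rw [mc_E, Category.assoc]

end free

end Groth.Agent.Lib.helper10.SliceSec
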