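import Mathlib
import Groth.Prelude.Def_ModSite
import Groth.Agent.Lib.helper10.ModColim
import Groth.Agent.Lib.helper10.SliceSec

open CategoryTheory Opposite Limits

universe u

noncomputable section

namespace Groth.Agent.Lib.helper10.SliceRes

open Groth.Agent.Lib.helper10.SliceSec

variable {C : Type u} [SmallCategory C] {J : GrothendieckTopology C}
  (O : Sheaf J CommRingCat.{u}) {V W : C} (v : V ⟶ W)

/-- restriction along `v : V ⟶ W` between the slices -/
def G : ModSite.Mod (O.over W) ⥤ ModSite.Mod (O.over V) :=
  SheafOfModules.overMap.{u} (ModSite.ringSh O) v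

instance : (G O v).IsRightAdjoint :=
  inferInstanceAs (SheafOfModules.pushforward.{u} (F := Over.map v)
    (Sheaf.pushforwardOverMapIso (ModSite.ringSh O) v).inv).IsRightAdjoint

instance : PreservesFiniteLimits (G O v) := by
  have : PreservesLimitsOfSize.{u, u} (G O v) :=
    (Adjunction.ofIsRightAdjoint (G O v)).rightAdjoint_preservesLimits
  exact PreservesLimitsOfSize.preservesFiniteLimits.{u, u} _

instance G_additive : (G O v).Additive := by
  have := preservesBinaryBiproducts_of_preservesBinaryProducts (G O v)
  exact Functor.additive_of_preservesBinaryBiproducts _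

lemma G_map_epi {M N : ModSite.Mod (O.over W)} (f : M ⟶ N) [Epi f] : Epi ((G O v).map f) := by
  have hc := Groth.Agent.Lib.helper10.ModColim.toSheaf_preservesColimits (ModSite.ringSh (O.over W))
  have h1 : Epi ((SheafOfModules.toSheaf (ModSite.ringSh (O.over W))).map f) := inferInstance
  have h2 : Sheaf.IsLocallySurjective ((SheafOfModules.toSheaf (ModSite.ringSh (O.over W))).map f) :=
    (Sheaf.isLocallySurjective_iff_epi' _ _).2 h1
  have h3 := Presheaf.isLocallySurjective_whisker (J.over V) (J.over W) (Over.map v)
    ((SheafOfModules.toSheaf (ModSite.ringSh (O.over W))).map f).hom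
  have h4 : Sheaf.IsLocallySurjective ((SheafOfModules.toSheaf (ModSite.ringSh (O.over V))).map
      ((G O v).map f)) := h3
  have h5 : Epi ((SheafOfModules.toSheaf (ModSite.ringSh (O.over V))).map
      ((G O v).map f)) := (Sheaf.isLocallySurjective_iff_epi' _ _).1 h4
  exact Functor.epi_of_epi_map (SheafOfModules.toSheaf (ModSite.ringSh (O.over V))) h5

instance : (G O v).PreservesEpimorphisms := ⟨fun f _ => G_map_epi O v f⟩

instance : (G O v).PreservesHomology :=
  Functor.preservesHomology_of_preservesEpis_and_kernels _

instance : PreservesFiniteColimits (G O v) :=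
  Functor.preservesFiniteColimits_of_preservesHomology _

/-- the image of the unit -/
def eU : (G O v).obj (ModSite.unit (O.over W)) ≅ ModSite.unit (O.over V) :=
  SheafOfModules.overMapUnitIso v

/-- restriction of a morphism from the unit -/
def res {N : ModSite.Mod (O.over W)} (x : ModSite.unit (O.over W) ⟶ N) :
    ModSite.unit (O.over V) ⟶ (G O v).obj N :=
  (eU O v).inv ≫ (G O v).map x

/-- the object `v` of the slice over `W`, as seen from the slice over `V` -/
abbrev vObj : Over W := (Over.map v).obj (TW V)

lemma E_res {N : ModSite.Mod (O.over W)} (x : ModSite.unit (O.over W) ⟶ N) :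
    E ((G O v).obj N) (res O v x) = N.val.map (toT (vObj v)).op (E N x) := by
  have h1 : E ((G O v).obj N) (res O v x) =
      x.val.app (op (vObj v)) (1 : O.obj.obj (op V)) := rfl
  rw [h1, E_apply]
  have h2 := PresheafOfModules.naturality_apply x.val (toT (vObj v)).op
    (1 : O.obj.obj (op W))
  refine Eq.trans ?_ h2
  congr 1
  exact (PresheafOfModules.unit_map_one (ModSite.ringSh (O.over W)).obj (toT (vObj v)).op).symm

/-- restriction of scalars -/
abbrev resO (c : O.obj.obj (op W)) : O.obj.obj (op V) := (O.obj.map v.op).hom c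

lemma res_mc (c : O.obj.obj (op W)) :
    res O v (mc (O := O) (W := W) c) ≫ (eU O v).hom = mc (O := O) (W := V) (resO O v c) := by
  apply hom_ext_E
  rw [E_comp, E_res, E_mc, E_mc]
  change (O.obj.map (𝟙 V ≫ v).op).hom c = _
  rw [Category.id_comp]

/-- the comparison `(M|_W)|_v ≅ M|_V` -/
def κ (M : ModSite.Mod O) : (G O v).obj ((ModSite.restr O W).obj M) ≅ (ModSite.restr O V).obj M :=
  (SheafOfModules.overFunctorMap.{u} (ModSite.ringSh O) v).app M

lemma κ_nat {M M' : ModSite.Mod O} (f : M ⟶ M') :
    (G O v).map ((ModSite.restr O W).map f) ≫ (κ O v M').hom =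
      (κ O v M).hom ≫ (ModSite.restr O V).map f :=
  (SheafOfModules.overFunctorMap.{u} (ModSite.ringSh O) v).hom.naturality f

lemma E_res_κ (M : ModSite.Mod O) (x : ModSite.unit (O.over W) ⟶ (ModSite.restr O W).obj M) :
    E _ (res O v x ≫ (κ O v M).hom) = (M.val.map v.op).hom (E _ x) := by
  rw [E_comp, E_res]
  change (M.val.map (𝟙 V ≫ v).op).hom (E _ x) = _
  rw [Category.id_comp]

end Groth.Agent.Lib.helper10.SliceRes
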