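import Mathlib
import Groth.Agent.Lib.helper10.EqCrit
import Groth.Agent.Lib.helper10.SliceSec
import Groth.Agent.Lib.helper10.SliceRes
import Groth.Agent.Lib.helper10.ProjF

open CategoryTheory Opposite Limits
open Groth.Agent.Lib.helper10.SliceSec Groth.Agent.Lib.helper10.SliceRes

universe u

noncomputable section

namespace Groth.Agent.Lib.helper10.LocFact

variable {C : Type u} [SmallCategory C] {J : GrothendieckTopology C} (O : Sheaf J CommRingCat.{u})

/-- the equational criterion with arbitrary finite index types -/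
theorem eq_crit' (F : ModSite.Mod O) (hF : ModSite.IsFlat F) (U : C) {Ig Ir : Type*}
    [Fintype Ig] [Fintype Ir]
    (r : Ir → Ig → O.obj.obj (op U)) (s : Ig → ModSite.sect F U)
    (hrel : ∀ k, ∑ i, r k i • s i = 0) :
    ∃ T ∈ J U, ∀ ⦃V : C⦄ (g : V ⟶ U), T g →
      ∃ (l : ℕ) (t : Fin l → ModSite.sect F V) (a : Ig → Fin l → O.obj.obj (op V)),
        (∀ i, (F.val.map g.op).hom (s i) = ∑ k, a i k • t k) ∧
        (∀ k' k, ∑ i, a i k * (O.obj.map g.op).hom (r k' i) = 0) := by
  classical
  let eg := Fintype.equivFin Ig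
  let er := Fintype.equivFin Ir
  obtain ⟨T, hT, hT'⟩ := Groth.Agent.Lib.helper10.EqCrit.eq_crit O F hF U _ _
    (fun k j => r (er.symm k) (eg.symm j)) (fun j => s (eg.symm j)) (fun k => by
      have := hrel (er.symm k)
      rw [← Equiv.sum_comp eg.symm] at this
      exact this)
  refine ⟨T, hT, ?_⟩
  intro V g hg
  obtain ⟨l, t, a, h1, h2⟩ := hT' g hg
  refine ⟨l, t, fun i k => a (eg i) k, ?_, ?_⟩
  · intro i
    have := h1 (eg i)
    rw [Equiv.symm_apply_apply] at this
    exact this
  · intro k' k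
    have := h2 (er k') k
    rw [← Equiv.sum_comp eg] at this
    simp only [Equiv.symm_apply_apply] at this
    exact this

variable {O}

/-- cast -/
def toEv (H : ModSite.Mod O) (V : C) (t : ModSite.sect H V) :
    evT ((ModSite.restr O V).obj H) := t

lemma smul_compat (H : ModSite.Mod O) (V : C) (c : O.obj.obj (op V)) (t : ModSite.sect H V) :
    toRT c • toEv H V t = toEv H V (c • t) := rfl

/-- the local statement at an object carrying a finite presentation -/
theorem core (F H : ModSite.Mod O) (hH : ModSite.IsFlat H) (φ : F ⟶ H) (W : C)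
    {Ig Ir : Type u} [Fintype Ig] [Fintype Ir] [DecidableEq Ig] [DecidableEq Ir]
    (π : SheafOfModules.free (R := ModSite.ringSh (O.over W)) Ig ⟶ (ModSite.restr O W).obj F)
    (ρ : SheafOfModules.free (R := ModSite.ringSh (O.over W)) Ir ⟶
      SheafOfModules.free (R := ModSite.ringSh (O.over W)) Ig)
    (w : ρ ≫ π = 0) (hc : IsColimit (CokernelCofork.ofπ π w)) :
    ∃ T ∈ J W, ∀ ⦃V : C⦄ (v : V ⟶ W), T v →
      ∃ (n : ℕ) (a : (ModSite.restr O V).obj F ⟶
          SheafOfModules.free (R := ModSite.ringSh (O.over V)) (ULift.{u} (Fin n)))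
        (b : SheafOfModules.free (R := ModSite.ringSh (O.over V)) (ULift.{u} (Fin n)) ⟶
          (ModSite.restr O V).obj H),
        a ≫ b = (ModSite.restr O V).map φ := by
  classical
  -- the generators and relations as elements
  let x : Ig → (ModSite.unit (O.over W) ⟶ (ModSite.restr O W).obj H) :=
    fun i => SheafOfModules.ιFree i ≫ π ≫ (ModSite.restr O W).map φ
  let z : Ir → (ModSite.unit (O.over W) ⟶
      SheafOfModules.free (R := ModSite.ringSh (O.over W)) Ig) :=
    fun k => SheafOfModules.ιFree k ≫ ρ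
  let s : Ig → ModSite.sect H W := fun i => E _ (x i)
  let r : Ir → Ig → O.obj.obj (op W) := fun k i => E _ (z k ≫ pr i)
  have hz : ∀ k, z k = ∑ i : Ig, mc (O := O) (W := W) (r k i) ≫ SheafOfModules.ιFree i :=
    fun k => decomp (z k)
  have hrel : ∀ k, ∑ i, r k i • s i = 0 := by
    intro k
    have h1 : z k ≫ π ≫ (ModSite.restr O W).map φ = 0 := by
      change (SheafOfModules.ιFree k ≫ ρ) ≫ π ≫ _ = 0
      rw [Category.assoc, reassoc_of% w, zero_comp, comp_zero]
    rw [hz k, Preadditive.sum_comp] at h1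
    have h2 := congrArg (E _) h1
    rw [E_sum, E_zero] at h2
    refine Eq.trans ?_ h2
    apply Finset.sum_congr rfl
    intro i _
    rw [Category.assoc, E_mc_comp]
    rfl
  obtain ⟨T, hT, hT'⟩ := eq_crit' O H hH W r s hrel
  refine ⟨T, hT, ?_⟩
  intro V v hv
  obtain ⟨l, t, a, h1, h2⟩ := hT' v hv
  -- the maps on the slice over `V`
  let τ : Fin l → (ModSite.unit (O.over V) ⟶ (ModSite.restr O V).obj H) :=
    fun k => (E _).symm (t k)
  let b : SheafOfModules.free (R := ModSite.ringSh (O.over V)) (ULift.{u} (Fin l)) ⟶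
      (ModSite.restr O V).obj H :=
    Cofan.IsColimit.desc (SheafOfModules.isColimitFreeCofan (ULift.{u} (Fin l)))
      (fun k => τ k.down)
  have hb : ∀ k : Fin l, SheafOfModules.ιFree (ULift.up k) ≫ b = τ k := fun k =>
    Cofan.IsColimit.fac (SheafOfModules.isColimitFreeCofan (ULift.{u} (Fin l))) _ (ULift.up k)
  let β : Ig → (ModSite.unit (O.over V) ⟶
      SheafOfModules.free (R := ModSite.ringSh (O.over V)) (ULift.{u} (Fin l))) :=
    fun i => ∑ k : Fin l, mc (O := O) (W := V) (a i k) ≫ SheafOfModules.ιFree (ULift.up k)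
  have hGg : IsColimit (Cofan.mk ((G O v).obj (SheafOfModules.free Ig))
      (fun i : Ig => (G O v).map (SheafOfModules.ιFree (R := ModSite.ringSh (O.over W)) i))) :=
    isColimitCofanMkObjOfIsColimit (G O v) _ _ (SheafOfModules.isColimitFreeCofan Ig)
  have hGr : IsColimit (Cofan.mk ((G O v).obj (SheafOfModules.free Ir))
      (fun i : Ir => (G O v).map (SheafOfModules.ιFree (R := ModSite.ringSh (O.over W)) i))) :=
    isColimitCofanMkObjOfIsColimit (G O v) _ _ (SheafOfModules.isColimitFreeCofan Ir)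
  let A : (G O v).obj (SheafOfModules.free Ig) ⟶
      SheafOfModules.free (R := ModSite.ringSh (O.over V)) (ULift.{u} (Fin l)) :=
    Cofan.IsColimit.desc hGg (fun i => (eU O v).hom ≫ β i)
  have hA : ∀ i : Ig, (G O v).map (SheafOfModules.ιFree i) ≫ A = (eU O v).hom ≫ β i :=
    fun i => Cofan.IsColimit.fac hGg _ i
  have hmcβ : ∀ (c : Ig → O.obj.obj (op V)),
      ∑ i : Ig, mc (O := O) (W := V) (c i) ≫ β i =
        ∑ k : Fin l, mc (O := O) (W := V) (∑ i : Ig, a i k * c i) ≫
          SheafOfModules.ιFree (ULift.up k) := by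
    intro c
    have e1 : ∀ i : Ig, mc (O := O) (W := V) (c i) ≫ β i =
        ∑ k : Fin l, mc (O := O) (W := V) (a i k * c i) ≫ SheafOfModules.ιFree (ULift.up k) := by
      intro i
      rw [Preadditive.comp_sum]
      apply Finset.sum_congr rfl
      intro k _
      rw [← Category.assoc, mc_comp, mul_comm]
    rw [Finset.sum_congr rfl (fun i _ => e1 i), Finset.sum_comm]
    apply Finset.sum_congr rfl
    intro k _
    rw [mc_sum, Preadditive.sum_comp]
  have hρA : (G O v).map ρ ≫ A = 0 := by
    apply Cofan.IsColimit.hom_ext hGr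
    intro k
    change (G O v).map (SheafOfModules.ιFree k) ≫ (G O v).map ρ ≫ A =
      (G O v).map (SheafOfModules.ιFree k) ≫ 0
    rw [comp_zero, ← Category.assoc, ← Functor.map_comp]
    change (G O v).map (z k) ≫ A = 0
    rw [hz k, Functor.map_sum, Preadditive.sum_comp]
    rw [← cancel_epi (eU O v).inv, comp_zero, Preadditive.comp_sum]
    have e2 : ∀ i : Ig, (eU O v).inv ≫ (G O v).map (mc (O := O) (W := W) (r k i) ≫
        SheafOfModules.ιFree i) ≫ A =
        mc (O := O) (W := V) (resO O v (r k i)) ≫ β i := by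
      intro i
      rw [Functor.map_comp, Category.assoc, hA, ← res_mc]
      simp only [res, Category.assoc]
    rw [Finset.sum_congr rfl (fun i _ => e2 i), hmcβ]
    apply Finset.sum_eq_zero
    intro k' _
    have := h2 k k'
    change ∑ i, a i k' * resO O v (r k i) = 0 at this
    rw [this, mc_zero, zero_comp]
  have hcV := (CokernelCofork.ofπ π w).mapIsColimit hc (G O v)
  let a' : (G O v).obj ((ModSite.restr O W).obj F) ⟶
      SheafOfModules.free (R := ModSite.ringSh (O.over V)) (ULift.{u} (Fin l)) :=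
    hcV.desc (CokernelCofork.ofπ A hρA)
  have ha' : (G O v).map π ≫ a' = A :=
    hcV.fac (CokernelCofork.ofπ A hρA) WalkingParallelPair.one
  refine ⟨l, (κ O v F).inv ≫ a', b, ?_⟩
  rw [Category.assoc, Iso.inv_comp_eq]
  have hepi : Epi ((G O v).map π) := by
    have : Epi π := epi_of_isColimit_cofork hc
    infer_instance
  rw [← cancel_epi ((G O v).map π), ← Category.assoc, ha']
  apply Cofan.IsColimit.hom_ext hGg
  intro i
  change (G O v).map (SheafOfModules.ιFree i) ≫ A ≫ b =
    (G O v).map (SheafOfModules.ιFree i) ≫ (G O v).map π ≫ (κ O v F).hom ≫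
      (ModSite.restr O V).map φ
  rw [← Category.assoc, hA, ← κ_nat, ← cancel_epi (eU O v).inv]
  simp only [Category.assoc, Iso.inv_hom_id_assoc]
  have e3 : (eU O v).inv ≫ (G O v).map (SheafOfModules.ιFree i) ≫ (G O v).map π ≫
      (G O v).map ((ModSite.restr O W).map φ) ≫ (κ O v H).hom =
      res O v (x i) ≫ (κ O v H).hom := by
    simp only [res, x, Functor.map_comp, Category.assoc]
  rw [e3]
  apply hom_ext_E
  rw [E_res_κ, Preadditive.sum_comp, E_sum]
  refine Eq.trans ?_ (h1 i).symm
  apply Finset.sum_congr rfl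
  intro k _
  rw [Category.assoc, hb, E_mc_comp]
  have e5 : E ((ModSite.restr O V).obj H) (τ k) = toEv H V (t k) :=
    (E ((ModSite.restr O V).obj H)).apply_symm_apply (toEv H V (t k))
  exact (congrArg (fun z => toRT (a i k) • z) e5).trans (smul_compat H V (a i k) (t k))

/-- local factorisation through a finite free module -/
theorem main (F H : ModSite.Mod O) [F.IsFinitePresentation] (hH : ModSite.IsFlat H)
    (φ : F ⟶ H) (X : C) :
    ∃ (ι : Type u) (Y : ι → C) (g : ∀ i, Y i ⟶ X), Sieve.ofArrows Y g ∈ J X ∧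
      ∀ i, ∃ (n : ℕ) (a : (ModSite.restr O (Y i)).obj F ⟶
          SheafOfModules.free (R := ModSite.ringSh (O.over (Y i))) (ULift.{u} (Fin n)))
        (b : SheafOfModules.free (R := ModSite.ringSh (O.over (Y i))) (ULift.{u} (Fin n)) ⟶
          (ModSite.restr O (Y i)).obj H),
        a ≫ b = (ModSite.restr O (Y i)).map φ := by
  classical
  obtain ⟨q, hq⟩ := SheafOfModules.IsFinitePresentation.exists_quasicoherentData F
  have hcore : ∀ i : q.I, ∃ T ∈ J (q.X i), ∀ ⦃V : C⦄ (v : V ⟶ q.X i), T v →
      ∃ (n : ℕ) (a : (ModSite.restr O V).obj F ⟶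
          SheafOfModules.free (R := ModSite.ringSh (O.over V)) (ULift.{u} (Fin n)))
        (b : SheafOfModules.free (R := ModSite.ringSh (O.over V)) (ULift.{u} (Fin n)) ⟶
          (ModSite.restr O V).obj H),
        a ≫ b = (ModSite.restr O V).map φ := by
    intro i
    let P := q.presentation i
    have hP : P.IsFinite := hq.isFinite_presentation i
    have f1 : Finite P.generators.I := hP.isFiniteType_generators.finite
    have f2 : Finite P.relations.I := hP.isFiniteType_relations.finite
    have := Fintype.ofFinite P.generators.I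
    have := Fintype.ofFinite P.relations.I
    have hw : (SheafOfModules.freeHomEquiv _).symm P.relations.s ≫ kernel.ι P.generators.π ≫
        P.generators.π = 0 := by simp
    exact core F H hH φ (q.X i) P.generators.π
      ((SheafOfModules.freeHomEquiv _).symm P.relations.s ≫ kernel.ι P.generators.π)
      ((Category.assoc _ _ _).trans hw) P.isColimit
  choose T hT hT' using hcore
  have hS := q.coversTop X
  let R : ∀ ⦃Y : C⦄ ⦃f : Y ⟶ X⦄, (Sieve.ofObjects q.X X) f → Sieve Y :=
    fun Y f hf => (T hf.choose).pullback hf.choose_spec.some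
  have hB : Sieve.bind (Sieve.ofObjects q.X X) R ∈ J X :=
    J.bind_covering hS (fun Y f hf => J.pullback_stable _ (hT _))
  refine ⟨Σ V : C, {g : V ⟶ X // Sieve.bind (Sieve.ofObjects q.X X) R g},
    fun i => i.1, fun i => i.2.1, ?_, ?_⟩
  · apply J.superset_covering _ hB
    intro V g hg
    exact Sieve.ofArrows_mk _ _ (⟨V, ⟨g, hg⟩⟩ : Σ V : C, {g : V ⟶ X //
      Sieve.bind (Sieve.ofObjects q.X X) R g})
  · rintro ⟨V, g, hg⟩
    obtain ⟨Y, h, f, hf, hh, -⟩ := hg
    exact hT' _ _ hh

end Groth.Agent.Lib.helper10.LocFact
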