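import Mathlib
import Groth.Prelude.Def_ModSite2
import Groth.Agent.Lib.helper10.ProjF
import Groth.Agent.Lib.helper10.ModColim
import Groth.Agent.Lib.helper18.RDCompExact
import Groth.Agent.Lib.helper18.NatRows
import Groth.Agent.Lib.helper18.LocCohSS

open CategoryTheory Opposite Limits
open Groth.Agent.Lib.helper10.ExtZ Groth.Agent.Lib.helper10.ProjF
open Groth.Agent.Lib.helper10.TensCore Groth.Agent.Lib.helper10.TensAdj Groth.Agent.Lib.helper10.Flat1

universe u

noncomputable section

namespace Groth.Agent.Lib.helper10.ShRestr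

variable {C : Type u} [SmallCategory C] {J : GrothendieckTopology C} {O : Sheaf J CommRingCat.{u}}
  {X : C}

lemma e1_left {P P' : ModSite.Mod (O.over X)} (g : P ⟶ P') (N : ModSite.Mod O) :
    (aX O X).map (tPmap ((FGX O X).map g) ((FG O).map (𝟙 N))) =
      (T (O.over X) ((ModSite.restr O X).obj N)).map g := by
  rw [CategoryTheory.Functor.map_id]
  rfl

lemma e2_left {P P' : ModSite.Mod (O.over X)} (g : P ⟶ P') (N : ModSite.Mod O) :
    (aa O).map (TTmap g (𝟙 N)) = (T O N).map ((LpO O X).map g) := by
  have : TTmap g (𝟙 N) = MonoidalCategoryStruct.tensorHom ((FG O).map ((LpO O X).map g)) (𝟙 _) := by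
    unfold TTmap
    rw [CategoryTheory.Functor.map_id]
  rw [this]
  rfl

set_option maxHeartbeats 2000000 in
lemma sq_left {P P' : ModSite.Mod (O.over X)} (g : P ⟶ P') (N : ModSite.Mod O) :
    (LpO O X).map ((T (O.over X) ((ModSite.restr O X).obj N)).map g) ≫ (Φ P' N).hom =
      (Φ P N).hom ≫ (T O N).map ((LpO O X).map g) := by
  have sq := Φ_nat g (𝟙 N)
  rw [e1_left, e2_left] at sq
  exact sq

set_option maxHeartbeats 2000000 in
/-- the projection formula as an isomorphism of functors in the first variable -/
def LΦ (M : ModSite.Mod O) :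
    T (O.over X) ((ModSite.restr O X).obj M) ⋙ LpO O X ≅ LpO O X ⋙ T O M :=
  NatIso.ofComponents (fun Q => Φ Q M) (fun g => sq_left g M)


/-- restriction commutes with the internal hom (as functors) -/
def restrSheafHom (M : ModSite.Mod O) [ModSite.HasSheafHom M]
    [ModSite.HasSheafHom ((ModSite.restr O X).obj M)] :
    ModSite.sheafHom M ⋙ ModSite.restr O X ≅
      ModSite.restr O X ⋙ ModSite.sheafHom ((ModSite.restr O X).obj M) :=
  let adjA : LpO O X ⋙ T O M ⊣ ModSite.sheafHom M ⋙ ModSite.restr O X :=
    (adjLp (ModSite.ringSh O) X).comp (ModSite.sheafHomAdj M)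
  let adjB : T (O.over X) ((ModSite.restr O X).obj M) ⋙ LpO O X ⊣
      ModSite.restr O X ⋙ ModSite.sheafHom ((ModSite.restr O X).obj M) :=
    (ModSite.sheafHomAdj ((ModSite.restr O X).obj M)).comp (adjLp (ModSite.ringSh O) X)
  (adjA.ofNatIsoLeft (LΦ M).symm).rightAdjointUniq adjB


variable (O X)

lemma restr_map_epi {F G : ModSite.Mod O} (f : F ⟶ G) [Epi f] :
    Epi ((ModSite.restr O X).map f) := by
  have hc := Groth.Agent.Lib.helper10.ModColim.toSheaf_preservesColimits (ModSite.ringSh O)
  have h1 : Epi ((SheafOfModules.toSheaf (ModSite.ringSh O)).map f) := inferInstance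
  have h2 : Sheaf.IsLocallySurjective ((SheafOfModules.toSheaf (ModSite.ringSh O)).map f) :=
    (Sheaf.isLocallySurjective_iff_epi' _ _).2 h1
  have h3 := Presheaf.isLocallySurjective_whisker (J.over X) J (Over.forget X)
    ((SheafOfModules.toSheaf (ModSite.ringSh O)).map f).hom
  have h4 : Sheaf.IsLocallySurjective ((SheafOfModules.toSheaf (ModSite.ringSh (O.over X))).map
      ((ModSite.restr O X).map f)) := h3
  have h5 : Epi ((SheafOfModules.toSheaf (ModSite.ringSh (O.over X))).map
      ((ModSite.restr O X).map f)) := (Sheaf.isLocallySurjective_iff_epi' _ _).1 h4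
  exact Functor.epi_of_epi_map (SheafOfModules.toSheaf (ModSite.ringSh (O.over X))) h5

instance : (ModSite.restr O X).PreservesEpimorphisms := ⟨fun f _ => restr_map_epi O X f⟩

instance : PreservesFiniteLimits (ModSite.restr O X) := by
  have : PreservesLimitsOfSize.{u, u} (ModSite.restr O X) :=
    (ModSite.extZeroAdj O X).rightAdjoint_preservesLimits
  exact PreservesLimitsOfSize.preservesFiniteLimits.{u, u} _

instance restr_additive : (ModSite.restr O X).Additive := by
  have := preservesBinaryBiproducts_of_preservesBinaryProducts (ModSite.restr O X)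
  exact Functor.additive_of_preservesBinaryBiproducts _

instance : (ModSite.restr O X).PreservesHomology :=
  Functor.preservesHomology_of_preservesEpis_and_kernels _

instance : PreservesFiniteColimits (ModSite.restr O X) :=
  Functor.preservesFiniteColimits_of_preservesHomology _

lemma restr_injective (I : ModSite.Mod O) [Injective I] :
    Injective ((ModSite.restr O X).obj I) := by
  have : (Lp (ModSite.ringSh O) X).PreservesMonomorphisms :=
    ⟨fun f _ => Lp_map_mono (ModSite.ringSh O) X f⟩
  exact Injective.injective_of_adjoint (adjLp (ModSite.ringSh O) X) I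


variable {O X}

/-- the local Ext sheaves commute with localisation -/
def extShRestr (M : ModSite.Mod O) [ModSite.HasSheafHom M]
    [ModSite.HasSheafHom ((ModSite.restr O X).obj M)]
    [HasInjectiveResolutions (ModSite.Mod O)] [HasInjectiveResolutions (ModSite.Mod (O.over X))]
    (q : ℕ) :
    ModSite.extSh M q ⋙ ModSite.restr O X ≅
      ModSite.restr O X ⋙ ModSite.extSh ((ModSite.restr O X).obj M) q := by
  have h1 : EnoughInjectives (ModSite.Mod O) :=
    Groth.Agent.Lib.helper10.ModColim.enoughInjectives (ModSite.ringSh O)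
  have h2 : EnoughInjectives (ModSite.Mod (O.over X)) :=
    Groth.Agent.Lib.helper10.ModColim.enoughInjectives (ModSite.ringSh (O.over X))
  have h3 : PreservesFiniteLimits (ModSite.sheafHom ((ModSite.restr O X).obj M)) := by
    have : PreservesLimitsOfSize.{u, u} (ModSite.sheafHom ((ModSite.restr O X).obj M)) :=
      (ModSite.sheafHomAdj ((ModSite.restr O X).obj M)).rightAdjoint_preservesLimits
    exact PreservesLimitsOfSize.preservesFiniteLimits.{u, u} _
  have hTG : ∀ I : ModSite.Mod O, Injective I →
      Groth.Agent.H18.RDPlus.FAcyc (ModSite.sheafHom ((ModSite.restr O X).obj M))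
        ((ModSite.restr O X).obj I) := by
    intro I hI
    have := restr_injective O X I
    exact Groth.Agent.H18.RDPlus.FAcyc.of_injective _ _
  exact Groth.Agent.H18.RDCompExact.natIso (ModSite.sheafHom M) (ModSite.restr O X) q ≪≫
    Groth.Agent.H18.ExtDer.rightDerivedIsoOfIso (restrSheafHom M) q ≪≫
    Groth.Agent.H18.RDPlus.rightDerivedCompIso (ModSite.restr O X)
      (ModSite.sheafHom ((ModSite.restr O X).obj M)) hTG q

end Groth.Agent.Lib.helper10.ShRestr
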