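import Mathlib
import Groth.Agent.Lib.helper10.SliceSec
import Groth.Agent.Lib.helper10.ShRestr
import Groth.Agent.Lib.helper10.TensLoc
import Groth.Agent.Lib.helper10.ModColim

open CategoryTheory Opposite Limits
open Groth.Agent.Lib.helper10.SliceSec

universe u

noncomputable section

namespace Groth.Agent.Lib.helper10.LocLift

variable {C : Type u} [SmallCategory C] {J : GrothendieckTopology C} {O : Sheaf J CommRingCat.{u}}

/-- restriction of a morphism out of the unit, as a morphism out of the unit of the slice -/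
def resU (W : C) {F : ModSite.Mod O} (x : ModSite.unit O ⟶ F) :
    ModSite.unit (O.over W) ⟶ (ModSite.restr O W).obj F :=
  (ModSite.restr O W).map x

lemma E_resU (W : C) {F : ModSite.Mod O} (x : ModSite.unit O ⟶ F) :
    E _ (resU W x) = x.val.app (op W) (1 : O.obj.obj (op W)) := rfl

theorem main (E₀ F G : ModSite.Mod O)
    (hE : ∃ (n : ℕ) (i : E₀ ⟶ SheafOfModules.free (R := ModSite.ringSh O) (ULift.{u} (Fin n)))
      (p : SheafOfModules.free (R := ModSite.ringSh O) (ULift.{u} (Fin n)) ⟶ E₀), i ≫ p = 𝟙 E₀)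
    (p' : G ⟶ F) [Epi p'] (φ : E₀ ⟶ F) (V : C) :
    ∃ R ∈ J V, ∀ ⦃W : C⦄ (g : W ⟶ V), R g →
      ∃ l : (ModSite.restr O W).obj E₀ ⟶ (ModSite.restr O W).obj G,
        l ≫ (ModSite.restr O W).map p' = (ModSite.restr O W).map φ := by
  classical
  obtain ⟨n, i, p, hip⟩ := hE
  let ψ : Fin n → (ModSite.unit O ⟶ F) := fun k => SheafOfModules.ιFree (ULift.up k) ≫ p ≫ φ
  let f : Fin n → F.val.obj (op V) := fun k => (ψ k).val.app (op V) (1 : O.obj.obj (op V))
  have hc := Groth.Agent.Lib.helper10.ModColim.toSheaf_preservesColimits (ModSite.ringSh O)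
  have h1 : Epi ((SheafOfModules.toSheaf (ModSite.ringSh O)).map p') := inferInstance
  have h2 : Sheaf.IsLocallySurjective ((SheafOfModules.toSheaf (ModSite.ringSh O)).map p') :=
    (Sheaf.isLocallySurjective_iff_epi' _ _).2 h1
  obtain ⟨R, hR, hR'⟩ := Groth.Agent.Lib.helper10.TensLoc.finite_inter J (U := V)
    (fun k : Fin n => Presheaf.imageSieve ((SheafOfModules.toSheaf (ModSite.ringSh O)).map p').hom
      (f k)) Finset.univ (fun k _ => Presheaf.imageSieve_mem J
      ((SheafOfModules.toSheaf (ModSite.ringSh O)).map p').hom (U := op V) (f k))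
  refine ⟨R, hR, ?_⟩
  intro W g hg
  have h3 : ∀ k : Fin n, ∃ y : G.val.obj (op W), p'.val.app (op W) y = F.val.map g.op (f k) :=
    fun k => hR' g hg k (Finset.mem_univ k)
  choose y hy using h3
  let γ : Fin n → (ModSite.unit (O.over W) ⟶ (ModSite.restr O W).obj G) :=
    fun k => (E _).symm (y k)
  have hcof : IsColimit (Cofan.mk ((ModSite.restr O W).obj (SheafOfModules.free (ULift.{u} (Fin n))))
      (fun k : ULift.{u} (Fin n) => (ModSite.restr O W).map
        (SheafOfModules.ιFree (R := ModSite.ringSh O) k))) :=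
    isColimitCofanMkObjOfIsColimit (ModSite.restr O W) _ _
      (SheafOfModules.isColimitFreeCofan (ULift.{u} (Fin n)))
  let ℓ : (ModSite.restr O W).obj (SheafOfModules.free (ULift.{u} (Fin n))) ⟶
      (ModSite.restr O W).obj G :=
    Cofan.IsColimit.desc hcof (fun k => γ k.down)
  have hℓ : ∀ k : ULift.{u} (Fin n), (ModSite.restr O W).map (SheafOfModules.ιFree k) ≫ ℓ =
      γ k.down := fun k => Cofan.IsColimit.fac hcof _ k
  refine ⟨(ModSite.restr O W).map i ≫ ℓ, ?_⟩
  have key : ℓ ≫ (ModSite.restr O W).map p' = (ModSite.restr O W).map (p ≫ φ) := by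
    apply Cofan.IsColimit.hom_ext hcof
    rintro ⟨k⟩
    change (ModSite.restr O W).map (SheafOfModules.ιFree (ULift.up k)) ≫ ℓ ≫ _ =
      (ModSite.restr O W).map (SheafOfModules.ιFree (ULift.up k)) ≫ _
    rw [← Category.assoc, hℓ, ← Functor.map_comp]
    apply hom_ext_E
    refine (E_comp (γ k) ((ModSite.restr O W).map p')).trans ?_
    have e1 : E ((ModSite.restr O W).obj G) (γ k) = y k :=
      (E ((ModSite.restr O W).obj G)).apply_symm_apply (y k)
    rw [e1]
    change p'.val.app (op W) (y k) = (ψ k).val.app (op W) (1 : O.obj.obj (op W))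
    rw [hy k]
    have h4 := PresheafOfModules.naturality_apply (ψ k).val g.op (1 : O.obj.obj (op V))
    refine h4.symm.trans ?_
    congr 1
    exact PresheafOfModules.unit_map_one (ModSite.ringSh O).obj g.op
  rw [Category.assoc, key, ← Functor.map_comp, ← Category.assoc, hip, Category.id_comp]

end Groth.Agent.Lib.helper10.LocLift
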