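import Mathlib.RingTheory.Localization.AtPrime.Basic
import Mathlib.RingTheory.Localization.Ideal
import Mathlib.RingTheory.Ideal.Over

/-!
# A criterion for a localization to be a localization at a prime (helper10 library)
-/

set_option autoImplicit false

namespace Groth.Agent.Lib.helper10

/-- If every prime of `S` disjoint from `M` is contained in the prime `q`, and `M` is disjoint
from `q`, then `M⁻¹S` is the localization of `S` at `q`. -/
theorem isLocalization_atPrime_of_forall_le {S : Type*} [CommRing S] (M : Submonoid S)
    (A : Type*) [CommRing A] [Algebra S A] [IsLocalization M A]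
    (q : Ideal S) [q.IsPrime] (hMq : M ≤ q.primeCompl)
    (h : ∀ q' : Ideal S, q'.IsPrime → Disjoint (M : Set S) (q' : Set S) → q' ≤ q) :
    IsLocalization.AtPrime A q := by
  refine IsLocalization.of_le M q.primeCompl hMq ?_
  intro y hy
  by_contra hnu
  obtain ⟨𝔪, h𝔪, hy𝔪⟩ := exists_max_ideal_of_mem_nonunits (show algebraMap S A y ∈ nonunits A from hnu)
  have hprime : 𝔪.IsPrime := h𝔪.isPrime
  obtain ⟨hp, hd⟩ := (IsLocalization.isPrime_iff_isPrime_disjoint M A 𝔪).mp hprime
  have hle := h (𝔪.under S) hp hd
  exact hy (hle (show y ∈ 𝔪.under S from hy𝔪))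

end Groth.Agent.Lib.helper10
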