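import Mathlib

set_option autoImplicit false
universe u
open CategoryTheory CategoryTheory.Limits Opposite

namespace Groth.Agent.Lib.helper10.LocRinged

variable {C : Type u} [SmallCategory C] {J : GrothendieckTopology C} (O : Sheaf J CommRingCat.{u})

/-- restriction -/
noncomputable abbrev res {U V : C} (g : V ⟶ U) : O.obj.obj (op U) →+* O.obj.obj (op V) :=
  (O.obj.map g.op).hom

lemma res_comp {U V W : C} (g : V ⟶ U) (h : W ⟶ V) (x : O.obj.obj (op U)) :
    res O (h ≫ g) x = res O h (res O g x) := by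
  change (O.obj.map (h ≫ g).op).hom x = _
  rw [op_comp, Functor.map_comp]
  rfl

theorem forward
    (h1 : ∀ (U : C) (f : O.obj.obj (op U)), ∃ S ∈ J U, ∀ ⦃V : C⦄ (g : V ⟶ U), S g →
        IsUnit (res O g f) ∨ IsUnit (res O g (1 - f))) :
    ∀ (n : ℕ) (U : C) (f : Fin (n + 1) → O.obj.obj (op U)), Ideal.span (Set.range f) = ⊤ →
        ∃ S ∈ J U, ∀ ⦃V : C⦄ (g : V ⟶ U), S g → ∃ i, IsUnit (res O g (f i)) := by
  intro n
  induction n with
  | zero =>
    intro U f hf
    have hrange : Set.range f = {f 0} := by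
      ext x
      constructor
      · rintro ⟨i, rfl⟩
        have : i = 0 := Fin.eq_zero i
        rw [this]; rfl
      · rintro rfl
        exact ⟨0, rfl⟩
    rw [hrange, Ideal.span_singleton_eq_top] at hf
    exact ⟨⊤, J.top_mem U, fun V g _ => ⟨0, hf.map _⟩⟩
  | succ n ih =>
    intro U f hf
    have h1mem : (1 : O.obj.obj (op U)) ∈ Ideal.span (Set.range f) := by rw [hf]; trivial
    obtain ⟨a, ha⟩ := (Ideal.mem_span_range_iff_exists_fun).1 h1mem
    rw [Fin.sum_univ_castSucc] at ha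
    set t := a (Fin.last (n + 1)) * f (Fin.last (n + 1)) with ht
    have h1t : 1 - t = ∑ i : Fin (n + 1), a i.castSucc * f i.castSucc := by
      rw [← ha]; ring
    obtain ⟨S₀, hS₀, hS₀'⟩ := h1 U t
    have key : ∀ (V : C) (g : V ⟶ U), S₀ g → ∃ R : Sieve V, R ∈ J V ∧
        ∀ ⦃W : C⦄ (h : W ⟶ V), R h → ∃ i, IsUnit (res O (h ≫ g) (f i)) := by
      intro V g hg
      rcases hS₀' g hg with hu | hu
      · refine ⟨⊤, J.top_mem V, fun W h _ => ⟨Fin.last (n + 1), ?_⟩⟩
        rw [res_comp]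
        have : IsUnit (res O g (f (Fin.last (n + 1)))) := by
          rw [ht, map_mul] at hu
          exact isUnit_of_mul_isUnit_right hu
        exact this.map _
      · let f' : Fin (n + 1) → O.obj.obj (op V) := fun i => res O g (f i.castSucc)
        have hf' : Ideal.span (Set.range f') = ⊤ := by
          apply Ideal.eq_top_of_isUnit_mem _ _ hu
          rw [h1t, map_sum]
          apply Ideal.sum_mem
          intro i _
          rw [map_mul]
          exact Ideal.mul_mem_left _ _ (Ideal.subset_span ⟨i, rfl⟩)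
        obtain ⟨R, hR, hR'⟩ := ih V f' hf'
        refine ⟨R, hR, fun W h hh => ?_⟩
        obtain ⟨i, hi⟩ := hR' h hh
        exact ⟨i.castSucc, by rw [res_comp]; exact hi⟩
    choose R hR hR' using key
    refine ⟨Sieve.bind S₀ (fun Y g hg => R Y g hg), J.bind_covering hS₀ (fun Y g hg => hR Y g hg), ?_⟩
    rintro V g ⟨W, h, g', hg', hh, rfl⟩
    exact hR' W g' hg' h hh

theorem backward
    (h2 : ∀ (U : C) (n : ℕ) (f : Fin n → O.obj.obj (op U)), 1 ≤ n → Ideal.span (Set.range f) = ⊤ →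
        ∃ S ∈ J U, ∀ ⦃V : C⦄ (g : V ⟶ U), S g → ∃ i, IsUnit (res O g (f i)))
    (U : C) (f : O.obj.obj (op U)) : ∃ S ∈ J U, ∀ ⦃V : C⦄ (g : V ⟶ U), S g →
        IsUnit (res O g f) ∨ IsUnit (res O g (1 - f)) := by
  have hspan : Ideal.span (Set.range ![f, 1 - f]) = ⊤ := by
    rw [Ideal.eq_top_iff_one]
    have h := Ideal.add_mem (Ideal.span (Set.range ![f, 1 - f]))
      (Ideal.subset_span (⟨0, rfl⟩ : f ∈ Set.range ![f, 1 - f]))
      (Ideal.subset_span (⟨1, rfl⟩ : 1 - f ∈ Set.range ![f, 1 - f]))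
    rwa [show f + (1 - f) = 1 by ring] at h
  obtain ⟨S, hS, hS'⟩ := h2 U 2 ![f, 1 - f] (by norm_num) hspan
  refine ⟨S, hS, fun V g hg => ?_⟩
  obtain ⟨i, hi⟩ := hS' g hg
  fin_cases i
  · exact Or.inl hi
  · exact Or.inr hi

end Groth.Agent.Lib.helper10.LocRinged
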