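import Mathlib.Tactic
import Mathlib.LinearAlgebra.TensorProduct.Pi
import Mathlib.Algebra.Module.FinitePresentation
import Mathlib.LinearAlgebra.TensorProduct.RightExactness
import Groth.Prelude.Def_Found
import Groth.Agent.S0587
import Groth.Agent.S6360
import Groth.Agent.S6380

/-!
# Mittag-Leffler modules: helper library (helper10)

`CAlg.IsMittagLeffler R M` is defined as injectivity of `M ⊗ ∏ Qᵢ → ∏ (M ⊗ Qᵢ)`.
We prove naturality of `piRightHom`, bijectivity for finitely presented modules, and the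
characterisation by domination.
-/

set_option autoImplicit false
universe u

namespace Groth.Agent.Lib.helper10.ML

open TensorProduct

variable {R : Type u} [CommRing R]

/-- naturality of `piRightHom` in the left module -/
theorem piRightHom_rTensor {M M' : Type u} [AddCommGroup M] [Module R M] [AddCommGroup M']
    [Module R M'] (φ : M →ₗ[R] M') {ι : Type u} (Q : ι → Type u) [∀ i, AddCommGroup (Q i)]
    [∀ i, Module R (Q i)] (z : M ⊗[R] (∀ i, Q i)) (i : ι) :
    TensorProduct.piRightHom R R M' Q (φ.rTensor _ z) i =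
      φ.rTensor (Q i) (TensorProduct.piRightHom R R M Q z i) := by
  induction z using TensorProduct.induction_on with
  | zero => simp
  | tmul m q => simp
  | add a b ha hb => simp only [map_add, Pi.add_apply, ha, hb]

theorem piRightHom_surjective (M : Type u) [AddCommGroup M] [Module R M] [Module.Finite R M]
    {ι : Type u} (Q : ι → Type u) [∀ i, AddCommGroup (Q i)] [∀ i, Module R (Q i)] :
    Function.Surjective (TensorProduct.piRightHom R R M Q) :=
  (Groth.Agent.S0587.result R M).mp inferInstance ι Q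

/-- the coordinate iso `(Fin n → R) ⊗ X ≃ (Fin n → X)` -/
noncomputable def coordEquiv (n : ℕ) (X : Type u) [AddCommGroup X] [Module R X] :
    (Fin n → R) ⊗[R] X ≃ₗ[R] (Fin n → X) :=
  (TensorProduct.comm R (Fin n → R) X) ≪≫ₗ (TensorProduct.piScalarRight R R X (Fin n))

theorem coordEquiv_tmul (n : ℕ) (X : Type u) [AddCommGroup X] [Module R X] (v : Fin n → R) (x : X)
    (k : Fin n) : coordEquiv n X (v ⊗ₜ[R] x) k = v k • x := by
  simp [coordEquiv]

theorem coordEquiv_piRightHom (n : ℕ) {ι : Type u} (Q : ι → Type u) [∀ i, AddCommGroup (Q i)]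
    [∀ i, Module R (Q i)] (z : (Fin n → R) ⊗[R] (∀ i, Q i)) (i : ι) (k : Fin n) :
    coordEquiv n (Q i) (TensorProduct.piRightHom R R (Fin n → R) Q z i) k =
      (coordEquiv n (∀ i, Q i) z k) i := by
  induction z using TensorProduct.induction_on with
  | zero => simp
  | tmul v q =>
    rw [TensorProduct.piRightHom_tmul, coordEquiv_tmul, coordEquiv_tmul]
    rfl
  | add a b ha hb => simp only [map_add, Pi.add_apply, ha, hb]

theorem piRightHom_injective_free (n : ℕ) {ι : Type u} (Q : ι → Type u) [∀ i, AddCommGroup (Q i)]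
    [∀ i, Module R (Q i)] :
    Function.Injective (TensorProduct.piRightHom R R (Fin n → R) Q) := by
  rw [injective_iff_map_eq_zero]
  intro z hz
  apply (coordEquiv n (∀ i, Q i)).injective
  rw [map_zero]
  funext k
  funext i
  rw [← coordEquiv_piRightHom, hz]
  simp

/-- `M ⊗ ∏ Qᵢ → ∏ (M ⊗ Qᵢ)` is injective for finitely presented `M`. -/
theorem piRightHom_injective (M : Type u) [AddCommGroup M] [Module R M]
    [Module.FinitePresentation R M]
    {ι : Type u} (Q : ι → Type u) [∀ i, AddCommGroup (Q i)] [∀ i, Module R (Q i)] :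
    Function.Injective (TensorProduct.piRightHom R R M Q) := by
  obtain ⟨n, m, p, A, hp, hex⟩ := Module.FinitePresentation.exists_fin' R M
  rw [injective_iff_map_eq_zero]
  intro z hz
  obtain ⟨z', rfl⟩ := LinearMap.rTensor_surjective (∀ i, Q i) hp z
  have h1 : ∀ i, p.rTensor (Q i) (TensorProduct.piRightHom R R (Fin n → R) Q z' i) = 0 := by
    intro i
    rw [← piRightHom_rTensor, hz]
    rfl
  choose w hw using fun i => ((rTensor_exact (Q i) hex hp) _).mp (h1 i)
  obtain ⟨w', hw'⟩ := piRightHom_surjective (Fin m → R) Q w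
  have h2 : A.rTensor _ w' = z' := by
    apply piRightHom_injective_free n Q
    funext i
    rw [piRightHom_rTensor, hw', hw]
  rw [← h2, ← LinearMap.comp_apply, ← LinearMap.rTensor_comp, hex.linearMap_comp_eq_zero,
    LinearMap.rTensor_zero, LinearMap.zero_apply]

theorem piRightHom_bijective (M : Type u) [AddCommGroup M] [Module R M]
    [Module.FinitePresentation R M]
    {ι : Type u} (Q : ι → Type u) [∀ i, AddCommGroup (Q i)] [∀ i, Module R (Q i)] :
    Function.Bijective (TensorProduct.piRightHom R R M Q) :=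
  ⟨piRightHom_injective M Q, piRightHom_surjective M Q⟩


/-! ## Domination -/

/-- transport of a kernel inclusion along an isomorphism of the test module -/
theorem ker_rTensor_le_of_equiv {P M Q : Type u} [AddCommGroup P] [Module R P] [AddCommGroup M]
    [Module R M] [AddCommGroup Q] [Module R Q] (f : P →ₗ[R] M) (g : P →ₗ[R] Q)
    {N N' : Type u} [AddCommGroup N] [Module R N] [AddCommGroup N'] [Module R N']
    (e : N ≃ₗ[R] N') (H : LinearMap.ker (f.rTensor N) ≤ LinearMap.ker (g.rTensor N)) :
    LinearMap.ker (f.rTensor N') ≤ LinearMap.ker (g.rTensor N') := by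
  intro t ht
  rw [LinearMap.mem_ker] at ht ⊢
  have h1 : (e.symm.toLinearMap.lTensor P) t ∈ LinearMap.ker (f.rTensor N) := by
    rw [LinearMap.mem_ker, ← LinearMap.comp_apply, LinearMap.rTensor_comp_lTensor,
      ← LinearMap.lTensor_comp_rTensor, LinearMap.comp_apply, ht, map_zero]
  have h2 := H h1
  rw [LinearMap.mem_ker, ← LinearMap.comp_apply, LinearMap.rTensor_comp_lTensor,
    ← LinearMap.lTensor_comp_rTensor, LinearMap.comp_apply] at h2
  have h3 := congrArg (e.toLinearMap.lTensor Q) h2
  rw [map_zero, ← LinearMap.comp_apply, ← LinearMap.lTensor_comp] at h3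
  have h4 : e.toLinearMap ∘ₗ e.symm.toLinearMap = LinearMap.id := by
    ext x; simp
  rwa [h4, LinearMap.lTensor_id, LinearMap.id_apply] at h3

/-- index type for the "universal test element" -/
structure Idx {P M : Type u} [AddCommGroup P] [Module R P] [AddCommGroup M] [Module R M]
    (f : P →ₗ[R] M) : Type u where
  n : ℕ
  m : ℕ
  A : (Fin m → R) →ₗ[R] (Fin n → R)
  x : P ⊗[R] ((Fin n → R) ⧸ LinearMap.range A)
  hx : f.rTensor _ x = 0

/-- A Mittag-Leffler module satisfies the domination criterion. -/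
theorem exists_dominating_of_ML {M : Type u} [AddCommGroup M] [Module R M]
    (hM : CAlg.IsMittagLeffler R M) {P : Type u} [AddCommGroup P] [Module R P]
    [Module.FinitePresentation R P] (f : P →ₗ[R] M) :
    ∃ (Q : Type u) (_ : AddCommGroup Q) (_ : Module R Q) (_ : Module.FinitePresentation R Q)
      (g : P →ₗ[R] Q) (h : Q →ₗ[R] M), f = h ∘ₗ g ∧
        ∀ (N : Type u) [AddCommGroup N] [Module R N],
          LinearMap.ker (f.rTensor N) = LinearMap.ker (g.rTensor N) := by
  obtain ⟨xt, hxt⟩ := piRightHom_surjective P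
    (fun α : Idx f => (Fin α.n → R) ⧸ LinearMap.range α.A) (fun α => α.x)
  have h0 : f.rTensor _ xt = 0 := by
    apply hM (Idx f) (fun α : Idx f => (Fin α.n → R) ⧸ LinearMap.range α.A)
    funext α
    rw [piRightHom_rTensor, hxt, α.hx]
    simp
  obtain ⟨P', _, _, hfp, f', h, hfac, hx'⟩ := Groth.Agent.S6380.result R f xt h0
  refine ⟨P', inferInstance, inferInstance, hfp, f', h, hfac, ?_⟩
  have hstd : ∀ α : Idx f, f'.rTensor _ α.x = 0 := by
    intro α
    have := piRightHom_rTensor f' (fun α : Idx f => (Fin α.n → R) ⧸ LinearMap.range α.A) xt α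
    rw [hx', hxt] at this
    rw [← this]
    simp
  have hfpN : ∀ (N : Type u) [AddCommGroup N] [Module R N], Module.FinitePresentation R N →
      LinearMap.ker (f.rTensor N) ≤ LinearMap.ker (f'.rTensor N) := by
    intro N _ _ hN
    obtain ⟨n, m, p, A, hp, hex⟩ := Module.FinitePresentation.exists_fin' R N
    have hker : LinearMap.ker p = LinearMap.range A := (LinearMap.exact_iff.mp hex)
    let e : ((Fin n → R) ⧸ LinearMap.range A) ≃ₗ[R] N :=
      (Submodule.quotEquivOfEq _ _ hker.symm) ≪≫ₗ (LinearMap.quotKerEquivOfSurjective p hp)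
    refine ker_rTensor_le_of_equiv f f' e ?_
    intro t ht
    exact hstd ⟨n, m, A, t, ht⟩
  have hall := (Groth.Agent.S6360.result R f f').mpr hfpN
  intro N _ _
  apply le_antisymm (hall N)
  intro t ht
  rw [LinearMap.mem_ker] at ht ⊢
  rw [hfac, LinearMap.rTensor_comp, LinearMap.comp_apply, ht, map_zero]


/-- For `M` Mittag-Leffler and `f : P → M` with `P` finitely generated there is a "universal"
element `xt` of `P ⊗ ∏ N_α` killed by `f`, such that every `g` killing `xt` is dominated by `f`. -/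
theorem universal_element {M : Type u} [AddCommGroup M] [Module R M]
    (hM : CAlg.IsMittagLeffler R M) {P : Type u} [AddCommGroup P] [Module R P]
    [Module.Finite R P] (f : P →ₗ[R] M) :
    ∃ xt : P ⊗[R] (∀ α : Idx f, (Fin α.n → R) ⧸ LinearMap.range α.A),
      f.rTensor _ xt = 0 ∧
      ∀ {M' : Type u} [AddCommGroup M'] [Module R M'] (g : P →ₗ[R] M'), g.rTensor _ xt = 0 →
        ∀ (N : Type u) [AddCommGroup N] [Module R N],
          LinearMap.ker (f.rTensor N) ≤ LinearMap.ker (g.rTensor N) := by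
  obtain ⟨xt, hxt⟩ := piRightHom_surjective P
    (fun α : Idx f => (Fin α.n → R) ⧸ LinearMap.range α.A) (fun α => α.x)
  have h0 : f.rTensor _ xt = 0 := by
    apply hM (Idx f) (fun α : Idx f => (Fin α.n → R) ⧸ LinearMap.range α.A)
    funext α
    rw [piRightHom_rTensor, hxt, α.hx]
    simp
  refine ⟨xt, h0, ?_⟩
  intro M' _ _ f' hx'
  have hstd : ∀ α : Idx f, f'.rTensor _ α.x = 0 := by
    intro α
    have := piRightHom_rTensor f' (fun α : Idx f => (Fin α.n → R) ⧸ LinearMap.range α.A) xt α
    rw [hx', hxt] at this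
    rw [← this]
    simp
  have hfpN : ∀ (N : Type u) [AddCommGroup N] [Module R N], Module.FinitePresentation R N →
      LinearMap.ker (f.rTensor N) ≤ LinearMap.ker (f'.rTensor N) := by
    intro N _ _ hN
    obtain ⟨n, m, p, A, hp, hex⟩ := Module.FinitePresentation.exists_fin' R N
    have hker : LinearMap.ker p = LinearMap.range A := (LinearMap.exact_iff.mp hex)
    let e : ((Fin n → R) ⧸ LinearMap.range A) ≃ₗ[R] N :=
      (Submodule.quotEquivOfEq _ _ hker.symm) ≪≫ₗ (LinearMap.quotKerEquivOfSurjective p hp)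
    refine ker_rTensor_le_of_equiv f f' e ?_
    intro t ht
    exact hstd ⟨n, m, A, t, ht⟩
  exact (Groth.Agent.S6360.result R f f').mpr hfpN


/-! ## The domination relation -/

/-- `Dom f g`: `f` dominates `g`, i.e. `ker (f ⊗ X) ≤ ker (g ⊗ X)` for all `X`. -/
def Dom {P M M' : Type u} [AddCommGroup P] [Module R P] [AddCommGroup M] [Module R M]
    [AddCommGroup M'] [Module R M'] (f : P →ₗ[R] M) (g : P →ₗ[R] M') : Prop :=
  ∀ (X : Type u) [AddCommGroup X] [Module R X],
    LinearMap.ker (f.rTensor X) ≤ LinearMap.ker (g.rTensor X)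

section Dom

variable {P M M' M'' : Type u} [AddCommGroup P] [Module R P] [AddCommGroup M] [Module R M]
    [AddCommGroup M'] [Module R M'] [AddCommGroup M''] [Module R M'']

theorem Dom.trans {f : P →ₗ[R] M} {g : P →ₗ[R] M'} {h : P →ₗ[R] M''} (h1 : Dom f g)
    (h2 : Dom g h) : Dom f h :=
  fun X _ _ => (h1 X).trans (h2 X)

theorem Dom.of_comp (f : P →ₗ[R] M) (h : M →ₗ[R] M') : Dom f (h ∘ₗ f) := by
  intro X _ _ t ht
  rw [LinearMap.mem_ker] at ht ⊢
  rw [LinearMap.rTensor_comp, LinearMap.comp_apply, ht, map_zero]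

theorem Dom.comp_right {f : P →ₗ[R] M} {g : P →ₗ[R] M'} (h : Dom f g) {P' : Type u}
    [AddCommGroup P'] [Module R P'] (a : P' →ₗ[R] P) : Dom (f ∘ₗ a) (g ∘ₗ a) := by
  intro X _ _ t ht
  rw [LinearMap.mem_ker] at ht ⊢
  rw [LinearMap.rTensor_comp, LinearMap.comp_apply] at ht ⊢
  exact h X ht

theorem Dom.rTensor {f : P →ₗ[R] M} {g : P →ₗ[R] M'} (h : Dom f g) (Y : Type u)
    [AddCommGroup Y] [Module R Y] : Dom (f.rTensor Y) (g.rTensor Y) := by
  intro X _ _ t ht
  rw [LinearMap.mem_ker] at ht ⊢
  have h1 : (TensorProduct.assoc R P Y X) t ∈ LinearMap.ker (f.rTensor (Y ⊗[R] X)) := by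
    rw [LinearMap.mem_ker, LinearMap.rTensor_tensor]
    simp only [LinearMap.comp_apply, LinearEquiv.coe_coe, LinearEquiv.symm_apply_apply]
    rw [ht, map_zero]
  have h2 := h (Y ⊗[R] X) h1
  rw [LinearMap.mem_ker, LinearMap.rTensor_tensor] at h2
  simp only [LinearMap.comp_apply, LinearEquiv.coe_coe, LinearEquiv.symm_apply_apply] at h2
  exact (TensorProduct.assoc R M' Y X).injective (h2.trans (map_zero _).symm)

theorem Dom.lTensor {f : P →ₗ[R] M} {g : P →ₗ[R] M'} (h : Dom f g) (Y : Type u)
    [AddCommGroup Y] [Module R Y] : Dom (f.lTensor Y) (g.lTensor Y) := by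
  have e1 : ∀ {M₁ : Type u} [AddCommGroup M₁] [Module R M₁] (φ : P →ₗ[R] M₁),
      φ.lTensor Y = (TensorProduct.comm R M₁ Y).toLinearMap ∘ₗ φ.rTensor Y ∘ₗ
        (TensorProduct.comm R Y P).toLinearMap := by
    intro M₁ _ _ φ
    ext y p
    simp
  have h1 := (h.rTensor Y).comp_right (TensorProduct.comm R Y P).toLinearMap
  intro X _ _ t ht
  rw [LinearMap.mem_ker] at ht ⊢
  rw [e1 f, LinearMap.rTensor_comp, LinearMap.comp_apply] at ht
  rw [e1 g, LinearMap.rTensor_comp, LinearMap.comp_apply]
  have h2 : (LinearMap.rTensor X (LinearMap.rTensor Y f ∘ₗ (TensorProduct.comm R Y P).toLinearMap)) t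
      = 0 := by
    have hinj : Function.Injective
        (LinearMap.rTensor X (TensorProduct.comm R M Y).toLinearMap) := by
      have : Function.LeftInverse
          (LinearMap.rTensor X (TensorProduct.comm R M Y).symm.toLinearMap)
          (LinearMap.rTensor X (TensorProduct.comm R M Y).toLinearMap) := by
        intro w
        rw [← LinearMap.comp_apply, ← LinearMap.rTensor_comp]
        have : (TensorProduct.comm R M Y).symm.toLinearMap ∘ₗ
            (TensorProduct.comm R M Y).toLinearMap = LinearMap.id := by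
          ext; simp
        rw [this, LinearMap.rTensor_id, LinearMap.id_apply]
      exact this.injective
    exact hinj (ht.trans (map_zero _).symm)
  have h3 := h1 X h2
  rw [LinearMap.mem_ker] at h3
  rw [h3, map_zero]

end Dom

theorem Dom.ker_le {P M M' : Type u} [AddCommGroup P] [Module R P] [AddCommGroup M] [Module R M]
    [AddCommGroup M'] [Module R M'] {f : P →ₗ[R] M} {g : P →ₗ[R] M'} (h : Dom f g) :
    LinearMap.ker f ≤ LinearMap.ker g := by
  intro t ht
  rw [LinearMap.mem_ker] at ht ⊢
  have h1 : (t ⊗ₜ[R] (1 : R)) ∈ LinearMap.ker (f.rTensor R) := by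
    rw [LinearMap.mem_ker, LinearMap.rTensor_tmul, ht, TensorProduct.zero_tmul]
  have h2 := h R h1
  rw [LinearMap.mem_ker, LinearMap.rTensor_tmul] at h2
  have h3 := congrArg (TensorProduct.rid R M') h2
  simpa using h3

/-- the tensor product of finitely presented modules is finitely presented -/
theorem fp_tensor (Q₁ Q₂ : Type u) [AddCommGroup Q₁] [Module R Q₁] [AddCommGroup Q₂] [Module R Q₂]
    [Module.FinitePresentation R Q₁] [Module.FinitePresentation R Q₂] :
    Module.FinitePresentation R (Q₁ ⊗[R] Q₂) := by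
  obtain ⟨n₁, m₁, p₁, A₁, hp₁, hex₁⟩ := Module.FinitePresentation.exists_fin' R Q₁
  obtain ⟨n₂, m₂, p₂, A₂, hp₂, hex₂⟩ := Module.FinitePresentation.exists_fin' R Q₂
  have : Module.FinitePresentation R ((Fin n₁ → R) ⊗[R] (Fin n₂ → R)) :=
    Module.finitePresentation_of_projective _ _
  refine Module.finitePresentation_of_surjective (TensorProduct.map p₁ p₂)
    (TensorProduct.map_surjective hp₁ hp₂) ?_
  rw [TensorProduct.map_ker hex₁ hp₁ hex₂ hp₂]
  refine Submodule.FG.sup ?_ ?_
  · rw [LinearMap.range_eq_map]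
    exact (Module.Finite.fg_top).map _
  · rw [LinearMap.range_eq_map]
    exact (Module.Finite.fg_top).map _

/-! ## Direct limits -/

section DirectLimit

variable {ι : Type u} [Preorder ι] [IsDirected ι (· ≤ ·)] [DecidableEq ι] {G : ι → Type u}
  [∀ i, AddCommGroup (G i)] [∀ i, Module R (G i)]
  (f : ∀ i j, i ≤ j → G i →ₗ[R] G j) [DirectedSystem G fun i j h => f i j h]

theorem tensor_zero_stage (X : Type u) [AddCommGroup X] [Module R X] {i : ι} (t : G i ⊗[R] X)
    (ht : (Module.DirectLimit.of R ι G f i).rTensor X t = 0) :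
    ∃ (k : ι) (hik : i ≤ k), (f i k hik).rTensor X t = 0 := by
  have h1 := congrArg (TensorProduct.directLimitLeft f X) ht
  rw [TensorProduct.directLimitLeft_rTensor_of, map_zero] at h1
  exact Module.DirectLimit.of.zero_exact h1

theorem tensor_exists_of [Nonempty ι] (X : Type u) [AddCommGroup X] [Module R X]
    (z : Module.DirectLimit G f ⊗[R] X) :
    ∃ (i : ι) (t : G i ⊗[R] X), (Module.DirectLimit.of R ι G f i).rTensor X t = z := by
  obtain ⟨i, t, ht⟩ := Module.DirectLimit.exists_of (TensorProduct.directLimitLeft f X z)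
  refine ⟨i, t, ?_⟩
  apply (TensorProduct.directLimitLeft f X).injective
  rw [TensorProduct.directLimitLeft_rTensor_of, ht]

end DirectLimit

/-- The domination criterion (for maps out of finite free modules) implies Mittag-Leffler. -/
theorem ML_of_dominating {M : Type u} [AddCommGroup M] [Module R M]
    (H : ∀ (n : ℕ) (f : (Fin n → R) →ₗ[R] M),
      ∃ (Q : Type u) (_ : AddCommGroup Q) (_ : Module R Q) (_ : Module.FinitePresentation R Q)
        (g : (Fin n → R) →ₗ[R] Q),
        ∀ (N : Type u) [AddCommGroup N] [Module R N],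
          LinearMap.ker (f.rTensor N) = LinearMap.ker (g.rTensor N)) :
    CAlg.IsMittagLeffler R M := by
  intro ι Q _ _
  rw [injective_iff_map_eq_zero]
  intro z hz
  obtain ⟨M₀, hM₀, hsub⟩ := TensorProduct.exists_finite_submodule_left_of_setFinite
    ({z} : Set (M ⊗[R] (∀ i, Q i))) (Set.finite_singleton z)
  obtain ⟨z₀, rfl⟩ := hsub (Set.mem_singleton z)
  obtain ⟨n, π, hπ⟩ := Module.Finite.exists_fin' R M₀
  obtain ⟨zP, rfl⟩ := LinearMap.rTensor_surjective (∀ i, Q i) hπ z₀
  have e1 : ∀ t, (LinearMap.rTensor ((i : ι) → Q i) M₀.subtype)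
      ((LinearMap.rTensor ((i : ι) → Q i) π) t) =
      (LinearMap.rTensor ((i : ι) → Q i) (M₀.subtype ∘ₗ π)) t := by
    intro t
    rw [LinearMap.rTensor_comp, LinearMap.comp_apply]
  rw [e1] at hz ⊢
  set f : (Fin n → R) →ₗ[R] M := M₀.subtype ∘ₗ π with hf
  obtain ⟨Q', _, _, hQ', g, hg⟩ := H n f
  have h1 : g.rTensor _ zP = 0 := by
    apply piRightHom_injective Q' Q
    funext i
    rw [piRightHom_rTensor, map_zero]
    have h2 : TensorProduct.piRightHom R R (Fin n → R) Q zP i ∈ LinearMap.ker (f.rTensor (Q i)) := by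
      rw [LinearMap.mem_ker, ← piRightHom_rTensor, hz]
      rfl
    rw [hg (Q i)] at h2
    exact h2
  have h3 : zP ∈ LinearMap.ker (g.rTensor (∀ i, Q i)) := h1
  rw [← hg] at h3
  exact h3

end Groth.Agent.Lib.helper10.ML
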