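import Mathlib.Tactic
import Groth.Agent.Lib.helper10.FpMap
import Groth.Agent.Lib.helper10.EquivCore
import Groth.Agent.Lib.helper10.FpGen

/-!
# The diagonal square of a fully faithful functor is 2-cartesian (helper10 library, general universes)
-/

set_option autoImplicit false
universe v u v₂ u₂ v₃ u₃ v₄ u₄

open CategoryTheory

namespace Groth.Agent.Lib.helper10.MonoDiag

open Groth.Agent.Lib.helper10.FpGen

variable {C : Type u} [Category.{v} C]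
  {𝒳 : BasedCategory.{v₂, u₂} C} {𝒳' : BasedCategory.{v₃, u₃} C} {𝒴 : BasedCategory.{v₄, u₄} C}
  (i : 𝒳 ⥤ᵇ 𝒳') (g : 𝒳' ⥤ᵇ 𝒴)

/-- `i × i : 𝒳 ×_𝒴 𝒳 ⟶ 𝒳' ×_𝒴 𝒳'` -/
abbrev H : FibCat.fp (BasedFunctor.comp i g) (BasedFunctor.comp i g) ⥤ᵇ FibCat.fp g g :=
  FibCat.fpLift (BasedFunctor.comp (FibCat.fpFst (BasedFunctor.comp i g) (BasedFunctor.comp i g)) i)
    (BasedFunctor.comp (FibCat.fpSnd (BasedFunctor.comp i g) (BasedFunctor.comp i g)) i)
    (FibCat.fpIso (BasedFunctor.comp i g) (BasedFunctor.comp i g))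

/-- the comparison functor -/
abbrev E : 𝒳 ⥤ᵇ FibCat.fp (H i g) (FibCat.diag g) :=
  FibCat.fpLift (F := H i g) (G := FibCat.diag g) (FibCat.diag (BasedFunctor.comp i g)) i (Iso.refl _)

theorem E_faithful : (E i g).toFunctor.Faithful where
  map_injective := by
    intro t t' m m' h
    exact congrArg (fun k => k.hom.fst.hom.fst) h

omit [Category.{v} C] in
lemma aux_id {A : Type*} [Category A] {P Q : A} (a b : P ⟶ Q) (h : a ≫ 𝟙 Q = 𝟙 P ≫ b) : a = b := by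
  simpa using h

theorem E_full [i.toFunctor.Faithful] : (E i g).toFunctor.Full where
  map_surjective := by
    intro x y h
    obtain ⟨a, ha⟩ : ∃ a : x ⟶ y, a = h.hom.fst.hom.fst := ⟨_, rfl⟩
    obtain ⟨b, hb⟩ : ∃ b : x ⟶ y, b = h.hom.fst.hom.snd := ⟨_, rfl⟩
    obtain ⟨c, hc⟩ : ∃ c : i.obj x ⟶ i.obj y, c = h.hom.snd := ⟨_, rfl⟩
    have hw := h.hom.w
    have w₁ : i.map a ≫ 𝟙 _ = 𝟙 _ ≫ c := by
      rw [ha, hc]; exact congrArg (fun k => k.hom.fst) hw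
    have w₂ : i.map b ≫ 𝟙 _ = 𝟙 _ ≫ c := by
      rw [hb, hc]; exact congrArg (fun k => k.hom.snd) hw
    have e₁ : i.map a = c := aux_id _ _ w₁
    have e₂ : i.map b = c := aux_id _ _ w₂
    have e : a = b := i.toFunctor.map_injective (e₁.trans e₂.symm)
    refine ⟨a, ?_⟩
    apply ObjectProperty.hom_ext
    apply Limits.CategoricalPullback.hom_ext
    · apply ObjectProperty.hom_ext
      apply Limits.CategoricalPullback.hom_ext
      · exact ha
      · exact e.trans hb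
    · exact e₁.trans hc

omit [Category.{v} C] in
lemma aux_h1 {A : Type*} [Category A] {P Q Z : A} (u : P ⟶ P) (hu : u = 𝟙 P)
    (j : P ⟶ Q) (a : P ⟶ Z) (b : Q ⟶ Z) (bi : Z ⟶ Q) (hb : b ≫ bi = 𝟙 Q)
    (h : a ≫ 𝟙 Z = j ≫ b) : u ≫ j = 𝟙 P ≫ a ≫ bi := by
  subst hu
  rw [Category.comp_id] at h
  rw [h]
  simp [hb]

omit [Category.{v} C] in
lemma aux_h2 {A : Type*} [Category A] {P R : A} (u : P ⟶ P) (hu : u = 𝟙 P) (a : P ⟶ R) :
    u ≫ a = 𝟙 P ≫ a := by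
  subst hu; rfl

omit [Category.{v} C] in
lemma aux_h3 {A : Type*} [Category A] {P Q R : A} (a : P ⟶ R) (b : Q ⟶ R) (bi : R ⟶ Q)
    (hb : bi ≫ b = 𝟙 R) (k : P ⟶ Q) (hk : k = a ≫ bi) : k ≫ b = 𝟙 P ≫ a := by
  subst hk
  simp [hb]

theorem E_hes [i.toFunctor.Full] [i.toFunctor.Faithful] (r : (FibCat.fp (H i g) (FibCat.diag g)).obj) :
    ∃ (x : 𝒳.obj) (ι : (E i g).obj x ≅ r),
      (FibCat.fp (H i g) (FibCat.diag g)).p.IsHomLift
        (𝟙 ((FibCat.fp (H i g) (FibCat.diag g)).p.obj r)) ι.hom := by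
  let d : (FibCat.fp (BasedFunctor.comp i g) (BasedFunctor.comp i g)).obj := r.obj.fst
  let x₁ : 𝒳.obj := d.obj.fst
  let x₂ : 𝒳.obj := d.obj.snd
  let θ₁ : i.obj x₁ ≅ r.obj.snd := (FibCat.fpFst g g).toFunctor.mapIso r.obj.iso
  let θ₂ : i.obj x₂ ≅ r.obj.snd := (FibCat.fpSnd g g).toFunctor.mapIso r.obj.iso
  have hθw : g.map θ₁.hom ≫ 𝟙 _ = d.obj.iso.hom ≫ g.map θ₂.hom := r.obj.iso.hom.hom.w
  let κ : x₁ ≅ x₂ := i.toFunctor.preimageIso (θ₁ ≪≫ θ₂.symm)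
  have hκ : i.map κ.hom = θ₁.hom ≫ θ₂.inv := by
    simp only [κ, Functor.preimageIso_hom]
    exact i.toFunctor.map_preimage _
  have compat₁ : (BasedFunctor.comp i g).map (Iso.refl x₁).hom ≫ d.obj.iso.hom =
      𝟙 _ ≫ (BasedFunctor.comp i g).map κ.hom := by
    have e' : (BasedFunctor.comp i g).map κ.hom = g.map θ₁.hom ≫ g.map θ₂.inv := by
      change g.map (i.map κ.hom) = _
      rw [hκ]
      exact g.toFunctor.map_comp _ _
    rw [e']
    refine aux_h1 _ ((BasedFunctor.comp i g).toFunctor.map_id _) d.obj.iso.hom (g.map θ₁.hom)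
      (g.map θ₂.hom) (g.map θ₂.inv) ?_ hθw
    change g.toFunctor.map _ ≫ g.toFunctor.map _ = _
    rw [← Functor.map_comp, Iso.hom_inv_id]
    exact g.toFunctor.map_id _
  let ρ₁ : (FibCat.diag (BasedFunctor.comp i g)).obj x₁ ≅ d := ObjectProperty.isoMk _
    (Limits.CategoricalPullback.mkIso (Iso.refl x₁) κ compat₁)
  have compat : (H i g).map ρ₁.hom ≫ r.obj.iso.hom =
      ((E i g).obj x₁).obj.iso.hom ≫ (FibCat.diag g).map θ₁.hom := by
    apply ObjectProperty.hom_ext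
    apply Limits.CategoricalPullback.hom_ext
    · exact aux_h2 _ (i.toFunctor.map_id _) _
    · exact aux_h3 θ₁.hom θ₂.hom θ₂.inv θ₂.inv_hom_id (i.map κ.hom) hκ
  refine ⟨x₁, ObjectProperty.isoMk _ (Limits.CategoricalPullback.mkIso ρ₁ θ₁ compat), ?_⟩
  rw [fp_lift_iff, fp_lift_iff]
  exact IsHomLift.id rfl

theorem E_isEquivOver [i.toFunctor.Full] [i.toFunctor.Faithful] : FibCat.IsEquivOver (E i g) := by
  have h1 := E_faithful i g
  have h2 := E_full i g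
  exact EquivCore.isEquivOver _ (E_hes i g)

end Groth.Agent.Lib.helper10.MonoDiag
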