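import Mathlib
set_option autoImplicit false
universe u
open CategoryTheory TopologicalSpace Opposite

namespace Groth.Agent.Lib.helper10.OpenEmbPush

variable {U X : TopCat.{u}} (j : U ⟶ X) (hj : Topology.IsOpenEmbedding j)

include hj in
theorem map_functor (W : Opens U) : (Opens.map j).obj (hj.isOpenMap.functor.obj W) = W := by
  ext x
  simp only [Opens.map_coe, Set.mem_preimage]
  constructor
  · rintro ⟨y, hy, hxy⟩
    have := hj.injective hxy
    subst this
    exact hy
  · intro hx
    exact ⟨x, hx, rfl⟩

theorem functor_map_le (V : Opens X) : hj.isOpenMap.functor.obj ((Opens.map j).obj V) ≤ V := by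
  rintro _ ⟨y, hy, rfl⟩
  exact hy

include hj in
theorem faithful : (TopCat.Sheaf.pushforward (Type u) j).Faithful := by
  constructor
  intro F G α β h
  apply Sheaf.hom_ext
  ext ⟨W⟩ : 2
  have h1 := congrArg (fun γ => γ.hom.app (op (hj.isOpenMap.functor.obj W))) h
  dsimp [TopCat.Sheaf.pushforward, Functor.sheafPushforwardContinuous] at h1
  have e := map_functor j hj W
  have n1 := α.hom.naturality (eqToHom (by rw [e]) : op W ⟶ op ((Opens.map j).obj (hj.isOpenMap.functor.obj W)))
  have n2 := β.hom.naturality (eqToHom (by rw [e]) : op W ⟶ op ((Opens.map j).obj (hj.isOpenMap.functor.obj W)))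
  have : IsIso (G.obj.map (eqToHom (by rw [e]) : op W ⟶ op ((Opens.map j).obj (hj.isOpenMap.functor.obj W)))) := by
    rw [eqToHom_map]; infer_instance
  rw [← cancel_mono (G.obj.map (eqToHom (by rw [e]) : op W ⟶ op ((Opens.map j).obj (hj.isOpenMap.functor.obj W))))]
  rw [← n1, ← n2]
  exact congrArg _ h1

end Groth.Agent.Lib.helper10.OpenEmbPush

namespace Groth.Agent.Lib.helper10.OpenEmbPush

variable {U X : TopCat.{u}} (j : U ⟶ X) (hj : Topology.IsOpenEmbedding j)

include hj in
theorem full : (TopCat.Sheaf.pushforward (Type u) j).Full := by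
  constructor
  intro F G γ
  have e := map_functor j hj
  let a : ∀ W : Opens U, op W ⟶ op ((Opens.map j).obj (hj.isOpenMap.functor.obj W)) :=
    fun W => eqToHom (by rw [e])
  let b : ∀ W : Opens U, op ((Opens.map j).obj (hj.isOpenMap.functor.obj W)) ⟶ op W :=
    fun W => eqToHom (by rw [e])
  let α : F.obj ⟶ G.obj :=
    { app := fun W => F.obj.map (a W.unop) ≫ γ.hom.app (op (hj.isOpenMap.functor.obj W.unop)) ≫
        G.obj.map (b W.unop)
      naturality := by
        rintro ⟨W⟩ ⟨W'⟩ f
        have n : F.obj.map ((Opens.map j).map (hj.isOpenMap.functor.map f.unop)).op ≫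
            γ.hom.app (op (hj.isOpenMap.functor.obj W')) =
            γ.hom.app (op (hj.isOpenMap.functor.obj W)) ≫
            G.obj.map ((Opens.map j).map (hj.isOpenMap.functor.map f.unop)).op :=
          γ.hom.naturality (hj.isOpenMap.functor.map f.unop).op
        dsimp
        simp only [Category.assoc]
        rw [← G.obj.map_comp, ← F.obj.map_comp_assoc]
        have h1 : f ≫ a W' = a W ≫ ((Opens.map j).map (hj.isOpenMap.functor.map f.unop)).op :=
          Subsingleton.elim _ _
        have h2 : b W ≫ f = ((Opens.map j).map (hj.isOpenMap.functor.map f.unop)).op ≫ b W' :=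
          Subsingleton.elim _ _
        rw [h1, h2, F.obj.map_comp_assoc, G.obj.map_comp]
        congr 1
        exact (Category.assoc _ _ _).symm.trans
          ((congrArg (· ≫ G.obj.map (b W')) n).trans (Category.assoc _ _ _)) }
  refine ⟨⟨α⟩, ?_⟩
  apply Sheaf.hom_ext
  ext ⟨V⟩ : 2
  have n : F.obj.map ((Opens.map j).map (homOfLE (functor_map_le j hj V))).op ≫
      γ.hom.app (op (hj.isOpenMap.functor.obj ((Opens.map j).obj V))) =
      γ.hom.app (op V) ≫ G.obj.map ((Opens.map j).map (homOfLE (functor_map_le j hj V))).op :=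
    γ.hom.naturality (homOfLE (functor_map_le j hj V)).op
  change α.app (op ((Opens.map j).obj V)) = γ.hom.app (op V)
  dsimp [α]
  have h1 : a ((Opens.map j).obj V) = ((Opens.map j).map (homOfLE (functor_map_le j hj V))).op :=
    Subsingleton.elim _ _
  rw [h1]
  refine (Category.assoc _ _ _).symm.trans ((congrArg (· ≫ G.obj.map (b ((Opens.map j).obj V))) n).trans ?_)
  refine (Category.assoc _ _ _).trans ?_
  have h2 : ((Opens.map j).map (homOfLE (functor_map_le j hj V))).op ≫ b ((Opens.map j).obj V) = 𝟙 _ :=
    Subsingleton.elim _ _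
  have h3 : G.obj.map ((Opens.map j).map (homOfLE (functor_map_le j hj V))).op ≫
      G.obj.map (b ((Opens.map j).obj V)) = 𝟙 _ := by
    rw [← G.obj.map_comp, h2, G.obj.map_id]
  exact (congrArg (γ.hom.app (op V) ≫ ·) h3).trans (Category.comp_id _)

end Groth.Agent.Lib.helper10.OpenEmbPush
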