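import Mathlib

namespace Groth.Agent.Lib.helper10.OverShriek
open CategoryTheory Limits Opposite

universe u

variable {C : Type u} [SmallCategory C] (U : C)

/-- the index category for the pointwise left Kan extension along `(Over.forget U).op` at `V`. -/
abbrev KK (V : C) := CostructuredArrow (Over.forget U).op (op V)

/-- the "terminal objects of the components" -/
def ιobj (V : C) (φ : V ⟶ U) : KK U V := CostructuredArrow.mk (Y := op (Over.mk φ)) (𝟙 (op V))

def ι (V : C) : Discrete (V ⟶ U) ⥤ KK U V := Discrete.functor (ιobj U V)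

/-- underlying map of an object of `KK U V` -/
def und {V : C} (k : KK U V) : V ⟶ k.left.unop.left := k.hom.unop

/-- the component of an object of `KK U V` -/
def comp {V : C} (k : KK U V) : V ⟶ U := und U k ≫ k.left.unop.hom

/-- canonical map to the terminal object of the component. -/
def toι {V : C} (k : KK U V) : k ⟶ ιobj U V (comp U k) :=
  CostructuredArrow.homMk (Quiver.Hom.op (Over.homMk (U := Over.mk (comp U k)) (und U k) rfl)) (by
    change (und U k).op ≫ 𝟙 _ = k.hom
    rw [Category.comp_id]
    rfl)

/-- a morphism `k ⟶ ιobj φ`, on underlying objects of `C`. -/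
def undHom {V : C} {k : KK U V} {φ : V ⟶ U} (m : k ⟶ ιobj U V φ) : V ⟶ k.left.unop.left :=
  m.left.unop.left

lemma undHom_eq {V : C} {k : KK U V} {φ : V ⟶ U} (m : k ⟶ ιobj U V φ) : undHom U m = und U k := by
  have h1 := CostructuredArrow.w m
  have h2 : (undHom U m).op ≫ 𝟙 (op V) = k.hom := h1
  rw [Category.comp_id] at h2
  exact congrArg Quiver.Hom.unop h2

lemma comp_eq {V : C} {k : KK U V} {φ : V ⟶ U} (m : k ⟶ ιobj U V φ) : comp U k = φ := by
  have h3 : undHom U m ≫ k.left.unop.hom = φ := Over.w m.left.unop
  rw [comp, ← undHom_eq U m, h3]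

lemma hom_ext_ι {V : C} {k : KK U V} {φ : V ⟶ U} (m m' : k ⟶ ιobj U V φ) : m = m' := by
  apply CostructuredArrow.hom_ext
  apply Quiver.Hom.unop_inj
  apply Over.OverMorphism.ext
  exact (undHom_eq U m).trans (undHom_eq U m').symm

instance final_ι (V : C) : (ι U V).Final := by
  constructor
  intro k
  have : Nonempty (StructuredArrow k (ι U V)) :=
    ⟨StructuredArrow.mk (Y := (⟨comp U k⟩ : Discrete (V ⟶ U)))
      (show k ⟶ (ι U V).obj ⟨comp U k⟩ from toι U k)⟩
  apply zigzag_isConnected
  intro x y
  have hx : x.right.as = comp U k := (comp_eq U (φ := x.right.as) x.hom).symm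
  have hy : y.right.as = comp U k := (comp_eq U (φ := y.right.as) y.hom).symm
  have hxy : x.right = y.right := Discrete.ext (hx.trans hy.symm)
  refine Zigzag.of_hom (StructuredArrow.homMk (eqToHom hxy) ?_)
  obtain ⟨xl, ⟨xr⟩, xh⟩ := x
  obtain ⟨yl, ⟨yr⟩, yh⟩ := y
  have : xr = yr := congrArg Discrete.as hxy
  subst this
  exact hom_ext_ι U (k := k) (φ := xr) _ _


lemma lan_preservesFiniteLimits :
    PreservesFiniteLimits ((Over.forget U).op.lan :
      ((Over U)ᵒᵖ ⥤ AddCommGrpCat.{u}) ⥤ (Cᵒᵖ ⥤ AddCommGrpCat.{u})) := by
  apply preservesFiniteLimits_of_preservesFiniteLimitsOfSize.{u}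
  intro K _ _
  apply preservesLimitsOfShape_of_evaluation _ K
  intro V
  have : HasExactColimitsOfShape (CostructuredArrow (Over.forget U).op V) AddCommGrpCat.{u} :=
    hasExactColimitsOfShape_of_final _ (ι U V.unop)
  exact preservesLimitsOfShape_of_natIso (lanEvaluationIsoColim _ _ _).symm

variable (J : GrothendieckTopology C)

/-- `j_!` for the localization `C/U → C`, as Mathlib's constructed sheaf pullback. -/
noncomputable def shriek :
    Sheaf (J.over U) AddCommGrpCat.{u} ⥤ Sheaf J AddCommGrpCat.{u} :=
  Functor.sheafPullbackConstruction.sheafPullback (Over.forget U) AddCommGrpCat.{u} (J.over U) J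

noncomputable def shriekAdj :
    shriek U J ⊣ J.overPullback AddCommGrpCat.{u} U :=
  Functor.sheafPullbackConstruction.sheafAdjunctionContinuous (Over.forget U) AddCommGrpCat.{u}
    (J.over U) J

instance shriek_preservesFiniteLimits : PreservesFiniteLimits (shriek U J) := by
  have := lan_preservesFiniteLimits U
  have : PreservesFiniteLimits ((Over.forget U).op.lan ⋙
      presheafToSheaf J AddCommGrpCat.{u}) :=
    comp_preservesFiniteLimits _ _
  unfold shriek Functor.sheafPullbackConstruction.sheafPullback
  apply comp_preservesFiniteLimits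

instance shriek_preservesFiniteColimits : PreservesFiniteColimits (shriek U J) := by
  have := (shriekAdj U J).leftAdjoint_preservesColimits
  infer_instance

instance shriek_additive : (shriek U J).Additive :=
  Functor.additive_of_preserves_binary_products _

end Groth.Agent.Lib.helper10.OverShriek
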