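import Mathlib
import Groth.Agent.Lib.helper10.OverShriek
import Groth.Agent.Lib.helper10.ExtAdj
import Groth.Agent.Lib.helper10.RestrDer
import Groth.Prelude.Def_FreeSh
import Groth.Prelude.Def_CohCx
import Groth.Prelude.Def_CohSite

namespace Groth.Agent.Lib.helper10.OverCoh
open CategoryTheory Limits Opposite
open Groth.Agent.Lib.helper10

universe u

variable {C : Type u} [SmallCategory C] (J : GrothendieckTopology C) (U : C)

noncomputable abbrev cZ : Sheaf (J.over U) AddCommGrpCat.{u} :=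
  (constantSheaf (J.over U) AddCommGrpCat.{u}).obj (AddCommGrpCat.of (ULift ℤ))

abbrev T : Over U := Over.mk (𝟙 U)

noncomputable def hT : IsTerminal (T U) := Over.mkIdTerminal

/-- `(ℤ ⟶ G) ≃+ G(T)` for sheaves on `C/U`. -/
noncomputable def E (G : Sheaf (J.over U) AddCommGrpCat.{u}) :
    (cZ J U ⟶ G) ≃+ G.obj.obj (op (T U)) :=
  AddEquiv.trans ((constantSheafAdj (J.over U) AddCommGrpCat.{u} (hT U)).homAddEquiv _ G)
    (AddCommGrpCat.uliftZMultiplesAddEquiv _)

lemma E_nat {G G' : Sheaf (J.over U) AddCommGrpCat.{u}} (a : cZ J U ⟶ G) (h : G ⟶ G') :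
    E J U G' (a ≫ h) = (h.hom.app (op (T U))).hom (E J U G a) := by
  have h1 : (constantSheafAdj (J.over U) AddCommGrpCat.{u} (hT U)).homEquiv _ G' (a ≫ h) =
      (constantSheafAdj (J.over U) AddCommGrpCat.{u} (hT U)).homEquiv _ G a ≫
        ((sheafSections (J.over U) AddCommGrpCat.{u}).obj (op (T U))).map h :=
    Adjunction.homEquiv_naturality_right _ _ _
  change AddCommGrpCat.uliftZMultiplesAddEquiv _
    ((constantSheafAdj (J.over U) AddCommGrpCat.{u} (hT U)).homEquiv _ G' (a ≫ h)) = _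
  rw [h1]
  rfl

noncomputable def E' (F : Sheaf J AddCommGrpCat.{u}) :
    (cZ J U ⟶ (J.overPullback AddCommGrpCat.{u} U).obj F) ≃+ F.obj.obj (op U) :=
  E J U ((J.overPullback AddCommGrpCat.{u} U).obj F)

lemma E'_nat {F F' : Sheaf J AddCommGrpCat.{u}} (a : cZ J U ⟶ (J.overPullback AddCommGrpCat.{u} U).obj F)
    (g : F ⟶ F') :
    E' J U F' (a ≫ (J.overPullback AddCommGrpCat.{u} U).map g) = (g.hom.app (op U)).hom (E' J U F a) :=
  E_nat J U a ((J.overPullback AddCommGrpCat.{u} U).map g)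

noncomputable def φ (F : Sheaf J AddCommGrpCat.{u}) :
    ((OverShriek.shriek U J).obj (cZ J U) ⟶ F) ≃ (CohCx.freeSheaf J U ⟶ F) :=
  ((OverShriek.shriekAdj U J).homEquiv (cZ J U) F).trans
    ((E' J U F).toEquiv.trans
      (CohFree.homEquivSect J U F).symm.toEquiv)

lemma φ_apply (F : Sheaf J AddCommGrpCat.{u}) (f : (OverShriek.shriek U J).obj (cZ J U) ⟶ F) :
    φ J U F f = (CohFree.homEquivSect J U F).symm
      (E' J U F
        ((OverShriek.shriekAdj U J).homEquiv (cZ J U) F f)) := rfl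

lemma φ_nat {F F' : Sheaf J AddCommGrpCat.{u}} (f : (OverShriek.shriek U J).obj (cZ J U) ⟶ F) (g : F ⟶ F') :
    φ J U F' (f ≫ g) = φ J U F f ≫ g := by
  apply (CohFree.homEquivSect J U F').injective
  have h1 : (OverShriek.shriekAdj U J).homEquiv (cZ J U) F' (f ≫ g) =
      (OverShriek.shriekAdj U J).homEquiv (cZ J U) F f ≫ (J.overPullback AddCommGrpCat.{u} U).map g :=
    Adjunction.homEquiv_naturality_right _ _ _
  have h2 : CohFree.homEquivSect J U F' (φ J U F f ≫ g) =
      (g.hom.app (op U)).hom (CohFree.homEquivSect J U F (φ J U F f)) := rfl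
  rw [h2, φ_apply, φ_apply, AddEquiv.apply_symm_apply, AddEquiv.apply_symm_apply, h1]
  exact E'_nat J U _ _

noncomputable def eIso : (OverShriek.shriek U J).obj (cZ J U) ≅ CohCx.freeSheaf J U :=
  RestrDer.isoOfHomEquiv (φ J U) (φ_nat J U)

theorem main (F : Sheaf J AddCommGrpCat.{u}) (n : ℕ) :
    Nonempty (CohSite.HU F n U ≃+ Sheaf.H.{u} (F.over U) n) := by
  have := (OverShriek.shriekAdj U J).rightAdjoint_preservesLimits
  have : PreservesFiniteColimits (J.overPullback AddCommGrpCat.{u} U) := by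
    have := ((Over.forget U).sheafAdjunctionCocontinuous AddCommGrpCat.{u}
      (J.over U) J).leftAdjoint_preservesColimits
    infer_instance
  exact ExtAdj.extAdj (OverShriek.shriekAdj U J) (cZ J U) (CohCx.freeSheaf J U) (eIso J U) F n

end Groth.Agent.Lib.helper10.OverCoh
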