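import Mathlib
import Groth.Agent.Lib.helper10.OverShriek
import Groth.Agent.Lib.helper10.ExtAdj
import Groth.Prelude.Def_CohCx

namespace Groth.Agent.Lib.helper10.OverFree
open CategoryTheory Limits Opposite
open Groth.Agent.Lib.helper10

universe u

variable {C : Type u} [SmallCategory C] (J : GrothendieckTopology C) (X : C)

noncomputable def shriekSet : Sheaf (J.over X) (Type u) ⥤ Sheaf J (Type u) :=
  Functor.sheafPullbackConstruction.sheafPullback (Over.forget X) (Type u) (J.over X) J

noncomputable def shriekSetAdj : shriekSet J X ⊣ J.overPullback (Type u) X :=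
  Functor.sheafPullbackConstruction.sheafAdjunctionContinuous (Over.forget X) (Type u) (J.over X) J

noncomputable def adj1 :
    Sheaf.composeAndSheafify (J.over X) AddCommGrpCat.free.{u} ⋙ OverShriek.shriek X J ⊣
      J.overPullback AddCommGrpCat.{u} X ⋙ sheafCompose (J.over X) (forget AddCommGrpCat.{u}) :=
  (Sheaf.adjunction (J.over X) AddCommGrpCat.adj.{u}).comp (OverShriek.shriekAdj X J)

noncomputable def adj2 :
    shriekSet J X ⋙ Sheaf.composeAndSheafify J AddCommGrpCat.free.{u} ⊣
      sheafCompose J (forget AddCommGrpCat.{u}) ⋙ J.overPullback (Type u) X :=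
  (shriekSetAdj J X).comp (Sheaf.adjunction J AddCommGrpCat.adj.{u})

def rIso : J.overPullback AddCommGrpCat.{u} X ⋙ sheafCompose (J.over X) (forget AddCommGrpCat.{u}) ≅
    sheafCompose J (forget AddCommGrpCat.{u}) ⋙ J.overPullback (Type u) X :=
  Iso.refl _

noncomputable def lIso :
    Sheaf.composeAndSheafify (J.over X) AddCommGrpCat.free.{u} ⋙ OverShriek.shriek X J ≅
      shriekSet J X ⋙ Sheaf.composeAndSheafify J AddCommGrpCat.free.{u} :=
  ((adj1 J X).ofNatIsoRight (rIso J X)).leftAdjointUniq (adj2 J X)

theorem main (F : Sheaf J AddCommGrpCat.{u}) (hF : CohCx.IsTotallyAcyclic F) :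
    CohCx.IsTotallyAcyclic (((Over.forget X).sheafPushforwardContinuous AddCommGrpCat.{u} (J.over X) J).obj F) := by
  intro K' p
  have := (OverShriek.shriekAdj X J).rightAdjoint_preservesLimits
  have : PreservesFiniteColimits (J.overPullback AddCommGrpCat.{u} X) := by
    have := ((Over.forget X).sheafAdjunctionCocontinuous AddCommGrpCat.{u}
      (J.over X) J).leftAdjoint_preservesColimits
    infer_instance
  obtain ⟨e⟩ := ExtAdj.extAdj (OverShriek.shriekAdj X J)
    ((Sheaf.composeAndSheafify (J.over X) AddCommGrpCat.free.{u}).obj K')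
    ((Sheaf.composeAndSheafify J AddCommGrpCat.free.{u}).obj ((shriekSet J X).obj K'))
    ((lIso J X).app K') F (p + 1)
  have h := hF ((shriekSet J X).obj K') p
  exact e.toEquiv.subsingleton_congr.mp h

end Groth.Agent.Lib.helper10.OverFree
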