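import Mathlib
import Groth.Agent.Lib.helper10.OverCoh
import Groth.Agent.Lib.helper10.FlatCoh
import Groth.Prelude.Def_CohSite

namespace Groth.Agent.Lib.helper10.OverPostCoh
open CategoryTheory Limits Opposite
open Groth.Agent.Lib.helper10

universe u

section
variable {C D : Type u} [SmallCategory C] [SmallCategory D] (u : C ⥤ D) (U : C)

noncomputable def postTerminal : IsTerminal ((Over.post (X := U) u).obj (Over.mk (𝟙 U))) :=
  IsTerminal.ofIso Over.mkIdTerminal (Over.isoMk (Iso.refl _) (by
    change 𝟙 (u.obj U) ≫ u.map (𝟙 U) = 𝟙 (u.obj U)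
    rw [u.map_id, Category.id_comp]))

lemma post_preservesTerminal : PreservesLimitsOfShape (Discrete.{0} PEmpty) (Over.post (X := U) u) := by
  have : PreservesLimit (Functor.empty.{0} (Over U)) (Over.post (X := U) u) :=
    preservesLimit_of_preserves_limit_cone Over.mkIdTerminal
      ((isLimitMapConeEmptyConeEquiv _ _).symm (postTerminal u U))
  exact preservesLimitsOfShape_pempty_of_preservesTerminal _

variable [PreservesLimitsOfShape WalkingCospan u]

lemma post_preservesPullbacks : PreservesLimitsOfShape WalkingCospan (Over.post (X := U) u) := by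
  have h1 : PreservesLimitsOfShape WalkingCospan (Over.post (X := U) u ⋙ Over.forget (u.obj U)) := by
    change PreservesLimitsOfShape WalkingCospan (Over.forget U ⋙ u)
    infer_instance
  constructor
  intro K
  exact preservesLimit_of_reflects_of_preserves (Over.post (X := U) u) (Over.forget (u.obj U))

variable [HasPullbacks C]

instance : HasFiniteLimits (Over U) := hasFiniteLimits_of_hasTerminal_and_pullbacks

lemma post_flat : RepresentablyFlat (Over.post (X := U) u) := by
  have := post_preservesPullbacks u U
  have := post_preservesTerminal u U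
  have : PreservesFiniteLimits (Over.post (X := U) u) :=
    preservesFiniteLimits_of_preservesTerminal_and_pullbacks _
  exact flat_of_preservesFiniteLimits _

variable (J : GrothendieckTopology C) (K : GrothendieckTopology D) [u.IsContinuous J K]
  [u.IsCocontinuous J K]

theorem main (hu : CoverPreserving J K u) (F : Sheaf K AddCommGrpCat.{u}) (p : ℕ) :
    Nonempty (CohSite.HU ((CohSite.push K J u).obj F) p U ≃+ CohSite.HU F p (u.obj U)) := by
  have hflat := post_flat u U
  have hcont : (Over.post (X := U) u).IsContinuous (J.over U) (K.over (u.obj U)) :=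
    Functor.isContinuous_of_coverPreserving (compatiblePreservingOfFlat _ _) (hu.overPost U)
  obtain ⟨e1⟩ := OverCoh.main J U ((CohSite.push K J u).obj F) p
  obtain ⟨e2⟩ := FlatCoh.main (J.over U) (K.over (u.obj U)) (Over.post (X := U) u) Over.mkIdTerminal
    (postTerminal u U) (F.over (u.obj U)) p
  obtain ⟨e3⟩ := OverCoh.main K (u.obj U) F p
  exact ⟨e1.trans (AddEquiv.trans e2 e3.symm)⟩

end
end Groth.Agent.Lib.helper10.OverPostCoh
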