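import Mathlib
import Groth.Agent.Lib.helper10.Flat2

namespace Groth.Agent.Lib.helper10.PFlat
open CategoryTheory Limits Opposite MonoidalCategory
open Groth.Agent.Lib.helper10.TensCore Groth.Agent.Lib.helper10.Flat1 Groth.Agent.Lib.helper10.Flat2

universe u

variable {C : Type u} [SmallCategory C] (O : Cᵒᵖ ⥤ CommRingCat.{u})

abbrev PMp := PresheafOfModules.{u} (O ⋙ forget₂ CommRingCat.{u} RingCat.{u})

instance (F : PMp O) : PreservesFiniteColimits (tensorRight F) :=
  PreservesColimitsOfSize.preservesFiniteColimits.{u, u} _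

instance (F : PMp O) : PreservesFiniteColimits (tensorLeft F) :=
  PreservesColimitsOfSize.preservesFiniteColimits.{u, u} _

instance (F : PMp O) : (tensorRight F).PreservesZeroMorphisms :=
  Functor.preservesZeroMorphisms_of_preserves_initial_object

instance (F : PMp O) : (tensorLeft F).PreservesZeroMorphisms :=
  Functor.preservesZeroMorphisms_of_preserves_initial_object

instance (F : PMp O) : (tensorRight F).Additive := by
  have := preservesBinaryBiproducts_of_preservesBinaryCoproducts (tensorRight F)
  exact Functor.additive_of_preservesBinaryBiproducts _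

instance (F : PMp O) : (tensorLeft F).Additive := by
  have := preservesBinaryBiproducts_of_preservesBinaryCoproducts (tensorLeft F)
  exact Functor.additive_of_preservesBinaryBiproducts _

lemma mono_whiskerRight_of_flat (F : PMp O) (hF : ∀ X : Cᵒᵖ, Module.Flat (O.obj X) (F.obj X))
    {X Y : PMp O} (g : X ⟶ Y) (hg : Mono g) : Mono (g ▷ F) := by
  apply PresheafOfModules.mono_of_injective
  intro U
  have h1 : Function.Injective (g.app U) := PresheafOfModules.injective_of_mono g U
  let g' : X.obj U →ₗ[O.obj U] Y.obj U := (g.app U).hom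
  have := hF U
  exact Module.Flat.rTensor_preserves_injective_linearMap (M := F.obj U) g' h1

theorem exact_of_flat_sections (F : PMp O) (hF : ∀ X : Cᵒᵖ, Module.Flat (O.obj X) (F.obj X)) :
    PreservesFiniteLimits (tensorRight F) ∧ PreservesFiniteColimits (tensorRight F) :=
  ⟨preservesFiniteLimits_of_mono _ (fun g hg => mono_whiskerRight_of_flat O F hF g hg),
    inferInstance⟩


lemma mono_whiskerLeft_of_exact (F : PMp O) (hF : PreservesFiniteLimits (tensorRight F))
    {X Y : PMp O} (g : X ⟶ Y) [Mono g] : Mono (F ◁ g) := by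
  have h1 : F ◁ g = (β_ F X).hom ≫ g ▷ F ≫ (β_ F Y).inv := by
    rw [← Category.assoc, ← BraidedCategory.braiding_naturality_right, Category.assoc,
      Iso.hom_inv_id, Category.comp_id]
  have h2 : Mono ((tensorRight F).map g) := inferInstance
  have h3 : Mono (g ▷ F) := h2
  rw [h1]
  infer_instance

theorem presheaf_tensor_shortExact (S : ShortComplex (PMp O)) (hS : S.ShortExact)
    (hF : PreservesFiniteLimits (tensorRight S.X₃)) (G : PMp O) :
    (S.map (tensorRight G)).ShortExact := by
  have h := (Functor.preservesFiniteColimits_iff_forall_exact_map_and_epi (tensorRight G)).1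
    inferInstance S hS
  refine { exact := h.1, mono_f := ?_, epi_g := h.2 }
  let q := ε (O ⋙ forget₂ CommRingCat.{u} RingCat.{u}) G
  let Q : ShortComplex (PMp O) := ShortComplex.mk (kernel.ι q) q (kernel.condition q)
  have hQ : Q.ShortExact :=
    { exact := ShortComplex.exact_kernel q
      mono_f := inferInstanceAs (Mono (kernel.ι q))
      epi_g := inferInstanceAs (Epi q) }
  have := hS.mono_f
  have hK := ((Functor.preservesFiniteColimits_iff_forall_exact_map_and_epi
    (tensorRight (kernel q))).1 inferInstance S hS).1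
  have h2 := (Functor.preservesFiniteColimits_iff_forall_exact_map_and_epi (tensorLeft S.X₂)).1
    inferInstance Q hQ
  have h1 := (Functor.preservesFiniteColimits_iff_forall_exact_map_and_epi (tensorLeft S.X₁)).1
    inferInstance Q hQ
  have m1 : Mono (S.f ▷ Q.X₂) :=
    mono_whiskerRight_of_flat O _ (fun X => by
      change Module.Flat (O.obj X) ((G.presheaf ⋙ forget _).obj X →₀ O.obj X)
      infer_instance) S.f inferInstance
  have m3 : Mono (S.X₃ ◁ kernel.ι q) := mono_whiskerLeft_of_exact O S.X₃ hF (kernel.ι q)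
  have e1 : Epi (S.X₁ ◁ q) := h1.2
  exact chase (S.f ▷ kernel q) (S.g ▷ kernel q) (S.f ▷ Q.X₂) (S.g ▷ Q.X₂) (S.f ▷ G)
    (S.X₁ ◁ kernel.ι q) (S.X₂ ◁ kernel.ι q) (S.X₃ ◁ kernel.ι q) (S.X₁ ◁ q) (S.X₂ ◁ q)
    (S.map (tensorRight (kernel q))).zero hK (S.map (tensorRight Q.X₂)).zero
    (Q.map (tensorLeft S.X₂)).zero h2.1 (Q.map (tensorLeft S.X₁)).zero
    (whisker_exchange S.f (kernel.ι q)).symm (whisker_exchange S.g (kernel.ι q)).symm
    (whisker_exchange S.f q).symm

end Groth.Agent.Lib.helper10.PFlat
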