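import Mathlib.Tactic
import Groth.Prelude.Def_AlgSt4
import Groth.Agent.Lib.helper10.FpPaste

/-!
# Functoriality of `AlgSt.Points` (helper10 library)
-/

set_option autoImplicit false
universe u v₂ u₂ v₃ u₃ v₄ u₄

open CategoryTheory AlgebraicGeometry

namespace Groth.Agent.Lib.helper10.PointsFun

open AlgSt

variable {S : Scheme.{u}} {𝒜 : BasedCategory.{v₂, u₂} (Over S)} {ℬ : BasedCategory.{v₃, u₃} (Over S)}
  {𝒞 : BasedCategory.{v₄, u₄} (Over S)}

theorem map_comp (a : 𝒜 ⥤ᵇ ℬ) (b : ℬ ⥤ᵇ 𝒞) (x : Points 𝒜) :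
    Points.map (BasedFunctor.comp a b) x = Points.map b (Points.map a x) := by
  obtain ⟨p, rfl⟩ := Points.mk_surjective x
  rfl

theorem map_id (x : Points 𝒜) : Points.map (BasedFunctor.id 𝒜) x = x := by
  obtain ⟨p, rfl⟩ := Points.mk_surjective x
  rfl

theorem map_congr {a b : 𝒜 ⥤ᵇ ℬ} (θ : a ≅ b) (x : Points 𝒜) : Points.map a x = Points.map b x := by
  obtain ⟨p, rfl⟩ := Points.mk_surjective x
  rw [Points.map_mk, Points.map_mk]
  apply Points.sound
  exact ⟨p.map a, 𝟙 _, θ.hom.toNatTrans.app p.obj, trivial⟩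

theorem map_injective_of_equiv (a : 𝒜 ⥤ᵇ ℬ) (ha : FibCat.IsEquivOver a) :
    Function.Injective (Points.map a) := by
  obtain ⟨b, ⟨η⟩, -⟩ := ha
  intro x y h
  have h' := congrArg (Points.map b) h
  rw [← map_comp, ← map_comp, map_congr η, map_congr η, map_id, map_id] at h'
  exact h'

theorem map_surjective_of_equiv (a : 𝒜 ⥤ᵇ ℬ) (ha : FibCat.IsEquivOver a) :
    Function.Surjective (Points.map a) := by
  obtain ⟨b, -, ⟨ε⟩⟩ := ha
  intro y
  refine ⟨Points.map b y, ?_⟩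
  rw [← map_comp, map_congr ε, map_id]

end Groth.Agent.Lib.helper10.PointsFun
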