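import Mathlib.Tactic
import Groth.Prelude.Def_AlgSt
import Mathlib.CategoryTheory.Sites.SheafOfTypes

/-!
# Functors over `C` into the category of elements `Stk.ofPsh P` (helper10 library, general universes)

A functor `G : 𝒜 ⥤ᵇ Stk.ofPsh P` is determined up to unique isomorphism by its family of sections
`sec G a ∈ P(𝒜.p a)`.
-/

set_option autoImplicit false
universe w v u v₂ u₂

open CategoryTheory Opposite

namespace Groth.Agent.Lib.helper10.PshStk

variable {C : Type u} [Category.{v} C] {P : Cᵒᵖ ⥤ Type w} {𝒜 : BasedCategory.{v₂, u₂} C}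

lemma base_eq (G : 𝒜 ⥤ᵇ Stk.ofPsh P) (a : 𝒜.obj) : (G.obj a).base = 𝒜.p.obj a :=
  G.w_obj a

/-- the section of `G` at `a`, as an element of `P(𝒜.p a)` -/
def sec (G : 𝒜 ⥤ᵇ Stk.ofPsh P) (a : 𝒜.obj) : P.obj (op (𝒜.p.obj a)) :=
  P.map (eqToHom (base_eq G a).symm).op (G.obj a).sec

lemma map_hom (G : 𝒜 ⥤ᵇ Stk.ofPsh P) {a b : 𝒜.obj} (f : a ⟶ b) :
    (G.map f).hom = eqToHom (base_eq G a) ≫ 𝒜.p.map f ≫ eqToHom (base_eq G b).symm := by
  have h := Functor.congr_hom G.w f
  simp only [Functor.comp_map] at h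
  change (G.map f).hom = _ at h
  rw [h]
  simp

lemma sec_compat (G : 𝒜 ⥤ᵇ Stk.ofPsh P) {a b : 𝒜.obj} (f : a ⟶ b) :
    P.map (𝒜.p.map f).op (sec G b) = sec G a := by
  unfold sec
  rw [← (G.map f).map_sec, map_hom G f]
  simp only [← Functor.map_comp_apply, ← op_comp]
  congr 2
  simp

lemma app_hom {G G' : 𝒜 ⥤ᵇ Stk.ofPsh P} (α : G ⟶ G') (a : 𝒜.obj) :
    (α.toNatTrans.app a).hom = eqToHom ((base_eq G a).trans (base_eq G' a).symm) := by
  have := α.isHomLift' a
  have h := IsHomLift.fac' (Stk.ofPsh P).p (𝟙 (𝒜.p.obj a)) (α.toNatTrans.app a)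
  change (α.toNatTrans.app a).hom = _ at h
  rw [h]
  simp

lemma sec_eq_of_hom {G G' : 𝒜 ⥤ᵇ Stk.ofPsh P} (α : G ⟶ G') (a : 𝒜.obj) : sec G a = sec G' a := by
  unfold sec
  rw [← (α.toNatTrans.app a).map_sec, app_hom α a]
  simp only [← Functor.map_comp_apply, ← op_comp]
  congr 2
  simp

instance subsingleton_hom (G G' : 𝒜 ⥤ᵇ Stk.ofPsh P) : Subsingleton (G ⟶ G') := by
  refine ⟨fun α β => ?_⟩
  apply BasedNatTrans.homCategory.ext
  ext a
  rw [app_hom α a, app_hom β a]

lemma aux_sec {X Y Z : C} (hXZ : X = Z) (hYZ : Y = Z) (x : P.obj (op X)) (y : P.obj (op Y))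
    (h : P.map (eqToHom hXZ.symm).op x = P.map (eqToHom hYZ.symm).op y) :
    P.map (eqToHom (hXZ.trans hYZ.symm)).op y = x := by
  subst hXZ
  subst hYZ
  simp at h ⊢
  exact h.symm

/-- a morphism between functors with the same sections -/
def homOfSecEq {G G' : 𝒜 ⥤ᵇ Stk.ofPsh P} (h : ∀ a, sec G a = sec G' a) : G ⟶ G' where
  toNatTrans :=
    { app := fun a => ⟨eqToHom ((base_eq G a).trans (base_eq G' a).symm),
        aux_sec (base_eq G a) (base_eq G' a) _ _ (h a)⟩
      naturality := fun a b f => by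
        apply Stk.EltObj.hom_ext
        simp only [Stk.EltObj.comp_hom, map_hom]
        simp }
  isHomLift' := fun a => by
    refine IsHomLift.of_fac' (Stk.ofPsh P).p _ _ (base_eq G a) (base_eq G' a) ?_
    show eqToHom ((base_eq G a).trans (base_eq G' a).symm) = _
    simp

/-- an isomorphism between functors with the same sections -/
def isoOfSecEq {G G' : 𝒜 ⥤ᵇ Stk.ofPsh P} (h : ∀ a, sec G a = sec G' a) : G ≅ G' where
  hom := homOfSecEq h
  inv := homOfSecEq (fun a => (h a).symm)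
  hom_inv_id := Subsingleton.elim _ _
  inv_hom_id := Subsingleton.elim _ _

end Groth.Agent.Lib.helper10.PshStk

namespace Groth.Agent.Lib.helper10.PshStk

variable {C : Type u} [Category.{v} C] (P : Cᵒᵖ ⥤ Type w) {U : C}

/-- the functor `C/U ⟶ ofPsh P` attached to a section `s ∈ P(U)` -/
def ofElt (s : P.obj (op U)) : FibCat.overCat U ⥤ᵇ Stk.ofPsh P where
  toFunctor :=
    { obj := fun a => ⟨a.left, P.map a.hom.op s⟩
      map := fun {a b} f => ⟨f.left, by
        show P.map f.left.op (P.map b.hom.op s) = P.map a.hom.op s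
        rw [← Functor.map_comp_apply, ← op_comp, Over.w f]⟩
      map_id := fun a => by apply Stk.EltObj.hom_ext; rfl
      map_comp := fun f g => by apply Stk.EltObj.hom_ext; rfl }
  w := rfl

lemma sec_ofElt (s : P.obj (op U)) (a : Over U) :
    sec (ofElt P s) a = P.map a.hom.op s := by
  show P.map (𝟙 _) (P.map a.hom.op s) = _
  simp

variable {P}

/-- the functor `sieveCat R ⟶ ofPsh P` attached to a compatible family on `R` -/
def ofFam (R : Sieve U) (x : Presieve.FamilyOfElements P R.arrows) (hx : x.Compatible) :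
    Stk.sieveCat R ⥤ᵇ Stk.ofPsh P where
  toFunctor :=
    { obj := fun a => ⟨a.obj.left, x a.obj.hom a.property⟩
      map := fun {a b} f => ⟨f.hom.left, by
        show P.map f.hom.left.op (x b.obj.hom b.property) = x a.obj.hom a.property
        have h1 := (Presieve.compatible_iff_sieveCompatible x).1 hx b.obj.hom f.hom.left b.property
        rw [← h1]
        congr 1
        exact Over.w f.hom⟩
      map_id := fun a => by apply Stk.EltObj.hom_ext; rfl
      map_comp := fun f g => by apply Stk.EltObj.hom_ext; rfl }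
  w := rfl

lemma sec_ofFam (R : Sieve U) (x : Presieve.FamilyOfElements P R.arrows) (hx : x.Compatible)
    (a : (Stk.sieveCat R).obj) :
    sec (ofFam R x hx) a = x a.obj.hom a.property := by
  show P.map (𝟙 _) (x a.obj.hom a.property) = _
  simp

/-- the family of sections of a functor on a sieve -/
def fam (R : Sieve U) (K : Stk.sieveCat R ⥤ᵇ Stk.ofPsh P) : Presieve.FamilyOfElements P R.arrows :=
  fun _ f hf => sec K ⟨Over.mk f, hf⟩

lemma fam_compatible (R : Sieve U) (K : Stk.sieveCat R ⥤ᵇ Stk.ofPsh P) : (fam R K).Compatible := by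
  rw [Presieve.compatible_iff_sieveCompatible]
  intro Y Z f g hf
  let a : (Stk.sieveCat R).obj := ⟨Over.mk (g ≫ f), R.downward_closed hf g⟩
  let b : (Stk.sieveCat R).obj := ⟨Over.mk f, hf⟩
  let φ : a ⟶ b := ObjectProperty.homMk (Over.homMk g rfl)
  exact (sec_compat K φ).symm

lemma sec_restr (R : Sieve U) (G : FibCat.overCat U ⥤ᵇ Stk.ofPsh P) (a : (Stk.sieveCat R).obj) :
    sec ((Stk.resSieve R (Stk.ofPsh P)).obj G) a = sec G a.obj := rfl

lemma sec_eq_map (G : FibCat.overCat U ⥤ᵇ Stk.ofPsh P) (a : Over U) :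
    sec G a = P.map a.hom.op (sec G (Over.mk (𝟙 U))) := by
  let φ : a ⟶ Over.mk (𝟙 U) := Over.homMk a.hom (by simp)
  exact (sec_compat G φ).symm

end Groth.Agent.Lib.helper10.PshStk
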