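import Mathlib
import Groth.Prelude

open CategoryTheory Opposite Limits

universe u

noncomputable section

namespace Groth.Agent.Lib.helper10.PullUnit

variable {C D : Type u} [SmallCategory C] [SmallCategory D]
  {J : GrothendieckTopology C} {K : GrothendieckTopology D}

/-- restriction of global sections along a morphism of sites (exact inverse image) is bijective -/
theorem sections_precomp_bijective (F : D ⥤ C) [F.IsContinuous K J]
    [PreservesFiniteLimits (F.sheafPullback (Type u) K J)] (P : Sheaf J (Type u)) :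
    Function.Bijective (fun s : P.obj.sections =>
      (⟨fun Y => s.1 (F.op.obj Y), fun f => s.2 (F.op.map f)⟩ : (F.op ⋙ P.obj).sections)) := by
  let TJ : Sheaf J (Type u) := Sheaf.terminal J Types.isTerminalPUnit
  let TK : Sheaf K (Type u) := Sheaf.terminal K Types.isTerminalPUnit
  have hTJ : IsTerminal TJ := Sheaf.isTerminalTerminal J _
  have hTK : IsTerminal TK := Sheaf.isTerminalTerminal K _
  let G := F.sheafPushforwardContinuous (Type u) K J
  let L := F.sheafPullback (Type u) K J
  let adj : L ⊣ G := F.sheafAdjunctionContinuous (Type u) K J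
  have hL : IsTerminal (L.obj TK) := IsTerminal.isTerminalObj L TK hTK
  let isoV : L.obj TK ≅ TJ := IsTerminal.uniqueUpToIso hL hTJ
  let e1 : P.obj.sections ≃ (TJ ⟶ P) :=
    (P.obj.sectionsEquivHom PUnit).trans
      { toFun := fun τ => ⟨τ⟩
        invFun := fun g => g.hom
        left_inv := fun _ => rfl
        right_inv := fun _ => rfl }
  let e2 : (TK ⟶ G.obj P) ≃ (F.op ⋙ P.obj).sections :=
    ({ toFun := fun g => g.hom
       invFun := fun τ => ⟨τ⟩
       left_inv := fun _ => rfl
       right_inv := fun _ => rfl } : (TK ⟶ G.obj P) ≃ ((Functor.const _).obj PUnit ⟶ F.op ⋙ P.obj)).trans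
      ((F.op ⋙ P.obj).sectionsEquivHom PUnit).symm
  let m : (TJ ⟶ P) ≃ (TK ⟶ G.obj P) := (Iso.homFromEquiv isoV.symm).trans (adj.homEquiv TK P)
  have key : (fun s : P.obj.sections =>
      (⟨fun Y => s.1 (F.op.obj Y), fun f => s.2 (F.op.map f)⟩ : (F.op ⋙ P.obj).sections)) =
      fun s => e2 (m (e1 s)) := by
    funext s
    apply Subtype.ext
    funext Y
    have h1 : m (e1 s) = adj.homEquiv TK TJ isoV.hom ≫ G.map (e1 s) := by
      simp only [m, Equiv.trans_apply, Iso.homFromEquiv_apply, Iso.symm_inv]
      exact adj.homEquiv_naturality_right _ _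
    rw [h1]
    rfl
  rw [key]
  exact e2.bijective.comp (m.bijective.comp e1.bijective)


variable {O_C : Sheaf J CommRingCat.{u}} {O_D : Sheaf K CommRingCat.{u}}

/-- the underlying sheaf of sets of a module -/
def setSheaf (M : ModSite.Mod O_C) : Sheaf J (Type u) :=
  ⟨M.val.presheaf ⋙ forget AddCommGrpCat,
    (Presheaf.isSheaf_iff_isSheaf_forget J M.val.presheaf (forget _)).1 M.isSheaf⟩

theorem bij (f : ModSite.RMor O_C O_D) (M : ModSite.Mod O_C) :
    Function.Bijective (SheafOfModules.pushforwardSections f.sharpR (M := M)) := by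
  have h := sections_precomp_bijective (K := K) f.fn (setSheaf M)
  constructor
  · intro s s' hss
    apply h.1
    apply Subtype.ext
    funext Y
    exact congrArg (fun t => t.val Y) hss
  · intro t
    obtain ⟨s, hs⟩ := h.2 ⟨t.val, t.property⟩
    refine ⟨s, ?_⟩
    apply Subtype.ext
    funext Y
    exact congrArg (fun t => t.val Y) hs

theorem isIso_unit (f : ModSite.RMor O_C O_D) :
    IsIso (SheafOfModules.pullbackObjUnitToUnit f.sharpR) := by
  rw [isIso_iff_coyoneda_map_bijective]
  intro M
  rw [← ((SheafOfModules.pullbackPushforwardAdjunction.{u} f.sharpR).homEquiv _ _).bijective.of_comp_iff',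
    ← (SheafOfModules.unitHomEquiv _).bijective.of_comp_iff']
  convert! (bij f M).comp (SheafOfModules.unitHomEquiv _).bijective
  ext g : 1
  dsimp
  rw [SheafOfModules.pushforwardSections_unitHomEquiv, EmbeddingLike.apply_eq_iff_eq,
    Adjunction.homEquiv_naturality_right,
    SheafOfModules.pullbackPushforwardAdjunction_homEquiv_pullbackObjUnitToUnit]

/-- the inverse image of a free module is free -/
def pullFreeIso (f : ModSite.RMor O_C O_D) (I : Type u) :
    f.pull.obj (SheafOfModules.free I) ≅ SheafOfModules.free I :=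
  haveI := isIso_unit f
  (asIso (sigmaComparison f.pull (fun _ : I => SheafOfModules.unit (ModSite.ringSh O_D)))).symm ≪≫
    Sigma.mapIso (fun _ ↦ asIso (SheafOfModules.pullbackObjUnitToUnit f.sharpR))

theorem main9045 (f : ModSite.RMor O_C O_D) (E : CochainComplex (ModSite.Mod O_D) ℤ)
    (hE : DCoh.IsStrictlyPerfectMod (ModSite.ringSh O_D) E) :
    DCoh.IsStrictlyPerfectMod (ModSite.ringSh O_C)
      ((f.pull.mapHomologicalComplex (ComplexShape.up ℤ)).obj E) := by
  obtain ⟨⟨a, b, hab⟩, hfree⟩ := hE
  refine ⟨⟨a, b, fun i hi => ?_⟩, fun i => ?_⟩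
  · exact f.pull.map_isZero (hab i hi)
  · obtain ⟨n, ι, p, hip⟩ := hfree i
    have h1 : f.pull.map ι ≫ f.pull.map p = 𝟙 (f.pull.obj (E.X i)) := by
      rw [← f.pull.map_comp, hip, f.pull.map_id]
    have h2 : (f.pull.map ι ≫ (pullFreeIso f _).hom) ≫ (pullFreeIso f _).inv ≫ f.pull.map p =
        𝟙 (f.pull.obj (E.X i)) := by
      rw [Category.assoc, Iso.hom_inv_id_assoc, h1]
    exact ⟨n, f.pull.map ι ≫ (pullFreeIso f _).hom, (pullFreeIso f _).inv ≫ f.pull.map p, h2⟩

end Groth.Agent.Lib.helper10.PullUnit
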