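import Mathlib.RingTheory.Flat.Basic
import Mathlib.RingTheory.Flat.Tensor
import Mathlib.LinearAlgebra.TensorProduct.RightExactness
import Mathlib.Algebra.Exact.Basic

/-!
# Purity lemmas (helper10 library)

* `chase33`: an abstract 3x3 diagram chase.
* `rTensor_injective_of_flat_quotient`: if `0 → M₁ → M₂ → M₃ → 0` is exact with `M₃` flat, then
  `M₁ ⊗ Q → M₂ ⊗ Q` is injective for all `Q`.
* `flat_of_universallyInjective`: if `M₁ → M₂` is universally injective with `M₂` flat, then
  `M₁` and the cokernel `M₃` are flat.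
-/

set_option autoImplicit false

namespace Groth.Agent.Lib.helper10

open Function TensorProduct

section chase

variable {R : Type*} [CommRing R]
  {A11 A12 A13 A21 A22 A23 A31 A32 : Type*}
  [AddCommGroup A11] [AddCommGroup A12] [AddCommGroup A13]
  [AddCommGroup A21] [AddCommGroup A22] [AddCommGroup A23]
  [AddCommGroup A31] [AddCommGroup A32]
  [Module R A11] [Module R A12] [Module R A13]
  [Module R A21] [Module R A22] [Module R A23]
  [Module R A31] [Module R A32]

/-- Abstract 3x3 diagram chase.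
```
A11 -h1-> A12 -h1'-> A13
 |v1       |v2        |v3
A21 -h2-> A22 -h2'-> A23
 |v1'      |v2'
A31 -h3-> A32
```
-/
theorem chase33
    (h1 : A11 →ₗ[R] A12) (h1' : A12 →ₗ[R] A13)
    (h2 : A21 →ₗ[R] A22) (h2' : A22 →ₗ[R] A23)
    (h3 : A31 →ₗ[R] A32)
    (v1 : A11 →ₗ[R] A21) (v1' : A21 →ₗ[R] A31)
    (v2 : A12 →ₗ[R] A22) (v2' : A22 →ₗ[R] A32)
    (v3 : A13 →ₗ[R] A23)
    (c11 : ∀ x, v2 (h1 x) = h2 (v1 x)) (c12 : ∀ x, v3 (h1' x) = h2' (v2 x))
    (c21 : ∀ x, v2' (h2 x) = h3 (v1' x))
    (hv1'surj : Surjective v1') (hv1 : ∀ x, v1' (v1 x) = 0)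
    (hcol2 : Exact v2 v2') (hv3 : Injective v3) (hrow1 : Exact h1 h1')
    (hh2 : Injective h2) (hrow2 : ∀ x, h2' (h2 x) = 0) :
    Injective h3 := by
  rw [injective_iff_map_eq_zero]
  intro x hx
  obtain ⟨y, rfl⟩ := hv1'surj x
  have h1y : v2' (h2 y) = 0 := by rw [c21, hx]
  obtain ⟨z, hz⟩ := (hcol2 (h2 y)).mp h1y
  have h2z : v3 (h1' z) = 0 := by rw [c12, hz, hrow2]
  have h3z : h1' z = 0 := by
    apply hv3
    rw [h2z, map_zero]
  obtain ⟨w, hw⟩ := (hrow1 z).mp h3z
  have h4 : h2 (v1 w) = h2 y := by rw [← c11, hw, hz]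
  rw [← hh2 h4, hv1]

end chase

section purity

universe u v

variable {R : Type u} [CommRing R] {M₁ M₂ M₃ : Type*}
  [AddCommGroup M₁] [Module R M₁] [AddCommGroup M₂] [Module R M₂] [AddCommGroup M₃] [Module R M₃]

/-- Auxiliary version with a given flat presentation `K → F → Q → 0`. -/
theorem rTensor_injective_of_flat_quotient_aux (f : M₁ →ₗ[R] M₂) (g : M₂ →ₗ[R] M₃)
    (hf : Injective f) (hexact : Exact f g) (hg : Surjective g) [Module.Flat R M₃]
    {Q : Type*} [AddCommGroup Q] [Module R Q] {F : Type*} [AddCommGroup F] [Module R F]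
    {K : Type*} [AddCommGroup K] [Module R K] [Module.Flat R F]
    (ι : K →ₗ[R] F) (π : F →ₗ[R] Q) (hι : Injective ι) (hιπ : Exact ι π) (hπ : Surjective π) :
    Injective (f.rTensor Q) := by
  refine chase33 (R := R)
    (f.rTensor K) (g.rTensor K) (f.rTensor F) (g.rTensor F) (f.rTensor Q)
    (ι.lTensor M₁) (π.lTensor M₁) (ι.lTensor M₂) (π.lTensor M₂) (ι.lTensor M₃)
    ?_ ?_ ?_ ?_ ?_ ?_ ?_ ?_ ?_ ?_
  · intro x
    rw [← LinearMap.comp_apply, ← LinearMap.comp_apply, LinearMap.lTensor_comp_rTensor,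
      LinearMap.rTensor_comp_lTensor]
  · intro x
    rw [← LinearMap.comp_apply, ← LinearMap.comp_apply, LinearMap.lTensor_comp_rTensor,
      LinearMap.rTensor_comp_lTensor]
  · intro x
    rw [← LinearMap.comp_apply, ← LinearMap.comp_apply, LinearMap.lTensor_comp_rTensor,
      LinearMap.rTensor_comp_lTensor]
  · exact LinearMap.lTensor_surjective M₁ hπ
  · intro x
    exact (lTensor_exact M₁ hιπ hπ).apply_apply_eq_zero x
  · exact lTensor_exact M₂ hιπ hπ
  · exact Module.Flat.lTensor_preserves_injective_linearMap ι hι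
  · exact rTensor_exact K hexact hg
  · exact Module.Flat.rTensor_preserves_injective_linearMap f hf
  · intro x
    exact (rTensor_exact F hexact hg).apply_apply_eq_zero x

/-- If `0 → M₁ → M₂ → M₃ → 0` is exact with `M₃` flat, then `M₁ ⊗ Q → M₂ ⊗ Q` is injective. -/
theorem rTensor_injective_of_flat_quotient (f : M₁ →ₗ[R] M₂) (g : M₂ →ₗ[R] M₃)
    (hf : Injective f) (hexact : Exact f g) (hg : Surjective g) [Module.Flat R M₃]
    (Q : Type v) [AddCommGroup Q] [Module R Q] : Injective (f.rTensor Q) := by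
  have hπ : Surjective (Finsupp.linearCombination R (id : Q → Q)) :=
    Finsupp.linearCombination_id_surjective R Q
  have hιπ : Exact (LinearMap.ker (Finsupp.linearCombination R (id : Q → Q))).subtype
      (Finsupp.linearCombination R (id : Q → Q)) := LinearMap.exact_subtype_ker_map _
  exact rTensor_injective_of_flat_quotient_aux f g hf hexact hg _ _
    (Submodule.injective_subtype _) hιπ hπ

/-- `lTensor` version of `rTensor_injective_of_flat_quotient`. -/
theorem lTensor_injective_of_flat_quotient (f : M₁ →ₗ[R] M₂) (g : M₂ →ₗ[R] M₃)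
    (hf : Injective f) (hexact : Exact f g) (hg : Surjective g) [Module.Flat R M₃]
    (Q : Type v) [AddCommGroup Q] [Module R Q] : Injective (f.lTensor Q) :=
  (f.lTensor_inj_iff_rTensor_inj Q).2 (rTensor_injective_of_flat_quotient f g hf hexact hg Q)

end purity

section flat_of_pure

universe u

variable {R : Type u} [CommRing R] {M₁ M₂ M₃ : Type*}
  [AddCommGroup M₁] [Module R M₁] [AddCommGroup M₂] [Module R M₂] [AddCommGroup M₃] [Module R M₃]

/-- If `f : M₁ → M₂` stays injective after tensoring with `R ⧸ I` and `R`-modules `I` (f.g. ideals),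
and `M₂` is flat, then `M₁` is flat. Here we only need injectivity of `I ⊗ M₁ → I ⊗ M₂`. -/
theorem flat_left_of_lTensor_injective (f : M₁ →ₗ[R] M₂) [Module.Flat R M₂]
    (h : ∀ I : Ideal R, I.FG → Injective (f.lTensor I)) : Module.Flat R M₁ := by
  rw [Module.Flat.iff_rTensor_injective]
  intro I hI
  have h1 : Injective ((f.lTensor R) ∘ₗ (I.subtype.rTensor M₁)) := by
    rw [LinearMap.lTensor_comp_rTensor, ← LinearMap.rTensor_comp_lTensor]
    exact (Module.Flat.rTensor_preserves_injective_linearMap I.subtype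
      I.injective_subtype).comp (h I hI)
  exact Injective.of_comp h1

/-- If `0 → M₁ → M₂ → M₃ → 0` is exact, `M₂` is flat and `M₁ ⊗ R/I → M₂ ⊗ R/I` is injective
for all f.g. ideals `I`, then `M₃` is flat. -/
theorem flat_right_of_lTensor_quotient_injective (f : M₁ →ₗ[R] M₂) (g : M₂ →ₗ[R] M₃)
    (hexact : Exact f g) (hg : Surjective g) [Module.Flat R M₂]
    (h : ∀ I : Ideal R, I.FG → Injective (f.lTensor (R ⧸ I))) : Module.Flat R M₃ := by
  rw [Module.Flat.iff_rTensor_injective]
  intro I hI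
  have hιπ : Exact I.subtype I.mkQ := LinearMap.exact_subtype_mkQ I
  have hπ : Surjective I.mkQ := Submodule.mkQ_surjective I
  refine chase33 (R := R)
    (I.subtype.rTensor M₁) (I.mkQ.rTensor M₁) (I.subtype.rTensor M₂) (I.mkQ.rTensor M₂)
    (I.subtype.rTensor M₃)
    (f.lTensor I) (g.lTensor I) (f.lTensor R) (g.lTensor R) (f.lTensor (R ⧸ I))
    ?_ ?_ ?_ ?_ ?_ ?_ ?_ ?_ ?_ ?_
  · intro x
    rw [← LinearMap.comp_apply, ← LinearMap.comp_apply, LinearMap.lTensor_comp_rTensor,
      LinearMap.rTensor_comp_lTensor]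
  · intro x
    rw [← LinearMap.comp_apply, ← LinearMap.comp_apply, LinearMap.lTensor_comp_rTensor,
      LinearMap.rTensor_comp_lTensor]
  · intro x
    rw [← LinearMap.comp_apply, ← LinearMap.comp_apply, LinearMap.lTensor_comp_rTensor,
      LinearMap.rTensor_comp_lTensor]
  · exact LinearMap.lTensor_surjective I hg
  · intro x
    exact (lTensor_exact I hexact hg).apply_apply_eq_zero x
  · exact lTensor_exact R hexact hg
  · exact h I hI
  · exact rTensor_exact M₁ hιπ hπ
  · exact Module.Flat.rTensor_preserves_injective_linearMap I.subtype I.injective_subtype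
  · intro x
    exact (rTensor_exact M₂ hιπ hπ).apply_apply_eq_zero x

end flat_of_pure

end Groth.Agent.Lib.helper10
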