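import Mathlib
import Groth.Prelude
import Groth.Agent.Lib.helper9.LocFree2
import Groth.Agent.Lib.helper9.LocFree5

open CategoryTheory CategoryTheory.Limits AlgebraicGeometry Opposite
attribute [local instance] HasDerivedCategory.standard

universe u

noncomputable section

namespace Groth.Agent.Lib.helper10.RelPerf

open Groth.Agent.Lib.helper9.LocFree

variable {X S : Scheme.{u}}

lemma isQuasicoherent_of_isFinLocFree (M : X.Modules) (hM : FlatMod.IsFinLocFree M) :
    M.IsQuasicoherent := by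
  apply Groth.Agent.Lib.helper9.QcohLocal.isQuasicoherent_of_forall_exists
  intro x
  obtain ⟨U, n, hxU, ⟨i⟩⟩ := hM x
  obtain ⟨W, hW, hxW, hWU⟩ := exists_isAffineOpen_mem_and_subset (x := x) (U := U) hxU
  refine ⟨W, hW, hxW, ?_⟩
  obtain ⟨i2⟩ := restrict_iso_freeMod_of_range_subset M n i hW.fromSpec
    (by rw [hW.range_fromSpec]; exact hWU)
  have hq := isQuasicoherent_freeMod (Spec Γ(X, W)) n
  exact (SheafOfModules.isQuasicoherent (Spec Γ(X, W)).ringCatSheaf).prop_of_iso i2.symm hq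

lemma isFlatOver_of_isFinLocFree (g : X ⟶ S) [Flat g] (M : X.Modules)
    (hM : FlatMod.IsFinLocFree M) : FlatMod.IsFlatOver g M := by
  have hqc := isQuasicoherent_of_isFinLocFree M hM
  intro x
  obtain ⟨U, n, hxU, ⟨i⟩⟩ := hM x
  have hfree : Module.Free (X.presheaf.stalk x) (M.presheaf.stalk x) :=
    free_stalk_of_restrict_iso M n i x hxU
  have hflat1 : Module.Flat (X.presheaf.stalk x) (M.presheaf.stalk x) := inferInstance
  unfold FlatMod.IsFlatOverAt
  letI alg : Algebra (S.presheaf.stalk (g.base x)) (X.presheaf.stalk x) :=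
    (g.stalkMap x).hom.toAlgebra
  have hflat2 : Module.Flat (S.presheaf.stalk (g.base x)) (X.presheaf.stalk x) :=
    Flat.stalkMap g x
  letI := FlatMod.moduleStalkOver g M x
  haveI : IsScalarTower (S.presheaf.stalk (g.base x)) (X.presheaf.stalk x)
      (M.presheaf.stalk x) := IsScalarTower.of_algebraMap_smul (fun r m => rfl)
  exact Module.Flat.trans (S.presheaf.stalk (g.base x)) (X.presheaf.stalk x) (M.presheaf.stalk x)


theorem main7248 (f : X ⟶ S) [Flat f] [LocallyOfFinitePresentation f]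
    (E : DCoh.D X) (hE : DCoh.IsPerfect E) :
    (∀ m : ℤ, DCoh.IsPseudoCoherentD m E) ∧ DCoh.LocHasFiniteRelTorDim f E := by
  constructor
  · intro m x
    obtain ⟨V, hxV, hV⟩ := hE x
    refine ⟨V, hxV, fun F hF => ?_⟩
    obtain ⟨E₀, hE₀, ⟨j⟩⟩ := hV F hF
    exact ⟨E₀, j.inv, hE₀, fun i _ => inferInstance, inferInstance⟩
  · intro x
    obtain ⟨V, hxV, hV⟩ := hE x
    -- a representative
    let F₀ : CochainComplex X.Modules ℤ := (DerivedCategory.Q).objPreimage E
    have i₀ : DCoh.toD X F₀ ≅ E := (DerivedCategory.Q).objObjPreimageIso E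
    obtain ⟨E₀, ⟨⟨a, b, hab⟩, hfl⟩, ⟨j₀⟩⟩ := hV F₀ ⟨i₀⟩
    refine ⟨V, a, b, hxV, fun F' hF' => ?_⟩
    obtain ⟨i'⟩ := hF'
    let R := Scheme.Modules.restrictFunctor V.ι
    have jj : DerivedCategory.Q.obj ((DCoh.restrictCx V).obj F') ≅
        DerivedCategory.Q.obj ((DCoh.restrictCx V).obj F₀) :=
      (R.mapDerivedCategoryFactors.app F').symm ≪≫
        R.mapDerivedCategory.mapIso (i' ≪≫ i₀.symm) ≪≫ R.mapDerivedCategoryFactors.app F₀
    have hflat : Flat (V.ι ≫ f) := inferInstance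
    refine ⟨E₀, hab, fun i => isFlatOver_of_isFinLocFree (V.ι ≫ f) (E₀.X i) (hfl i), ⟨?_⟩⟩
    exact j₀.symm ≪≫ jj.symm

end Groth.Agent.Lib.helper10.RelPerf
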