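import Mathlib

set_option autoImplicit false
universe w v u
open CategoryTheory CategoryTheory.Limits Opposite

namespace Groth.Agent.Lib.helper10.Replete

section Types

variable {G : ℕᵒᵖ ⥤ Type w}
  (hG : ∀ n, Function.Surjective (G.map (homOfLE (Nat.le_succ n)).op))

/-- successive preimages starting at level `n` -/
noncomputable def pre (n : ℕ) (a : G.obj ⟨n⟩) : (k : ℕ) → G.obj ⟨n + k⟩
  | 0 => a
  | k + 1 => (hG (n + k) (pre n a k)).choose

lemma pre_succ (n : ℕ) (a : G.obj ⟨n⟩) (k : ℕ) :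
    G.map (homOfLE (Nat.le_succ (n + k))).op (pre hG n a (k + 1)) = pre hG n a k :=
  (hG (n + k) (pre hG n a k)).choose_spec

lemma map_map {i j k : ℕ} (h₁ : i ≤ j) (h₂ : j ≤ k) (x : G.obj ⟨k⟩) :
    G.map (homOfLE h₁).op (G.map (homOfLE h₂).op x) = G.map (homOfLE (h₁.trans h₂)).op x := by
  have : (homOfLE (h₁.trans h₂)).op = (homOfLE h₂).op ≫ (homOfLE h₁).op := by
    rw [← op_comp]; rfl
  rw [this, Functor.map_comp_apply]

lemma map_self {i : ℕ} (h : i ≤ i) (x : G.obj ⟨i⟩) : G.map (homOfLE h).op x = x := by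
  have : (homOfLE h).op = 𝟙 (op i) := rfl
  rw [this, Functor.map_id_apply]

lemma pre_le (n : ℕ) (a : G.obj ⟨n⟩) (k m : ℕ) (h : k ≤ m) :
    G.map (homOfLE (Nat.add_le_add_left h n)).op (pre hG n a m) = pre hG n a k := by
  induction m, h using Nat.le_induction with
  | base => exact map_self _ _
  | succ m hkm ih =>
    rw [← ih, ← pre_succ hG n a m]
    rw [map_map]

include hG in
lemma surjective_π_app_of_surjective_map {c : Cone G} (hc : IsLimit c) (n : ℕ) :
    Function.Surjective (c.π.app ⟨n⟩) := by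
  intro a
  let x : G.sections := ⟨fun j => G.map (homOfLE (Nat.le_add_left j.unop n)).op (pre hG n a j.unop), by
    intro ⟨m⟩ ⟨k⟩ ⟨⟨⟨(h : k ≤ m)⟩⟩⟩
    change G.map (homOfLE h).op (G.map (homOfLE (Nat.le_add_left m n)).op (pre hG n a m)) =
      G.map (homOfLE (Nat.le_add_left k n)).op (pre hG n a k)
    rw [← pre_le hG n a k m h, map_map, map_map]⟩
  refine ⟨(Types.isLimitEquivSections hc).symm x, ?_⟩
  rw [Types.isLimitEquivSections_symm_apply]
  change G.map (homOfLE (Nat.le_add_left n n)).op (pre hG n a n) = a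
  have h0 := pre_le hG n a 0 n (Nat.zero_le n)
  have : G.map (homOfLE (Nat.le_add_left n n)).op (pre hG n a n) =
      G.map (homOfLE (le_refl n)).op (G.map (homOfLE (Nat.add_le_add_left (Nat.zero_le n) n)).op (pre hG n a n)) := by
    rw [map_map]
  rw [this, h0]
  exact map_self _ _

end Types

variable {C : Type u} [Category.{v} C] (J : GrothendieckTopology C)

theorem epi_π
    (hwc : ∀ V : C, ∃ S : Sieve V, S ∈ J V ∧ ∀ ⦃W : C⦄ (f : W ⟶ V), S.arrows f →
      ∃ (U : C) (g : W ⟶ U) (h : U ⟶ V), (∀ (A B : Sheaf J (Type w)) (ψ : A ⟶ B), Epi ψ →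
        Function.Surjective (ψ.hom.app (op U))) ∧ g ≫ h = f)
    (F : ℕᵒᵖ ⥤ Sheaf J (Type w))
    (hF : ∀ n : ℕ, Epi (F.map (homOfLE (Nat.le_succ n)).op))
    (c : Cone F) (hc : IsLimit c) (n : ℕ) :
    Epi (c.π.app (op n)) := by
  have hsurj : ∀ (U : C), (∀ (A B : Sheaf J (Type w)) (ψ : A ⟶ B), Epi ψ →
        Function.Surjective (ψ.hom.app (op U))) →
      Function.Surjective ((c.π.app (op n)).hom.app (op U)) := by
    intro U hU
    let E := sheafToPresheaf J (Type w) ⋙ (evaluation Cᵒᵖ (Type w)).obj (op U)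
    have hc' : IsLimit (E.mapCone c) := isLimitOfPreserves E hc
    exact surjective_π_app_of_surjective_map (G := F ⋙ E)
      (fun m => hU _ _ _ (hF m)) (c := E.mapCone c) hc' n
  have : Sheaf.IsLocallySurjective (c.π.app (op n)) := by
    constructor
    intro V s
    obtain ⟨S, hS, hS'⟩ := hwc V
    refine J.superset_covering ?_ hS
    intro W f hf
    obtain ⟨U, g, h, hU, rfl⟩ := hS' f hf
    obtain ⟨t, ht⟩ := hsurj U hU ((F.obj (op n)).obj.map h.op s)
    refine ⟨c.pt.obj.map g.op t, ?_⟩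
    have := ConcreteCategory.congr_hom ((c.π.app (op n)).hom.naturality g.op) t
    refine this.trans ?_
    change (F.obj (op n)).obj.map g.op ((c.π.app (op n)).hom.app (op U) t) = _
    rw [ht, op_comp, Functor.map_comp_apply]
  infer_instance

end Groth.Agent.Lib.helper10.Replete
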