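import Mathlib
import Groth.Prelude.Def_ModSite
import Groth.Agent.Lib.helper10.TensAdj

namespace Groth.Agent.Lib.helper10.RestrTens
open CategoryTheory Limits Opposite MonoidalCategory
open Groth.Agent.Lib.helper10.TensCore Groth.Agent.Lib.helper10.TensAdj

universe u

variable {C : Type u} [SmallCategory C] {J : GrothendieckTopology C} (O : Sheaf J CommRingCat.{u})
  (X : C)

/-- presheaf-level restriction to `C/X` -/
noncomputable def rp : PM O ⥤ PM (O.over X) :=
  PresheafOfModules.pushforward (F := Over.forget X)
    (R := O.obj ⋙ forget₂ CommRingCat.{u} RingCat.{u})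
    (S := (O.over X).obj ⋙ forget₂ CommRingCat.{u} RingCat.{u}) (𝟙 _)

/-- restriction of sheaves is restriction of the underlying presheaves -/
lemma FG_restr (M : ModSite.Mod O) :
    (FG (O.over X)).obj ((ModSite.restr O X).obj M) = (rp O X).obj ((FG O).obj M) := rfl


/-- restriction commutes with the presheaf tensor product -/
noncomputable def tcomp (P Q : PM O) :
    (rp O X).obj (P ⊗ Q) ≅ (rp O X).obj P ⊗ (rp O X).obj Q :=
  PresheafOfModules.isoMk (fun V => Iso.refl _) (by
    intro V W f
    apply ModuleCat.hom_ext
    apply LinearMap.ext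
    intro x
    obtain ⟨x', rfl⟩ : ∃ x' : TensorProduct (O.obj.obj (op V.unop.left)) (P.obj (op V.unop.left))
        (Q.obj (op V.unop.left)), x' = x := ⟨x, rfl⟩
    induction x' using TensorProduct.induction_on with
    | zero => exact (map_zero _).trans (map_zero _).symm
    | tmul p q =>
      have h1 := PresheafOfModules.Monoidal.tensorObj_map_tmul (M₁ := P) (M₂ := Q)
        ((Over.forget X).op.map f) p q
      have h2 := PresheafOfModules.Monoidal.tensorObj_map_tmul (M₁ := (rp O X).obj P)
        (M₂ := (rp O X).obj Q) f p q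
      exact h1.trans h2.symm
    | add a b ha hb =>
      exact (map_add _ a b).trans ((congrArg₂ (· + ·) ha hb).trans (map_add _ a b).symm))


lemma LB_rp {P Q : PM O} (f : P ⟶ Q) (h : LB O f) : LB (O.over X) ((rp O X).map f) := by
  have := h.inj
  have := h.surj
  constructor
  · exact Presheaf.isLocallyInjective_whisker (J.over X) J (Over.forget X)
      ((PresheafOfModules.toPresheaf _).map f)
  · exact Presheaf.isLocallySurjective_whisker (J.over X) J (Over.forget X)
      ((PresheafOfModules.toPresheaf _).map f)

theorem restr_tensor (M N : ModSite.Mod O) :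
    Nonempty ((ModSite.restr O X).obj (((ModSite.tensorBi O).obj M).obj N) ≅
      ((ModSite.tensorBi (O.over X)).obj ((ModSite.restr O X).obj M)).obj
        ((ModSite.restr O X).obj N)) := by
  let P : PM O := (FG O).obj M ⊗ (FG O).obj N
  have h1 : LB (O.over X) ((rp O X).map (uu O P)) := LB_rp O X _ (LB_uu O P)
  have i1 : IsIso ((aa (O.over X)).map ((rp O X).map (uu O P))) := isIso_of_LB (O.over X) _ h1
  let e1 := @asIso _ _ _ _ ((aa (O.over X)).map ((rp O X).map (uu O P))) i1
  let e2 := (asIso (PresheafOfModules.sheafificationAdjunction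
    (𝟙 (ModSite.ringSh (O.over X)).obj)).counit).app ((ModSite.restr O X).obj ((aa O).obj P))
  let e3 := (aa (O.over X)).mapIso (tcomp O X ((FG O).obj M) ((FG O).obj N))
  exact ⟨e2.symm ≪≫ e1.symm ≪≫ e3⟩

end Groth.Agent.Lib.helper10.RestrTens
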