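import Mathlib

set_option autoImplicit false
universe w v u

open CategoryTheory CategoryTheory.Limits Opposite

namespace Groth.Agent.Lib.helper10.RetractVK

section Retract

variable {𝒞 : Type u} [Category.{v} 𝒞]

/-- a commutative square which is a retract of a pullback square is a pullback square -/
lemma retract_isPullback {p a b c p' a' b' c' : 𝒞}
    {u : p ⟶ a} {v : p ⟶ b} {f : a ⟶ c} {g : b ⟶ c}
    {u' : p' ⟶ a'} {v' : p' ⟶ b'} {f' : a' ⟶ c'} {g' : b' ⟶ c'}
    (h' : IsPullback u' v' f' g') (w : u ≫ f = v ≫ g)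
    (ip : p ⟶ p') (ia : a ⟶ a') (ib : b ⟶ b') (ic : c ⟶ c')
    (rp : p' ⟶ p) (ra : a' ⟶ a) (rb : b' ⟶ b)
    (hp : ip ≫ rp = 𝟙 p) (ha : ia ≫ ra = 𝟙 a) (hb : ib ≫ rb = 𝟙 b)
    (hiu : ip ≫ u' = u ≫ ia) (hiv : ip ≫ v' = v ≫ ib)
    (hif : ia ≫ f' = f ≫ ic) (hig : ib ≫ g' = g ≫ ic)
    (hru : rp ≫ u = u' ≫ ra) (hrv : rp ≫ v = v' ≫ rb) :
    IsPullback u v f g := by
  refine ⟨⟨w⟩, ⟨PullbackCone.IsLimit.mk w
    (fun s => h'.lift (s.fst ≫ ia) (s.snd ≫ ib) ?_ ≫ rp) ?_ ?_ ?_⟩⟩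
  · rw [Category.assoc, Category.assoc, hif, hig, ← Category.assoc, ← Category.assoc, s.condition]
  · intro s
    rw [Category.assoc, hru, ← Category.assoc, h'.lift_fst, Category.assoc, ha, Category.comp_id]
  · intro s
    rw [Category.assoc, hrv, ← Category.assoc, h'.lift_snd, Category.assoc, hb, Category.comp_id]
  · intro s m hm1 hm2
    have : m ≫ ip = h'.lift (s.fst ≫ ia) (s.snd ≫ ib)
        (by rw [Category.assoc, Category.assoc, hif, hig, ← Category.assoc, ← Category.assoc,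
          s.condition]) := by
      apply h'.hom_ext
      · rw [h'.lift_fst, Category.assoc, hiu, ← Category.assoc, hm1]
      · rw [h'.lift_snd, Category.assoc, hiv, ← Category.assoc, hm2]
    rw [← this, Category.assoc, hp, Category.comp_id]

/-- a retract of a sheaf of types is a sheaf -/
lemma isSheaf_of_retract (J : GrothendieckTopology 𝒞) {P Q : 𝒞ᵒᵖ ⥤ Type w}
    (i : P ⟶ Q) (r : Q ⟶ P) (h : i ≫ r = 𝟙 P) (hQ : Presieve.IsSheaf J Q) :
    Presieve.IsSheaf J P := by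
  have hri : ∀ (X : 𝒞ᵒᵖ) (t : P.obj X), r.app X (i.app X t) = t := by
    intro X t
    have := congrArg (fun τ => τ.app X t) h
    exact this
  intro X S hS x hx
  have hx' : (Presieve.FamilyOfElements.map x i).Compatible :=
    Presieve.FamilyOfElements.Compatible.map i hx
  obtain ⟨t, ht, htu⟩ := hQ S hS _ hx'
  refine ⟨r.app _ t, ?_, ?_⟩
  · intro Y f hf
    have h1 : Q.map f.op t = i.app _ (x f hf) := ht f hf
    have h2 := NatTrans.naturality_apply r f.op t
    exact h2.symm.trans ((congrArg (fun z => r.app _ z) h1).trans (hri _ _))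
  · intro t' ht'
    have h3 : i.app _ t' = t := by
      apply htu
      intro Y f hf
      have h4 : P.map f.op t' = x f hf := ht' f hf
      have h5 := NatTrans.naturality_apply i f.op t'
      exact h5.symm.trans (congrArg (fun z => i.app _ z) h4)
    rw [← h3, hri]

/-- a pointwise pullback of sheaves of types is a sheaf -/
lemma isSheaf_of_pullback (J : GrothendieckTopology 𝒞) {P Q₁ Q₂ Q₃ : 𝒞ᵒᵖ ⥤ Type w}
    (j : P ⟶ Q₁) (q : P ⟶ Q₂) (f : Q₁ ⟶ Q₃) (g : Q₂ ⟶ Q₃) (w : j ≫ f = q ≫ g)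
    (hinj : ∀ (X : 𝒞ᵒᵖ) (x x' : P.obj X), j.app X x = j.app X x' → q.app X x = q.app X x' → x = x')
    (hex : ∀ (X : 𝒞ᵒᵖ) (y₁ : Q₁.obj X) (y₂ : Q₂.obj X), f.app X y₁ = g.app X y₂ →
      ∃ x, j.app X x = y₁ ∧ q.app X x = y₂)
    (h₁ : Presieve.IsSheaf J Q₁) (h₂ : Presieve.IsSheaf J Q₂) (h₃ : Presieve.IsSeparated J Q₃) :
    Presieve.IsSheaf J P := by
  intro X S hS x hx
  obtain ⟨y₁, hy₁, hu₁⟩ := h₁ S hS _ (Presieve.FamilyOfElements.Compatible.map j hx)
  obtain ⟨y₂, hy₂, hu₂⟩ := h₂ S hS _ (Presieve.FamilyOfElements.Compatible.map q hx)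
  have hfg : f.app _ y₁ = g.app _ y₂ := by
    apply h₃ S hS ((Presieve.FamilyOfElements.map x j).map f)
    · exact Presieve.FamilyOfElements.IsAmalgamation.map f hy₁
    · have : (Presieve.FamilyOfElements.map x j).map f = (Presieve.FamilyOfElements.map x q).map g := by
        rw [Presieve.FamilyOfElements.map_comp, Presieve.FamilyOfElements.map_comp, w]
      rw [this]
      exact Presieve.FamilyOfElements.IsAmalgamation.map g hy₂
  obtain ⟨t, ht₁, ht₂⟩ := hex _ y₁ y₂ hfg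
  refine ⟨t, ?_, ?_⟩
  · intro Y f' hf'
    apply hinj
    · have h5 := NatTrans.naturality_apply j f'.op t
      refine h5.trans ?_
      rw [ht₁]
      exact hy₁ f' hf'
    · have h5 := NatTrans.naturality_apply q f'.op t
      refine h5.trans ?_
      rw [ht₂]
      exact hy₂ f' hf'
  · intro t' ht'
    apply hinj
    · rw [ht₁]
      exact hu₁ _ (Presieve.FamilyOfElements.IsAmalgamation.map j ht')
    · rw [ht₂]
      exact hu₂ _ (Presieve.FamilyOfElements.IsAmalgamation.map q ht')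

/-- a functor sending pullback squares to pullback squares preserves pullbacks -/
lemma preservesPullbacks_of_map_isPullback {ℬ : Type*} [Category ℬ] (H : 𝒞 ⥤ ℬ) [HasPullbacks 𝒞]
    (h : ∀ {p a b c : 𝒞} {u : p ⟶ a} {v : p ⟶ b} {f : a ⟶ c} {g : b ⟶ c},
      IsPullback u v f g → IsPullback (H.map u) (H.map v) (H.map f) (H.map g)) :
    PreservesLimitsOfShape WalkingCospan H := by
  refine ⟨fun {K'} => ?_⟩
  have : PreservesLimit (cospan (K'.map WalkingCospan.Hom.inl) (K'.map WalkingCospan.Hom.inr)) H := by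
    have hp := IsPullback.of_hasPullback (K'.map WalkingCospan.Hom.inl)
      (K'.map WalkingCospan.Hom.inr)
    apply preservesLimit_of_preserves_limit_cone hp.isLimit
    exact (isLimitMapConePullbackConeEquiv H hp.w).symm (h hp).isLimit
  exact preservesLimit_of_iso_diagram H (diagramIsoCospan K').symm

end Retract

section VK

variable {𝒯 : Type u} [Category.{v} 𝒯] [FinitaryExtensive 𝒯]

/-- a morphism of binary coproduct decompositions gives pullback squares at the injections -/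
lemma inj_squares {x y ex ey : 𝒯} (cx : BinaryCofan x ex) (cy : BinaryCofan y ey)
    (hcx : IsColimit cx) (hcy : IsColimit cy) (φ : x ⟶ y) (ψ : ex ⟶ ey) (m : cx.pt ⟶ cy.pt)
    (h1 : φ ≫ cy.inl = cx.inl ≫ m) (h2 : ψ ≫ cy.inr = cx.inr ≫ m) :
    IsPullback cx.inl φ m cy.inl ∧ IsPullback cx.inr ψ m cy.inr :=
  ((BinaryCofan.isVanKampen_iff cy).1 (FinitaryExtensive.van_kampen' cy hcy) cx φ ψ m h1 h2).1 ⟨hcx⟩

lemma inl_square (e : 𝒯) {x y : 𝒯} (φ : x ⟶ y) :
    IsPullback (coprod.inl : x ⟶ x ⨿ e) φ (coprod.map φ (𝟙 e)) coprod.inl :=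
  (inj_squares (BinaryCofan.mk coprod.inl coprod.inr) (BinaryCofan.mk coprod.inl coprod.inr)
    (coprodIsCoprod x e) (coprodIsCoprod y e) φ (𝟙 e) (coprod.map φ (𝟙 e))
    (coprod.inl_map _ _).symm (coprod.inr_map _ _).symm).1

lemma inr_square (e : 𝒯) {x y : 𝒯} (φ : x ⟶ y) :
    IsPullback (coprod.inr : e ⟶ x ⨿ e) (𝟙 e) (coprod.map φ (𝟙 e)) coprod.inr :=
  (inj_squares (BinaryCofan.mk coprod.inl coprod.inr) (BinaryCofan.mk coprod.inl coprod.inr)
    (coprodIsCoprod x e) (coprodIsCoprod y e) φ (𝟙 e) (coprod.map φ (𝟙 e))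
    (coprod.inl_map _ _).symm (coprod.inr_map _ _).symm).2

variable [HasPullbacks 𝒯]

/-- adding a disjoint summand preserves pullback squares -/
lemma isPullback_coprod_map (e : 𝒯) {p a b c : 𝒯} {u : p ⟶ a} {v : p ⟶ b} {f : a ⟶ c}
    {g : b ⟶ c} (h : IsPullback u v f g) :
    IsPullback (coprod.map u (𝟙 e)) (coprod.map v (𝟙 e)) (coprod.map f (𝟙 e))
      (coprod.map g (𝟙 e)) := by
  have comm : coprod.map u (𝟙 e) ≫ coprod.map f (𝟙 e) =
      coprod.map v (𝟙 e) ≫ coprod.map g (𝟙 e) := by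
    rw [coprod.map_map, coprod.map_map, h.w]
  let t : p ⨿ e ⟶ pullback (coprod.map f (𝟙 e)) (coprod.map g (𝟙 e)) :=
    pullback.lift (coprod.map u (𝟙 e)) (coprod.map v (𝟙 e)) comm
  have ht1 : t ≫ pullback.fst _ _ = coprod.map u (𝟙 e) := pullback.lift_fst _ _ _
  have ht2 : t ≫ pullback.snd _ _ = coprod.map v (𝟙 e) := pullback.lift_snd _ _ _
  have hP := (IsPullback.of_hasPullback (coprod.map f (𝟙 e)) (coprod.map g (𝟙 e))).flip
  -- the two squares
  have sq1 : IsPullback (coprod.inl ≫ t) u (pullback.fst _ _) (coprod.inl : a ⟶ a ⨿ e) := by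
    refine IsPullback.of_right (h₁₂ := pullback.snd _ _) (h₂₂ := coprod.map f (𝟙 e))
      (v₁₃ := coprod.map g (𝟙 e)) ?_ ?_ hP
    · have := h.flip.paste_horiz (inl_square e g)
      have e1 : (coprod.inl ≫ t) ≫ pullback.snd (coprod.map f (𝟙 e)) (coprod.map g (𝟙 e)) =
          v ≫ coprod.inl := by
        rw [Category.assoc, ht2, coprod.inl_map]
      have e2 : (coprod.inl : a ⟶ a ⨿ e) ≫ coprod.map f (𝟙 e) = f ≫ coprod.inl := coprod.inl_map _ _
      rw [e1, e2]
      exact this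
    · rw [Category.assoc, ht1, coprod.inl_map]
  have sq2 : IsPullback (coprod.inr ≫ t) (𝟙 e) (pullback.fst _ _) (coprod.inr : e ⟶ a ⨿ e) := by
    refine IsPullback.of_right (h₁₂ := pullback.snd _ _) (h₂₂ := coprod.map f (𝟙 e))
      (v₁₃ := coprod.map g (𝟙 e)) ?_ ?_ hP
    · have := inr_square e g
      have e1 : (coprod.inr ≫ t) ≫ pullback.snd (coprod.map f (𝟙 e)) (coprod.map g (𝟙 e)) =
          coprod.inr := by
        rw [Category.assoc, ht2, coprod.inr_map, Category.id_comp]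
      have e2 : (coprod.inr : e ⟶ a ⨿ e) ≫ coprod.map f (𝟙 e) = coprod.inr := by
        rw [coprod.inr_map, Category.id_comp]
      rw [e1, e2]
      exact this
    · rw [Category.assoc, ht1, coprod.inr_map]
  -- the cofan on the pullback is a colimit
  have hc' : Nonempty (IsColimit (BinaryCofan.mk (coprod.inl ≫ t) (coprod.inr ≫ t))) :=
    ((BinaryCofan.isVanKampen_iff (BinaryCofan.mk (coprod.inl : a ⟶ a ⨿ e) coprod.inr)).1
      (FinitaryExtensive.van_kampen' _ (coprodIsCoprod a e))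
      (BinaryCofan.mk (coprod.inl ≫ t) (coprod.inr ≫ t)) u (𝟙 e) (pullback.fst _ _)
      sq1.w.symm sq2.w.symm).2 ⟨sq1, sq2⟩
  obtain ⟨hc'⟩ := hc'
  have hiso : IsIso t := by
    let e' := (coprodIsCoprod p e).coconePointUniqueUpToIso hc'
    have : e'.hom = t := by
      apply coprod.hom_ext
      · exact (coprodIsCoprod p e).comp_coconePointUniqueUpToIso_hom hc' ⟨WalkingPair.left⟩
      · exact (coprodIsCoprod p e).comp_coconePointUniqueUpToIso_hom hc' ⟨WalkingPair.right⟩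
    exact this ▸ Iso.isIso_hom e'
  exact IsPullback.of_iso_pullback ⟨comm⟩ (asIso t) ht1 ht2

end VK

end Groth.Agent.Lib.helper10.RetractVK
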