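import Mathlib.Tactic
import Groth.Agent.Lib.helper10.FiberFun
import Groth.Agent.Lib.helper10.EquivOfEq
import Groth.Agent.S6407

/-!
# A category fibred in setoids is equivalent over `C` to a category fibred in sets (helper10)
-/

set_option autoImplicit false
open CategoryTheory
universe v u
open FibCat

namespace Groth.Agent.Lib.helper10.SetoidQuot

open Groth.Agent.Lib.helper10.FiberFun

variable {C : Type u} [Category.{v} C] (𝒳 : BasedCategory.{v, max u v} C)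

/-- isomorphic over an identity -/
def rel (x y : 𝒳.obj) : Prop := ∃ e : x ≅ y, 𝒳.p.IsHomLift (𝟙 (𝒳.p.obj x)) e.hom

lemma rel_proj {x y : 𝒳.obj} (h : rel 𝒳 x y) : 𝒳.p.obj x = 𝒳.p.obj y := by
  obtain ⟨e, he⟩ := h
  exact (IsHomLift.codomain_eq 𝒳.p (𝟙 (𝒳.p.obj x)) e.hom).symm

lemma rel_refl (x : 𝒳.obj) : rel 𝒳 x x := ⟨Iso.refl x, by simp⟩

lemma rel_symm {x y : 𝒳.obj} (h : rel 𝒳 x y) : rel 𝒳 y x := by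
  have hp := rel_proj 𝒳 h
  obtain ⟨e, he⟩ := h
  refine ⟨e.symm, ?_⟩
  rw [← hp]
  exact IsHomLift.lift_id_inv 𝒳.p (𝒳.p.obj x) e

lemma rel_trans {x y z : 𝒳.obj} (h : rel 𝒳 x y) (h' : rel 𝒳 y z) : rel 𝒳 x z := by
  have hp := rel_proj 𝒳 h
  obtain ⟨e, he⟩ := h
  obtain ⟨e', he'⟩ := h'
  refine ⟨e ≪≫ e', ?_⟩
  rw [← hp] at he'
  change 𝒳.p.IsHomLift (𝟙 (𝒳.p.obj x)) (e.hom ≫ e'.hom)
  infer_instance

/-- the setoid -/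
def stoid : Setoid 𝒳.obj := ⟨rel 𝒳, ⟨rel_refl 𝒳, rel_symm 𝒳, rel_trans 𝒳⟩⟩

/-- objects of the quotient category -/
def Q : Type (max u v) := Quotient (stoid 𝒳)

/-- the class of an object -/
def cls (x : 𝒳.obj) : Q 𝒳 := Quotient.mk (stoid 𝒳) x

lemma cls_eq_iff {x y : 𝒳.obj} : cls 𝒳 x = cls 𝒳 y ↔ rel 𝒳 x y := Quotient.eq (r := stoid 𝒳)

lemma cls_surj (q : Q 𝒳) : ∃ x, cls 𝒳 x = q := Quotient.exists_rep q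

/-- the projection on objects -/
def pQ : Q 𝒳 → C := Quotient.lift (s := stoid 𝒳) 𝒳.p.obj (fun _ _ h => rel_proj 𝒳 h)

@[simp] lemma pQ_cls (x : 𝒳.obj) : pQ 𝒳 (cls 𝒳 x) = 𝒳.p.obj x := rfl

/-- the admissible morphisms of `C` -/
def IsAdm {q q' : Q 𝒳} (f : pQ 𝒳 q ⟶ pQ 𝒳 q') : Prop :=
  ∃ (x y : 𝒳.obj) (φ : x ⟶ y), cls 𝒳 x = q ∧ cls 𝒳 y = q' ∧ 𝒳.p.IsHomLift f φ

lemma isAdm_id (q : Q 𝒳) : IsAdm 𝒳 (𝟙 (pQ 𝒳 q)) := by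
  obtain ⟨x, rfl⟩ := cls_surj 𝒳 q
  exact ⟨x, x, 𝟙 x, rfl, rfl, by simp⟩

lemma isAdm_comp {q q' q'' : Q 𝒳} {f : pQ 𝒳 q ⟶ pQ 𝒳 q'} {g : pQ 𝒳 q' ⟶ pQ 𝒳 q''}
    (hf : IsAdm 𝒳 f) (hg : IsAdm 𝒳 g) : IsAdm 𝒳 (f ≫ g) := by
  obtain ⟨x, y, φ, hx, hy, hφ⟩ := hf
  obtain ⟨y', z, ψ, hy', hz, hψ⟩ := hg
  have hr : rel 𝒳 y y' := (cls_eq_iff 𝒳).1 (hy.trans hy'.symm)
  obtain ⟨e, he⟩ := hr
  have h1 : 𝒳.p.IsHomLift g (e.hom ≫ ψ) :=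
    IsHomLift.comp_lift_id_left' 𝒳.p (𝒳.p.obj y) e.hom g ψ
  exact ⟨x, z, φ ≫ e.hom ≫ ψ, hx, hz, inferInstance⟩

instance : Category.{v} (Q 𝒳) where
  Hom q q' := { f : pQ 𝒳 q ⟶ pQ 𝒳 q' // IsAdm 𝒳 f }
  id q := ⟨𝟙 _, isAdm_id 𝒳 q⟩
  comp f g := ⟨f.1 ≫ g.1, isAdm_comp 𝒳 f.2 g.2⟩
  id_comp f := Subtype.ext (Category.id_comp _)
  comp_id f := Subtype.ext (Category.comp_id _)
  assoc f g h := Subtype.ext (Category.assoc _ _ _)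

@[ext] lemma hom_ext {q q' : Q 𝒳} {f g : q ⟶ q'} (h : f.1 = g.1) : f = g := Subtype.ext h

@[simp] lemma id_val (q : Q 𝒳) : (𝟙 q : q ⟶ q).1 = 𝟙 (pQ 𝒳 q) := rfl
@[simp] lemma comp_val {q q' q'' : Q 𝒳} (f : q ⟶ q') (g : q' ⟶ q'') : (f ≫ g).1 = f.1 ≫ g.1 := rfl

/-- the structure functor -/
def P : Q 𝒳 ⥤ C where
  obj := pQ 𝒳
  map f := f.1

/-- the quotient as a category over `C` -/
def 𝒬 : BasedCategory.{v, max u v} C := BasedCategory.ofFunctor (P 𝒳)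

/-- the quotient functor -/
def toQ : 𝒳 ⥤ᵇ 𝒬 𝒳 where
  toFunctor :=
    { obj := fun x => cls 𝒳 x
      map := fun {x y} φ => ⟨𝒳.p.map φ, ⟨x, y, φ, rfl, rfl, IsHomLift.map 𝒳.p φ⟩⟩
      map_id := fun x => Subtype.ext (𝒳.p.map_id x)
      map_comp := fun φ ψ => Subtype.ext (𝒳.p.map_comp φ ψ) }
  w := rfl

variable {𝒳}

lemma lift_iff {R S : C} (f : R ⟶ S) {q q' : Q 𝒳} (m : q ⟶ q') :
    (P 𝒳).IsHomLift f m ↔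
      ∃ (h1 : pQ 𝒳 q = R) (h2 : pQ 𝒳 q' = S), m.1 = eqToHom h1 ≫ f ≫ eqToHom h2.symm := by
  constructor
  · intro h
    exact ⟨IsHomLift.domain_eq (P 𝒳) f m, IsHomLift.codomain_eq (P 𝒳) f m,
      IsHomLift.fac' (P 𝒳) f m⟩
  · rintro ⟨h1, h2, h3⟩
    exact IsHomLift.of_fac' (P 𝒳) f m h1 h2 h3

section

variable (h𝒳 : FibCat.IsFibSetoid 𝒳.p)
include h𝒳

lemma toQ_faithful : (toQ 𝒳).toFunctor.Faithful := by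
  constructor
  intro x y φ ψ h
  have h1 : 𝒳.p.map φ = 𝒳.p.map ψ := congrArg Subtype.val h
  have h2 : 𝒳.p.IsHomLift (𝒳.p.map φ) ψ := by rw [h1]; infer_instance
  exact Groth.Agent.S6407.eq_of_lift h𝒳 (𝒳.p.map φ) φ ψ

omit h𝒳 in
lemma toQ_full : (toQ 𝒳).toFunctor.Full := by
  constructor
  intro x y m
  obtain ⟨m₁, hm₁⟩ : ∃ m₁ : 𝒳.p.obj x ⟶ 𝒳.p.obj y, m₁ = m.1 := ⟨_, rfl⟩
  obtain ⟨x', y', φ', hx, hy, hφ''⟩ := m.2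
  have hφ' : 𝒳.p.IsHomLift m₁ φ' := by rw [hm₁]; exact hφ''
  obtain ⟨ex, hex⟩ := (cls_eq_iff 𝒳).1 hx.symm
  obtain ⟨ey, hey⟩ := (cls_eq_iff 𝒳).1 hy
  have h1 : 𝒳.p.IsHomLift m₁ (φ' ≫ ey.hom) :=
    IsHomLift.comp_lift_id_right' 𝒳.p m₁ φ' (𝒳.p.obj y') ey.hom
  have h2 : 𝒳.p.IsHomLift m₁ (ex.hom ≫ φ' ≫ ey.hom) :=
    IsHomLift.comp_lift_id_left' 𝒳.p (𝒳.p.obj x) ex.hom m₁ (φ' ≫ ey.hom)
  refine ⟨ex.hom ≫ φ' ≫ ey.hom, ?_⟩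
  apply Subtype.ext
  change 𝒳.p.map (ex.hom ≫ φ' ≫ ey.hom) = m.1
  rw [← hm₁]
  exact (IsHomLift.eq_of_isHomLift 𝒳.p m₁ (ex.hom ≫ φ' ≫ ey.hom)).symm

omit h𝒳 in
lemma toQ_essSurj : (toQ 𝒳).toFunctor.EssSurj := by
  constructor
  intro q
  obtain ⟨x, rfl⟩ := cls_surj 𝒳 q
  exact ⟨x, ⟨Iso.refl _⟩⟩

theorem toQ_isEquivOver : FibCat.IsEquivOver (toQ 𝒳) := by
  have := isFibered_of_isFibGrpd h𝒳.1
  have : (toQ 𝒳).toFunctor.IsEquivalence :=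
    { faithful := toQ_faithful h𝒳, full := toQ_full, essSurj := toQ_essSurj }
  exact EquivOfEq.isEquivOver_of_isEquivalence (toQ 𝒳)

theorem isFibGrpd_Q : FibCat.IsFibGrpd (𝒬 𝒳).p := by
  refine ⟨?_, ?_⟩
  · intro q V f
    obtain ⟨x, rfl⟩ := cls_surj 𝒳 q
    change V ⟶ 𝒳.p.obj x at f
    obtain ⟨x', φ, hφ⟩ := h𝒳.1.exists_lift f
    have hx' : 𝒳.p.obj x' = V := IsHomLift.domain_eq 𝒳.p f φ
    refine ⟨cls 𝒳 x', (toQ 𝒳).map φ, ?_⟩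
    exact (lift_iff f _).2 ⟨hx', rfl, IsHomLift.fac' 𝒳.p f φ⟩
  · intro q q' m
    refine { toIsHomLift := IsHomLift.map (P 𝒳) m, universal_property' := ?_ }
    intro q'' g τ hτ
    have e0 : g ≫ m.1 = τ.1 := @IsHomLift.eq_of_isHomLift _ _ _ _ (P 𝒳) q'' q' _ τ hτ
    obtain ⟨g', hg'⟩ : ∃ g' : pQ 𝒳 q'' ⟶ pQ 𝒳 q, g' = g := ⟨g, rfl⟩
    have e : g' ≫ m.1 = τ.1 := by rw [hg']; exact e0
    clear e0
    subst hg'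
    have hadm : IsAdm 𝒳 g' := by
      obtain ⟨x, y, φ, hx, hy, hφ⟩ := m.2
      obtain ⟨z, y', ψ, hz, hy', hψ⟩ := τ.2
      obtain ⟨ey, hey⟩ := (cls_eq_iff 𝒳).1 (hy'.trans hy.symm)
      have h1 : 𝒳.p.IsHomLift τ.1 (ψ ≫ ey.hom) :=
        IsHomLift.comp_lift_id_right' 𝒳.p τ.1 ψ (𝒳.p.obj y') ey.hom
      have hφsc : 𝒳.p.IsStronglyCartesian m.1 φ := sc_of_isFibGrpd h𝒳.1 _ _
      let χ : z ⟶ x := Functor.IsStronglyCartesian.map 𝒳.p m.1 φ e.symm (ψ ≫ ey.hom)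
      have hχ : 𝒳.p.IsHomLift g' χ :=
        Functor.IsStronglyCartesian.map_isHomLift 𝒳.p m.1 φ e.symm (ψ ≫ ey.hom)
      exact ⟨z, x, χ, hz, hx, hχ⟩
    let X : q'' ⟶ q := ⟨g', hadm⟩
    refine ⟨X, ⟨IsHomLift.map (P 𝒳) X, ?_⟩, ?_⟩
    · exact Subtype.ext e
    · rintro X' ⟨h1, -⟩
      apply Subtype.ext
      exact (@IsHomLift.eq_of_isHomLift _ _ _ _ (P 𝒳) q'' q g' X' h1).symm

theorem isDiscrete_fiber (U : C) : IsDiscrete ((𝒬 𝒳).p.Fiber U) := by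
  refine { subsingleton := ?_, eq_of_hom := ?_ }
  · intro a b
    constructor
    intro m m'
    apply Functor.Fiber.hom_ext
    apply Subtype.ext
    have h1 : (P 𝒳).IsHomLift (𝟙 U) m.1 := m.2
    have h2 : (P 𝒳).IsHomLift (𝟙 U) m'.1 := m'.2
    obtain ⟨a1, a2, a3⟩ := (lift_iff (𝟙 U) m.1).1 h1
    obtain ⟨b1, b2, b3⟩ := (lift_iff (𝟙 U) m'.1).1 h2
    exact a3.trans b3.symm
  · intro a b m
    apply Subtype.ext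
    have h1 : (P 𝒳).IsHomLift (𝟙 U) m.1 := m.2
    obtain ⟨a1, a2, a3⟩ := (lift_iff (𝟙 U) m.1).1 h1
    obtain ⟨x, y, φ, hx, hy, hφ⟩ := m.1.2
    rw [← hx, ← hy]
    apply (cls_eq_iff 𝒳).2
    have hxU : 𝒳.p.obj x = U := (IsHomLift.domain_eq 𝒳.p m.1.1 φ).trans a1
    have hφU : 𝒳.p.IsHomLift (𝟙 U) φ := by
      rw [a3] at hφ
      rw [IsHomLift.lift_eqToHom_comp_iff, IsHomLift.lift_comp_eqToHom_iff] at hφ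
      exact hφ
    have hsc : 𝒳.p.IsStronglyCartesian (𝟙 U) φ := sc_of_isFibGrpd h𝒳.1 _ _
    have hiso : IsIso φ := Functor.IsStronglyCartesian.isIso_of_base_isIso 𝒳.p (𝟙 U) φ
    refine ⟨asIso φ, ?_⟩
    rw [hxU]
    exact hφU

theorem isFibSet_Q : FibCat.IsFibSet (𝒬 𝒳).p := ⟨isFibGrpd_Q h𝒳, isDiscrete_fiber h𝒳⟩

end

end Groth.Agent.Lib.helper10.SetoidQuot
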