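import Mathlib

set_option autoImplicit false
universe u
open CategoryTheory CategoryTheory.Limits Opposite

namespace Groth.Agent.Lib.helper10.Sky

lemma epi_pi_map_const {α : Type u} {A B : AddCommGrpCat.{u}} (g : A ⟶ B) [Epi g] :
    Epi (Limits.Pi.map (fun _ : α => g)) := by
  have h1 : Epi (Discrete.natTrans (F := Discrete.functor (fun _ : α => A))
      (G := Discrete.functor (fun _ : α => B)) (fun _ => g)) := by
    apply +allowSynthFailures NatTrans.epi_of_epi_app
    intro X
    exact (inferInstance : Epi g)
  have : PreservesFiniteColimits (lim : (Discrete α ⥤ AddCommGrpCat.{u}) ⥤ _) :=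
    HasExactLimitsOfShape.preservesFiniteColimits
  exact (inferInstance : Epi ((lim : (Discrete α ⥤ AddCommGrpCat.{u}) ⥤ _).map
    (Discrete.natTrans (F := Discrete.functor (fun _ : α => A))
      (G := Discrete.functor (fun _ : α => B)) (fun _ => g))))

theorem sky {C : Type u} [SmallCategory C] {J : GrothendieckTopology C}
    (p : GrothendieckTopology.Point.{u} J) :
    PreservesFiniteColimits (p.skyscraperSheafFunctor (A := AddCommGrpCat.{u})) := by
  let G := p.skyscraperSheafFunctor (A := AddCommGrpCat.{u})
  have hlim : PreservesFiniteLimits G := by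
    have : PreservesLimitsOfSize.{0, 0} G := p.skyscraperSheafAdjunction.rightAdjoint_preservesLimits
    infer_instance
  have hadd : G.Additive := Functor.additive_of_preserves_binary_products _
  have hepi : ∀ {A B : AddCommGrpCat.{u}} (g : A ⟶ B), Epi g → Epi (G.map g) := by
    intro A B g hg
    have h1 : Epi ((sheafToPresheaf J AddCommGrpCat.{u}).map (G.map g)) := by
      apply +allowSynthFailures NatTrans.epi_of_epi_app
      intro U
      exact epi_pi_map_const g
    exact (sheafToPresheaf J AddCommGrpCat.{u}).epi_of_epi_map h1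
  have key0 : ∀ (S : ShortComplex AddCommGrpCat.{u}), S.ShortExact →
      (S.map G).Exact ∧ Mono (G.map S.f) := ((Functor.preservesFiniteLimits_tfae G).out 3 0).1 hlim
  have key : ∀ (S : ShortComplex AddCommGrpCat.{u}), S.ShortExact →
      (S.map G).Exact ∧ Epi (G.map S.g) := fun S hS =>
    ⟨(key0 S hS).1, hepi _ hS.epi_g⟩
  exact ((Functor.preservesFiniteColimits_tfae G).out 0 3).1 key

end Groth.Agent.Lib.helper10.Sky
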