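import Mathlib
set_option autoImplicit false
universe v u
open CategoryTheory CategoryTheory.Limits

namespace Groth.Agent.Lib.helper10.SplitAcyc

variable {C : Type u} [Category.{v} C] [Abelian C]

section
variable (I : ℕ → C)

/-- The split acyclic complex with terms `I i ⊞ I (i+1)`. -/
noncomputable def Q : CochainComplex C ℕ :=
  CochainComplex.of (fun i => I i ⊞ I (i + 1)) (fun i => biprod.snd ≫ biprod.inl) (by
    intro n
    simp)

@[simp] lemma Q_X (i : ℕ) : (Q I).X i = (I i ⊞ I (i + 1)) := rfl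

lemma Q_d (i : ℕ) : (Q I).d i (i + 1) = biprod.snd ≫ biprod.inl := by
  simp [Q]


omit [Abelian C] in
lemma aux1 [Preadditive C] [HasBinaryBiproducts C] {T X Y W : C} (z : T ⟶ X ⊞ Y)
    (h : z ≫ biprod.snd ≫ (biprod.inl : Y ⟶ Y ⊞ W) = 0) :
    z ≫ biprod.snd = 0 := by
  have := congrArg (· ≫ (biprod.fst : Y ⊞ W ⟶ Y)) h
  simpa using this

omit [Abelian C] in
lemma aux2 [Preadditive C] [HasBinaryBiproducts C] {T X Y : C} (z : T ⟶ X ⊞ Y)
    (h : z ≫ biprod.snd = 0) :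
    z ≫ biprod.fst ≫ biprod.inl = z := by
  apply biprod.hom_ext
  · simp
  · simp [h]

lemma Q_exactAt (i : ℕ) : (Q I).ExactAt (i + 1) := by
  rw [HomologicalComplex.exactAt_iff' (Q I) i (i + 1) (i + 2) (by simp) (by simp)]
  rw [ShortComplex.exact_iff_exact_up_to_refinements]
  intro T x₂ hx₂
  let z : T ⟶ I (i + 1) ⊞ I (i + 1 + 1) := x₂
  have hz : z ≫ biprod.snd ≫ (biprod.inl : I (i + 1 + 1) ⟶ I (i + 1 + 1) ⊞ I (i + 1 + 1 + 1)) = 0 := by
    have h3 : x₂ ≫ (Q I).d (i + 1) (i + 1 + 1) = 0 := hx₂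
    rw [Q_d] at h3
    exact h3
  have h1 := aux1 z hz
  have h2 := aux2 z h1
  refine ⟨T, 𝟙 T, inferInstance,
    (z ≫ biprod.fst ≫ (biprod.inr : I (i + 1) ⟶ I i ⊞ I (i + 1)) : T ⟶ (Q I).X i), ?_⟩
  rw [Category.id_comp]
  change z = (z ≫ biprod.fst ≫ (biprod.inr : I (i + 1) ⟶ I i ⊞ I (i + 1))) ≫ (Q I).d i (i + 1)
  rw [Q_d]
  rw [← h2]
  simp

lemma Q_isZero_homology (i : ℕ) : IsZero ((Q I).homology (i + 1)) :=
  (HomologicalComplex.exactAt_iff_isZero_homology _ _).1 (Q_exactAt I i)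

lemma Q_isSplitMono (i : ℕ) : IsSplitMono ((Q I).iCycles i) := by
  let k : (Q I).X i ⟶ (Q I).X i :=
    (biprod.fst ≫ biprod.inl : I i ⊞ I (i + 1) ⟶ I i ⊞ I (i + 1))
  have hk : k ≫ (Q I).d i (i + 1) = 0 := by
    rw [Q_d]
    change (biprod.fst ≫ biprod.inl : I i ⊞ I (i + 1) ⟶ I i ⊞ I (i + 1)) ≫
      (biprod.snd ≫ biprod.inl : I i ⊞ I (i + 1) ⟶ I (i + 1) ⊞ I (i + 1 + 1)) = 0
    simp
  refine ⟨⟨⟨(Q I).liftCycles k (i + 1) (by simp) hk, ?_⟩⟩⟩
  rw [← cancel_mono ((Q I).iCycles i), Category.assoc, HomologicalComplex.liftCycles_i, Category.id_comp]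
  let z : (Q I).cycles i ⟶ I i ⊞ I (i + 1) := (Q I).iCycles i
  have h0 : (Q I).iCycles i ≫ (Q I).d i (i + 1) = 0 := (Q I).iCycles_d i (i + 1)
  rw [Q_d] at h0
  have hz : z ≫ biprod.snd ≫ (biprod.inl : I (i + 1) ⟶ I (i + 1) ⊞ I (i + 1 + 1)) = 0 := h0
  exact aux2 z (aux1 z hz)

end

theorem exists_embedding [EnoughInjectives C] (A : CochainComplex C ℕ) :
    ∃ (Q : CochainComplex C ℕ) (f : A ⟶ Q), Mono f ∧ (∀ i : ℕ, Injective (Q.X i)) ∧
      (∀ i : ℕ, IsZero (Q.homology (i + 1))) ∧ ∀ i : ℕ, IsSplitMono (Q.iCycles i) := by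
  let I : ℕ → C := fun i => Injective.under (A.X i)
  let ι : ∀ i, A.X i ⟶ I i := fun i => Injective.ι (A.X i)
  let f : A ⟶ Q I :=
    { f := fun i => biprod.lift (ι i) (A.d i (i + 1) ≫ ι (i + 1))
      comm' := by
        rintro i j (rfl : i + 1 = j)
        rw [Q_d]
        apply biprod.hom_ext
        · simp
        · simp }
  refine ⟨Q I, f, ?_, ?_, Q_isZero_homology I, Q_isSplitMono I⟩
  · have : ∀ i, Mono (f.f i) := by
      intro i
      have : Mono (f.f i ≫ biprod.fst) := by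
        have : f.f i ≫ biprod.fst = ι i := by simp [f]
        rw [this]; infer_instance
      exact mono_of_mono (f.f i) biprod.fst
    exact HomologicalComplex.mono_of_mono_f f this
  · intro i
    show Injective (I i ⊞ I (i + 1))
    infer_instance

end Groth.Agent.Lib.helper10.SplitAcyc

namespace Groth.Agent.Lib.helper10.SplitAcyc2

variable {C : Type u} [Category.{v} C] [Abelian C]

variable (Q : CochainComplex C ℕ)

/-- The short complex `Z^i ⟶ Q^i ⟶ Z^{i+1}`. -/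
noncomputable def SC (i : ℕ) : ShortComplex C :=
  ShortComplex.mk (Q.iCycles i) (Q.toCycles i (i + 1)) (by
    rw [← cancel_mono (Q.iCycles (i + 1)), Category.assoc, Q.toCycles_i, Q.iCycles_d, zero_comp])

lemma SC_exact (i : ℕ) : (SC Q i).Exact := by
  rw [ShortComplex.exact_iff_exact_up_to_refinements]
  intro T x₂ hx₂
  let x : T ⟶ Q.X i := x₂
  have h : x ≫ Q.d i (i + 1) = 0 := by
    have : x ≫ Q.toCycles i (i + 1) = 0 := hx₂
    rw [← Q.toCycles_i, ← Category.assoc, this, zero_comp]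
  refine ⟨T, 𝟙 T, inferInstance, Q.liftCycles x (i + 1) (by simp) h, ?_⟩
  rw [Category.id_comp]
  exact (Q.liftCycles_i x (i + 1) (by simp) h).symm

lemma SC_epi (i : ℕ) (hac : IsZero (Q.homology (i + 1))) : Epi (SC Q i).g := by
  have := Q.homologyIsCokernel i (i + 1) (by simp)
  exact Preadditive.epi_of_isZero_cokernel' _ this hac

/-- splitting -/
noncomputable def spl (i : ℕ) (hac : IsZero (Q.homology (i + 1))) (r : Q.X i ⟶ Q.cycles i)
    (hr : Q.iCycles i ≫ r = 𝟙 _) : (SC Q i).Splitting :=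
  ShortComplex.Splitting.ofExactOfRetraction (SC Q i) (SC_exact Q i) r hr (SC_epi Q i hac)

theorem injective_of_split (hinj : ∀ i : ℕ, Injective (Q.X i))
    (hac : ∀ i : ℕ, IsZero (Q.homology (i + 1)))
    (hsplit : ∀ i : ℕ, IsSplitMono (Q.iCycles i)) : Injective Q := by
  constructor
  intro A B φ j hj
  -- retractions
  let r : ∀ i, Q.X i ⟶ Q.cycles i := fun i => retraction (Q.iCycles i)
  have hr : ∀ i, Q.iCycles i ≫ r i = 𝟙 _ := fun i => IsSplitMono.id (Q.iCycles i)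
  let σ := fun i => spl Q i (hac i) (r i) (hr i)
  have hjm : ∀ i, Mono (j.f i) := fun i => inferInstance
  -- extensions
  let e : ∀ i, B.X i ⟶ Q.X i := fun i => Injective.factorThru (φ.f i ≫ r i ≫ Q.iCycles i) (j.f i)
  have he : ∀ i, j.f i ≫ e i = φ.f i ≫ r i ≫ Q.iCycles i := fun i => Injective.comp_factorThru _ _
  let ζ : ∀ i, B.X i ⟶ Q.cycles i := fun i => e i ≫ r i
  have hζ : ∀ i, j.f i ≫ ζ i = φ.f i ≫ r i := by
    intro i
    dsimp [ζ]
    rw [← Category.assoc, he, Category.assoc, Category.assoc, hr, Category.comp_id]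
  let s : ∀ i, Q.cycles (i + 1) ⟶ Q.X i := fun i => (σ i).s
  have hσd : ∀ i, s i ≫ Q.d i (i + 1) = Q.iCycles (i + 1) := by
    intro i
    have h1 : s i ≫ Q.toCycles i (i + 1) = 𝟙 _ := (σ i).s_g
    rw [← Q.toCycles_i i (i + 1), ← Category.assoc, h1, Category.id_comp]
  have hid : ∀ i, r i ≫ Q.iCycles i + Q.toCycles i (i + 1) ≫ s i = 𝟙 _ := by
    intro i
    exact (σ i).id
  let g : B ⟶ Q :=
    { f := fun i => ζ i ≫ Q.iCycles i + B.d i (i + 1) ≫ ζ (i + 1) ≫ s i
      comm' := by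
        rintro i k (rfl : i + 1 = k)
        simp only [Preadditive.add_comp, Category.assoc, Preadditive.comp_add, hσd,
          HomologicalComplex.iCycles_d, comp_zero, zero_add, HomologicalComplex.d_comp_d_assoc,
          zero_comp, add_zero] }
  refine ⟨g, ?_⟩
  ext i
  dsimp [g]
  have h1 : A.d i (i + 1) ≫ φ.f (i + 1) ≫ r (i + 1) = φ.f i ≫ Q.toCycles i (i + 1) := by
    rw [← Category.assoc, ← φ.comm, ← Q.toCycles_i i (i + 1), Category.assoc, Category.assoc, hr,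
      Category.comp_id]
  have h2 : j.f i ≫ B.d i (i + 1) ≫ ζ (i + 1) ≫ s i = φ.f i ≫ Q.toCycles i (i + 1) ≫ s i := by
    rw [← Category.assoc, j.comm, Category.assoc, ← Category.assoc (j.f (i + 1)), hζ,
      Category.assoc, reassoc_of% h1]
  rw [Preadditive.comp_add, ← Category.assoc, hζ, h2, Category.assoc, ← Preadditive.comp_add, hid,
    Category.comp_id]

end Groth.Agent.Lib.helper10.SplitAcyc2
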