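import Mathlib
import Groth.Prelude.Def_ModSite2
import Groth.Agent.Lib.helper10.ModColim

set_option autoImplicit false
universe u
open CategoryTheory CategoryTheory.Limits Opposite

namespace Groth.Agent.Lib.helper10.StalkExact

variable {C : Type u} [SmallCategory C] {J : GrothendieckTopology C}

theorem stalk_shortExact (O : Sheaf J CommRingCat.{u}) (S : ShortComplex (ModSite.Mod O)) (hS : S.ShortExact)
    (p : GrothendieckTopology.Point.{u} J) :
    (S.map (SheafOfModules.toSheaf (ModSite.ringSh O) ⋙ p.sheafFiber (A := AddCommGrpCat.{u}))).ShortExact := by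
  have h1 : PreservesFiniteColimits (SheafOfModules.toSheaf (ModSite.ringSh O)) := by
    have := Groth.Agent.Lib.helper10.ModColim.toSheaf_preservesColimits (ModSite.ringSh O)
    infer_instance
  have h2 : PreservesFiniteColimits (p.sheafFiber (A := AddCommGrpCat.{u})) := by
    have : PreservesColimitsOfSize.{0, 0} (p.sheafFiber (A := AddCommGrpCat.{u})) :=
      p.skyscraperSheafAdjunction.leftAdjoint_preservesColimits
    infer_instance
  have h3 : PreservesFiniteLimits (p.sheafFiber (A := AddCommGrpCat.{u})) := inferInstance
  have h4 : PreservesFiniteLimits (SheafOfModules.toSheaf (ModSite.ringSh O)) := inferInstance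
  have : (SheafOfModules.toSheaf (ModSite.ringSh O) ⋙ p.sheafFiber (A := AddCommGrpCat.{u})).Additive :=
    Functor.additive_of_preserves_binary_products _
  exact hS.map_of_exact _

end Groth.Agent.Lib.helper10.StalkExact
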