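import Mathlib
import Groth.Agent.Lib.helper10.ExtZ
import Groth.Agent.Lib.helper10.ProjF
import Groth.Prelude.Def_ModSite2

open CategoryTheory Opposite Limits

universe u

noncomputable section

namespace Groth.Agent.Lib.helper10.StalkExt

open Groth.Agent.Lib.helper10.ExtZ

variable {C : Type u} [SmallCategory C] {J : GrothendieckTopology C} {X : C}
  {R : Cᵒᵖ ⥤ RingCat.{u}} (p : GrothendieckTopology.Point.{u} J)
  (G : PresheafOfModules.{u} (RX X R))

/-- the target -/
abbrev Tgt : AddCommGrpCat.{u} :=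
  ∐ fun x : p.fiber.obj X => (p.over x).presheafFiber.obj G.presheaf

/-- germ into the coproduct -/
def gx (V : C) (φ : V ⟶ X) (v : p.fiber.obj V) (x : p.fiber.obj X) (h : p.fiber.map φ v = x) :
    Fib G V φ →+ (Tgt p G : AddCommGrpCat.{u}) :=
  AddMonoidHomClass.toAddMonoidHom
    (((p.over x).toPresheafFiber (Over.mk φ) ⟨v, h⟩ G.presheaf) ≫
      Sigma.ι (fun x : p.fiber.obj X => (p.over x).presheafFiber.obj G.presheaf) x).hom

lemma gx_res {V W : C} (f : W ⟶ V) (φ : V ⟶ X) (w : p.fiber.obj W) (x : p.fiber.obj X)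
    (h : p.fiber.map (f ≫ φ) w = x) (h' : p.fiber.map φ (p.fiber.map f w) = x) (m : Fib G V φ) :
    gx p G W (f ≫ φ) w x h (res G f φ m) = gx p G V φ (p.fiber.map f w) x h' m := by
  have := (p.over x).toPresheafFiber_w (Over.homMk f rfl : Over.mk (f ≫ φ) ⟶ Over.mk φ)
    ⟨w, h⟩ G.presheaf
  have h2 := congrArg (fun k => (k ≫ Sigma.ι
    (fun x : p.fiber.obj X => (p.over x).presheafFiber.obj G.presheaf) x).hom m) this
  exact h2

lemma gx_congr {V : C} {φ φ' : V ⟶ X} (hφ : φ = φ') (v : p.fiber.obj V) (x : p.fiber.obj X)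
    (h : p.fiber.map φ v = x) (h' : p.fiber.map φ' v = x) {Z : Over X} (a : Over.mk φ ⟶ Z)
    (a' : Over.mk φ' ⟶ Z) (ha : a.left = a'.left) (m : G.obj (op Z)) :
    gx p G V φ v x h (G.map a.op m : G.obj (op (Over.mk φ))) =
      gx p G V φ' v x h' (G.map a'.op m : G.obj (op (Over.mk φ'))) := by
  subst hφ
  have : a = a' := Over.OverMorphism.ext ha
  rw [this]

lemma gx_eq (V : C) (φ : V ⟶ X) (v : p.fiber.obj V) (x : p.fiber.obj X)
    (h : p.fiber.map φ v = x) : gx p G V φ v x h = gx p G V φ v (p.fiber.map φ v) rfl := by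
  subst h
  rfl

open Classical in
/-- the forward map on sections -/
def fwdSec (V : C) (v : p.fiber.obj V) : Sec G V →+ (Tgt p G : AddCommGrpCat.{u}) :=
  DirectSum.toAddMonoid (fun φ => gx p G V φ v (p.fiber.map φ v) rfl)

open Classical in
@[simp] lemma fwdSec_inc (V : C) (v : p.fiber.obj V) (φ : V ⟶ X) (m : Fib G V φ) :
    fwdSec p G V v (inc G φ m) = gx p G V φ v (p.fiber.map φ v) rfl m := by
  simp [fwdSec, inc]

/-- the forward map -/
def fwd : p.presheafFiber.obj (MM G) ⟶ Tgt p G :=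
  p.presheafFiberDesc (fun V v => AddCommGrpCat.ofHom (fwdSec p G V v)) (by
    intro W V f w
    ext1
    apply sec_ext
    intro φ m
    change fwdSec p G W w (secMap G f (inc G φ m)) = fwdSec p G V (p.fiber.map f w) (inc G φ m)
    rw [secMap_inc, fwdSec_inc, fwdSec_inc]
    have e : p.fiber.map (f ≫ φ) w = p.fiber.map φ (p.fiber.map f w) := by
      simp
    rw [gx_res p G f φ w _ rfl e.symm m, gx_eq])

/-- germ of an included fibre element -/
def gi (Y : Over X) (v : p.fiber.obj Y.left) :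
    G.presheaf.obj (op Y) ⟶ p.presheafFiber.obj (MM G) :=
  AddCommGrpCat.ofHom (inc G Y.hom) ≫ p.toPresheafFiber Y.left v (MM G)

lemma gi_apply (Y : Over X) (v : p.fiber.obj Y.left) (m : G.obj (op Y)) :
    (gi p G Y v).hom m = (p.toPresheafFiber Y.left v (MM G)).hom (inc G Y.hom m) := rfl

/-- the backward map on the `x`-component -/
def bwdX (x : p.fiber.obj X) :
    (p.over x).presheafFiber.obj G.presheaf ⟶ p.presheafFiber.obj (MM G) :=
  (p.over x).presheafFiberDesc (fun Y y => gi p G Y y.1) (by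
    intro Y' Y a y'
    ext m
    change (p.toPresheafFiber Y'.left y'.1 (MM G)).hom (inc G Y'.hom (G.map a.op m)) =
      (p.toPresheafFiber Y.left (p.fiber.map a.left y'.1) (MM G)).hom (inc G Y.hom m)
    have h1 := p.toPresheafFiber_w a.left y'.1 (MM G)
    have h2 := congrArg (fun k => k.hom (inc G Y.hom m)) h1
    refine Eq.trans ?_ h2
    change _ = (p.toPresheafFiber Y'.left y'.1 (MM G)).hom (secMap G a.left (inc G Y.hom m))
    refine Eq.trans ?_ (congrArg _ (secMap_inc G a.left Y.hom m).symm)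
    exact congrArg _ (inc_congr G (Over.w a).symm (Z := Y) a (Over.homMk a.left rfl) rfl m))

/-- the backward map -/
def bwd : Tgt p G ⟶ p.presheafFiber.obj (MM G) :=
  Sigma.desc (fun x => bwdX p G x)

lemma toFiber_fwd (V : C) (v : p.fiber.obj V) :
    p.toPresheafFiber V v (MM G) ≫ fwd p G = AddCommGrpCat.ofHom (fwdSec p G V v) :=
  p.toPresheafFiber_presheafFiberDesc _ _ V v

lemma toFiber_bwdX (x : p.fiber.obj X) (Y : Over X) (y : (p.over x).fiber.obj Y) :
    (p.over x).toPresheafFiber Y y G.presheaf ≫ bwdX p G x = gi p G Y y.1 :=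
  (p.over x).toPresheafFiber_presheafFiberDesc _ _ Y y

lemma ι_bwd (x : p.fiber.obj X) :
    Sigma.ι (fun x : p.fiber.obj X => (p.over x).presheafFiber.obj G.presheaf) x ≫ bwd p G =
      bwdX p G x :=
  Sigma.ι_desc _ _

lemma gi_fwd (Y : Over X) (v : p.fiber.obj Y.left) (m : G.obj (op Y)) :
    (gi p G Y v ≫ fwd p G).hom m = fwdSec p G Y.left v (inc G Y.hom m) :=
  congrArg (fun k => AddCommGrpCat.Hom.hom k (inc G Y.hom m)) (toFiber_fwd p G Y.left v)

lemma fwd_bwd : fwd p G ≫ bwd p G = 𝟙 _ := by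
  apply p.presheafFiber_hom_ext
  intro V v
  rw [Category.comp_id, ← Category.assoc, toFiber_fwd]
  ext1
  apply sec_ext
  intro φ m
  change (bwd p G).hom (fwdSec p G V v (inc G φ m)) = (p.toPresheafFiber V v (MM G)).hom (inc G φ m)
  rw [fwdSec_inc]
  change (((p.over (p.fiber.map φ v)).toPresheafFiber (Over.mk φ) ⟨v, rfl⟩ G.presheaf ≫
      Sigma.ι (fun x : p.fiber.obj X => (p.over x).presheafFiber.obj G.presheaf) _) ≫
      bwd p G).hom m = _
  rw [Category.assoc, ι_bwd]
  refine Eq.trans (congrArg (fun k => AddCommGrpCat.Hom.hom k m)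
    (toFiber_bwdX p G _ (Over.mk φ) ⟨v, rfl⟩)) ?_
  rfl

lemma bwd_fwd : bwd p G ≫ fwd p G = 𝟙 _ := by
  apply Sigma.hom_ext
  intro x
  rw [← Category.assoc, ι_bwd, Category.comp_id]
  apply (p.over x).presheafFiber_hom_ext
  intro Y y
  rw [← Category.assoc, toFiber_bwdX]
  ext m
  refine (gi_fwd p G Y y.1 m).trans ?_
  refine (fwdSec_inc p G Y.left y.1 Y.hom m).trans ?_
  exact (DFunLike.congr_fun (gx_eq p G Y.left Y.hom y.1 x y.2) m).symm

/-- the stalk of the extension by zero, presheaf level -/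
def stalkIso : p.presheafFiber.obj (MM G) ≅ Tgt p G where
  hom := fwd p G
  inv := bwd p G
  hom_inv_id := fwd_bwd p G
  inv_hom_id := bwd_fwd p G

section sheaf

open Groth.Agent.Lib.helper10.ProjF

variable {C : Type u} [SmallCategory C] {J : GrothendieckTopology C}
  (O : Sheaf J CommRingCat.{u}) (U : C) (G : ModSite.Mod (O.over U))
  (p : GrothendieckTopology.Point.{u} J)

/-- the stalk of `LpO` -/
def stalkLp : ModSite.stalkAb p ((LpO O U).obj G) ≅
    p.presheafFiber.obj (MM (R := (ModSite.ringSh O).obj)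
      ((SheafOfModules.forget ((ModSite.ringSh O).over U)).obj G)) :=
  (p.presheafToSheafCompSheafFiberIso AddCommGrpCat.{u}).app _

theorem main : Nonempty (ModSite.stalkAb p ((ModSite.extZero O U).obj G) ≅
    ∐ fun x : p.fiber.obj U => ModSite.stalkAb (p.over x) G) :=
  ⟨(p.sheafFiber (A := AddCommGrpCat.{u})).mapIso
      ((SheafOfModules.toSheaf (ModSite.ringSh O)).mapIso ((eL O U).app G)) ≪≫
    stalkLp O U G p ≪≫ stalkIso p _⟩

end sheaf

end Groth.Agent.Lib.helper10.StalkExt
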