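import Mathlib
import Groth.Prelude.Def_ModSite2
import Groth.Agent.Lib.helper10.EqCrit

open CategoryTheory Opposite Limits

universe u

noncomputable section

namespace Groth.Agent.Lib.helper10.StalkFlat

variable {C : Type u} [SmallCategory C] {J : GrothendieckTopology C}
  (O : Sheaf J CommRingCat.{u}) (F : ModSite.Mod O) (p : GrothendieckTopology.Point.{u} J)

lemma germRing_res {X Y : C} (a : Y ⟶ X) (y : p.fiber.obj Y) (r : O.obj.obj (op X)) :
    ModSite.germRing p Y y ((O.obj.map a.op).hom r) = ModSite.germRing p X (p.fiber.map a y) r :=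
  p.toPresheafFiber_w_apply a y O.obj r

lemma germ_res {X Y : C} (a : Y ⟶ X) (y : p.fiber.obj Y) (s : ModSite.sect F X) :
    ModSite.germ p F Y y ((F.val.map a.op).hom s) = ModSite.germ p F X (p.fiber.map a y) s :=
  p.toPresheafFiber_w_apply a y (ModSite.toAb F).obj s

/-- a common neighbourhood for finitely many germs -/
lemma exists_common {n : ℕ} (f : Fin n → ModSite.stalkRing p O) (x : Fin n → ModSite.stalkAb p F) :
    ∃ (X : C) (x₀ : p.fiber.obj X) (f' : Fin n → O.obj.obj (op X)) (s : Fin n → ModSite.sect F X),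
      (∀ i, ModSite.germRing p X x₀ (f' i) = f i) ∧ (∀ i, ModSite.germ p F X x₀ (s i) = x i) := by
  classical
  have h1 : ∀ i, ∃ (X : C) (x₀ : p.fiber.obj X) (r : O.obj.obj (op X)),
      ModSite.germRing p X x₀ r = f i :=
    fun i => p.toPresheafFiber_jointly_surjective (P := O.obj) (f i)
  have h2 : ∀ i, ∃ (X : C) (x₀ : p.fiber.obj X) (s : ModSite.sect F X),
      ModSite.germ p F X x₀ s = x i :=
    fun i => p.toPresheafFiber_jointly_surjective (P := (ModSite.toAb F).obj) (x i)
  choose X₁ x₁ r₁ hr₁ using h1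
  choose X₂ x₂ s₂ hs₂ using h2
  let o₁ : Fin n → p.fiber.Elements := fun i => Functor.elementsMk p.fiber (X₁ i) (x₁ i)
  let o₂ : Fin n → p.fiber.Elements := fun i => Functor.elementsMk p.fiber (X₂ i) (x₂ i)
  obtain ⟨S, hS⟩ := IsCofiltered.inf_objs_exists
    (Finset.image o₁ Finset.univ ∪ Finset.image o₂ Finset.univ)
  have m₁ : ∀ i, Nonempty (S ⟶ o₁ i) := fun i =>
    hS (Finset.mem_union_left _ (Finset.mem_image_of_mem _ (Finset.mem_univ i)))
  have m₂ : ∀ i, Nonempty (S ⟶ o₂ i) := fun i =>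
    hS (Finset.mem_union_right _ (Finset.mem_image_of_mem _ (Finset.mem_univ i)))
  refine ⟨S.1, S.2, fun i => (O.obj.map (m₁ i).some.1.op).hom (r₁ i),
    fun i => (F.val.map (m₂ i).some.1.op).hom (s₂ i), ?_, ?_⟩
  · intro i
    rw [germRing_res, ← hr₁ i]
    congr 1
    exact (m₁ i).some.2
  · intro i
    rw [germ_res, ← hs₂ i]
    congr 1
    exact (m₂ i).some.2

lemma exists_res_eq_zero {X : C} (x₀ : p.fiber.obj X) (z : ModSite.sect F X)
    (hz : ModSite.germ p F X x₀ z = 0) :
    ∃ (Y : C) (a : Y ⟶ X) (y : p.fiber.obj Y), p.fiber.map a y = x₀ ∧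
      (F.val.map a.op).hom z = 0 := by
  have h0 : ModSite.germ p F X x₀ (0 : ModSite.sect F X) = 0 := map_zero _
  have h1 : (p.toPresheafFiber X x₀ (ModSite.toAb F).obj) z =
      (p.toPresheafFiber X x₀ (ModSite.toAb F).obj) (0 : ModSite.sect F X) := hz.trans h0.symm
  obtain ⟨Y, a, y, hy, h2⟩ := (p.toPresheafFiber_eq_iff' (P := (ModSite.toAb F).obj) X x₀ z 0).1 h1
  refine ⟨Y, a, y, hy, ?_⟩
  refine Eq.trans h2 ?_
  exact map_zero _

theorem main (hF : ModSite.IsFlat F) :
    Module.Flat (ModSite.stalkRing p O) (ModSite.stalkMod p F) := by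
  rw [Module.Flat.iff_forall_isTrivialRelation]
  intro n f x hrel
  obtain ⟨X, x₀, f', s, hf', hs⟩ := exists_common O F p f x
  have h1 : ModSite.germ p F X x₀ (∑ i, f' i • s i) = 0 := by
    refine (map_sum (p.toPresheafFiber X x₀ (ModSite.toAb F).obj).hom _ _).trans ?_
    refine Eq.trans ?_ hrel
    apply Finset.sum_congr rfl
    intro i _
    exact (ModSite.germ_smul p F X x₀ (f' i) (s i)).trans
      (congrArg₂ (fun (a : ModSite.stalkRing p O) (b : ModSite.stalkAb p F) => a • b) (hf' i) (hs i))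
  obtain ⟨Y, a, y, hy, h2⟩ := exists_res_eq_zero O F p x₀ _ h1
  have h3 : ∑ j, ((O.obj.map a.op).hom (f' j)) • Groth.Agent.Lib.helper10.EqCrit.resS F a (s j) = 0 := by
    refine Eq.trans ?_ h2
    rw [map_sum]
    apply Finset.sum_congr rfl
    intro j _
    exact (F.val.map_smul a.op (f' j) (s j)).symm
  obtain ⟨T, hT, hT'⟩ := Groth.Agent.Lib.helper10.EqCrit.eq_crit O F hF Y n 1
    (fun _ j => (O.obj.map a.op).hom (f' j))
    (fun j => Groth.Agent.Lib.helper10.EqCrit.resS F a (s j)) (fun _ => h3)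
  obtain ⟨W, g, hg, w, hw⟩ := p.jointly_surjective T hT y
  obtain ⟨l, t, a', h4, h5⟩ := hT' g hg
  refine ⟨l, fun i k => ModSite.germRing p W w (a' i k), fun k => ModSite.germ p F W w (t k), ?_, ?_⟩
  · intro i
    have e1 : x i = ModSite.germ p F W w ((F.val.map g.op).hom
        (Groth.Agent.Lib.helper10.EqCrit.resS F a (s i))) := by
      rw [germ_res, hw]
      change x i = ModSite.germ p F Y y ((F.val.map a.op).hom (s i))
      rw [germ_res, hy, hs]
    rw [e1, h4 i]
    refine (map_sum (p.toPresheafFiber W w (ModSite.toAb F).obj).hom _ _).trans ?_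
    apply Finset.sum_congr rfl
    intro k _
    exact ModSite.germ_smul p F W w (a' i k) (t k)
  · intro k
    have e2 : ∀ i, f i = ModSite.germRing p W w ((O.obj.map g.op).hom ((O.obj.map a.op).hom (f' i))) := by
      intro i
      rw [germRing_res, hw, germRing_res, hy, hf']
    have h6 := congrArg (p.toPresheafFiber W w O.obj).hom (h5 0 k)
    rw [map_sum, map_zero] at h6
    refine Eq.trans ?_ h6
    apply Finset.sum_congr rfl
    intro i _
    rw [e2 i, map_mul, mul_comm]
    rfl

end Groth.Agent.Lib.helper10.StalkFlat
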