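import Mathlib
import Groth.Prelude.Def_ModSite2
import Groth.Agent.Lib.helper10.StalkFlat
import Groth.Agent.Lib.helper10.EqConv

open CategoryTheory Opposite Limits
open Groth.Agent.Lib.helper10.EqConv Groth.Agent.Lib.helper10.StalkFlat

universe u

noncomputable section

namespace Groth.Agent.Lib.helper10.StalkFlat2

variable {C : Type u} [SmallCategory C] {J : GrothendieckTopology C}
  (O : Sheaf J CommRingCat.{u}) (F : ModSite.Mod O) (p : GrothendieckTopology.Point.{u} J)

lemma germ_σ {X Y : C} (a : Y ⟶ X) (y : p.fiber.obj Y) (s : ModSite.sect F X) :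
    ModSite.germ p F Y y (σ F a s) = ModSite.germ p F X (p.fiber.map a y) s :=
  germ_res O F p a y s

lemma germRing_ρ {X Y : C} (a : Y ⟶ X) (y : p.fiber.obj Y) (r : O.obj.obj (op X)) :
    ModSite.germRing p Y y (ρ O a r) = ModSite.germRing p X (p.fiber.map a y) r :=
  germRing_res O p a y r

/-- a common neighbourhood for finitely many germs, refining a given neighbourhood -/
lemma exists_common' {ι₁ ι₂ : Type} [Finite ι₁] [Finite ι₂] (U : C) (x : p.fiber.obj U)
    (f : ι₁ → ModSite.stalkRing p O) (z : ι₂ → ModSite.stalkAb p F) :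
    ∃ (X : C) (g : X ⟶ U) (x₀ : p.fiber.obj X), p.fiber.map g x₀ = x ∧
      ∃ (f' : ι₁ → O.obj.obj (op X)) (s : ι₂ → ModSite.sect F X),
      (∀ i, ModSite.germRing p X x₀ (f' i) = f i) ∧ (∀ i, ModSite.germ p F X x₀ (s i) = z i) := by
  classical
  cases nonempty_fintype ι₁
  cases nonempty_fintype ι₂
  have h1 : ∀ i, ∃ (X : C) (x₀ : p.fiber.obj X) (r : O.obj.obj (op X)),
      ModSite.germRing p X x₀ r = f i :=
    fun i => p.toPresheafFiber_jointly_surjective (P := O.obj) (f i)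
  have h2 : ∀ i, ∃ (X : C) (x₀ : p.fiber.obj X) (s : ModSite.sect F X),
      ModSite.germ p F X x₀ s = z i :=
    fun i => p.toPresheafFiber_jointly_surjective (P := (ModSite.toAb F).obj) (z i)
  choose X₁ x₁ r₁ hr₁ using h1
  choose X₂ x₂ s₂ hs₂ using h2
  let o₀ : p.fiber.Elements := Functor.elementsMk p.fiber U x
  let o₁ : ι₁ → p.fiber.Elements := fun i => Functor.elementsMk p.fiber (X₁ i) (x₁ i)
  let o₂ : ι₂ → p.fiber.Elements := fun i => Functor.elementsMk p.fiber (X₂ i) (x₂ i)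
  obtain ⟨S, hS⟩ := IsCofiltered.inf_objs_exists
    (insert o₀ (Finset.image o₁ Finset.univ ∪ Finset.image o₂ Finset.univ))
  have m₀ : Nonempty (S ⟶ o₀) := hS (Finset.mem_insert_self _ _)
  have m₁ : ∀ i, Nonempty (S ⟶ o₁ i) := fun i =>
    hS (Finset.mem_insert_of_mem
      (Finset.mem_union_left _ (Finset.mem_image_of_mem _ (Finset.mem_univ i))))
  have m₂ : ∀ i, Nonempty (S ⟶ o₂ i) := fun i =>
    hS (Finset.mem_insert_of_mem
      (Finset.mem_union_right _ (Finset.mem_image_of_mem _ (Finset.mem_univ i))))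
  refine ⟨S.1, m₀.some.1, S.2, m₀.some.2, fun i => ρ O (m₁ i).some.1 (r₁ i),
    fun i => σ F (m₂ i).some.1 (s₂ i), ?_, ?_⟩
  · intro i
    rw [germRing_ρ, ← hr₁ i]
    congr 1
    exact (m₁ i).some.2
  · intro i
    rw [germ_σ, ← hs₂ i]
    congr 1
    exact (m₂ i).some.2

lemma exists_res_eq_zero_ring {X : C} (x₀ : p.fiber.obj X) (c : O.obj.obj (op X))
    (hc : ModSite.germRing p X x₀ c = 0) :
    ∃ (Y : C) (a : Y ⟶ X) (y : p.fiber.obj Y), p.fiber.map a y = x₀ ∧ ρ O a c = 0 := by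
  have h0 : ModSite.germRing p X x₀ (0 : O.obj.obj (op X)) = 0 := map_zero _
  have h1 : (p.toPresheafFiber X x₀ O.obj) c =
      (p.toPresheafFiber X x₀ O.obj) (0 : O.obj.obj (op X)) := hc.trans h0.symm
  obtain ⟨Y, a, y, hy, h2⟩ := (p.toPresheafFiber_eq_iff' (P := O.obj) X x₀ c 0).1 h1
  refine ⟨Y, a, y, hy, ?_⟩
  refine Eq.trans h2 ?_
  exact map_zero (O.obj.map a.op).hom

lemma exists_kill_F {ι : Type} [Finite ι] {X : C} (x₀ : p.fiber.obj X)
    (z : ι → ModSite.sect F X) (hz : ∀ i, ModSite.germ p F X x₀ (z i) = 0) :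
    ∃ (Y : C) (a : Y ⟶ X) (y : p.fiber.obj Y), p.fiber.map a y = x₀ ∧
      ∀ i, σ F a (z i) = 0 := by
  classical
  cases nonempty_fintype ι
  have key : ∀ s : Finset ι, ∃ (Y : C) (a : Y ⟶ X) (y : p.fiber.obj Y), p.fiber.map a y = x₀ ∧
      ∀ i ∈ s, σ F a (z i) = 0 := by
    intro s
    induction s using Finset.induction_on with
    | empty => exact ⟨X, 𝟙 X, x₀, by simp, by simp⟩
    | insert i s hi ih =>
      obtain ⟨Y₁, a₁, y₁, h1, h2⟩ := ih
      have h3 : ModSite.germ p F Y₁ y₁ (σ F a₁ (z i)) = 0 := by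
        rw [germ_σ, h1, hz]
      obtain ⟨Y₂, a₂, y₂, h4, h5⟩ := exists_res_eq_zero O F p y₁ _ h3
      refine ⟨Y₂, a₂ ≫ a₁, y₂, ?_, ?_⟩
      · rw [p.fiber.map_comp]
        change p.fiber.map a₁ (p.fiber.map a₂ y₂) = x₀
        rw [h4, h1]
      · intro j hj
        rw [Finset.mem_insert] at hj
        rw [σ_comp]
        rcases hj with rfl | hj
        · exact h5
        · rw [h2 j hj, map_zero]
  obtain ⟨Y, a, y, h1, h2⟩ := key Finset.univ
  exact ⟨Y, a, y, h1, fun i => h2 i (Finset.mem_univ i)⟩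

lemma exists_kill_O {ι : Type} [Finite ι] {X : C} (x₀ : p.fiber.obj X)
    (c : ι → O.obj.obj (op X)) (hc : ∀ i, ModSite.germRing p X x₀ (c i) = 0) :
    ∃ (Y : C) (a : Y ⟶ X) (y : p.fiber.obj Y), p.fiber.map a y = x₀ ∧
      ∀ i, ρ O a (c i) = 0 := by
  classical
  cases nonempty_fintype ι
  have key : ∀ s : Finset ι, ∃ (Y : C) (a : Y ⟶ X) (y : p.fiber.obj Y), p.fiber.map a y = x₀ ∧
      ∀ i ∈ s, ρ O a (c i) = 0 := by
    intro s
    induction s using Finset.induction_on with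
    | empty => exact ⟨X, 𝟙 X, x₀, by simp, by simp⟩
    | insert i s hi ih =>
      obtain ⟨Y₁, a₁, y₁, h1, h2⟩ := ih
      have h3 : ModSite.germRing p Y₁ y₁ (ρ O a₁ (c i)) = 0 := by
        rw [germRing_ρ, h1, hc]
      obtain ⟨Y₂, a₂, y₂, h4, h5⟩ := exists_res_eq_zero_ring O p y₁ _ h3
      refine ⟨Y₂, a₂ ≫ a₁, y₂, ?_, ?_⟩
      · rw [p.fiber.map_comp]
        change p.fiber.map a₁ (p.fiber.map a₂ y₂) = x₀
        rw [h4, h1]
      · intro j hj
        rw [Finset.mem_insert] at hj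
        rw [ρ_comp]
        rcases hj with rfl | hj
        · exact h5
        · rw [h2 j hj, map_zero]
  obtain ⟨Y, a, y, h1, h2⟩ := key Finset.univ
  exact ⟨Y, a, y, h1, fun i => h2 i (Finset.mem_univ i)⟩

end Groth.Agent.Lib.helper10.StalkFlat2

namespace Groth.Agent.Lib.helper10.StalkFlat2

variable {C : Type u} [SmallCategory C] {J : GrothendieckTopology C}
  (O : Sheaf J CommRingCat.{u}) (F : ModSite.Mod O)

/-- the local step: around a point with flat stalk, a relation becomes trivial -/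
theorem local_step (p : GrothendieckTopology.Point.{u} J)
    (hflat : Module.Flat (ModSite.stalkRing p O) (ModSite.stalkMod p F))
    (U : C) (n : ℕ) (f : Fin n → O.obj.obj (op U)) (s : Fin n → ModSite.sect F U)
    (hrel : ∑ j, f j • s j = 0) (x : p.fiber.obj U) :
    ∃ (V : C) (g : V ⟶ U) (_ : goodSieve F (fun _ : Fin 1 => f) s g) (y : p.fiber.obj V),
      p.fiber.map g y = x := by
  classical
  have h1 : ∑ j, ModSite.germRing p U x (f j) • ModSite.germ p F U x (s j) = 0 := by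
    have e := congrArg (ModSite.germ p F U x) hrel
    refine Eq.trans ?_ (e.trans (map_zero (p.toPresheafFiber U x (ModSite.toAb F).obj).hom))
    refine Eq.symm ((map_sum (p.toPresheafFiber U x (ModSite.toAb F).obj).hom _ _).trans ?_)
    apply Finset.sum_congr rfl
    intro j _
    exact ModSite.germ_smul p F U x (f j) (s j)
  obtain ⟨l, A, Y, hA1, hA2⟩ := (Module.Flat.iff_forall_isTrivialRelation.1 hflat) h1
  obtain ⟨X, g, x₀, hx₀, a', t', ha', ht'⟩ := exists_common' O F p U x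
    (fun ij : Fin n × Fin l => A ij.1 ij.2) Y
  let z : Fin n → ModSite.sect F X := fun j => σ F g (s j) - ∑ k, a' (j, k) • t' k
  let c : Fin l → O.obj.obj (op X) := fun k => ∑ j, a' (j, k) * ρ O g (f j)
  have hz : ∀ j, ModSite.germ p F X x₀ (z j) = 0 := by
    intro j
    have e1 : ModSite.germ p F X x₀ (z j) = ModSite.germ p F X x₀ (σ F g (s j)) -
        ModSite.germ p F X x₀ (∑ k, a' (j, k) • t' k) :=
      map_sub (p.toPresheafFiber X x₀ (ModSite.toAb F).obj).hom _ _
    rw [e1, germ_σ, hx₀, sub_eq_zero]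
    refine Eq.trans (hA1 j) ?_
    refine Eq.symm ((map_sum (p.toPresheafFiber X x₀ (ModSite.toAb F).obj).hom _ _).trans ?_)
    apply Finset.sum_congr rfl
    intro k _
    exact (ModSite.germ_smul p F X x₀ (a' (j, k)) (t' k)).trans
      (congrArg₂ (fun (a : ModSite.stalkRing p O) (b : ModSite.stalkAb p F) => a • b)
        (ha' (j, k)) (ht' k))
  have hc : ∀ k, ModSite.germRing p X x₀ (c k) = 0 := by
    intro k
    refine Eq.trans ?_ (hA2 k)
    refine (map_sum (p.toPresheafFiber X x₀ O.obj).hom _ _).trans ?_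
    apply Finset.sum_congr rfl
    intro j _
    refine (map_mul (p.toPresheafFiber X x₀ O.obj).hom _ _).trans ?_
    rw [mul_comm]
    congr 1
    · exact (germRing_ρ O p g x₀ (f j)).trans (by rw [hx₀])
    · exact ha' (j, k)
  obtain ⟨Y₁, b₁, y₁, h2, h3⟩ := exists_kill_F O F p x₀ z hz
  have hc' : ∀ k, ModSite.germRing p Y₁ y₁ (ρ O b₁ (c k)) = 0 := by
    intro k
    rw [germRing_ρ, h2, hc]
  obtain ⟨Y₂, b₂, y₂, h4, h5⟩ := exists_kill_O O p y₁ (fun k => ρ O b₁ (c k)) hc'
  refine ⟨Y₂, (b₂ ≫ b₁) ≫ g, ?_, y₂, ?_⟩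
  · refine ⟨l, fun k => σ F (b₂ ≫ b₁) (t' k), fun j k => ρ O (b₂ ≫ b₁) (a' (j, k)), ?_, ?_⟩
    · intro j
      rw [σ_comp]
      have e1 : σ F g (s j) = z j + ∑ k, a' (j, k) • t' k := by
        simp only [z]
        abel
      rw [e1, map_add, map_sum]
      have e2 : σ F (b₂ ≫ b₁) (z j) = 0 := by
        rw [σ_comp, h3, map_zero]
      rw [e2, zero_add]
      apply Finset.sum_congr rfl
      intro k _
      rw [σ_smul]
    · intro _ k
      have e3 : ρ O (b₂ ≫ b₁) (c k) = 0 := by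
        rw [ρ_comp]
        exact h5 k
      refine Eq.trans ?_ e3
      simp only [c]
      rw [map_sum]
      apply Finset.sum_congr rfl
      intro j _
      rw [map_mul, ρ_comp g (b₂ ≫ b₁)]
  · rw [p.fiber.map_comp, p.fiber.map_comp]
    change p.fiber.map g (p.fiber.map b₁ (p.fiber.map b₂ y₂)) = x
    rw [h4, h2, hx₀]

theorem crit_of_stalk_flat (P : ObjectProperty (GrothendieckTopology.Point.{u} J))
    (hP : P.IsConservativeFamilyOfPoints)
    (h : ∀ p : GrothendieckTopology.Point.{u} J, P p →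
      Module.Flat (ModSite.stalkRing p O) (ModSite.stalkMod p F)) : Crit F := by
  intro U n f s hrel
  refine ⟨goodSieve F (fun _ : Fin 1 => f) s, ?_, ?_⟩
  · let ι : Type u := Σ V : C, {g : V ⟶ U // goodSieve F (fun _ : Fin 1 => f) s g}
    have hle : Sieve.ofArrows (fun i : ι => i.1) (fun i => i.2.1) ≤
        goodSieve F (fun _ : Fin 1 => f) s := by
      rw [Sieve.generate_le_iff, Presieve.ofArrows_le_iff]
      exact fun i => i.2.2
    refine J.superset_covering hle ?_
    rw [hP.jointly_reflect_ofArrows_mem]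
    intro Φ x
    obtain ⟨V, g, hg, y, hy⟩ := local_step O F Φ.obj (h Φ.obj Φ.property) U n f s hrel x
    exact ⟨⟨V, g, hg⟩, y, hy⟩
  · rintro V g ⟨l, t, a, h1, h2⟩
    exact ⟨l, t, a, h1, fun k => h2 0 k⟩

theorem main (P : ObjectProperty (GrothendieckTopology.Point.{u} J))
    (hP : P.IsConservativeFamilyOfPoints) :
    ModSite.IsFlat F ↔ ∀ p : GrothendieckTopology.Point.{u} J, P p →
      Module.Flat (ModSite.stalkRing p O) (ModSite.stalkMod p F) := by
  constructor
  · intro hF p _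
    exact Groth.Agent.Lib.helper10.StalkFlat.main O F p hF
  · intro h
    exact flat_of_crit F (crit_of_stalk_flat O F P hP h)

end Groth.Agent.Lib.helper10.StalkFlat2
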