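import Mathlib
import Groth.Prelude.Def_ModSite2

set_option autoImplicit false
universe u
open CategoryTheory CategoryTheory.Limits Opposite

namespace Groth.Agent.Lib.helper10.StalkLocal

variable {C : Type u} [SmallCategory C] {J : GrothendieckTopology C}

theorem isUnit_or (O : Sheaf J CommRingCat.{u})
    (h : ∀ (U : C) (f : O.obj.obj (op U)), ∃ S ∈ J U, ∀ ⦃V : C⦄ (g : V ⟶ U), S g →
        IsUnit ((O.obj.map g.op).hom f) ∨ IsUnit ((O.obj.map g.op).hom (1 - f)))
    (p : GrothendieckTopology.Point.{u} J) (a : ModSite.stalkRing p O) :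
    IsUnit a ∨ IsUnit (1 - a) := by
  obtain ⟨X, x, r, rfl⟩ := p.toPresheafFiber_jointly_surjective (P := O.obj) a
  obtain ⟨S, hS, hS'⟩ := h X r
  obtain ⟨Y, g, hg, y, rfl⟩ := p.jointly_surjective S hS x
  have hw : ∀ r' : O.obj.obj (op X), (p.toPresheafFiber Y y O.obj).hom ((O.obj.map g.op).hom r') =
      (p.toPresheafFiber X (p.fiber.map g y) O.obj).hom r' := fun r' =>
    p.toPresheafFiber_w_apply g y O.obj r'
  rcases hS' g hg with hu | hu
  · left
    rw [← hw r]
    exact hu.map (p.toPresheafFiber Y y O.obj).hom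
  · right
    have h1 : (1 : ModSite.stalkRing p O) - ModSite.germRing p X (p.fiber.map g y) r =
        ModSite.germRing p X (p.fiber.map g y) (1 - r) := by
      change _ = (p.toPresheafFiber X (p.fiber.map g y) O.obj).hom (1 - r)
      rw [map_sub, map_one]
      rfl
    have h2 : IsUnit (ModSite.germRing p X (p.fiber.map g y) (1 - r)) := by
      change IsUnit ((p.toPresheafFiber X (p.fiber.map g y) O.obj).hom (1 - r))
      rw [← hw (1 - r)]
      exact hu.map (p.toPresheafFiber Y y O.obj).hom
    exact h1 ▸ h2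

theorem subsingleton_or_local (O : Sheaf J CommRingCat.{u})
    (h : ∀ (U : C) (f : O.obj.obj (op U)), ∃ S ∈ J U, ∀ ⦃V : C⦄ (g : V ⟶ U), S g →
        IsUnit ((O.obj.map g.op).hom f) ∨ IsUnit ((O.obj.map g.op).hom (1 - f)))
    (p : GrothendieckTopology.Point.{u} J) :
    Subsingleton (ModSite.stalkRing p O) ∨ IsLocalRing (ModSite.stalkRing p O) := by
  rcases subsingleton_or_nontrivial (ModSite.stalkRing p O) with hs | hn
  · exact Or.inl hs
  · exact Or.inr (IsLocalRing.of_isUnit_or_isUnit_one_sub_self (isUnit_or O h p))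

end Groth.Agent.Lib.helper10.StalkLocal
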