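import Mathlib
import Groth.Prelude.Def_ModSite2

set_option autoImplicit false
universe u
open CategoryTheory CategoryTheory.Limits Opposite

namespace Groth.Agent.Lib.helper10.StalkLocal2

variable {C : Type u} [SmallCategory C] {J : GrothendieckTopology C}

/-- a section whose germ is a unit is a unit on a neighbourhood -/
lemma exists_isUnit_of_isUnit_germ (O : Sheaf J CommRingCat.{u}) (p : GrothendieckTopology.Point.{u} J)
    (X : C) (x : p.fiber.obj X) (r : O.obj.obj (op X))
    (hr : IsUnit (ModSite.germRing p X x r)) :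
    ∃ (Y : C) (g : Y ⟶ X) (y : p.fiber.obj Y), p.fiber.map g y = x ∧ IsUnit ((O.obj.map g.op).hom r) := by
  obtain ⟨b, hb⟩ := hr.exists_right_inv
  obtain ⟨X', x', s, rfl⟩ := p.toPresheafFiber_jointly_surjective (P := O.obj) b
  let W := IsCofiltered.min (Functor.elementsMk p.fiber X x) (Functor.elementsMk p.fiber X' x')
  let gX := IsCofiltered.minToLeft (Functor.elementsMk p.fiber X x) (Functor.elementsMk p.fiber X' x')
  let gX' := IsCofiltered.minToRight (Functor.elementsMk p.fiber X x) (Functor.elementsMk p.fiber X' x')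
  have hX : (p.toPresheafFiber X x O.obj).hom r =
      (p.toPresheafFiber W.1 W.2 O.obj).hom ((O.obj.map gX.1.op).hom r) :=
    ((congrArg (fun t => (p.toPresheafFiber X t O.obj).hom r) gX.2).symm).trans
      (p.toPresheafFiber_w_apply gX.1 W.2 O.obj r).symm
  have hX' : (p.toPresheafFiber X' x' O.obj).hom s =
      (p.toPresheafFiber W.1 W.2 O.obj).hom ((O.obj.map gX'.1.op).hom s) :=
    ((congrArg (fun t => (p.toPresheafFiber X' t O.obj).hom s) gX'.2).symm).trans
      (p.toPresheafFiber_w_apply gX'.1 W.2 O.obj s).symm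
  have h1 : (p.toPresheafFiber W.1 W.2 O.obj).hom ((O.obj.map gX.1.op).hom r * (O.obj.map gX'.1.op).hom s) =
      (p.toPresheafFiber W.1 W.2 O.obj).hom 1 := by
    rw [map_mul, map_one, ← hX, ← hX']
    exact hb
  obtain ⟨Z, h, z, hz, hh⟩ := (p.toPresheafFiber_eq_iff' (P := O.obj) W.1 W.2 _ _).1 h1
  refine ⟨Z, h ≫ gX.1, z, ?_, ?_⟩
  · rw [Functor.map_comp]
    change p.fiber.map gX.1 (p.fiber.map h z) = x
    rw [hz]
    exact gX.2
  · have hh' : (O.obj.map h.op).hom ((O.obj.map gX.1.op).hom r * (O.obj.map gX'.1.op).hom s) =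
        (O.obj.map h.op).hom 1 := hh
    rw [map_mul, map_one] at hh'
    have : (O.obj.map (h ≫ gX.1).op).hom r = (O.obj.map h.op).hom ((O.obj.map gX.1.op).hom r) := by
      rw [op_comp, Functor.map_comp]
      rfl
    rw [this]
    exact IsUnit.of_mul_eq_one _ hh'

theorem cover_inverts (O : Sheaf J CommRingCat.{u}) [GrothendieckTopology.HasEnoughPoints.{u} J]
    (h : ∀ p : GrothendieckTopology.Point.{u} J,
      Subsingleton (ModSite.stalkRing p O) ∨ IsLocalRing (ModSite.stalkRing p O))
    (U : C) (f : O.obj.obj (op U)) :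
    ∃ S ∈ J U, ∀ ⦃V : C⦄ (g : V ⟶ U), S g →
        IsUnit ((O.obj.map g.op).hom f) ∨ IsUnit ((O.obj.map g.op).hom (1 - f)) := by
  obtain ⟨P, hPs, hP⟩ := GrothendieckTopology.HasEnoughPoints.exists_objectProperty.{u} J
  let ι : Type u := Σ V : C, {g : V ⟶ U // IsUnit ((O.obj.map g.op).hom f) ∨ IsUnit ((O.obj.map g.op).hom (1 - f))}
  refine ⟨Sieve.ofArrows (fun i : ι => i.1) (fun i => i.2.1), ?_, ?_⟩
  · rw [hP.jointly_reflect_ofArrows_mem]
    intro Φ x
    have hor : IsUnit (ModSite.germRing Φ.obj U x f) ∨ IsUnit (ModSite.germRing Φ.obj U x (1 - f)) := by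
      rcases h Φ.obj with hs | hl
      · left
        exact isUnit_of_subsingleton _
      · have := IsLocalRing.isUnit_or_isUnit_one_sub_self (ModSite.germRing Φ.obj U x f)
        rcases this with h1 | h1
        · exact Or.inl h1
        · right
          have e : ModSite.germRing Φ.obj U x (1 - f) = 1 - ModSite.germRing Φ.obj U x f := by
            change (Φ.obj.toPresheafFiber U x O.obj).hom (1 - f) = _
            rw [map_sub, map_one]
            rfl
          rw [e]; exact h1
    rcases hor with h1 | h1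
    · obtain ⟨Y, g, y, hy, hu⟩ := exists_isUnit_of_isUnit_germ O Φ.obj U x f h1
      exact ⟨⟨Y, g, Or.inl hu⟩, y, hy⟩
    · obtain ⟨Y, g, y, hy, hu⟩ := exists_isUnit_of_isUnit_germ O Φ.obj U x (1 - f) h1
      exact ⟨⟨Y, g, Or.inr hu⟩, y, hy⟩
  · rintro V g ⟨W, a, b, ⟨i⟩, rfl⟩
    have key : ∀ r : O.obj.obj (op U), IsUnit ((O.obj.map i.2.1.op).hom r) →
        IsUnit ((O.obj.map (a ≫ i.2.1).op).hom r) := by
      intro r hr
      have : (O.obj.map (a ≫ i.2.1).op).hom r = (O.obj.map a.op).hom ((O.obj.map i.2.1.op).hom r) := by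
        rw [op_comp, Functor.map_comp]
        rfl
      rw [this]
      exact hr.map _
    rcases i.2.2 with hu | hu
    · exact Or.inl (key _ hu)
    · exact Or.inr (key _ hu)

end Groth.Agent.Lib.helper10.StalkLocal2
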