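import Mathlib.Tactic
import Groth.Prelude.Def_AlgSt
import Groth.Agent.Lib.helper10.FpGen
import Groth.Agent.Lib.helper10.StkEquiv

/-!
# Restriction of functors into a 2-fibre product over `C` (helper10 library, general universes)
-/

set_option autoImplicit false
universe v u v₂ u₂ v₃ u₃ v₄ u₄ v₅ u₅ v₆ u₆

open CategoryTheory

namespace Groth.Agent.Lib.helper10.StkFp

open Groth.Agent.Lib.helper10.FpGen

variable {C : Type u} [Category.{v} C]
  {𝒳 : BasedCategory.{v₂, u₂} C} {𝒴 : BasedCategory.{v₃, u₃} C} {𝒮 : BasedCategory.{v₄, u₄} C}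
  (F : 𝒳 ⥤ᵇ 𝒮) (G : 𝒴 ⥤ᵇ 𝒮)
  {𝒜 : BasedCategory.{v₅, u₅} C} {ℬ : BasedCategory.{v₆, u₆} C} (ι : 𝒜 ⥤ᵇ ℬ)

/-- components of a based natural transformation into `fp`, first -/
def fstT {H H' : ℬ ⥤ᵇ FibCat.fp F G} (α : H ⟶ H') :
    BasedFunctor.comp H (FibCat.fpFst F G) ⟶ BasedFunctor.comp H' (FibCat.fpFst F G) :=
  BasedCategory.whiskerRight α (FibCat.fpFst F G)

def sndT {H H' : ℬ ⥤ᵇ FibCat.fp F G} (α : H ⟶ H') :
    BasedFunctor.comp H (FibCat.fpSnd F G) ⟶ BasedFunctor.comp H' (FibCat.fpSnd F G) :=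
  BasedCategory.whiskerRight α (FibCat.fpSnd F G)

lemma fstT_app {H H' : ℬ ⥤ᵇ FibCat.fp F G} (α : H ⟶ H') (b : ℬ.obj) :
    (fstT F G α).toNatTrans.app b = (α.toNatTrans.app b).hom.fst := rfl

lemma sndT_app {H H' : ℬ ⥤ᵇ FibCat.fp F G} (α : H ⟶ H') (b : ℬ.obj) :
    (sndT F G α).toNatTrans.app b = (α.toNatTrans.app b).hom.snd := rfl

lemma restr_fstT {H H' : ℬ ⥤ᵇ FibCat.fp F G} (α : H ⟶ H') :
    (Stk.restr ι 𝒳).map (fstT F G α) = fstT F G ((Stk.restr ι (FibCat.fp F G)).map α) := rfl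

lemma restr_sndT {H H' : ℬ ⥤ᵇ FibCat.fp F G} (α : H ⟶ H') :
    (Stk.restr ι 𝒴).map (sndT F G α) = sndT F G ((Stk.restr ι (FibCat.fp F G)).map α) := rfl

theorem restr_fp_faithful [(Stk.restr ι 𝒳).Faithful] [(Stk.restr ι 𝒴).Faithful] :
    (Stk.restr ι (FibCat.fp F G)).Faithful where
  map_injective := by
    intro H H' α β h
    have h1 : fstT F G α = fstT F G β := by
      apply (Stk.restr ι 𝒳).map_injective
      rw [restr_fstT, restr_fstT, h]
    have h2 : sndT F G α = sndT F G β := by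
      apply (Stk.restr ι 𝒴).map_injective
      rw [restr_sndT, restr_sndT, h]
    apply BasedNatTrans.homCategory.ext
    ext b
    · exact congrArg (fun γ => γ.toNatTrans.app b) h1
    · exact congrArg (fun γ => γ.toNatTrans.app b) h2

/-- the canonical 2-cell `H ⋙ fst ⋙ F ⟶ H ⋙ snd ⋙ G` -/
def isoT (H : ℬ ⥤ᵇ FibCat.fp F G) :
    BasedFunctor.comp (BasedFunctor.comp H (FibCat.fpFst F G)) F ⟶
      BasedFunctor.comp (BasedFunctor.comp H (FibCat.fpSnd F G)) G :=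
  BasedCategory.whiskerLeft H (FibCat.fpIso F G).hom

lemma isoT_app (H : ℬ ⥤ᵇ FibCat.fp F G) (b : ℬ.obj) :
    (isoT F G H).toNatTrans.app b = (H.obj b).obj.iso.hom := rfl

theorem restr_fp_full [(Stk.restr ι 𝒳).Full] [(Stk.restr ι 𝒴).Full] [(Stk.restr ι 𝒮).Faithful] :
    (Stk.restr ι (FibCat.fp F G)).Full where
  map_surjective := by
    intro H H' γ
    obtain ⟨α₁, hα₁⟩ := (Stk.restr ι 𝒳).map_surjective
      (X := BasedFunctor.comp H (FibCat.fpFst F G)) (Y := BasedFunctor.comp H' (FibCat.fpFst F G))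
      (fstT F G γ)
    obtain ⟨α₂, hα₂⟩ := (Stk.restr ι 𝒴).map_surjective
      (X := BasedFunctor.comp H (FibCat.fpSnd F G)) (Y := BasedFunctor.comp H' (FibCat.fpSnd F G))
      (sndT F G γ)
    have e₁ : ∀ a : 𝒜.obj, α₁.toNatTrans.app (ι.obj a) = (γ.toNatTrans.app a).hom.fst := fun a =>
      congrArg (fun δ => δ.toNatTrans.app a) hα₁
    have e₂ : ∀ a : 𝒜.obj, α₂.toNatTrans.app (ι.obj a) = (γ.toNatTrans.app a).hom.snd := fun a =>
      congrArg (fun δ => δ.toNatTrans.app a) hα₂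
    have key : BasedCategory.whiskerRight α₁ F ≫ isoT F G H' = isoT F G H ≫ BasedCategory.whiskerRight α₂ G := by
      apply (Stk.restr ι 𝒮).map_injective
      apply BasedNatTrans.homCategory.ext
      ext a
      change F.map (α₁.toNatTrans.app (ι.obj a)) ≫ (H'.obj (ι.obj a)).obj.iso.hom =
        (H.obj (ι.obj a)).obj.iso.hom ≫ G.map (α₂.toNatTrans.app (ι.obj a))
      rw [e₁, e₂]
      exact (γ.toNatTrans.app a).hom.w
    have keyb : ∀ b : ℬ.obj, F.map (α₁.toNatTrans.app b) ≫ (H'.obj b).obj.iso.hom =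
        (H.obj b).obj.iso.hom ≫ G.map (α₂.toNatTrans.app b) := fun b =>
      congrArg (fun δ => δ.toNatTrans.app b) key
    let app : ∀ b : ℬ.obj, H.obj b ⟶ H'.obj b := fun b =>
      ObjectProperty.homMk
        ({ fst := α₁.toNatTrans.app b
           snd := α₂.toNatTrans.app b
           w := keyb b } :
          Limits.CategoricalPullback.Hom (F := F.toFunctor) (G := G.toFunctor) (H.obj b).obj (H'.obj b).obj)
    refine ⟨{ toNatTrans := { app := app, naturality := ?_ }, isHomLift' := ?_ }, ?_⟩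
    · intro b b' m
      apply ObjectProperty.hom_ext
      apply Limits.CategoricalPullback.hom_ext
      · exact α₁.toNatTrans.naturality m
      · exact α₂.toNatTrans.naturality m
    · intro b
      rw [fp_lift_iff]
      exact α₁.isHomLift' b
    · apply BasedNatTrans.homCategory.ext
      ext a
      · exact e₁ a
      · exact e₂ a

omit [Category.{v} C] in
lemma aux_cancel {A B : Type*} [Category A] [Category B] (G : A ⥤ B) {X Y : B} {a a' : A}
    (p : X ⟶ Y) (q : Y ⟶ G.obj a) (y : a ⟶ a') (z : a' ⟶ a) (h : y ≫ z = 𝟙 a) :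
    p ≫ q = (p ≫ q ≫ G.map y) ≫ G.map z := by
  rw [Category.assoc, Category.assoc, ← G.map_comp, h, G.map_id, Category.comp_id]

/-- the canonical 2-isomorphism `H ⋙ fst ⋙ F ≅ H ⋙ snd ⋙ G` -/
def isoTIso (H : ℬ ⥤ᵇ FibCat.fp F G) :
    BasedFunctor.comp (BasedFunctor.comp H (FibCat.fpFst F G)) F ≅
      BasedFunctor.comp (BasedFunctor.comp H (FibCat.fpSnd F G)) G where
  hom := BasedCategory.whiskerLeft H (FibCat.fpIso F G).hom
  inv := BasedCategory.whiskerLeft H (FibCat.fpIso F G).inv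
  hom_inv_id := by
    apply BasedNatTrans.homCategory.ext
    ext b
    exact (H.obj b).obj.iso.hom_inv_id
  inv_hom_id := by
    apply BasedNatTrans.homCategory.ext
    ext b
    exact (H.obj b).obj.iso.inv_hom_id

lemma isoTIso_hom_app (H : ℬ ⥤ᵇ FibCat.fp F G) (b : ℬ.obj) :
    (isoTIso F G H).hom.toNatTrans.app b = (H.obj b).obj.iso.hom := rfl

lemma isoTIso_inv_app (H : ℬ ⥤ᵇ FibCat.fp F G) (b : ℬ.obj) :
    (isoTIso F G H).inv.toNatTrans.app b = (H.obj b).obj.iso.inv := rfl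

theorem restr_fp_essSurj [(Stk.restr ι 𝒳).EssSurj] [(Stk.restr ι 𝒴).EssSurj]
    [(Stk.restr ι 𝒮).Full] [(Stk.restr ι 𝒮).Faithful] :
    (Stk.restr ι (FibCat.fp F G)).EssSurj where
  mem_essImage := by
    intro K
    obtain ⟨H₁, ⟨e₁⟩⟩ := Functor.EssSurj.mem_essImage (F := Stk.restr ι 𝒳)
      (BasedFunctor.comp K (FibCat.fpFst F G))
    obtain ⟨H₂, ⟨e₂⟩⟩ := Functor.EssSurj.mem_essImage (F := Stk.restr ι 𝒴)
      (BasedFunctor.comp K (FibCat.fpSnd F G))
    let κ : (Stk.restr ι 𝒮).obj (BasedFunctor.comp H₁ F) ≅ (Stk.restr ι 𝒮).obj (BasedFunctor.comp H₂ G) :=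
      (StkEquiv.post F 𝒜).mapIso e₁ ≪≫ isoTIso F G K ≪≫ ((StkEquiv.post G 𝒜).mapIso e₂).symm
    let θ : BasedFunctor.comp H₁ F ≅ BasedFunctor.comp H₂ G := (Stk.restr ι 𝒮).preimageIso κ
    have hθ : (Stk.restr ι 𝒮).map θ.hom = κ.hom := by
      simp only [θ, Functor.preimageIso_hom, Functor.map_preimage]
    have hθa : ∀ a : 𝒜.obj, θ.hom.toNatTrans.app (ι.obj a) =
        F.map (e₁.hom.toNatTrans.app a) ≫ (K.obj a).obj.iso.hom ≫ G.map (e₂.inv.toNatTrans.app a) := fun a =>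
      congrArg (fun δ => δ.toNatTrans.app a) hθ
    let E₁ := (BasedNatTrans.forgetful _ _).mapIso e₁
    let E₂ := (BasedNatTrans.forgetful _ _).mapIso e₂
    have hE₁ : ∀ a : 𝒜.obj, (E₁.app a).hom = e₁.hom.toNatTrans.app a := fun a => rfl
    have hE₂ : ∀ a : 𝒜.obj, (E₂.app a).hom = e₂.hom.toNatTrans.app a := fun a => rfl
    have hinv : ∀ a : 𝒜.obj, e₂.inv.toNatTrans.app a ≫ e₂.hom.toNatTrans.app a = 𝟙 _ := fun a =>
      (E₂.app a).inv_hom_id
    have compat : ∀ a : 𝒜.obj, F.map (E₁.app a).hom ≫ (K.obj a).obj.iso.hom =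
        θ.hom.toNatTrans.app (ι.obj a) ≫ G.map (E₂.app a).hom := by
      intro a
      refine Eq.trans ?_ (congrArg (fun t => t ≫ G.map (E₂.app a).hom) (hθa a).symm)
      exact aux_cancel G.toFunctor _ _ _ _ (hinv a)
    refine ⟨FibCat.fpLift H₁ H₂ θ, ⟨BasedNatIso.mkNatIso (NatIso.ofComponents (fun a =>
      ObjectProperty.isoMk _ (Limits.CategoricalPullback.mkIso (E₁.app a) (E₂.app a) (compat a))) ?_) ?_⟩⟩
    · intro a a' m
      apply ObjectProperty.hom_ext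
      apply Limits.CategoricalPullback.hom_ext
      · exact e₁.hom.toNatTrans.naturality m
      · exact e₂.hom.toNatTrans.naturality m
    · intro a
      rw [fp_lift_iff]
      exact e₁.hom.isHomLift' a

end Groth.Agent.Lib.helper10.StkFp
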