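import Mathlib
import Groth.Prelude.Def_CohCx

namespace Groth.Agent.Lib.helper10.TAMono
open CategoryTheory Limits Opposite Abelian

universe u

section abs
variable {A : Type*} [Category A] [Abelian A] [HasExt A]

lemma exists_of_pushout (sq : Square A) (hsq : sq.IsPushout) [Mono sq.f₁₂] (F : A)
    (h : Subsingleton (Ext sq.X₄ F 1)) (φ : sq.X₁ ⟶ F) :
    ∃ (a : sq.X₂ ⟶ F) (b : sq.X₃ ⟶ F), sq.f₁₂ ≫ a - sq.f₁₃ ≫ b = φ := by
  let S : ShortComplex A :=
    ShortComplex.mk (biprod.lift sq.f₁₂ (-sq.f₁₃))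
      (biprod.desc sq.f₂₄ sq.f₃₄) sq.cokernelCofork.condition
  have h1 := S.exact_and_epi_g_iff_g_is_cokernel.2 ⟨hsq.isColimitCokernelCofork⟩
  have : Mono S.f := by
    have : Mono (S.f ≫ biprod.fst) := by
      change Mono (biprod.lift sq.f₁₂ (-sq.f₁₃) ≫ biprod.fst)
      rw [biprod.lift_fst]
      infer_instance
    exact mono_of_mono _ biprod.fst
  have : Epi S.g := h1.2
  have hS : S.ShortExact := ShortComplex.ShortExact.mk h1.1
  have hx : hS.extClass.comp (Ext.mk₀ φ) (rfl : 1 + 0 = 1) = 0 := h.elim _ _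
  obtain ⟨x₂, hx₂⟩ := Ext.contravariant_sequence_exact₁ hS F (Ext.mk₀ φ) rfl hx
  obtain ⟨ψ, rfl⟩ := (Ext.mk₀_bijective _ _).2 x₂
  rw [Ext.mk₀_comp_mk₀] at hx₂
  have h2 : S.f ≫ ψ = φ := (Ext.mk₀_bijective _ _).1 hx₂
  refine ⟨biprod.inl ≫ ψ, biprod.inr ≫ ψ, ?_⟩
  rw [← h2]
  have hf : S.f = sq.f₁₂ ≫ biprod.inl + (-sq.f₁₃) ≫ biprod.inr := biprod.lift_eq
  rw [hf]
  simp only [Preadditive.add_comp, Preadditive.neg_comp, Category.assoc]
  abel

end abs

variable {C : Type u} [SmallCategory C] {J : GrothendieckTopology C}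

noncomputable abbrev Lz (J : GrothendieckTopology C) : Sheaf J (Type u) ⥤ Sheaf J AddCommGrpCat.{u} :=
  Sheaf.composeAndSheafify J AddCommGrpCat.free.{u}

instance : (Lz J).PreservesMonomorphisms := by
  have h1 : (sheafToPresheaf J (Type u)).PreservesMonomorphisms := inferInstance
  have h2 : ((Functor.whiskeringRight Cᵒᵖ _ _).obj AddCommGrpCat.free.{u}).PreservesMonomorphisms := by
    constructor
    intro P Q f hf
    rw [NatTrans.mono_iff_mono_app] at hf ⊢
    intro X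
    exact (inferInstance : Mono (AddCommGrpCat.free.{u}.map (f.app X)))
  have h3 : (presheafToSheaf J AddCommGrpCat.{u}).PreservesMonomorphisms := inferInstance
  unfold Lz Sheaf.composeAndSheafify
  infer_instance

theorem main (F : Sheaf J AddCommGrpCat.{u}) (hF : CohCx.IsTotallyAcyclic F) {Y X : Sheaf J (Type u)}
    (ι : Y ⟶ X) [Mono ι] :
    Function.Surjective ((CohCx.HK0Functor J F).map ι.op) := by
  -- the pushout square
  let c : Y ⟶ ⊤_ (Sheaf J (Type u)) := terminal.from Y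
  let sq : Square (Sheaf J (Type u)) :=
    { X₁ := Y, X₂ := X, X₃ := ⊤_ _, X₄ := pushout ι c
      f₁₂ := ι, f₁₃ := c, f₂₄ := pushout.inl ι c, f₃₄ := pushout.inr ι c
      fac := pushout.condition }
  have hsq : sq.IsPushout := ⟨⟨pushout.condition⟩, ⟨pushoutIsPushout ι c⟩⟩
  have hsq' : (sq.map (Lz J)).IsPushout := hsq.map (Lz J)
  have : Mono (sq.map (Lz J)).f₁₂ := by
    change Mono ((Lz J).map ι)
    infer_instance
  intro φ
  obtain ⟨a, b, hab⟩ : ∃ (a : (Lz J).obj X ⟶ F) (b : (Lz J).obj (⊤_ (Sheaf J (Type u))) ⟶ F),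
      (Lz J).map ι ≫ a - (Lz J).map c ≫ b = φ :=
    exists_of_pushout (sq.map (Lz J)) hsq' F (hF (pushout ι c) 0) φ
  have hab' : (Lz J).map ι ≫ a - (Lz J).map c ≫ b = φ := hab
  have hc : c = ι ≫ terminal.from X := Subsingleton.elim _ _
  refine ⟨(a - (Lz J).map (terminal.from X) ≫ b : (Lz J).obj X ⟶ F), ?_⟩
  change (Lz J).map ι ≫ (a - (Lz J).map (terminal.from X) ≫ b) = _
  rw [← hab', hc, Functor.map_comp, Preadditive.comp_sub, Category.assoc]

end Groth.Agent.Lib.helper10.TAMono
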