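import Mathlib
import Groth.Prelude.Def_Tors

set_option autoImplicit false
universe u
open CategoryTheory CategoryTheory.Limits Opposite

namespace Groth.Agent.Lib.helper10.TorsLib

variable {C : Type u} [SmallCategory C] {J : GrothendieckTopology C}

/-- the constant one-point sheaf -/
def pt (J : GrothendieckTopology C) : Sheaf J (Type u) :=
  ⟨(Functor.const _).obj PUnit, Presheaf.isSheaf_of_isTerminal J Types.isTerminalPUnit⟩

variable {G : Sheaf J AddCommGrpCat.{u}} (T : Tors.Torsor G)

/-- a compatible family of sections from a global section -/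
noncomputable def sec (s : ⊤_ (Sheaf J (Type u)) ⟶ T.P) (U : Cᵒᵖ) : T.P.obj.obj U :=
  (terminal.from (pt J) ≫ s).hom.app U PUnit.unit

lemma sec_map (s : ⊤_ (Sheaf J (Type u)) ⟶ T.P) {U V : Cᵒᵖ} (f : U ⟶ V) :
    T.P.obj.map f (sec T s U) = sec T s V := by
  have := ConcreteCategory.congr_hom ((terminal.from (pt J) ≫ s).hom.naturality f) PUnit.unit
  exact this.symm

theorem isTrivial_of_hasSection (h : T.HasSection) : T.IsTrivial := by
  obtain ⟨s⟩ := h
  let φ : (sheafCompose J (forget AddCommGrpCat.{u})).obj G ⟶ T.P :=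
    ⟨{ app := fun U => ↾fun g => T.vadd g (sec T s U)
       naturality := by
         intro U V f
         ext g
         exact ((T.map_vadd f (g : G.obj.obj U) (sec T s U)).trans
           (congrArg (T.vadd (G.obj.map f (g : G.obj.obj U))) (sec_map T s f))).symm }⟩
  have hbij : ∀ U : Cᵒᵖ, IsIso (φ.hom.app U) := by
    intro U
    rw [isIso_iff_bijective]
    constructor
    · intro g h hgh
      have hgh' : T.vadd g (sec T s U) = T.vadd h (sec T s U) := hgh
      obtain ⟨k, _, hk⟩ := T.free_transitive (sec T s U) (T.vadd h (sec T s U))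
      exact (hk g hgh').trans (hk h rfl).symm
    · intro p
      obtain ⟨g, hg, _⟩ := T.free_transitive (sec T s U) p
      exact ⟨g, hg⟩
  have h1 : IsIso φ.hom := NatIso.isIso_of_isIso_app _
  have h2 : IsIso φ := by
    have : IsIso ((sheafToPresheaf J (Type u)).map φ) := h1
    exact isIso_of_reflects_iso φ (sheafToPresheaf J (Type u))
  refine ⟨asIso φ, ?_⟩
  intro U g h
  change T.vadd (g + h) (sec T s U) = T.vadd g (T.vadd h (sec T s U))
  exact T.add_vadd g h _

theorem hasSection_of_isTrivial (h : T.IsTrivial) : T.HasSection := by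
  obtain ⟨e, _⟩ := h
  let z : ⊤_ (Sheaf J (Type u)) ⟶ (sheafCompose J (forget AddCommGrpCat.{u})).obj G :=
    ⟨{ app := fun U => ↾fun _ => (0 : G.obj.obj U)
       naturality := by
         intro U V f
         ext x
         change (0 : G.obj.obj V) = (G.obj.map f).hom 0
         rw [map_zero] }⟩
  exact ⟨z ≫ e.hom⟩

end Groth.Agent.Lib.helper10.TorsLib
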