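import Mathlib
import Groth.Prelude.Def_FibSite

set_option autoImplicit false
set_option backward.isDefEq.respectTransparency.types false
universe v₃ u₃ v₂ u₂ v₁ u₁

open CategoryTheory CategoryTheory.Limits Opposite Pseudofunctor Pseudofunctor.CoGrothendieck

namespace Groth.Agent.Lib.helper10.TotTop

variable {𝒮 : Type u₁} [Category.{v₁} 𝒮] (F : Pseudofunctor (LocallyDiscrete 𝒮ᵒᵖ) Cat.{v₂, u₂})

set_option backward.defeqAttrib.useBackward true in
set_option backward.isDefEq.respectTransparency false in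
attribute [local simp] PrelaxFunctor.map₂_eqToHom in
/-- precomposition of a morphism with a vertical morphism from the fibre -/
lemma ι_map_comp {A B : ∫ᶜ F} {V : F.obj ⟨op A.base⟩} (v : V ⟶ A.fiber) (m : A ⟶ B) :
    (ι F A.base).map v ≫ m = (⟨m.base, v ≫ m.fiber⟩ : (⟨A.base, V⟩ : ∫ᶜ F) ⟶ B) := by
  ext
  · simp
  · simp [F.mapComp_id_right_inv_app, Bicategory.Strict.rightUnitor_eqToIso, ← NatTrans.naturality_assoc,
        ← Cat.Hom₂.comp_app]

set_option backward.defeqAttrib.useBackward true in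
set_option backward.isDefEq.respectTransparency false in
attribute [local simp] PrelaxFunctor.map₂_eqToHom in
lemma comp_ι_map {A : ∫ᶜ F} {S : 𝒮} {W W' : F.obj ⟨op S⟩} (m : A ⟶ ⟨S, W⟩) (r : W ⟶ W') :
    m ≫ (ι F S).map r = (⟨m.base, m.fiber ≫ (F.map m.base.op.toLoc).toFunctor.map r⟩ : A ⟶ ⟨S, W'⟩) := by
  ext
  · simp
  · simp [F.mapComp_id_left_inv_app, Bicategory.Strict.leftUnitor_eqToIso, ← Functor.map_comp_assoc,
        ← Cat.Hom₂.comp_app]

variable (J : FibSite.Topologies F)

/-- the explicit description of the total topology, as a topology -/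
def expl (hF : FibSite.IsPreFibSite F J) : GrothendieckTopology (∫ᶜ F) where
  sieves X := {S | ∃ R ∈ J X.base X.fiber, Sieve.functorPushforward (ι F X.base) R ≤ S}
  top_mem' X := ⟨⊤, (J _).top_mem _, le_top⟩
  pullback_stable' := by
    intro X Y S h hS
    obtain ⟨R, hR, hRS⟩ := hS
    have := hF h.base
    have hR₁ : R.functorPushforward (FibSite.invImage F h.base) ∈
        J Y.base ((FibSite.invImage F h.base).obj X.fiber) :=
      (CoverPreserving.of_isContinuous (FibSite.invImage F h.base) (J X.base) (J Y.base)).cover_preserve hR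
    refine ⟨(R.functorPushforward (FibSite.invImage F h.base)).pullback h.fiber,
      (J Y.base).pullback_stable h.fiber hR₁, ?_⟩
    rintro Z g ⟨V, v, a, hv, rfl⟩
    obtain ⟨W, r, b, hr, hvb⟩ := hv
    show S ((a ≫ (ι F Y.base).map v) ≫ h)
    let m : (⟨Y.base, V⟩ : ∫ᶜ F) ⟶ ⟨X.base, W⟩ := ⟨h.base, b⟩
    have e1 : (ι F Y.base).map v ≫ h = m ≫ (ι F X.base).map r := by
      refine (ι_map_comp F v h).trans (Eq.trans ?_ (comp_ι_map F m r).symm)
      exact congrArg (fun t => (⟨h.base, t⟩ : (⟨Y.base, V⟩ : ∫ᶜ F) ⟶ X)) hvb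
    have e2 : (a ≫ (ι F Y.base).map v) ≫ h = (a ≫ m) ≫ (ι F X.base).map r :=
      (Category.assoc _ _ _).trans ((congrArg (a ≫ ·) e1).trans (Category.assoc _ _ _).symm)
    rw [e2]
    exact S.downward_closed (hRS _ (Sieve.image_mem_functorPushforward _ _ hr)) _
  transitive' := by
    intro X S hS T hT
    obtain ⟨R, hR, hRS⟩ := hS
    have key : ∀ (W : F.obj ⟨op X.base⟩) (r : W ⟶ X.fiber) (hr : R r),
        ∃ R' ∈ J X.base W, Sieve.functorPushforward (ι F X.base) R' ≤ T.pullback ((ι F X.base).map r) :=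
      fun W r hr => hT (hRS _ (Sieve.image_mem_functorPushforward _ _ hr))
    choose R' hR' hR'T using key
    refine ⟨Sieve.bind R (fun W r hr => R' W r hr), (J X.base).bind_covering hR (fun W r hr => hR' W r hr), ?_⟩
    rintro Z g ⟨V, w, a, hw, rfl⟩
    obtain ⟨W, w', r, hr, hw', rfl⟩ := hw
    have := hR'T W r hr _ (Sieve.image_mem_functorPushforward (ι F X.base) _ hw')
    rw [Functor.map_comp]
    exact T.downward_closed this a

theorem totalTopology_eq (hF : FibSite.IsPreFibSite F J) :
    FibSite.totalTopology F J = expl F J hF := by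
  apply le_antisymm
  · apply FibSite.totalTopology_le
    intro S U R hR
    exact ⟨R, hR, le_rfl⟩
  · rintro X S ⟨R, hR, hRS⟩
    exact (FibSite.totalTopology F J).superset_covering hRS
      (FibSite.functorPushforward_mem_totalTopology hR)

theorem mem_iff (hF : FibSite.IsPreFibSite F J) (X : ∫ᶜ F) (S : Sieve X) :
    S ∈ FibSite.totalTopology F J X ↔
      ∃ R ∈ J X.base X.fiber, Sieve.functorPushforward (ι F X.base) R ≤ S := by
  rw [totalTopology_eq F J hF]
  rfl

/-- cocontinuity of the fibre inclusions -/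
theorem isCocontinuous (hF : FibSite.IsPreFibSite F J) (S : 𝒮) :
    (ι F S).IsCocontinuous (J S) (FibSite.totalTopology F J) where
  cover_lift {U T} hT := by
    obtain ⟨R, hR, hRT⟩ := (mem_iff F J hF _ T).1 hT
    refine (J S).superset_covering ?_ hR
    intro V r hr
    exact hRT _ (Sieve.image_mem_functorPushforward _ _ hr)

end Groth.Agent.Lib.helper10.TotTop
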