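import Mathlib
import Groth.Prelude.Def_FibSite
import Groth.Agent.Lib.helper10.TotTop
import Groth.Agent.Lib.helper10.ContCompat

set_option autoImplicit false
set_option backward.isDefEq.respectTransparency.types false
universe w v₃ u₃ v₂ u₂ v₁ u₁

open CategoryTheory CategoryTheory.Limits Opposite Pseudofunctor Pseudofunctor.CoGrothendieck

namespace Groth.Agent.Lib.helper10.TotSheaf

open Groth.Agent.Lib.helper10.TotTop

variable {𝒮 : Type u₁} [Category.{v₁} 𝒮] (F : Pseudofunctor (LocallyDiscrete 𝒮ᵒᵖ) Cat.{v₂, u₂})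

/-- naturality of cartesian lifts -/
lemma ι_map_comp_cart {T S : 𝒮} (f : T ⟶ S) {Y'' Y : F.obj ⟨op S⟩} (β : Y'' ⟶ Y) :
    (ι F T).map ((FibSite.invImage F f).map β) ≫ cartesianLift Y f =
      cartesianLift Y'' f ≫ (ι F S).map β := by
  refine (ι_map_comp F (A := domainCartesianLift Y f) _ _).trans
    (Eq.trans ?_ (comp_ι_map F (cartesianLift Y'' f) β).symm)
  simp

/-- factorization of a morphism into vertical followed by cartesian -/
lemma fac_cart {X : ∫ᶜ F} {S : 𝒮} {Y : F.obj ⟨op S⟩} (a : X ⟶ ⟨S, Y⟩) :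
    a = (ι F X.base).map a.fiber ≫ cartesianLift Y a.base := by
  refine Eq.trans ?_ (ι_map_comp F (A := domainCartesianLift Y a.base) a.fiber
    (cartesianLift Y a.base)).symm
  apply Hom.ext
  · simp
  · rfl

variable (J : FibSite.Topologies F)

/-- restrictions of total sheaves to the fibres are separated -/
lemma restr_separated (G : (∫ᶜ F)ᵒᵖ ⥤ Type w)
    (hG : Presieve.IsSheaf (FibSite.totalTopology F J) G) (S : 𝒮)
    (U : F.obj ⟨op S⟩) (R : Sieve U) (hR : R ∈ J S U) (x y : G.obj (op ((ι F S).obj U)))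
    (h : ∀ (V : F.obj ⟨op S⟩) (r : V ⟶ U), R r →
      G.map ((ι F S).map r).op x = G.map ((ι F S).map r).op y) : x = y := by
  have := (hG _ (FibSite.functorPushforward_mem_totalTopology hR)).isSeparatedFor
  apply this.ext
  rintro Z g ⟨V, r, a, hr, rfl⟩
  rw [op_comp, Functor.map_comp_apply, Functor.map_comp_apply, h V r hr]

omit [Category.{v₁} 𝒮] in
lemma map_map_apply {C : Type*} [Category C] (G : Cᵒᵖ ⥤ Type w) {X Y Z : C} (f : X ⟶ Y) (g : Y ⟶ Z)
    (t : G.obj (op Z)) : G.map f.op (G.map g.op t) = G.map (f ≫ g).op t := by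
  rw [op_comp, Functor.map_comp_apply]

omit [Category.{v₁} 𝒮] in
lemma map_sq {C : Type*} [Category C] (G : Cᵒᵖ ⥤ Type w) {A B B' D : C} (a : A ⟶ B) (b : B ⟶ D)
    (a' : A ⟶ B') (b' : B' ⟶ D) (h : a ≫ b = a' ≫ b') (t : G.obj (op D)) :
    G.map a.op (G.map b.op t) = G.map a'.op (G.map b'.op t) := by
  rw [map_map_apply, map_map_apply, h]

/-- a morphism of the total category from its components -/
def mkHom {X : ∫ᶜ F} {S : 𝒮} {Y : F.obj ⟨op S⟩} (f : X.base ⟶ S)
    (α : X.fiber ⟶ (FibSite.invImage F f).obj Y) : X ⟶ (ι F S).obj Y := ⟨f, α⟩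

/-- total compatibility of a fibrewise compatible family on a covering sieve, component form -/
lemma total_compat_aux (hF : FibSite.IsPreFibSite F J) (G : (∫ᶜ F)ᵒᵖ ⥤ Type (max u₁ v₁ u₂ v₂))
    (hG : Presieve.IsSheaf (FibSite.totalTopology F J) G)
    {S : 𝒮} {U : F.obj ⟨op S⟩} (R : Sieve U) (hR : R ∈ J S U)
    (x : Presieve.FamilyOfElements ((ι F S).op ⋙ G) R.arrows) (hx : x.Compatible)
    {X : ∫ᶜ F} {Y₁ Y₂ : F.obj ⟨op S⟩} (f : X.base ⟶ S)
    (α₁ : X.fiber ⟶ (FibSite.invImage F f).obj Y₁) (α₂ : X.fiber ⟶ (FibSite.invImage F f).obj Y₂)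
    (g₁ : Y₁ ⟶ U) (g₂ : Y₂ ⟶ U) (h₁ : R g₁) (h₂ : R g₂)
    (hfib : α₁ ≫ (FibSite.invImage F f).map g₁ = α₂ ≫ (FibSite.invImage F f).map g₂) :
    G.map (mkHom F f α₁).op (x g₁ h₁) = G.map (mkHom F f α₂).op (x g₂ h₂) := by
  have hcont := hF f
  let H : (F.obj ⟨op X.base⟩)ᵒᵖ ⥤ Type (max u₁ v₁ u₂ v₂) := (ι F X.base).op ⋙ G
  let y : Presieve.FamilyOfElements ((FibSite.invImage F f).op ⋙ H) R.arrows :=
    fun V g hg => G.map (cartesianLift V f).op (x g hg)
  have hy : y.Compatible := by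
    intro Z₁ Z₂ Z β₁ β₂ k₁ k₂ hk₁ hk₂ ek
    have := hx β₁ β₂ hk₁ hk₂ ek
    show G.map ((ι F X.base).map ((FibSite.invImage F f).map β₁)).op
        (G.map (cartesianLift Z₁ f).op (x k₁ hk₁)) =
      G.map ((ι F X.base).map ((FibSite.invImage F f).map β₂)).op
        (G.map (cartesianLift Z₂ f).op (x k₂ hk₂))
    exact (map_sq G _ _ _ _ (ι_map_comp_cart F f β₁) (x k₁ hk₁)).trans
      ((congrArg (fun t => G.map (cartesianLift Z f).op t) this).trans
        (map_sq G _ _ _ _ (ι_map_comp_cart F f β₂) (x k₂ hk₂)).symm)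
  have key := ContCompat.compat_of_continuous.{max u₁ v₁} (J S) (J X.base) (FibSite.invImage F f) H
    (fun U' R' hR' a b hab => restr_separated F J G hG X.base U' R' hR' a b hab)
    R hR y hy g₁ g₂ h₁ h₂ α₁ α₂ hfib
  have k1 : mkHom F f α₁ = (ι F X.base).map α₁ ≫ cartesianLift Y₁ f := fac_cart F (mkHom F f α₁)
  have k2 : mkHom F f α₂ = (ι F X.base).map α₂ ≫ cartesianLift Y₂ f := fac_cart F (mkHom F f α₂)
  exact (congrArg (fun m => G.map m.op (x g₁ h₁)) k1).trans
    ((map_map_apply G _ _ _).symm.trans (key.trans ((map_map_apply G _ _ _).trans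
      (congrArg (fun m => G.map m.op (x g₂ h₂)) k2.symm))))

/-- total compatibility of a fibrewise compatible family on a covering sieve -/
lemma total_compat (hF : FibSite.IsPreFibSite F J) (G : (∫ᶜ F)ᵒᵖ ⥤ Type (max u₁ v₁ u₂ v₂))
    (hG : Presieve.IsSheaf (FibSite.totalTopology F J) G)
    {S : 𝒮} {U : F.obj ⟨op S⟩} (R : Sieve U) (hR : R ∈ J S U)
    (x : Presieve.FamilyOfElements ((ι F S).op ⋙ G) R.arrows) (hx : x.Compatible)
    {X : ∫ᶜ F} {Y₁ Y₂ : F.obj ⟨op S⟩} (f₁ : X ⟶ (ι F S).obj Y₁) (f₂ : X ⟶ (ι F S).obj Y₂)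
    (g₁ : Y₁ ⟶ U) (g₂ : Y₂ ⟶ U) (h₁ : R g₁) (h₂ : R g₂)
    (e : f₁ ≫ (ι F S).map g₁ = f₂ ≫ (ι F S).map g₂) :
    G.map f₁.op (x g₁ h₁) = G.map f₂.op (x g₂ h₂) := by
  have e' := (comp_ι_map F (S := S) f₁ g₁).symm.trans (e.trans (comp_ι_map F (S := S) f₂ g₂))
  obtain ⟨hb, hfib⟩ := (Hom.ext_iff _ _).1 e'
  have hb' : f₁.base = f₂.base := hb
  obtain ⟨f, α₁⟩ := f₁
  obtain ⟨f', α₂⟩ := f₂
  dsimp only at hb'
  subst hb'
  simp only [eqToHom_refl, Category.comp_id] at hfib
  exact total_compat_aux F J hF G hG R hR x hx f α₁ α₂ g₁ g₂ h₁ h₂ hfib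

/-- the restriction of a total sheaf (in the universe of continuity) to a fibre is a sheaf -/
theorem restr_isSheaf_big (hF : FibSite.IsPreFibSite F J) (G : (∫ᶜ F)ᵒᵖ ⥤ Type (max u₁ v₁ u₂ v₂))
    (hG : Presieve.IsSheaf (FibSite.totalTopology F J) G) (S : 𝒮) :
    Presieve.IsSheaf (J S) ((ι F S).op ⋙ G) := by
  intro U R hR x hx
  let x' : Presieve.FamilyOfElements G (R.functorPushforward (ι F S)).arrows :=
    fun Z g hg => G.map hg.choose_spec.choose_spec.choose.op
      (x hg.choose_spec.choose hg.choose_spec.choose_spec.choose_spec.1)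
  have hx' : x'.Compatible := by
    intro Y₁ Y₂ Z g₁ g₂ f₁ f₂ h₁ h₂ e
    show G.map g₁.op (G.map h₁.choose_spec.choose_spec.choose.op
        (x h₁.choose_spec.choose h₁.choose_spec.choose_spec.choose_spec.1)) =
      G.map g₂.op (G.map h₂.choose_spec.choose_spec.choose.op
        (x h₂.choose_spec.choose h₂.choose_spec.choose_spec.choose_spec.1))
    rw [map_map_apply, map_map_apply]
    apply total_compat F J hF G hG R hR x hx
    rw [Category.assoc, Category.assoc, ← h₁.choose_spec.choose_spec.choose_spec.2,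
      ← h₂.choose_spec.choose_spec.choose_spec.2, e]
  obtain ⟨t, ht, -⟩ := hG _ (FibSite.functorPushforward_mem_totalTopology hR) x' hx'
  have htx : ∀ (V : F.obj ⟨op S⟩) (r : V ⟶ U) (hr : R r), G.map ((ι F S).map r).op t = x r hr := by
    intro V r hr
    have hmem := Sieve.image_mem_functorPushforward (ι F S) R hr
    refine (ht ((ι F S).map r) hmem).trans ?_
    show G.map hmem.choose_spec.choose_spec.choose.op
        (x hmem.choose_spec.choose hmem.choose_spec.choose_spec.choose_spec.1) = x r hr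
    have := total_compat F J hF G hG R hR x hx hmem.choose_spec.choose_spec.choose (𝟙 _)
      hmem.choose_spec.choose r hmem.choose_spec.choose_spec.choose_spec.1 hr
      (by rw [Category.id_comp]; exact hmem.choose_spec.choose_spec.choose_spec.2.symm)
    refine this.trans ?_
    rw [op_id, Functor.map_id_apply]
  refine ⟨t, fun V r hr => htx V r hr, ?_⟩
  intro t' ht'
  apply restr_separated F J G hG S U R hR
  intro V r hr
  exact (ht' r hr).trans (htx V r hr).symm

/-- the fibre inclusions are continuous for the total topology -/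
theorem ι_isContinuous (hF : FibSite.IsPreFibSite F J) (S : 𝒮) :
    (ι F S).IsContinuous (J S) (FibSite.totalTopology F J) where
  op_comp_isSheaf_of_types G :=
    restr_isSheaf_big F J hF G.obj ((isSheaf_iff_isSheaf_of_type _ _).1 G.2) S

/-- sheaves on the total site restrict to sheaves on the fibres (any coefficients) -/
theorem restr_isSheaf (hF : FibSite.IsPreFibSite F J) {A : Type u₃} [Category.{v₃} A]
    (P : (∫ᶜ F)ᵒᵖ ⥤ A) (hP : Presheaf.IsSheaf (FibSite.totalTopology F J) P) (S : 𝒮) :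
    Presheaf.IsSheaf (J S) ((ι F S).op ⋙ P) := by
  have := ι_isContinuous F J hF S
  exact Functor.op_comp_isSheaf_of_isSheaf (ι F S) (J S) _ P hP

omit [Category.{v₁} 𝒮] in
lemma isSeparatedFor_of_le {C : Type*} [Category C] {X : C} (P : Cᵒᵖ ⥤ Type w) {R R' : Presieve X}
    (h : R ≤ R') (hR : Presieve.IsSeparatedFor P R) : Presieve.IsSeparatedFor P R' := by
  intro x t₁ t₂ h₁ h₂
  exact hR (x.restrict h) t₁ t₂ (fun Y f hf => h₁ f (h _ _ hf)) (fun Y f hf => h₂ f (h _ _ hf))

/-- a presheaf whose restriction to the fibre over `S` is a sheaf is a sheaf for the images of the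
covering sieves of that fibre -/
lemma isSheafFor_pushforward (G : (∫ᶜ F)ᵒᵖ ⥤ Type w) (S : 𝒮)
    (hGS : Presieve.IsSheaf (J S) ((ι F S).op ⋙ G)) (U : F.obj ⟨op S⟩) (R : Sieve U)
    (hR : R ∈ J S U) : Presieve.IsSheafFor G (R.functorPushforward (ι F S)).arrows := by
  intro x hx
  have hxs := (Presieve.compatible_iff_sieveCompatible x).1 hx
  let x' : Presieve.FamilyOfElements ((ι F S).op ⋙ G) R.arrows :=
    fun V r hr => x ((ι F S).map r) (Sieve.image_mem_functorPushforward _ _ hr)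
  have hx' : x'.Compatible := by
    rw [Presieve.compatible_iff_sieveCompatible]
    intro V W r g hr
    show x ((ι F S).map (g ≫ r)) _ = G.map ((ι F S).map g).op (x ((ι F S).map r) _)
    rw [← hxs]
    congr 1
    exact (ι F S).map_comp g r
  obtain ⟨t, ht, huniq⟩ := hGS R hR x' hx'
  refine ⟨t, ?_, ?_⟩
  · rintro Z g ⟨V, r, a, hr, rfl⟩
    rw [hxs ((ι F S).map r) a (Sieve.image_mem_functorPushforward _ _ hr), ← map_map_apply]
    exact congrArg (fun s => G.map a.op s) (ht r hr)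
  · intro t' ht'
    apply huniq
    intro V r hr
    exact ht' ((ι F S).map r) _

/-- a presheaf of types on the total category whose restrictions to the fibres are sheaves is a
sheaf for the total topology -/
theorem isSheaf_of_restr (hF : FibSite.IsPreFibSite F J) (G : (∫ᶜ F)ᵒᵖ ⥤ Type w)
    (h : ∀ S, Presieve.IsSheaf (J S) ((ι F S).op ⋙ G)) :
    Presieve.IsSheaf (FibSite.totalTopology F J) G := by
  intro X T hT
  obtain ⟨R, hR, hRT⟩ := (mem_iff F J hF X T).1 hT
  refine Presieve.isSheafFor_subsieve_aux G (S := R.functorPushforward (ι F X.base)) hRT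
    (isSheafFor_pushforward F J G X.base (h X.base) X.fiber R hR) ?_
  intro Y f hf
  have hcov : (R.functorPushforward (ι F X.base)).pullback f ∈ FibSite.totalTopology F J Y :=
    (FibSite.totalTopology F J).pullback_stable f (FibSite.functorPushforward_mem_totalTopology hR)
  obtain ⟨R', hR', hR'T⟩ := (mem_iff F J hF Y _).1 hcov
  exact isSeparatedFor_of_le G hR'T
    (isSheafFor_pushforward F J G Y.base (h Y.base) Y.fiber R' hR').isSeparatedFor

/-- sheaves on the total site are the presheaves whose restrictions to all fibres are sheaves -/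
theorem isSheaf_iff (hF : FibSite.IsPreFibSite F J) {A : Type u₃} [Category.{v₃} A]
    (P : (∫ᶜ F)ᵒᵖ ⥤ A) :
    Presheaf.IsSheaf (FibSite.totalTopology F J) P ↔
      ∀ S : 𝒮, Presheaf.IsSheaf (J S) ((ι F S).op ⋙ P) := by
  constructor
  · intro h S
    exact restr_isSheaf F J hF P h S
  · intro h E
    apply isSheaf_of_restr F J hF
    intro S
    exact h S E

end Groth.Agent.Lib.helper10.TotSheaf
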