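import Mathlib
import Groth.Prelude.Def_FibSite
import Groth.Agent.Lib.helper10.TotTop
import Groth.Agent.Lib.helper10.TotSheaf

set_option autoImplicit false
set_option backward.isDefEq.respectTransparency.types false
universe w v₃ u₃ v₂ u₂ v₁ u₁

open CategoryTheory CategoryTheory.Limits Opposite Pseudofunctor Pseudofunctor.CoGrothendieck

namespace Groth.Agent.Lib.helper10.TotRan

open Groth.Agent.Lib.helper10.TotTop Groth.Agent.Lib.helper10.TotSheaf

variable {𝒮 : Type u₁} [Category.{v₁} 𝒮] (F : Pseudofunctor (LocallyDiscrete 𝒮ᵒᵖ) Cat.{v₂, u₂})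

variable (i j : 𝒮) [∀ (P : (F.obj ⟨op i⟩)ᵒᵖ ⥤ Type w), (ι F i).op.HasPointwiseRightKanExtension P]
  (P : (F.obj ⟨op i⟩)ᵒᵖ ⥤ Type w)

/-- the projection of the value at `⟨j, V⟩` of the right Kan extension along `ι_i` to the `f`-th factor -/
noncomputable def ranProj (f : i ⟶ j) (V : F.obj ⟨op j⟩) :
    ((ι F i).op.ran.obj P).obj (op ((ι F j).obj V)) ⟶ P.obj (op ((FibSite.invImage F f).obj V)) :=
  ((ι F i).op.ran.obj P).map (cartesianLift V f).op ≫
    ((ι F i).op.ranCounit.app P).app (op ((FibSite.invImage F f).obj V))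

/-- the section of the structured arrow diagram attached to a family -/
def sec (V : F.obj ⟨op j⟩) (t : ∀ f : i ⟶ j, P.obj (op ((FibSite.invImage F f).obj V)))
    {W : F.obj ⟨op i⟩} (g : (ι F i).obj W ⟶ (ι F j).obj V) : P.obj (op W) :=
  P.map (Quiver.Hom.op (show W ⟶ (FibSite.invImage F g.base).obj V from g.fiber)) (t g.base)

omit [∀ (P : (F.obj ⟨op i⟩)ᵒᵖ ⥤ Type w), (ι F i).op.HasPointwiseRightKanExtension P] in
lemma sec_ι_map_comp (V : F.obj ⟨op j⟩) (t : ∀ f : i ⟶ j, P.obj (op ((FibSite.invImage F f).obj V)))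
    {W W' : F.obj ⟨op i⟩} (k : W' ⟶ W) (g : (ι F i).obj W ⟶ (ι F j).obj V) :
    sec F i j P V t ((ι F i).map k ≫ g) = P.map k.op (sec F i j P V t g) := by
  have e : (ι F i).map k ≫ g = (⟨g.base, k ≫ g.fiber⟩ : (ι F i).obj W' ⟶ (ι F j).obj V) :=
    ι_map_comp F (A := (ι F i).obj W) k g
  rw [e]
  show P.map (Quiver.Hom.op (k ≫ g.fiber)) (t g.base) = P.map k.op (P.map (Quiver.Hom.op g.fiber) (t g.base))
  rw [op_comp, Functor.map_comp_apply]
  rfl

omit [∀ (P : (F.obj ⟨op i⟩)ᵒᵖ ⥤ Type w), (ι F i).op.HasPointwiseRightKanExtension P] in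
lemma sec_cart (V : F.obj ⟨op j⟩) (t : ∀ f : i ⟶ j, P.obj (op ((FibSite.invImage F f).obj V)))
    (f : i ⟶ j) : sec F i j P V t (cartesianLift V f) = t f := by
  show P.map (Quiver.Hom.op (𝟙 _)) (t f) = t f
  rw [op_id, Functor.map_id_apply]

omit [∀ (P : (F.obj ⟨op i⟩)ᵒᵖ ⥤ Type w), (ι F i).op.HasPointwiseRightKanExtension P] in
lemma eval_fac {E : (∫ᶜ F)ᵒᵖ ⥤ Type w} (ε : (ι F i).op ⋙ E ⟶ P) (V : F.obj ⟨op j⟩)
    {W : F.obj ⟨op i⟩} {h : i ⟶ j} (φ : W ⟶ (FibSite.invImage F h).obj V)
    (x' : E.obj (op ((ι F j).obj V))) (g : (ι F i).obj W ⟶ (ι F j).obj V)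
    (hg : g = (ι F i).map φ ≫ cartesianLift V h) :
    ε.app (op W) (E.map g.op x') =
      P.map φ.op (ε.app (op ((FibSite.invImage F h).obj V)) (E.map (cartesianLift V h).op x')) := by
  subst hg
  exact (congrArg (fun z => ε.app (op W) z)
    (map_map_apply E ((ι F i).map φ) (cartesianLift V h) x').symm).trans
    (NatTrans.naturality_apply ε φ.op _)

/-- the value at `⟨j, V⟩` of the right Kan extension along `ι_i` is the product over `f : i ⟶ j` of
the values at `f^* V` -/
theorem ran_existsUnique (V : F.obj ⟨op j⟩)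
    (t : ∀ f : i ⟶ j, P.obj (op ((FibSite.invImage F f).obj V))) :
    ∃! x : ((ι F i).op.ran.obj P).obj (op ((ι F j).obj V)), ∀ f, ranProj F i j P f V x = t f := by
  have hlim : IsLimit ((Functor.RightExtension.mk _ ((ι F i).op.ranCounit.app P)).coneAt
      (op ((ι F j).obj V))) := (ι F i).op.isPointwiseRightKanExtensionRanCounit P _
  let s : ∀ A : StructuredArrow (op ((ι F j).obj V)) (ι F i).op,
      (StructuredArrow.proj _ _ ⋙ P).obj A := fun A => sec F i j P V t A.hom.unop
  have hs : s ∈ (StructuredArrow.proj (op ((ι F j).obj V)) (ι F i).op ⋙ P).sections := by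
    intro A A' m
    have hw : A'.hom.unop = (ι F i).map m.right.unop ≫ A.hom.unop := by
      have := StructuredArrow.w m
      rw [← this]
      rfl
    show P.map m.right (sec F i j P V t A.hom.unop) = sec F i j P V t A'.hom.unop
    rw [hw, sec_ι_map_comp]
    rfl
  obtain ⟨x, hx, hux⟩ := (Types.isLimit_iff _).1 ⟨hlim⟩ s hs
  refine ⟨x, ?_, ?_⟩
  · intro f
    have := hx (StructuredArrow.mk (Y := op ((FibSite.invImage F f).obj V)) (cartesianLift V f).op)
    exact this.trans (sec_cart F i j P V t f)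
  · intro x' hx'
    apply hux
    intro A
    have hfac : A.hom.unop = (ι F i).map (A.hom.unop.fiber) ≫ cartesianLift V A.hom.unop.base :=
      fac_cart F A.hom.unop
    have key := eval_fac F i j P ((ι F i).op.ranCounit.app P) V
      (W := A.right.unop) (h := A.hom.unop.base) A.hom.unop.fiber x' A.hom.unop hfac
    refine Eq.trans ?_ (key.trans ?_)
    · rfl
    · exact congrArg (fun y => P.map (Quiver.Hom.op (show A.right.unop ⟶
        (FibSite.invImage F A.hom.unop.base).obj V from A.hom.unop.fiber)) y) (hx' A.hom.unop.base)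

/-- naturality of the projections -/
lemma ranProj_naturality (f : i ⟶ j) {V V' : F.obj ⟨op j⟩} (β : V' ⟶ V)
    (x : ((ι F i).op.ran.obj P).obj (op ((ι F j).obj V))) :
    ranProj F i j P f V' (((ι F i).op.ran.obj P).map ((ι F j).map β).op x) =
      P.map ((FibSite.invImage F f).map β).op (ranProj F i j P f V x) := by
  have h1 := map_sq ((ι F i).op.ran.obj P) (cartesianLift V' f) ((ι F j).map β)
    ((ι F i).map ((FibSite.invImage F f).map β)) (cartesianLift V f)
    (ι_map_comp_cart F f β).symm x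
  show ((ι F i).op.ranCounit.app P).app (op ((FibSite.invImage F f).obj V'))
      (((ι F i).op.ran.obj P).map (cartesianLift V' f).op
        (((ι F i).op.ran.obj P).map ((ι F j).map β).op x)) = _
  refine (congrArg (fun z => ((ι F i).op.ranCounit.app P).app
    (op ((FibSite.invImage F f).obj V')) z) h1).trans ?_
  exact NatTrans.naturality_apply ((ι F i).op.ranCounit.app P)
    ((FibSite.invImage F f).map β).op _

/-- naturality of the projections in the presheaf -/
lemma ranProj_naturality_presheaf {P P' : (F.obj ⟨op i⟩)ᵒᵖ ⥤ Type w} (φ : P ⟶ P') (f : i ⟶ j)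
    (V : F.obj ⟨op j⟩) (x : ((ι F i).op.ran.obj P).obj (op ((ι F j).obj V))) :
    ranProj F i j P' f V ((((ι F i).op.ran.map φ).app (op ((ι F j).obj V))) x) =
      φ.app (op ((FibSite.invImage F f).obj V)) (ranProj F i j P f V x) := by
  have h1 := NatTrans.naturality_apply ((ι F i).op.ran.map φ) (cartesianLift V f).op x
  have h2 := congrArg (fun τ => (τ.app (op ((FibSite.invImage F f).obj V)))
    (((ι F i).op.ran.obj P).map (cartesianLift V f).op x)) ((ι F i).op.ranCounit.naturality φ)
  show ((ι F i).op.ranCounit.app P').app (op ((FibSite.invImage F f).obj V))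
      (((ι F i).op.ran.obj P').map (cartesianLift V f).op
        ((((ι F i).op.ran.map φ).app (op ((ι F j).obj V))) x)) = _
  refine (congrArg (fun z => ((ι F i).op.ranCounit.app P').app
    (op ((FibSite.invImage F f).obj V)) z) h1.symm).trans ?_
  exact h2

section Sheaves

variable (J : FibSite.Topologies F)
  [∀ S : 𝒮, (ι F S).IsContinuous (J S) (FibSite.totalTopology F J)]
  [(ι F i).IsCocontinuous (J i) (FibSite.totalTopology F J)]
  [∀ (R S : 𝒮) (f : R ⟶ S), (FibSite.invImage F f).IsContinuous (J S) (J R)]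

/-- the projection, as a natural transformation of functors between sheaf categories -/
noncomputable def πNat (f : i ⟶ j) :
    FibSite.coextend F J (Type w) i ⋙ FibSite.restr F J (Type w) j ⟶
      (FibSite.invImage F f).sheafPushforwardContinuous (Type w) (J j) (J i) where
  app a := ⟨{ app := fun V => ranProj F i j a.obj f V.unop
              naturality := by
                intro V V' β
                ext x
                exact ranProj_naturality F i j a.obj f β.unop x }⟩
  naturality a a' φ := by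
    apply Sheaf.hom_ext
    ext V x
    exact ranProj_naturality_presheaf F i j φ.hom f V.unop x

/-- the fan of projections is a limit fan -/
noncomputable def isLimitFan (a : Sheaf (J i) (Type w)) :
    IsLimit (Fan.mk ((FibSite.coextend F J (Type w) i ⋙ FibSite.restr F J (Type w) j).obj a)
      (fun f : i ⟶ j => (πNat F i j J f).app a)) := by
  classical
  apply isLimitOfReflects (sheafToPresheaf (J j) (Type w))
  apply evaluationJointlyReflectsLimits
  intro V
  apply Nonempty.some
  rw [Types.isLimit_iff]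
  intro s _
  obtain ⟨x, hx, hux⟩ := ran_existsUnique F i j a.obj V.unop (fun f => s ⟨f⟩)
  refine ⟨x, ?_, ?_⟩
  · rintro ⟨f⟩
    exact hx f
  · intro y hy
    exact hux y (fun f => hy ⟨f⟩)

end Sheaves

end Groth.Agent.Lib.helper10.TotRan
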