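import Mathlib
import Groth.Prelude.Def_FibSite
import Groth.Agent.Lib.helper10.TotTop
import Groth.Agent.Lib.helper10.TotSheaf
import Groth.Agent.Lib.helper10.TotRan

set_option autoImplicit false
set_option backward.isDefEq.respectTransparency.types false
universe w v₃ u₃ v₂ u₂ v₁ u₁

open CategoryTheory CategoryTheory.Limits Opposite Pseudofunctor Pseudofunctor.CoGrothendieck

namespace Groth.Agent.Lib.helper10.TotExt

open Groth.Agent.Lib.helper10.TotTop Groth.Agent.Lib.helper10.TotSheaf Groth.Agent.Lib.helper10.TotRan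

variable {𝒮 : Type u₁} [Category.{v₁} 𝒮] (F : Pseudofunctor (LocallyDiscrete 𝒮ᵒᵖ) Cat.{v₂, u₂})
  (J : FibSite.Topologies F)

section Unique

variable (j T : 𝒮) [Unique (j ⟶ T)]
  [∀ (P : (F.obj ⟨op j⟩)ᵒᵖ ⥤ Type w), (ι F j).op.HasPointwiseRightKanExtension P]
  [∀ S : 𝒮, (ι F S).IsContinuous (J S) (FibSite.totalTopology F J)]
  [(ι F j).IsCocontinuous (J j) (FibSite.totalTopology F J)]
  [∀ (R S : 𝒮) (f : R ⟶ S), (FibSite.invImage F f).IsContinuous (J S) (J R)]

omit [Category.{v₁} 𝒮] in
lemma isIso_proj_of_unique {C : Type*} [Category C] {β : Type*} [Unique β] {X : β → C}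
    (c : Fan X) (hc : IsLimit c) : IsIso (c.proj default) := by
  let e := hc.conePointUniqueUpToIso (limitConeOfUnique X).isLimit
  have h : e.hom ≫ (limitConeOfUnique X).cone.π.app ⟨default⟩ = c.proj default :=
    IsLimit.conePointUniqueUpToIso_hom_comp _ _ _
  have h2 : (limitConeOfUnique X).cone.π.app ⟨default⟩ = 𝟙 _ := by
    simp [limitConeOfUnique]
  rw [h2] at h
  have h3 : e.hom = c.proj default := (Category.comp_id e.hom).symm.trans h
  rw [← h3]
  infer_instance

instance isIso_πNat_app (a : Sheaf (J j) (Type w)) : IsIso ((πNat F j T J default).app a) :=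
  isIso_proj_of_unique _ (isLimitFan F j T J a)

instance isIso_πNat : IsIso (πNat.{w} F j T J default) :=
  NatIso.isIso_of_isIso_app _

/-- for a unique morphism `t : j ⟶ T`, `restr_T ∘ coextend_j` is the direct image along `t^*` -/
noncomputable def ρ : FibSite.coextend F J (Type w) j ⋙ FibSite.restr F J (Type w) T ≅
    (FibSite.invImage F (default : j ⟶ T)).sheafPushforwardContinuous (Type w) (J T) (J j) :=
  asIso (πNat.{w} F j T J default)

variable [((ι F T).sheafPushforwardContinuous (Type w) (J T) (FibSite.totalTopology F J)).IsRightAdjoint]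
  [((FibSite.invImage F (default : j ⟶ T)).sheafPushforwardContinuous (Type w) (J T) (J j)).IsRightAdjoint]

/-- `restr_j ∘ extend_T` is the inverse image along `t^*` -/
noncomputable def extendRestrIso :
    (FibSite.invImage F (default : j ⟶ T)).sheafPullback (Type w) (J T) (J j) ≅
      FibSite.extend F J (Type w) T ⋙ FibSite.restr F J (Type w) j :=
  (conjugateIsoEquiv
    (((ι F T).sheafAdjunctionContinuous (Type w) (J T) (FibSite.totalTopology F J)).comp
      ((ι F j).sheafAdjunctionCocontinuous (Type w) (J j) (FibSite.totalTopology F J)))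
    ((FibSite.invImage F (default : j ⟶ T)).sheafAdjunctionContinuous (Type w) (J T) (J j))).symm
    (ρ F J j T)

end Unique

section FullyFaithful

variable (T : 𝒮) [Unique (T ⟶ T)]
  [∀ (P : (F.obj ⟨op T⟩)ᵒᵖ ⥤ Type w), (ι F T).op.HasPointwiseRightKanExtension P]
  [∀ S : 𝒮, (ι F S).IsContinuous (J S) (FibSite.totalTopology F J)]
  [(ι F T).IsCocontinuous (J T) (FibSite.totalTopology F J)]
  [∀ (R S : 𝒮) (f : R ⟶ S), (FibSite.invImage F f).IsContinuous (J S) (J R)]
  [((ι F T).sheafPushforwardContinuous (Type w) (J T) (FibSite.totalTopology F J)).IsRightAdjoint]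

/-- the inverse image along the unique endomorphism of `T` is isomorphic to the identity -/
noncomputable def invImageDefaultIso : FibSite.invImage F (default : T ⟶ T) ≅ 𝟭 _ :=
  eqToIso (congrArg (FibSite.invImage F) (Subsingleton.elim (default : T ⟶ T) (𝟙 T))) ≪≫
    Cat.Hom.toNatIso (F.mapId ⟨op T⟩)

/-- `restr_T ∘ coextend_T ≅ 𝟭` -/
noncomputable def coextendRestrIsoId :
    FibSite.coextend F J (Type w) T ⋙ FibSite.restr F J (Type w) T ≅ 𝟭 _ :=
  ρ F J T T ≪≫ Functor.sheafPushforwardContinuousId' (invImageDefaultIso F T) (Type w) (J T)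

/-- `restr_T ∘ extend_T ≅ 𝟭` -/
noncomputable def extendRestrIsoId :
    FibSite.extend F J (Type w) T ⋙ FibSite.restr F J (Type w) T ≅ 𝟭 _ :=
  ((conjugateIsoEquiv
    (((ι F T).sheafAdjunctionContinuous (Type w) (J T) (FibSite.totalTopology F J)).comp
      ((ι F T).sheafAdjunctionCocontinuous (Type w) (J T) (FibSite.totalTopology F J)))
    (Adjunction.id)).symm (coextendRestrIsoId F J T)).symm

theorem extend_full_faithful :
    (FibSite.extend F J (Type w) T).Full ∧ (FibSite.extend F J (Type w) T).Faithful := by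
  have adj := (ι F T).sheafAdjunctionContinuous (Type w) (J T) (FibSite.totalTopology F J)
  have : IsIso adj.unit := adj.isIso_unit_of_iso (extendRestrIsoId F J T)
  have hff := adj.fullyFaithfulLOfIsIsoUnit
  exact ⟨hff.full, hff.faithful⟩

end FullyFaithful

/-- a functor into total sheaves preserves finite limits if all its restrictions to fibres do -/
theorem preservesFiniteLimits_of_restr {D : Type u₃} [Category.{v₃} D]
    [∀ S : 𝒮, (ι F S).IsContinuous (J S) (FibSite.totalTopology F J)]
    (H : D ⥤ FibSite.TotSh F J (Type w))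
    (h : ∀ j, PreservesFiniteLimits (H ⋙ FibSite.restr F J (Type w) j)) :
    PreservesFiniteLimits H := by
  refine ⟨fun K _ _ => ⟨fun {K'} => ⟨fun {c} hc => ⟨?_⟩⟩⟩⟩
  apply isLimitOfReflects (sheafToPresheaf (FibSite.totalTopology F J) (Type w))
  apply evaluationJointlyReflectsLimits
  intro X
  have h1 : IsLimit ((H ⋙ FibSite.restr F J (Type w) X.unop.base).mapCone c) :=
    isLimitOfPreserves _ hc
  have h2 := isLimitOfPreserves (sheafToPresheaf (J X.unop.base) (Type w) ⋙
    (evaluation _ _).obj (op X.unop.fiber)) h1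
  exact h2

end Groth.Agent.Lib.helper10.TotExt
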