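import Mathlib
import Groth.Prelude.Def_FibSite
import Groth.Agent.Lib.helper10.TotTop
import Groth.Agent.Lib.helper10.TotSheaf

set_option autoImplicit false
set_option backward.isDefEq.respectTransparency.types false
universe w v₃ u₃ v₂ u₂ v₁ u₁

open CategoryTheory CategoryTheory.Limits Opposite Pseudofunctor Pseudofunctor.CoGrothendieck

namespace Groth.Agent.Lib.helper10.TotInduced

open Groth.Agent.Lib.helper10.TotTop Groth.Agent.Lib.helper10.TotSheaf

variable {𝒮 : Type u₁} [Category.{v₁} 𝒮] (F : Pseudofunctor (LocallyDiscrete 𝒮ᵒᵖ) Cat.{v₂, u₂})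

set_option backward.defeqAttrib.useBackward true in
set_option backward.isDefEq.respectTransparency false in
/-- the fibre inclusion is full onto the morphisms over the identity -/
lemma ι_full_of_base {S : 𝒮} {V W : F.obj ⟨op S⟩} (a : (ι F S).obj V ⟶ (ι F S).obj W)
    (ha : a.base = 𝟙 S) : ∃ a' : V ⟶ W, (ι F S).map a' = a := by
  refine ⟨a.fiber ≫ eqToHom (by simp [ha]) ≫ (F.mapId ⟨op S⟩).hom.toNatTrans.app W, ?_⟩
  ext <;> simp [ha, ← Cat.Hom₂.comp_app]

set_option backward.defeqAttrib.useBackward true in
set_option backward.isDefEq.respectTransparency false in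
lemma ι_map_injective {S : 𝒮} {V W : F.obj ⟨op S⟩} (φ ψ : V ⟶ W)
    (h : (ι F S).map φ = (ι F S).map ψ) : φ = ψ := by
  simpa [cancel_mono, ← Cat.Hom.toNatIso_hom, ← Cat.Hom.toNatIso_inv] using
    ((Hom.ext_iff _ _).mp h).2

variable (J : FibSite.Topologies F)

/-- continuity criterion for functors out of the total site -/
theorem isContinuous_iff (hF : FibSite.IsPreFibSite F J) {D : Type u₃} [Category.{v₃} D]
    (K : GrothendieckTopology D) (m : ∫ᶜ F ⥤ D) :
    m.IsContinuous (FibSite.totalTopology F J) K ↔
      ∀ S : 𝒮, (ι F S ⋙ m).IsContinuous (J S) K := by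
  constructor
  · intro h S
    have := ι_isContinuous F J hF S
    exact Functor.isContinuous_comp (ι F S) m (J S) (FibSite.totalTopology F J) K
  · intro h
    refine ⟨fun G => ?_⟩
    apply isSheaf_of_restr F J hF
    intro S
    have := h S
    exact Functor.op_comp_isSheaf_of_types (ι F S ⋙ m) (J S) K G

/-- the topology induced on a fibre by the total topology -/
theorem inducedTopology_eq (hF : FibSite.IsPreFibSite F J) (S : 𝒮) :
    (ι F S).inducedTopology (FibSite.totalTopology F J) = J S := by
  apply le_antisymm
  · refine le_trans Functor.inducedTopology_le_restrictedTopology ?_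
    rw [Functor.restrictedTopology, Precoverage.toGrothendieck_le_iff_le_toPrecoverage]
    intro U P hP
    simp only [Precoverage.mem_comap_iff, GrothendieckTopology.mem_toPrecoverage_iff,
      Sieve.generate_map_eq_functorPushforward] at hP
    rw [GrothendieckTopology.mem_toPrecoverage_iff]
    obtain ⟨R, hR, hRle⟩ := (mem_iff F J hF _ _).1 hP
    refine (J S).superset_covering ?_ hR
    intro V r hr
    obtain ⟨W, p, a, hp, har⟩ := hRle _ (Sieve.image_mem_functorPushforward (ι F S) R hr)
    have hbase : a.base = 𝟙 S := by
      have := congrArg Hom.base har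
      exact (Category.comp_id a.base).symm.trans this.symm
    obtain ⟨a', rfl⟩ := ι_full_of_base F a hbase
    have : r = a' ≫ p := by
      apply ι_map_injective F
      exact har.trans ((ι F S).map_comp a' p).symm
    rw [this]
    exact (Sieve.generate P).downward_closed hp a'
  · rw [Functor.le_inducedTopology_iff]
    exact ι_isContinuous F J hF S

end Groth.Agent.Lib.helper10.TotInduced
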