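import Mathlib
import Groth.Prelude.Def_FibSite
import Groth.Agent.Lib.helper10.TotTop
import Groth.Agent.Lib.helper10.TotSheaf
import Groth.Agent.Lib.helper10.TotInduced
import Groth.Agent.Lib.helper10.TotRan
import Groth.Agent.Lib.helper10.TotExt

set_option autoImplicit false
set_option backward.isDefEq.respectTransparency.types false
universe w v₃ u₃ v₂ u₂ v₁ u₁

open CategoryTheory CategoryTheory.Limits Opposite Pseudofunctor Pseudofunctor.CoGrothendieck
open scoped CategoryTheory.Pseudofunctor.StrongTrans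

namespace Groth.Agent.Lib.helper10.TotMap

open Groth.Agent.Lib.helper10.TotTop Groth.Agent.Lib.helper10.TotSheaf Groth.Agent.Lib.helper10.TotRan

variable {𝒮 : Type u₁} [Category.{v₁} 𝒮] {F G : Pseudofunctor (LocallyDiscrete 𝒮ᵒᵖ) Cat.{v₂, u₂}}
  (α : G ⟶ F)

omit [Category.{v₁} 𝒮] in
lemma aux_map {A B : Type*} [Category A] [Category B] (T : A ⥤ B) {x y z : A} {w : B} (v : x ⟶ y)
    (p : y ⟶ z) (q : z ⟶ y) (h : p ≫ q = 𝟙 y) (r : T.obj y ⟶ w) :
    T.map v ≫ T.map p ≫ T.map q ≫ r = T.map v ≫ r := by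
  rw [← T.map_comp_assoc p q, h, T.map_id, Category.id_comp]

set_option backward.defeqAttrib.useBackward true in
set_option backward.isDefEq.respectTransparency false in
/-- the total functor of a cartesian functor restricts to the fibre functors -/
lemma map_ι_map (j : 𝒮) {V' V : G.obj ⟨op j⟩} (v : V' ⟶ V) :
    (CoGrothendieck.map α).map ((ι G j).map v) =
      (ι F j).map ((α.app ⟨op j⟩).toFunctor.map v) := by
  ext
  · simp
  · simp [StrongTrans.naturality_id_hom_app, Cat.Hom.id_toFunctor]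
    have h : (G.mapId ⟨op j⟩).inv.toNatTrans.app V ≫ (G.mapId ⟨op j⟩).hom.toNatTrans.app V = 𝟙 _ :=
      (Cat.Hom.toNatIso (G.mapId ⟨op j⟩)).inv_hom_id_app V
    exact aux_map (α.app ⟨op j⟩).toFunctor v _ _ h _

/-- `ι_j ⋙ map α ≅ α_j ⋙ ι_j` -/
def κ (j : 𝒮) : ι G j ⋙ CoGrothendieck.map α ≅ (α.app ⟨op j⟩).toFunctor ⋙ ι F j :=
  NatIso.ofComponents (fun _ => Iso.refl _) (by
    intro V' V v
    exact (Category.comp_id _).trans ((map_ι_map α j v).trans (Category.id_comp _).symm))

/-- the comparison `α_j (f^* V) ⟶ f^* (α_k V)` -/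
abbrev ν {j k : 𝒮} (f : j ⟶ k) (V : G.obj ⟨op k⟩) :
    (α.app ⟨op j⟩).toFunctor.obj ((FibSite.invImage G f).obj V) ⟶
      (FibSite.invImage F f).obj ((α.app ⟨op k⟩).toFunctor.obj V) :=
  (α.naturality f.op.toLoc).hom.toNatTrans.app V

/-- its inverse -/
abbrev νinv {j k : 𝒮} (f : j ⟶ k) (V : G.obj ⟨op k⟩) :
    (FibSite.invImage F f).obj ((α.app ⟨op k⟩).toFunctor.obj V) ⟶
      (α.app ⟨op j⟩).toFunctor.obj ((FibSite.invImage G f).obj V) :=
  (α.naturality f.op.toLoc).inv.toNatTrans.app V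

lemma ν_νinv {j k : 𝒮} (f : j ⟶ k) (V : G.obj ⟨op k⟩) : ν α f V ≫ νinv α f V = 𝟙 _ :=
  (Cat.Hom.toNatIso (α.naturality f.op.toLoc)).hom_inv_id_app V

lemma νinv_ν {j k : 𝒮} (f : j ⟶ k) (V : G.obj ⟨op k⟩) : νinv α f V ≫ ν α f V = 𝟙 _ :=
  (Cat.Hom.toNatIso (α.naturality f.op.toLoc)).inv_hom_id_app V

set_option backward.defeqAttrib.useBackward true in
set_option backward.isDefEq.respectTransparency false in
/-- the image of a cartesian lift under the total functor -/
lemma map_cart {j k : 𝒮} (f : j ⟶ k) (V : G.obj ⟨op k⟩) :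
    (CoGrothendieck.map α).map (cartesianLift V f) =
      (ι F j).map (ν α f V) ≫ cartesianLift ((α.app ⟨op k⟩).toFunctor.obj V) f := by
  refine (fac_cart F ((CoGrothendieck.map α).map (cartesianLift V f))).trans ?_
  congr 2
  simp

variable (J : FibSite.Topologies F) (K : FibSite.Topologies G)

/-- continuity of the total functor -/
theorem map_isContinuous (hF : FibSite.IsPreFibSite F J) (hG : FibSite.IsPreFibSite G K)
    (hα : ∀ S : 𝒮, (α.app ⟨op S⟩).toFunctor.IsContinuous (K S) (J S)) :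
    (CoGrothendieck.map α).IsContinuous (FibSite.totalTopology G K) (FibSite.totalTopology F J) := by
  rw [TotInduced.isContinuous_iff G K hG]
  intro S
  have := hα S
  have := ι_isContinuous F J hF S
  have : ((α.app ⟨op S⟩).toFunctor ⋙ ι F S).IsContinuous (K S) (FibSite.totalTopology F J) :=
    Functor.isContinuous_comp _ _ _ (J S) _
  exact Functor.isContinuous_of_iso (κ α S).symm _ _

section Ran

variable (j : 𝒮)
  [∀ (P : (F.obj ⟨op j⟩)ᵒᵖ ⥤ Type w), (ι F j).op.HasPointwiseRightKanExtension P]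
  [∀ (P : (G.obj ⟨op j⟩)ᵒᵖ ⥤ Type w), (ι G j).op.HasPointwiseRightKanExtension P]
  (b : (F.obj ⟨op j⟩)ᵒᵖ ⥤ Type w)

/-- the natural transformation inducing the comparison -/
noncomputable def β : (ι G j).op ⋙ (CoGrothendieck.map α).op ⋙ (ι F j).op.ran.obj b ⟶
    (α.app ⟨op j⟩).toFunctor.op ⋙ b where
  app V := ((ι F j).op.ranCounit.app b).app (op ((α.app ⟨op j⟩).toFunctor.obj V.unop))
  naturality V V' v := by
    ext x
    have h1 : ((ι F j).op.ran.obj b).map ((CoGrothendieck.map α).map ((ι G j).map v.unop)).op x =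
        ((ι F j).op.ran.obj b).map ((ι F j).map ((α.app ⟨op j⟩).toFunctor.map v.unop)).op x := by
      rw [map_ι_map]
      rfl
    have h2 := NatTrans.naturality_apply ((ι F j).op.ranCounit.app b)
      ((α.app ⟨op j⟩).toFunctor.map v.unop).op x
    exact (congrArg (fun z => ((ι F j).op.ranCounit.app b).app
      (op ((α.app ⟨op j⟩).toFunctor.obj V'.unop)) z) h1).trans h2

/-- the comparison map `(Ran_{ι_j} b) ∘ map α ⟶ Ran_{ι_j} (b ∘ α_j)` -/
noncomputable def Φ : (CoGrothendieck.map α).op ⋙ (ι F j).op.ran.obj b ⟶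
    (ι G j).op.ran.obj ((α.app ⟨op j⟩).toFunctor.op ⋙ b) :=
  Functor.liftOfIsRightKanExtension _ ((ι G j).op.ranCounit.app _) _ (β α j b)

lemma Φ_fac (V : G.obj ⟨op j⟩)
    (x : ((ι F j).op.ran.obj b).obj (op ((CoGrothendieck.map α).obj ((ι G j).obj V)))) :
    ((ι G j).op.ranCounit.app ((α.app ⟨op j⟩).toFunctor.op ⋙ b)).app (op V)
      ((Φ α j b).app (op ((ι G j).obj V)) x) =
    ((ι F j).op.ranCounit.app b).app (op ((α.app ⟨op j⟩).toFunctor.obj V)) x :=
  congrArg (fun τ => (τ.app (op V)) x)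
    (Functor.liftOfIsRightKanExtension_fac _ ((ι G j).op.ranCounit.app _) _ (β α j b))

/-- the key formula: the comparison map in terms of the product decompositions -/
lemma ranProj_Φ {k : 𝒮} (f : j ⟶ k) (V : G.obj ⟨op k⟩)
    (x : ((ι F j).op.ran.obj b).obj (op ((CoGrothendieck.map α).obj ((ι G k).obj V)))) :
    ranProj G j k ((α.app ⟨op j⟩).toFunctor.op ⋙ b) f V ((Φ α j b).app (op ((ι G k).obj V)) x) =
      b.map (ν α f V).op (ranProj F j k b f ((α.app ⟨op k⟩).toFunctor.obj V) x) := by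
  have h1 := NatTrans.naturality_apply (Φ α j b) (cartesianLift V f).op x
  have h2 := Φ_fac α j b ((FibSite.invImage G f).obj V)
    (((ι F j).op.ran.obj b).map ((CoGrothendieck.map α).map (cartesianLift V f)).op x)
  have h3 := eval_fac F j k b ((ι F j).op.ranCounit.app b) ((α.app ⟨op k⟩).toFunctor.obj V)
    (ν α f V) x ((CoGrothendieck.map α).map (cartesianLift V f)) (map_cart α f V)
  show ((ι G j).op.ranCounit.app ((α.app ⟨op j⟩).toFunctor.op ⋙ b)).app
    (op ((FibSite.invImage G f).obj V))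
    (((ι G j).op.ran.obj ((α.app ⟨op j⟩).toFunctor.op ⋙ b)).map (cartesianLift V f).op
      ((Φ α j b).app (op ((ι G k).obj V)) x)) = _
  refine (congrArg (fun z => ((ι G j).op.ranCounit.app ((α.app ⟨op j⟩).toFunctor.op ⋙ b)).app
    (op ((FibSite.invImage G f).obj V)) z) h1.symm).trans ?_
  exact h2.trans h3

omit [Category.{v₁} 𝒮] in
lemma map_op_cancel {C : Type*} [Category C] (b : Cᵒᵖ ⥤ Type w) {A B : C} (p : A ⟶ B) (q : B ⟶ A)
    (h : p ≫ q = 𝟙 A) (y : b.obj (op A)) : b.map p.op (b.map q.op y) = y := by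
  rw [map_map_apply, h, op_id, Functor.map_id_apply]

lemma Φ_bijective (X : ∫ᶜ G) : Function.Bijective ((Φ α j b).app (op X)) := by
  constructor
  · intro x x' hxx'
    have hx := ran_existsUnique F j X.base b ((α.app ⟨op X.base⟩).toFunctor.obj X.fiber)
      (fun f => ranProj F j X.base b f ((α.app ⟨op X.base⟩).toFunctor.obj X.fiber) x)
    refine hx.unique (fun f => rfl) (fun f => ?_)
    have h1 := ranProj_Φ α j b f X.fiber x
    have h2 := ranProj_Φ α j b f X.fiber x'
    have h3 : b.map (ν α f X.fiber).op (ranProj F j X.base b f _ x) =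
        b.map (ν α f X.fiber).op (ranProj F j X.base b f _ x') := by
      rw [← h1, ← h2]
      exact congrArg _ hxx'
    have h4 := congrArg (fun z => b.map (νinv α f X.fiber).op z) h3
    simp only at h4
    rw [map_op_cancel b _ _ (νinv_ν α f X.fiber), map_op_cancel b _ _ (νinv_ν α f X.fiber)] at h4
    exact h4.symm
  · intro y
    obtain ⟨x, hx, -⟩ := ran_existsUnique F j X.base b ((α.app ⟨op X.base⟩).toFunctor.obj X.fiber)
      (fun f => b.map (νinv α f X.fiber).op
        (ranProj G j X.base ((α.app ⟨op j⟩).toFunctor.op ⋙ b) f X.fiber y))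
    refine ⟨x, ?_⟩
    have hy := ran_existsUnique G j X.base ((α.app ⟨op j⟩).toFunctor.op ⋙ b) X.fiber
      (fun f => ranProj G j X.base ((α.app ⟨op j⟩).toFunctor.op ⋙ b) f X.fiber y)
    refine hy.unique (fun f => ?_) (fun f => rfl)
    have h1 := ranProj_Φ α j b f X.fiber x
    rw [hx f] at h1
    rw [map_op_cancel b _ _ (ν_νinv α f X.fiber)] at h1
    exact h1

instance isIso_Φ : IsIso (Φ α j b) := by
  have : ∀ X, IsIso ((Φ α j b).app X) := fun X =>
    (isIso_iff_bijective _).2 (Φ_bijective α j b X.unop)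
  exact NatIso.isIso_of_isIso_app _

/-- naturality of the comparison in the presheaf -/
lemma Φ_naturality {b b' : (F.obj ⟨op j⟩)ᵒᵖ ⥤ Type w} (ψ : b ⟶ b') (X : ∫ᶜ G)
    (x : ((ι F j).op.ran.obj b).obj (op ((CoGrothendieck.map α).obj X))) :
    (Φ α j b').app (op X) ((((ι F j).op.ran.map ψ).app (op ((CoGrothendieck.map α).obj X))) x) =
      (((ι G j).op.ran.map (Functor.whiskerLeft (α.app ⟨op j⟩).toFunctor.op ψ)).app (op X))
        ((Φ α j b).app (op X) x) := by
  have hy := ran_existsUnique G j X.base ((α.app ⟨op j⟩).toFunctor.op ⋙ b') X.fiber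
    (fun f => ranProj G j X.base ((α.app ⟨op j⟩).toFunctor.op ⋙ b') f X.fiber
      ((Φ α j b').app (op X) ((((ι F j).op.ran.map ψ).app (op ((CoGrothendieck.map α).obj X))) x)))
  refine hy.unique (fun f => rfl) (fun f => ?_)
  have h1 := ranProj_Φ α j b' f X.fiber
    ((((ι F j).op.ran.map ψ).app (op ((CoGrothendieck.map α).obj X))) x)
  have h2 := ranProj_naturality_presheaf F j X.base ψ f
    ((α.app ⟨op X.base⟩).toFunctor.obj X.fiber) x
  have h3 := ranProj_naturality_presheaf G j X.base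
    (Functor.whiskerLeft (α.app ⟨op j⟩).toFunctor.op ψ) f X.fiber ((Φ α j b).app (op X) x)
  have h4 := ranProj_Φ α j b f X.fiber x
  have h5 := NatTrans.naturality_apply ψ (ν α f X.fiber).op
    (ranProj F j X.base b f ((α.app ⟨op X.base⟩).toFunctor.obj X.fiber) x)
  refine h3.trans ?_
  refine Eq.trans ?_ h1.symm
  exact (congrArg (fun z => ψ.app (op ((α.app ⟨op j⟩).toFunctor.obj
    ((FibSite.invImage G f).obj X.fiber))) z) h4).trans
    (h5.trans (congrArg (fun z => b'.map (ν α f X.fiber).op z) h2).symm)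

end Ran

section Sheaves

variable (j : 𝒮)
  [∀ (P : (F.obj ⟨op j⟩)ᵒᵖ ⥤ Type w), (ι F j).op.HasPointwiseRightKanExtension P]
  [∀ (P : (G.obj ⟨op j⟩)ᵒᵖ ⥤ Type w), (ι G j).op.HasPointwiseRightKanExtension P]
  [∀ S : 𝒮, (ι F S).IsContinuous (J S) (FibSite.totalTopology F J)]
  [∀ S : 𝒮, (ι G S).IsContinuous (K S) (FibSite.totalTopology G K)]
  [(ι F j).IsCocontinuous (J j) (FibSite.totalTopology F J)]
  [(ι G j).IsCocontinuous (K j) (FibSite.totalTopology G K)]
  [(α.app ⟨op j⟩).toFunctor.IsContinuous (K j) (J j)]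
  [(CoGrothendieck.map α).IsContinuous (FibSite.totalTopology G K) (FibSite.totalTopology F J)]

/-- base change: `(map α)_* ∘ coextend_j ≅ coextend_j ∘ (α_j)_*` -/
noncomputable def bcIso :
    FibSite.coextend F J (Type w) j ⋙ (CoGrothendieck.map α).sheafPushforwardContinuous (Type w)
      (FibSite.totalTopology G K) (FibSite.totalTopology F J) ≅
    (α.app ⟨op j⟩).toFunctor.sheafPushforwardContinuous (Type w) (K j) (J j) ⋙
      FibSite.coextend G K (Type w) j :=
  NatIso.ofComponents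
    (fun b => (fullyFaithfulSheafToPresheaf _ _).preimageIso
      (@asIso _ _ _ _ (Φ α j b.obj) (isIso_Φ α j b.obj)))
    (by
      intro b b' ψ
      apply Sheaf.hom_ext
      ext X x
      exact Φ_naturality α j ψ.hom X.unop x)

end Sheaves

section Final

variable
  [∀ (j : 𝒮) (P : (F.obj ⟨op j⟩)ᵒᵖ ⥤ Type w), (ι F j).op.HasPointwiseRightKanExtension P]
  [∀ (j : 𝒮) (P : (G.obj ⟨op j⟩)ᵒᵖ ⥤ Type w), (ι G j).op.HasPointwiseRightKanExtension P]
  [∀ S : 𝒮, (ι F S).IsContinuous (J S) (FibSite.totalTopology F J)]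
  [∀ S : 𝒮, (ι G S).IsContinuous (K S) (FibSite.totalTopology G K)]
  [∀ S : 𝒮, (ι F S).IsCocontinuous (J S) (FibSite.totalTopology F J)]
  [∀ S : 𝒮, (ι G S).IsCocontinuous (K S) (FibSite.totalTopology G K)]
  [∀ S : 𝒮, (α.app ⟨op S⟩).toFunctor.IsContinuous (K S) (J S)]
  [(CoGrothendieck.map α).IsContinuous (FibSite.totalTopology G K) (FibSite.totalTopology F J)]
  [((CoGrothendieck.map α).sheafPushforwardContinuous (Type w)
      (FibSite.totalTopology G K) (FibSite.totalTopology F J)).IsRightAdjoint]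
  [∀ S : 𝒮, ((α.app ⟨op S⟩).toFunctor.sheafPushforwardContinuous (Type w) (K S) (J S)).IsRightAdjoint]
  [∀ S : 𝒮, ((ι G S).sheafPushforwardContinuous (Type w) (K S)
      (FibSite.totalTopology G K)).IsRightAdjoint]

/-- the inverse image along the total functor is left exact if the fibrewise ones are -/
theorem sheafPullback_preservesFiniteLimits
    (h : ∀ S : 𝒮, PreservesFiniteLimits
      ((α.app ⟨op S⟩).toFunctor.sheafPullback (Type w) (K S) (J S))) :
    PreservesFiniteLimits ((CoGrothendieck.map α).sheafPullback (Type w)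
      (FibSite.totalTopology G K) (FibSite.totalTopology F J)) := by
  apply TotExt.preservesFiniteLimits_of_restr F J
  intro j
  let adj₁ := ((CoGrothendieck.map α).sheafAdjunctionContinuous (Type w)
      (FibSite.totalTopology G K) (FibSite.totalTopology F J)).comp
    ((ι F j).sheafAdjunctionCocontinuous (Type w) (J j) (FibSite.totalTopology F J))
  let adj₂ := ((ι G j).sheafAdjunctionCocontinuous (Type w) (K j) (FibSite.totalTopology G K)).comp
    ((α.app ⟨op j⟩).toFunctor.sheafAdjunctionContinuous (Type w) (K j) (J j))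
  let e := (conjugateIsoEquiv adj₁ adj₂).symm (bcIso α J K j)
  have h1 : PreservesLimitsOfSize.{0, 0} (FibSite.restr G K (Type w) j) :=
    (Adjunction.ofIsRightAdjoint (FibSite.restr G K (Type w) j)).rightAdjoint_preservesLimits
  have h2 := h j
  exact preservesFiniteLimits_of_natIso e

end Final

end Groth.Agent.Lib.helper10.TotMap
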