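import Mathlib
import Groth.Prelude.Def_FibSite
import Groth.Agent.Lib.helper10.TotTop
import Groth.Agent.Lib.helper10.TotSheaf
import Groth.Agent.Lib.helper10.TotRan

set_option autoImplicit false
set_option backward.isDefEq.respectTransparency.types false
universe w v₃ u₃ v₂ u₂ v₁ u₁

open CategoryTheory CategoryTheory.Limits Opposite Pseudofunctor Pseudofunctor.CoGrothendieck

namespace Groth.Agent.Lib.helper10.TotPoint

open Groth.Agent.Lib.helper10.TotTop Groth.Agent.Lib.helper10.TotSheaf Groth.Agent.Lib.helper10.TotRan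

section Pt

variable {C : Type u₃} [Category.{v₃} C] (K : GrothendieckTopology C)

/-- the constant one-point sheaf -/
def pt : Sheaf K (Type w) :=
  ⟨(Functor.const _).obj PUnit, Presheaf.isSheaf_of_isTerminal K Types.isTerminalPUnit⟩

/-- the map to the one-point sheaf -/
def toPt (x : Sheaf K (Type w)) : x ⟶ pt K :=
  ⟨{ app := fun _ => ↾fun _ => PUnit.unit }⟩

variable {K} in
lemma toPt_unique {x : Sheaf K (Type w)} (φ ψ : x ⟶ pt K) : φ = ψ := by
  apply Sheaf.hom_ext
  ext V t
  rfl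

end Pt

variable {𝒮 : Type u₁} [Category.{v₁} 𝒮] (F : Pseudofunctor (LocallyDiscrete 𝒮ᵒᵖ) Cat.{v₂, u₂})
  (J : FibSite.Topologies F) (S : 𝒮)
  [∀ (P : (F.obj ⟨op S⟩)ᵒᵖ ⥤ Type w), (ι F S).op.HasPointwiseRightKanExtension P]
  [∀ T : 𝒮, (ι F T).IsContinuous (J T) (FibSite.totalTopology F J)]
  [(ι F S).IsCocontinuous (J S) (FibSite.totalTopology F J)]
  [∀ (R T : 𝒮) (f : R ⟶ T), (FibSite.invImage F f).IsContinuous (J T) (J R)]

/-- `restr_S ∘ coextend_S` -/
noncomputable abbrev M : Sheaf (J S) (Type w) ⥤ Sheaf (J S) (Type w) :=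
  FibSite.coextend F J (Type w) S ⋙ FibSite.restr F J (Type w) S

/-- direct image along `(𝟙 S)^*` is the identity -/
noncomputable def idIso :
    (FibSite.invImage F (𝟙 S)).sheafPushforwardContinuous (Type w) (J S) (J S) ≅ 𝟭 _ :=
  Functor.sheafPushforwardContinuousId'
    (show FibSite.invImage F (𝟙 S) ≅ 𝟭 _ from Cat.Hom.toNatIso (F.mapId ⟨op S⟩)) (Type w) (J S)

/-- the projection to the identity factor -/
noncomputable def ε : M.{w} F J S ⟶ 𝟭 _ :=
  πNat.{w} F S S J (𝟙 S) ≫ (idIso.{w} F J S).hom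

/-- the canonical map from the point to its direct image -/
def τ (f : S ⟶ S) : pt.{w} (J S) ⟶
    ((FibSite.invImage F f).sheafPushforwardContinuous (Type w) (J S) (J S)).obj (pt (J S)) :=
  ⟨{ app := fun _ => ↾fun _ => PUnit.unit }⟩

variable {F J S}

/-- the components of the section -/
noncomputable def comp {x : Sheaf (J S) (Type w)} (s : pt (J S) ⟶ x) (f : S ⟶ S) :
    x ⟶ ((FibSite.invImage F f).sheafPushforwardContinuous (Type w) (J S) (J S)).obj x := by
  classical
  exact if h : f = 𝟙 S then (by subst h; exact (idIso F J S).inv.app x)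
    else toPt (J S) x ≫ τ F J S f ≫
      ((FibSite.invImage F f).sheafPushforwardContinuous (Type w) (J S) (J S)).map s

lemma comp_id {x : Sheaf (J S) (Type w)} (s : pt (J S) ⟶ x) :
    comp s (𝟙 S) = (idIso F J S).inv.app x := by
  unfold comp
  rw [dif_pos rfl]

lemma comp_ne {x : Sheaf (J S) (Type w)} (s : pt (J S) ⟶ x) {f : S ⟶ S} (h : f ≠ 𝟙 S) :
    comp s f = toPt (J S) x ≫ τ F J S f ≫
      ((FibSite.invImage F f).sheafPushforwardContinuous (Type w) (J S) (J S)).map s := by
  unfold comp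
  rw [dif_neg h]

/-- the section of `ε` attached to a global section -/
noncomputable def sec {x : Sheaf (J S) (Type w)} (s : pt (J S) ⟶ x) : x ⟶ (M F J S).obj x :=
  Fan.IsLimit.lift (isLimitFan F S S J x) (fun f => comp s f)

lemma sec_π {x : Sheaf (J S) (Type w)} (s : pt (J S) ⟶ x) (f : S ⟶ S) :
    sec s ≫ (πNat F S S J f).app x = comp s f :=
  Fan.IsLimit.fac (isLimitFan F S S J x) _ f

lemma sec_ε {x : Sheaf (J S) (Type w)} (s : pt (J S) ⟶ x) :
    sec s ≫ (ε F J S).app x = 𝟙 x := by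
  unfold ε
  rw [NatTrans.comp_app, ← Category.assoc, sec_π, comp_id]
  exact (idIso F J S).inv_hom_id_app x

lemma sec_naturality {x y : Sheaf (J S) (Type w)} (s : pt (J S) ⟶ x) (s' : pt (J S) ⟶ y)
    (φ : x ⟶ y) (h : s ≫ φ = s') : sec s ≫ (M F J S).map φ = φ ≫ sec s' := by
  apply Fan.IsLimit.hom_ext (isLimitFan F S S J y)
  intro f
  have h1 : (sec s ≫ (M F J S).map φ) ≫ (πNat F S S J f).app y =
      comp s f ≫ ((FibSite.invImage F f).sheafPushforwardContinuous (Type w) (J S) (J S)).map φ := by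
    rw [Category.assoc, (πNat F S S J f).naturality, ← Category.assoc, sec_π]
  have h2 : (φ ≫ sec s') ≫ (πNat F S S J f).app y = φ ≫ comp s' f := by
    rw [Category.assoc, sec_π]
  refine h1.trans (Eq.trans ?_ h2.symm)
  by_cases hf : f = 𝟙 S
  · subst hf
    rw [comp_id, comp_id]
    exact ((idIso F J S).inv.naturality φ).symm
  · rw [comp_ne s hf, comp_ne s' hf, Category.assoc, Category.assoc, ← Functor.map_comp, h,
      ← Category.assoc φ]
    congr 1

end Groth.Agent.Lib.helper10.TotPoint
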