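import Mathlib
import Groth.Prelude.Def_FibSite
import Groth.Agent.Lib.helper10.TotMap
import Groth.Agent.Lib.helper10.TotPoint
import Groth.Agent.Lib.helper10.RetractVK

set_option autoImplicit false
set_option backward.isDefEq.respectTransparency.types false
universe u

open CategoryTheory CategoryTheory.Limits Opposite Pseudofunctor Pseudofunctor.CoGrothendieck
open scoped CategoryTheory.Pseudofunctor.StrongTrans

namespace Groth.Agent.Lib.helper10.TotFibre

open Groth.Agent.Lib.helper10.TotTop Groth.Agent.Lib.helper10.TotSheaf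
  Groth.Agent.Lib.helper10.TotRan Groth.Agent.Lib.helper10.TotMap
  Groth.Agent.Lib.helper10.TotPoint Groth.Agent.Lib.helper10.RetractVK

/-- finite coproducts of sheaves of types on a small site (shortcut instance) -/
lemma hasFiniteCoproducts_sheaf {C : Type u} [SmallCategory C] (J : GrothendieckTopology C) :
    HasFiniteCoproducts (Sheaf J (Type u)) :=
  (inferInstance : FinitaryExtensive (Sheaf J (Type u))).hasFiniteCoproducts

attribute [local instance] hasFiniteCoproducts_sheaf

variable {𝒮 : Type u} [SmallCategory 𝒮] {F G : Pseudofunctor (LocallyDiscrete 𝒮ᵒᵖ) Cat.{u, u}}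
  (α : G ⟶ F) (J : FibSite.Topologies F) (K : FibSite.Topologies G) (S : 𝒮)
  [∀ T : 𝒮, (ι F T).IsContinuous (J T) (FibSite.totalTopology F J)]
  [∀ T : 𝒮, (ι G T).IsContinuous (K T) (FibSite.totalTopology G K)]
  [∀ T : 𝒮, (ι F T).IsCocontinuous (J T) (FibSite.totalTopology F J)]
  [∀ T : 𝒮, (ι G T).IsCocontinuous (K T) (FibSite.totalTopology G K)]
  [∀ (R T : 𝒮) (f : R ⟶ T), (FibSite.invImage F f).IsContinuous (J T) (J R)]
  [∀ (R T : 𝒮) (f : R ⟶ T), (FibSite.invImage G f).IsContinuous (K T) (K R)]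
  [(CoGrothendieck.map α).IsContinuous (FibSite.totalTopology G K) (FibSite.totalTopology F J)]

/-- pointed sheaves pull back to sheaves along the fibre functor -/
lemma isSheaf_of_pointed (P : Sheaf (J S) (Type u)) (s : pt (J S) ⟶ P) :
    Presieve.IsSheaf (K S) ((α.app ⟨op S⟩).toFunctor.op ⋙ P.obj) := by
  let Q := (FibSite.coextend F J (Type u) S).obj P
  let N := (FibSite.restr G K (Type u) S).obj
    (((CoGrothendieck.map α).sheafPushforwardContinuous (Type u) (FibSite.totalTopology G K)
      (FibSite.totalTopology F J)).obj Q)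
  have hN : Presieve.IsSheaf (K S) N.obj := (isSheaf_iff_isSheaf_of_type _ _).1 N.property
  have e : N.obj ≅ (α.app ⟨op S⟩).toFunctor.op ⋙ ((M F J S).obj P).obj :=
    (Functor.isoWhiskerRight (NatIso.op (κ α S)) Q.obj).symm
  have hMP : Presieve.IsSheaf (K S) ((α.app ⟨op S⟩).toFunctor.op ⋙ ((M F J S).obj P).obj) :=
    Presieve.isSheaf_iso (K S) e hN
  refine isSheaf_of_retract (K S) (Functor.whiskerLeft _ (sec s).hom)
    (Functor.whiskerLeft _ ((ε F J S).app P).hom) ?_ hMP
  rw [← Functor.whiskerLeft_comp]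
  have h1 := congrArg (fun φ => (sheafToPresheaf (J S) (Type u)).map φ) (sec_ε s)
  simp only [Functor.map_comp] at h1
  have h2 : (sec s).hom ≫ ((ε F J S).app P).hom = 𝟙 P.obj := h1
  rw [h2]
  rfl

/-- continuity of the fibre functor -/
theorem fibre_isContinuous : (α.app ⟨op S⟩).toFunctor.IsContinuous (K S) (J S) := by
  refine ⟨fun P => ?_⟩
  haveI : HasFiniteCoproducts (Sheaf (J S) (Type u)) := hasFiniteCoproducts_sheaf (J S)
  haveI : HasBinaryCoproducts (Sheaf (J S) (Type u)) := hasColimitsOfShape_discrete _ _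
  let e := pt.{u} (J S)
  have hpb := inl_square e (toPt (J S) P)
  have h₁ := isSheaf_of_pointed α J K S (P ⨿ e) coprod.inr
  have h₃ := isSheaf_of_pointed α J K S (e ⨿ e) coprod.inr
  have h₂ : Presieve.IsSheaf (K S) ((α.app ⟨op S⟩).toFunctor.op ⋙ e.obj) := by
    have h0 : Presieve.IsSheaf (K S) (pt.{u} (K S)).obj :=
      (isSheaf_iff_isSheaf_of_type _ _).1 (pt.{u} (K S)).property
    exact Presieve.isSheaf_iso (K S)
      (NatIso.ofComponents (fun _ => Iso.refl _) (by intros; rfl)) h0
  have hU : ∀ X : (G.obj ⟨op S⟩)ᵒᵖ, IsPullback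
      ((coprod.inl : P ⟶ P ⨿ e).hom.app ((α.app ⟨op S⟩).toFunctor.op.obj X))
      ((toPt (J S) P).hom.app ((α.app ⟨op S⟩).toFunctor.op.obj X))
      ((coprod.map (toPt (J S) P) (𝟙 e)).hom.app ((α.app ⟨op S⟩).toFunctor.op.obj X))
      ((coprod.inl : e ⟶ e ⨿ e).hom.app ((α.app ⟨op S⟩).toFunctor.op.obj X)) := fun X =>
    hpb.map (sheafToPresheaf (J S) (Type u) ⋙
      (evaluation _ _).obj ((α.app ⟨op S⟩).toFunctor.op.obj X))
  refine isSheaf_of_pullback (K S)
    (Functor.whiskerLeft _ (coprod.inl : P ⟶ P ⨿ e).hom)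
    (Functor.whiskerLeft _ (toPt (J S) P).hom)
    (Functor.whiskerLeft _ (coprod.map (toPt (J S) P) (𝟙 e)).hom)
    (Functor.whiskerLeft _ (coprod.inl : e ⟶ e ⨿ e).hom) ?_ ?_ ?_ h₁ h₂ h₃.isSeparated
  · rw [← Functor.whiskerLeft_comp, ← Functor.whiskerLeft_comp]
    congr 1
    exact congrArg (fun φ => (sheafToPresheaf (J S) (Type u)).map φ) hpb.w
  · intro X x x' hj hq
    exact Types.ext_of_isPullback (hU X) hj hq
  · intro X y₁ y₂ h
    exact Types.exists_of_isPullback (hU X) y₁ y₂ h

section LeftExact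

variable [(α.app ⟨op S⟩).toFunctor.IsContinuous (K S) (J S)]
  [((CoGrothendieck.map α).sheafPushforwardContinuous (Type u)
      (FibSite.totalTopology G K) (FibSite.totalTopology F J)).IsRightAdjoint]
  [((α.app ⟨op S⟩).toFunctor.sheafPushforwardContinuous (Type u) (K S) (J S)).IsRightAdjoint]

/-- `restr_S ⋙ (α_S)^* ≅ (map α)^* ⋙ restr_S` -/
noncomputable def restrPullbackIso :
    FibSite.restr G K (Type u) S ⋙ (α.app ⟨op S⟩).toFunctor.sheafPullback (Type u) (K S) (J S) ≅
    (CoGrothendieck.map α).sheafPullback (Type u) (FibSite.totalTopology G K)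
      (FibSite.totalTopology F J) ⋙ FibSite.restr F J (Type u) S :=
  (conjugateIsoEquiv
    (((CoGrothendieck.map α).sheafAdjunctionContinuous (Type u) (FibSite.totalTopology G K)
      (FibSite.totalTopology F J)).comp
      ((ι F S).sheafAdjunctionCocontinuous (Type u) (J S) (FibSite.totalTopology F J)))
    (((ι G S).sheafAdjunctionCocontinuous (Type u) (K S) (FibSite.totalTopology G K)).comp
      ((α.app ⟨op S⟩).toFunctor.sheafAdjunctionContinuous (Type u) (K S) (J S)))).symm
    (bcIso α J K S)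

variable (hΨ : PreservesFiniteLimits ((CoGrothendieck.map α).sheafPullback (Type u)
  (FibSite.totalTopology G K) (FibSite.totalTopology F J)))

include hΨ in
lemma preservesFiniteLimits_restr_comp :
    PreservesFiniteLimits (FibSite.restr G K (Type u) S ⋙
      (α.app ⟨op S⟩).toFunctor.sheafPullback (Type u) (K S) (J S)) := by
  have h1 : PreservesLimitsOfSize.{0, 0} (FibSite.restr F J (Type u) S) :=
    ((ι F S).sheafAdjunctionContinuous (Type u) (J S)
      (FibSite.totalTopology F J)).rightAdjoint_preservesLimits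
  exact preservesFiniteLimits_of_natIso (restrPullbackIso α J K S).symm

include hΨ in
lemma preservesFiniteLimits_M_comp :
    PreservesFiniteLimits (M G K S ⋙
      (α.app ⟨op S⟩).toFunctor.sheafPullback (Type u) (K S) (J S)) := by
  have h1 : PreservesLimitsOfSize.{0, 0} (FibSite.coextend G K (Type u) S) :=
    ((ι G S).sheafAdjunctionCocontinuous (Type u) (K S)
      (FibSite.totalTopology G K)).rightAdjoint_preservesLimits
  have h2 := preservesFiniteLimits_restr_comp α J K S hΨ
  show PreservesFiniteLimits (FibSite.coextend G K (Type u) S ⋙ (FibSite.restr G K (Type u) S ⋙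
      (α.app ⟨op S⟩).toFunctor.sheafPullback (Type u) (K S) (J S)))
  infer_instance

include hΨ in
/-- the fibre inverse image preserves the terminal object -/
lemma preservesTerminal :
    PreservesLimitsOfShape (Discrete.{0} PEmpty)
      ((α.app ⟨op S⟩).toFunctor.sheafPullback (Type u) (K S) (J S)) := by
  have h1 : PreservesLimitsOfSize.{0, 0} (FibSite.restr G K (Type u) S) :=
    ((ι G S).sheafAdjunctionContinuous (Type u) (K S)
      (FibSite.totalTopology G K)).rightAdjoint_preservesLimits
  have h2 := preservesFiniteLimits_restr_comp α J K S hΨ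
  let H := (α.app ⟨op S⟩).toFunctor.sheafPullback (Type u) (K S) (J S)
  haveI : PreservesLimit (Functor.empty.{0} (FibSite.TotSh G K (Type u)))
      (FibSite.restr G K (Type u) S ⋙ H) :=
    (h2.preservesFiniteLimits (Discrete.{0} PEmpty)).preservesLimit
  haveI : PreservesLimit (Functor.empty.{0} (FibSite.TotSh G K (Type u)))
      (FibSite.restr G K (Type u) S) :=
    (h1.preservesLimitsOfShape (J := Discrete.{0} PEmpty)).preservesLimit
  have e : H.obj (⊤_ (Sheaf (K S) (Type u))) ≅ ⊤_ (Sheaf (J S) (Type u)) :=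
    H.mapIso (PreservesTerminal.iso (FibSite.restr G K (Type u) S)).symm ≪≫
      PreservesTerminal.iso (FibSite.restr G K (Type u) S ⋙ H)
  have := preservesTerminal_of_iso H e
  exact preservesLimitsOfShape_pempty_of_preservesTerminal H

include hΨ in
/-- pullback squares with pointed apex are preserved -/
lemma map_isPullback_of_pointed {p a b c : Sheaf (K S) (Type u)} {x : p ⟶ a} {y : p ⟶ b}
    {f : a ⟶ c} {g : b ⟶ c} (sq : IsPullback x y f g) (s : pt (K S) ⟶ p) :
    IsPullback (((α.app ⟨op S⟩).toFunctor.sheafPullback (Type u) (K S) (J S)).map x)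
      (((α.app ⟨op S⟩).toFunctor.sheafPullback (Type u) (K S) (J S)).map y)
      (((α.app ⟨op S⟩).toFunctor.sheafPullback (Type u) (K S) (J S)).map f)
      (((α.app ⟨op S⟩).toFunctor.sheafPullback (Type u) (K S) (J S)).map g) := by
  have hMH := preservesFiniteLimits_M_comp α J K S hΨ
  let H := (α.app ⟨op S⟩).toFunctor.sheafPullback (Type u) (K S) (J S)
  haveI : PreservesLimit (cospan f g) (M G K S ⋙ H) :=
    (hMH.preservesFiniteLimits WalkingCospan).preservesLimit
  have h' : IsPullback (H.map ((M G K S).map x)) (H.map ((M G K S).map y))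
      (H.map ((M G K S).map f)) (H.map ((M G K S).map g)) := sq.map (M G K S ⋙ H)
  have w : H.map x ≫ H.map f = H.map y ≫ H.map g := by
    rw [← H.map_comp, ← H.map_comp, sq.w]
  have hε := (ε.{u} G K S).naturality
  refine retract_isPullback h' w (H.map (sec s)) (H.map (sec (s ≫ x))) (H.map (sec (s ≫ y)))
    (H.map (sec (s ≫ x ≫ f))) (H.map ((ε G K S).app p)) (H.map ((ε G K S).app a))
    (H.map ((ε G K S).app b)) ?_ ?_ ?_ ?_ ?_ ?_ ?_ ?_ ?_
  · rw [← H.map_comp, sec_ε, H.map_id]
  · rw [← H.map_comp, sec_ε, H.map_id]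
  · rw [← H.map_comp, sec_ε, H.map_id]
  · rw [← H.map_comp, ← H.map_comp, sec_naturality s (s ≫ x) x rfl]
  · rw [← H.map_comp, ← H.map_comp, sec_naturality s (s ≫ y) y rfl]
  · rw [← H.map_comp, ← H.map_comp, sec_naturality (s ≫ x) (s ≫ x ≫ f) f (Category.assoc _ _ _)]
  · rw [← H.map_comp, ← H.map_comp, sec_naturality (s ≫ y) (s ≫ x ≫ f) g
      (by rw [Category.assoc, ← sq.w])]
  · rw [← H.map_comp, ← H.map_comp]
    exact congrArg H.map (hε x).symm
  · rw [← H.map_comp, ← H.map_comp]
    exact congrArg H.map (hε y).symm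

include hΨ in
/-- all pullback squares are preserved -/
lemma map_isPullback {p a b c : Sheaf (K S) (Type u)} {x : p ⟶ a} {y : p ⟶ b}
    {f : a ⟶ c} {g : b ⟶ c} (sq : IsPullback x y f g) :
    IsPullback (((α.app ⟨op S⟩).toFunctor.sheafPullback (Type u) (K S) (J S)).map x)
      (((α.app ⟨op S⟩).toFunctor.sheafPullback (Type u) (K S) (J S)).map y)
      (((α.app ⟨op S⟩).toFunctor.sheafPullback (Type u) (K S) (J S)).map f)
      (((α.app ⟨op S⟩).toFunctor.sheafPullback (Type u) (K S) (J S)).map g) := by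
  haveI : HasFiniteCoproducts (Sheaf (K S) (Type u)) := hasFiniteCoproducts_sheaf (K S)
  haveI : HasBinaryCoproducts (Sheaf (K S) (Type u)) := hasColimitsOfShape_discrete _ _
  haveI : HasFiniteCoproducts (Sheaf (J S) (Type u)) := hasFiniteCoproducts_sheaf (J S)
  haveI : HasBinaryCoproducts (Sheaf (J S) (Type u)) := hasColimitsOfShape_discrete _ _
  let e := pt.{u} (K S)
  let H := (α.app ⟨op S⟩).toFunctor.sheafPullback (Type u) (K S) (J S)
  have hHc : PreservesColimitsOfSize.{0, 0} H :=
    ((α.app ⟨op S⟩).toFunctor.sheafAdjunctionContinuous (Type u) (K S)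
      (J S)).leftAdjoint_preservesColimits
  have sqp := isPullback_coprod_map e sq
  have hH := map_isPullback_of_pointed α J K S hΨ sqp (coprod.inr : e ⟶ p ⨿ e)
  have hcof : ∀ z : Sheaf (K S) (Type u), IsColimit
      (BinaryCofan.mk (H.map (coprod.inl : z ⟶ z ⨿ e)) (H.map coprod.inr)) := fun z => by
    haveI : PreservesColimit (pair z e) H :=
      (hHc.preservesColimitsOfShape (J := Discrete WalkingPair)).preservesColimit
    exact isColimitMapCoconeBinaryCofanEquiv H _ _ (isColimitOfPreserves H (coprodIsCoprod z e))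
  have s1 := (inj_squares _ _ (hcof p) (hcof b) (H.map y) (H.map (𝟙 e))
    (H.map (coprod.map y (𝟙 e)))
    (by
      show H.map y ≫ H.map coprod.inl = H.map coprod.inl ≫ H.map (coprod.map y (𝟙 e))
      rw [← H.map_comp, ← H.map_comp, coprod.inl_map])
    (by
      show H.map (𝟙 e) ≫ H.map coprod.inr = H.map coprod.inr ≫ H.map (coprod.map y (𝟙 e))
      rw [← H.map_comp, ← H.map_comp, coprod.inr_map])).1
  have s2 := (inj_squares _ _ (hcof a) (hcof c) (H.map f) (H.map (𝟙 e))
    (H.map (coprod.map f (𝟙 e)))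
    (by
      show H.map f ≫ H.map coprod.inl = H.map coprod.inl ≫ H.map (coprod.map f (𝟙 e))
      rw [← H.map_comp, ← H.map_comp, coprod.inl_map])
    (by
      show H.map (𝟙 e) ≫ H.map coprod.inr = H.map coprod.inr ≫ H.map (coprod.map f (𝟙 e))
      rw [← H.map_comp, ← H.map_comp, coprod.inr_map])).1
  have big := IsPullback.paste_horiz s1 hH
  refine IsPullback.of_right (h₁₂ := H.map coprod.inl) (h₂₂ := H.map coprod.inl)
    (v₁₃ := H.map (coprod.map f (𝟙 e))) ?_ ?_ s2
  · have e1 : H.map x ≫ H.map (coprod.inl : a ⟶ a ⨿ e) =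
        H.map coprod.inl ≫ H.map (coprod.map x (𝟙 e)) := by
      rw [← H.map_comp, ← H.map_comp, coprod.inl_map]
    have e2 : H.map g ≫ H.map (coprod.inl : c ⟶ c ⨿ e) =
        H.map coprod.inl ≫ H.map (coprod.map g (𝟙 e)) := by
      rw [← H.map_comp, ← H.map_comp, coprod.inl_map]
    rw [e1, e2]
    exact big
  · rw [← H.map_comp, ← H.map_comp, sq.w]

include hΨ in
/-- the inverse image along the fibre functor is left exact -/
theorem fibre_preservesFiniteLimits :
    PreservesFiniteLimits ((α.app ⟨op S⟩).toFunctor.sheafPullback (Type u) (K S) (J S)) := by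
  have h1 := preservesTerminal α J K S hΨ
  have h2 : PreservesLimitsOfShape WalkingCospan
      ((α.app ⟨op S⟩).toFunctor.sheafPullback (Type u) (K S) (J S)) :=
    preservesPullbacks_of_map_isPullback _ (fun sq => map_isPullback α J K S hΨ sq)
  exact preservesFiniteLimits_of_preservesTerminal_and_pullbacks _

end LeftExact

end Groth.Agent.Lib.helper10.TotFibre
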