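import Mathlib
import Groth.Prelude.Def_FibSite
import Groth.Agent.Lib.helper10.TotTop
import Groth.Agent.Lib.helper10.TotSheaf
import Groth.Agent.Lib.helper10.TotRan

set_option autoImplicit false
set_option backward.isDefEq.respectTransparency.types false
universe w v₃ u₃ v₂ u₂ v₁ u₁

open CategoryTheory CategoryTheory.Limits Opposite Pseudofunctor Pseudofunctor.CoGrothendieck

namespace Groth.Agent.Lib.helper10.TotLan

open Groth.Agent.Lib.helper10.TotTop Groth.Agent.Lib.helper10.TotSheaf Groth.Agent.Lib.helper10.TotRan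

variable {𝒮 : Type u₁} [Category.{v₁} 𝒮] (F : Pseudofunctor (LocallyDiscrete 𝒮ᵒᵖ) Cat.{v₂, u₂})
  (J : FibSite.Topologies F) (i j : 𝒮)
  [∀ (P : (F.obj ⟨op j⟩)ᵒᵖ ⥤ Type w), (ι F j).op.HasPointwiseRightKanExtension P]
  [∀ S : 𝒮, (ι F S).IsContinuous (J S) (FibSite.totalTopology F J)]
  [(ι F j).IsCocontinuous (J j) (FibSite.totalTopology F J)]
  [∀ (R S : 𝒮) (f : R ⟶ S), (FibSite.invImage F f).IsContinuous (J S) (J R)]
  [((ι F i).sheafPushforwardContinuous (Type w) (J i) (FibSite.totalTopology F J)).IsRightAdjoint]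
  [∀ (R S : 𝒮) (f : R ⟶ S),
      ((FibSite.invImage F f).sheafPushforwardContinuous (Type w) (J S) (J R)).IsRightAdjoint]

/-- the composite adjunction `restr_j ∘ extend_i ⊣ restr_i ∘ coextend_j` -/
noncomputable def adjC : FibSite.extend F J (Type w) i ⋙ FibSite.restr F J (Type w) j ⊣
    FibSite.coextend F J (Type w) j ⋙ FibSite.restr F J (Type w) i :=
  ((ι F i).sheafAdjunctionContinuous (Type w) (J i) (FibSite.totalTopology F J)).comp
    ((ι F j).sheafAdjunctionCocontinuous (Type w) (J j) (FibSite.totalTopology F J))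

/-- the adjunction inverse image / direct image along `f^*` -/
noncomputable def adjP (f : j ⟶ i) :
    (FibSite.invImage F f).sheafPullback (Type w) (J i) (J j) ⊣
      (FibSite.invImage F f).sheafPushforwardContinuous (Type w) (J i) (J j) :=
  (FibSite.invImage F f).sheafAdjunctionContinuous (Type w) (J i) (J j)

variable (a : Sheaf (J i) (Type w))

/-- the comparison map on hom-sets -/
noncomputable def Ψ (b : Sheaf (J j) (Type w))
    (φ : (FibSite.extend F J (Type w) i ⋙ FibSite.restr F J (Type w) j).obj a ⟶ b) (f : j ⟶ i) :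
    ((FibSite.invImage F f).sheafPullback (Type w) (J i) (J j)).obj a ⟶ b :=
  ((adjP F J i j f).homEquiv a b).symm ((adjC F J i j).homEquiv a b φ ≫ (πNat F j i J f).app b)

lemma Ψ_naturality {b b' : Sheaf (J j) (Type w)}
    (φ : (FibSite.extend F J (Type w) i ⋙ FibSite.restr F J (Type w) j).obj a ⟶ b) (ψ : b ⟶ b')
    (f : j ⟶ i) : Ψ F J i j a b' (φ ≫ ψ) f = Ψ F J i j a b φ f ≫ ψ := by
  unfold Ψ
  rw [Adjunction.homEquiv_naturality_right, Category.assoc, (πNat F j i J f).naturality,
    ← Category.assoc, Adjunction.homEquiv_naturality_right_symm]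

/-- the cofan -/
noncomputable def cofan :
    Cofan fun f : j ⟶ i => ((FibSite.invImage F f).sheafPullback (Type w) (J i) (J j)).obj a :=
  Cofan.mk ((FibSite.extend F J (Type w) i ⋙ FibSite.restr F J (Type w) j).obj a)
    (fun f => Ψ F J i j a _ (𝟙 _) f)

lemma cofan_inj_comp {b : Sheaf (J j) (Type w)}
    (φ : (FibSite.extend F J (Type w) i ⋙ FibSite.restr F J (Type w) j).obj a ⟶ b) (f : j ⟶ i) :
    (cofan F J i j a).inj f ≫ φ = Ψ F J i j a b φ f := by
  have := Ψ_naturality F J i j a (𝟙 _) φ f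
  rw [Category.id_comp] at this
  exact this.symm

/-- the cofan is a colimit -/
noncomputable def isColimitCofan : IsColimit (cofan F J i j a) := by
  refine Cofan.IsColimit.mk _
    (fun s => ((adjC F J i j).homEquiv a s.pt).symm
      (Fan.IsLimit.lift (isLimitFan F j i J s.pt)
        (fun f => (adjP F J i j f).homEquiv a s.pt (s.inj f)))) ?_ ?_
  · intro s f
    have hfac : Fan.IsLimit.lift (isLimitFan F j i J s.pt)
        (fun f => (adjP F J i j f).homEquiv a s.pt (s.inj f)) ≫ (πNat F j i J f).app s.pt =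
        (adjP F J i j f).homEquiv a s.pt (s.inj f) :=
      Fan.IsLimit.fac (isLimitFan F j i J s.pt) _ f
    rw [cofan_inj_comp]
    unfold Ψ
    rw [Equiv.apply_symm_apply, hfac, Equiv.symm_apply_apply]
  · intro s m hm
    apply ((adjC F J i j).homEquiv a s.pt).injective
    rw [Equiv.apply_symm_apply]
    apply Fan.IsLimit.hom_ext (isLimitFan F j i J s.pt)
    intro f
    have hfac : Fan.IsLimit.lift (isLimitFan F j i J s.pt)
        (fun f => (adjP F J i j f).homEquiv a s.pt (s.inj f)) ≫ (πNat F j i J f).app s.pt =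
        (adjP F J i j f).homEquiv a s.pt (s.inj f) :=
      Fan.IsLimit.fac (isLimitFan F j i J s.pt) _ f
    refine Eq.trans ?_ hfac.symm
    have := hm f
    rw [cofan_inj_comp] at this
    unfold Ψ at this
    rw [← this, Equiv.apply_symm_apply]
    rfl

end Groth.Agent.Lib.helper10.TotLan
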