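import Mathlib
import Groth.Prelude.Def_FibSite
import Groth.Agent.Lib.helper10.TotTop
import Groth.Agent.Lib.helper10.TotSheaf
import Groth.Agent.Lib.helper10.TotInduced

set_option autoImplicit false
set_option backward.isDefEq.respectTransparency.types false
universe u

open CategoryTheory CategoryTheory.Limits Opposite Pseudofunctor Pseudofunctor.CoGrothendieck

namespace Groth.Agent.Lib.helper10.TotW

open Groth.Agent.Lib.helper10.TotTop Groth.Agent.Lib.helper10.TotSheaf
  Groth.Agent.Lib.helper10.TotInduced

variable {𝒮 : Type u} [SmallCategory 𝒮] (F : Pseudofunctor (LocallyDiscrete 𝒮ᵒᵖ) Cat.{u, u})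
  (i : 𝒮)

/-- left Kan extension along the fibre inclusion -/
noncomputable abbrev L : ((F.obj ⟨op i⟩)ᵒᵖ ⥤ Type u) ⥤ ((∫ᶜ F)ᵒᵖ ⥤ Type u) :=
  (ι F i).op.lan (H := Type u)

variable (R : (F.obj ⟨op i⟩)ᵒᵖ ⥤ Type u)

/-- the unit -/
noncomputable abbrev η : R ⟶ (ι F i).op ⋙ (L F i).obj R := (ι F i).op.lanUnit.app R

/-- the element of the Kan extension represented by a pair -/
noncomputable def rep {X : ∫ᶜ F} {W : F.obj ⟨op i⟩} (m : X ⟶ (ι F i).obj W) (r : R.obj (op W)) :
    ((L F i).obj R).obj (op X) :=
  ((L F i).obj R).map m.op ((η F i R).app (op W) r)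

/-- the pointwise colimit property of the Kan extension -/
noncomputable def hcolim (X : ∫ᶜ F) :
    IsColimit ((Functor.LeftExtension.mk _ (η F i R)).coconeAt (op X)) :=
  Functor.isPointwiseLeftKanExtensionOfIsLeftKanExtension (F := R) _
    ((ι F i).op.lanUnit.app R) (op X)

lemma exists_rep {X : ∫ᶜ F} (z : ((L F i).obj R).obj (op X)) :
    ∃ (W : F.obj ⟨op i⟩) (m : X ⟶ (ι F i).obj W) (r : R.obj (op W)), z = rep F i R m r := by
  have hc := hcolim F i R X
  obtain ⟨g, r, hr⟩ := Types.jointly_surjective_of_isColimit hc z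
  exact ⟨g.left.unop, g.hom.unop, r, hr.symm⟩

variable {F i} in
/-- a morphism between fibre objects over the identity comes from the fibre -/
noncomputable def lift {V W : F.obj ⟨op i⟩} (m : (ι F i).obj V ⟶ (ι F i).obj W)
    (h : m.base = 𝟙 i) : V ⟶ W := (ι_full_of_base F m h).choose

variable {F i} in
lemma ι_map_lift {V W : F.obj ⟨op i⟩} (m : (ι F i).obj V ⟶ (ι F i).obj W)
    (h : m.base = 𝟙 i) : (ι F i).map (lift m h) = m := (ι_full_of_base F m h).choose_spec

variable {F i} in
lemma lift_ι_map {V W : F.obj ⟨op i⟩} (a : V ⟶ W) (h : ((ι F i).map a).base = 𝟙 i) :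
    lift ((ι F i).map a) h = a :=
  ι_map_injective F _ _ (ι_map_lift _ h)

open Classical in
/-- the cocone detecting the identity component -/
noncomputable def optCocone (V : F.obj ⟨op i⟩) :
    Cocone (CostructuredArrow.proj (ι F i).op (op ((ι F i).obj V)) ⋙ R) where
  pt := Option (R.obj (op V))
  ι :=
    { app := fun g => ↾fun r =>
        if h : (show (ι F i).obj V ⟶ (ι F i).obj g.left.unop from g.hom.unop).base = 𝟙 i then
          some (R.map (lift (show (ι F i).obj V ⟶ (ι F i).obj g.left.unop from g.hom.unop) h).op r)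
        else none
      naturality := by
        intro g g' φ
        ext r
        have hw : (show (ι F i).obj V ⟶ (ι F i).obj g.left.unop from g.hom.unop) =
            (show (ι F i).obj V ⟶ (ι F i).obj g'.left.unop from g'.hom.unop) ≫
              (ι F i).map φ.left.unop := by
          have := CostructuredArrow.w φ
          rw [← this]
          rfl
        have hb : (show (ι F i).obj V ⟶ (ι F i).obj g.left.unop from g.hom.unop).base =
            (show (ι F i).obj V ⟶ (ι F i).obj g'.left.unop from g'.hom.unop).base := by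
          rw [hw]
          exact Category.comp_id _
        show (if h : (show (ι F i).obj V ⟶ (ι F i).obj g'.left.unop from g'.hom.unop).base = 𝟙 i
            then some (R.map (lift _ h).op (R.map φ.left r)) else none) =
          (if h : (show (ι F i).obj V ⟶ (ι F i).obj g.left.unop from g.hom.unop).base = 𝟙 i
            then some (R.map (lift _ h).op r) else none)
        by_cases h : (show (ι F i).obj V ⟶ (ι F i).obj g'.left.unop from g'.hom.unop).base = 𝟙 i
        · have h' := hb.trans h
          rw [dif_pos h, dif_pos h']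
          congr 1
          have hl : lift _ h' = lift _ h ≫ φ.left.unop := by
            apply ι_map_injective F
            rw [ι_map_lift, Functor.map_comp, ι_map_lift]
            exact hw
          rw [hl, op_comp, Functor.map_comp_apply]
          rfl
        · have h' : ¬ (show (ι F i).obj V ⟶ (ι F i).obj g.left.unop from g.hom.unop).base = 𝟙 i :=
            fun h'' => h (hb.symm.trans h'')
          rw [dif_neg h, dif_neg h'] }

/-- the map detecting the identity component -/
noncomputable def d (V : F.obj ⟨op i⟩) :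
    ((L F i).obj R).obj (op ((ι F i).obj V)) ⟶ Option (R.obj (op V)) :=
  (hcolim F i R ((ι F i).obj V)).desc (optCocone F i R V)

open Classical in
lemma d_rep {V W : F.obj ⟨op i⟩} (m : (ι F i).obj V ⟶ (ι F i).obj W) (r : R.obj (op W)) :
    d F i R V (rep F i R m r) =
      if h : m.base = 𝟙 i then some (R.map (lift m h).op r) else none := by
  have := congrArg (fun φ => φ r) (congrArg (fun φ => (ConcreteCategory.hom φ : _ → _))
    ((hcolim F i R ((ι F i).obj V)).fac (optCocone F i R V)
      (CostructuredArrow.mk (Y := op W) (show (ι F i).op.obj (op W) ⟶ op ((ι F i).obj V) from m.op))))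
  refine Eq.trans ?_ (this.trans ?_)
  · rfl
  · rfl

lemma d_η {V : F.obj ⟨op i⟩} (r : R.obj (op V)) :
    d F i R V ((η F i R).app (op V) r) = some r := by
  have h1 : (η F i R).app (op V) r = rep F i R (𝟙 ((ι F i).obj V)) r := by
    unfold rep
    rw [op_id, Functor.map_id_apply]
  have h0 : (𝟙 ((ι F i).obj V) : (ι F i).obj V ⟶ (ι F i).obj V).base = 𝟙 i := rfl
  rw [h1, d_rep, dif_pos h0]
  have h2 : lift (𝟙 ((ι F i).obj V)) h0 = 𝟙 V := by
    apply ι_map_injective F
    rw [ι_map_lift, CategoryTheory.Functor.map_id]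
  rw [h2, op_id, Functor.map_id_apply]

lemma η_injective {V : F.obj ⟨op i⟩} (r₁ r₂ : R.obj (op V))
    (h : (η F i R).app (op V) r₁ = (η F i R).app (op V) r₂) : r₁ = r₂ := by
  have := congrArg (d F i R V) h
  rw [d_η, d_η] at this
  exact Option.some.inj this

variable {R} {R' : (F.obj ⟨op i⟩)ᵒᵖ ⥤ Type u} (u' : R ⟶ R')

lemma map_η {W : F.obj ⟨op i⟩} (r : R.obj (op W)) :
    ((L F i).map u').app (op ((ι F i).obj W)) ((η F i R).app (op W) r) =
      (η F i R').app (op W) (u'.app (op W) r) := by
  have := congrArg (fun τ => (ConcreteCategory.hom (τ.app (op W)) : _ → _) r)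
    ((ι F i).op.lanUnit.naturality u')
  exact this.symm

lemma η_map {V W : F.obj ⟨op i⟩} (w : V ⟶ W) (r : R.obj (op W)) :
    (η F i R).app (op V) (R.map w.op r) =
      ((L F i).obj R).map ((ι F i).map w).op ((η F i R).app (op W) r) :=
  NatTrans.naturality_apply (η F i R) w.op r

lemma map_rep {X : ∫ᶜ F} {W : F.obj ⟨op i⟩} (m : X ⟶ (ι F i).obj W) (r : R.obj (op W)) :
    ((L F i).map u').app (op X) (rep F i R m r) = rep F i R' m (u'.app (op W) r) := by
  unfold rep
  have h1 := NatTrans.naturality_apply ((L F i).map u') m.op ((η F i R).app (op W) r)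
  rw [h1, map_η]

variable (J : FibSite.Topologies F)

theorem W_lan_of_W (hF : FibSite.IsPreFibSite F J) (h : (J i).W u') :
    (FibSite.totalTopology F J).W ((L F i).map u') := by
  have := ι_isContinuous F J hF i
  exact Functor.W_map_of_adjunction_of_isContinuous (J i) (FibSite.totalTopology F J) (ι F i)
    (L F i) ((ι F i).op.lanAdjunction (Type u)) u' h

theorem W_of_W_lan (hF : FibSite.IsPreFibSite F J)
    (h : (FibSite.totalTopology F J).W ((L F i).map u')) : (J i).W u' := by
  obtain ⟨hinj, hsurj⟩ := ((FibSite.totalTopology F J).W_iff_isLocallyBijective _).1 h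
  rw [GrothendieckTopology.W_iff_isLocallyBijective]
  constructor
  · refine ⟨fun {X} r₁ r₂ hr => ?_⟩
    have hmem := Presheaf.equalizerSieve_mem (FibSite.totalTopology F J) ((L F i).map u')
      (X := op ((ι F i).obj X.unop)) ((η F i R).app X r₁) ((η F i R).app X r₂)
      (by
        have e1 := map_η F i u' (W := X.unop) r₁
        have e2 := map_η F i u' (W := X.unop) r₂
        exact e1.trans ((congrArg (fun z => (η F i R').app X z) hr).trans e2.symm))
    obtain ⟨T₀, hT₀, hle⟩ := (mem_iff F J hF _ _).1 hmem
    refine (J i).superset_covering ?_ hT₀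
    intro V' w hw
    have h3 : ((L F i).obj R).map ((ι F i).map w).op ((η F i R).app X r₁) =
        ((L F i).obj R).map ((ι F i).map w).op ((η F i R).app X r₂) :=
      hle _ (Sieve.image_mem_functorPushforward (ι F i) T₀ hw)
    apply η_injective F i R
    exact (η_map F i w r₁).trans (h3.trans (η_map F i w r₂).symm)
  · refine ⟨fun {V} y => ?_⟩
    have hmem := Presheaf.imageSieve_mem (FibSite.totalTopology F J) ((L F i).map u')
      (U := op ((ι F i).obj V)) ((η F i R').app (op V) y)
    obtain ⟨T₀, hT₀, hle⟩ := (mem_iff F J hF _ _).1 hmem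
    refine (J i).superset_covering ?_ hT₀
    intro V' w hw
    obtain ⟨z, hz⟩ := hle _ (Sieve.image_mem_functorPushforward (ι F i) T₀ hw)
    obtain ⟨W, m, r, rfl⟩ := exists_rep F i R z
    have h4 : rep F i R' m (u'.app (op W) r) = (η F i R').app (op V') (R'.map w.op y) :=
      (map_rep F i u' m r).symm.trans (hz.trans (η_map F i w y).symm)
    have h5 := congrArg (d F i R' V') h4
    rw [d_η, d_rep] at h5
    by_cases hb : m.base = 𝟙 i
    · rw [dif_pos hb] at h5
      refine ⟨R.map (lift m hb).op r, ?_⟩
      have h6 := NatTrans.naturality_apply u' (lift m hb).op r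
      exact h6.trans (Option.some.inj h5)
    · rw [dif_neg hb] at h5
      exact absurd h5 (by simp)

end Groth.Agent.Lib.helper10.TotW
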