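import Mathlib.AlgebraicTopology.SimplicialObject.Basic
import Mathlib.CategoryTheory.FinCategory.Basic
import Mathlib.Data.Finite.Sigma
import Mathlib.CategoryTheory.Limits.Shapes.FiniteLimits
import Mathlib.CategoryTheory.Functor.KanExtension.Pointwise

/-! Finiteness of comma categories over the truncated simplex category. -/

open CategoryTheory CategoryTheory.Limits Opposite

namespace Groth.Agent.Lib.helper10

instance finite_truncated (m : ℕ) : Finite (SimplexCategory.Truncated m) := by
  refine Finite.of_injective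
    (fun X : SimplexCategory.Truncated m => (⟨X.obj.len, Nat.lt_succ_of_le X.property⟩ : Fin (m + 1))) ?_
  intro X Y h
  have h' : X.obj.len = Y.obj.len := congrArg Fin.val h
  exact ObjectProperty.FullSubcategory.ext (SimplexCategory.ext h')

instance finite_truncated_hom (m : ℕ) (a b : SimplexCategory.Truncated m) : Finite (a ⟶ b) :=
  Finite.of_injective (fun f : a ⟶ b => f.hom) (fun _ _ h => ObjectProperty.hom_ext _ h)

instance finite_truncated_op (m : ℕ) : Finite (SimplexCategory.Truncated m)ᵒᵖ :=
  Finite.of_equiv _ Opposite.equivToOpposite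

instance finite_op_hom {C : Type*} [Category C] (a b : Cᵒᵖ) [Finite (b.unop ⟶ a.unop)] :
    Finite (a ⟶ b) :=
  Finite.of_equiv _ (opEquiv a b).symm

instance finite_structuredArrow (m : ℕ) (Y : SimplexCategoryᵒᵖ) :
    Finite (StructuredArrow Y (SimplexCategory.Truncated.inclusion m).op) := by
  have : ∀ k : (SimplexCategory.Truncated m)ᵒᵖ,
      Finite (Y ⟶ (SimplexCategory.Truncated.inclusion m).op.obj k) :=
    fun k => finite_op_hom _ _
  refine Finite.of_injective
    (fun f : StructuredArrow Y (SimplexCategory.Truncated.inclusion m).op =>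
      (⟨f.right, f.hom⟩ : Σ k : (SimplexCategory.Truncated m)ᵒᵖ,
        (Y ⟶ (SimplexCategory.Truncated.inclusion m).op.obj k))) ?_
  rintro ⟨⟨⟨⟩⟩, r, f⟩ ⟨⟨⟨⟩⟩, r', f'⟩ h
  simp only [Sigma.mk.injEq] at h
  obtain ⟨rfl, h2⟩ := h
  have h3 := eq_of_heq h2
  dsimp at h3
  subst h3
  rfl

instance finite_structuredArrow_hom (m : ℕ) (Y : SimplexCategoryᵒᵖ)
    (a b : StructuredArrow Y (SimplexCategory.Truncated.inclusion m).op) : Finite (a ⟶ b) :=
  Finite.of_injective (fun f : a ⟶ b => f.right) (fun _ _ h => StructuredArrow.ext _ _ h)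

noncomputable instance finCategory_structuredArrow (m : ℕ) (Y : SimplexCategoryᵒᵖ) :
    FinCategory (StructuredArrow Y (SimplexCategory.Truncated.inclusion m).op) where
  fintypeObj := Fintype.ofFinite _
  fintypeHom := fun _ _ => Fintype.ofFinite _

instance finite_costructuredArrow (m : ℕ) (Y : SimplexCategoryᵒᵖ) :
    Finite (CostructuredArrow (SimplexCategory.Truncated.inclusion m).op Y) := by
  have : ∀ k : (SimplexCategory.Truncated m)ᵒᵖ,
      Finite ((SimplexCategory.Truncated.inclusion m).op.obj k ⟶ Y) :=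
    fun k => finite_op_hom _ _
  refine Finite.of_injective
    (fun f : CostructuredArrow (SimplexCategory.Truncated.inclusion m).op Y =>
      (⟨f.left, f.hom⟩ : Σ k : (SimplexCategory.Truncated m)ᵒᵖ,
        ((SimplexCategory.Truncated.inclusion m).op.obj k ⟶ Y))) ?_
  rintro ⟨l, ⟨⟨⟩⟩, f⟩ ⟨l', ⟨⟨⟩⟩, f'⟩ h
  simp only [Sigma.mk.injEq] at h
  obtain ⟨rfl, h2⟩ := h
  have h3 := eq_of_heq h2
  dsimp at h3
  subst h3
  rfl

instance finite_costructuredArrow_hom (m : ℕ) (Y : SimplexCategoryᵒᵖ)
    (a b : CostructuredArrow (SimplexCategory.Truncated.inclusion m).op Y) : Finite (a ⟶ b) :=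
  Finite.of_injective (fun f : a ⟶ b => f.left) (fun _ _ h => CostructuredArrow.ext _ _ h)

noncomputable instance finCategory_costructuredArrow (m : ℕ) (Y : SimplexCategoryᵒᵖ) :
    FinCategory (CostructuredArrow (SimplexCategory.Truncated.inclusion m).op Y) where
  fintypeObj := Fintype.ofFinite _
  fintypeHom := fun _ _ => Fintype.ofFinite _

theorem hasPointwiseRightKanExtension_truncated {C : Type*} [Category C] [HasFiniteLimits C] (m : ℕ)
    (U : (SimplexCategory.Truncated m)ᵒᵖ ⥤ C) :
    (SimplexCategory.Truncated.inclusion m).op.HasPointwiseRightKanExtension U :=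
  fun _ => inferInstance

theorem hasPointwiseLeftKanExtension_truncated {C : Type*} [Category C] [HasFiniteColimits C] (m : ℕ)
    (U : (SimplexCategory.Truncated m)ᵒᵖ ⥤ C) :
    (SimplexCategory.Truncated.inclusion m).op.HasPointwiseLeftKanExtension U :=
  fun _ => inferInstance

end Groth.Agent.Lib.helper10
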