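import Mathlib
import Groth.Prelude.Def_FreeSh

set_option autoImplicit false
universe u
open CategoryTheory CategoryTheory.Limits Opposite

namespace Groth.Agent.Lib.helper10.WC

variable {C : Type u} [SmallCategory C] (J : GrothendieckTopology C)

/-- sections over `U` of abelian sheaves -/
noncomputable abbrev Γ (U : C) : Sheaf J AddCommGrpCat.{u} ⥤ AddCommGrpCat.{u} :=
  sheafToPresheaf J AddCommGrpCat.{u} ⋙ (evaluation Cᵒᵖ AddCommGrpCat.{u}).obj (op U)

lemma surjective_of_epi (U : C) (hU : CohSite.IsWeaklyContractible J U)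
    {A B : Sheaf J AddCommGrpCat.{u}} (g : A ⟶ B) [Epi g] :
    Function.Surjective (g.hom.app (op U)).hom := by
  have h1 : Sheaf.IsLocallySurjective g := (Sheaf.isLocallySurjective_iff_epi' _ g).2 inferInstance
  have h3 : Epi ((sheafCompose J (forget AddCommGrpCat.{u})).map g) := inferInstance
  exact hU _ _ _ h3

lemma Γ_preservesFiniteColimits (U : C) (hU : CohSite.IsWeaklyContractible J U) :
    PreservesFiniteColimits (Γ J U) := by
  let G := Γ J U
  have hlim : PreservesFiniteLimits G := by
    have : PreservesLimitsOfSize.{0, 0} (sheafToPresheaf J AddCommGrpCat.{u}) :=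
      (sheafificationAdjunction J AddCommGrpCat.{u}).rightAdjoint_preservesLimits
    infer_instance
  have hadd : G.Additive := Functor.additive_of_preserves_binary_products _
  have hepi : ∀ {A B : Sheaf J AddCommGrpCat.{u}} (g : A ⟶ B), Epi g → Epi (G.map g) := by
    intro A B g hg
    rw [AddCommGrpCat.epi_iff_surjective]
    exact surjective_of_epi J U hU g
  have key0 : ∀ (S : ShortComplex (Sheaf J AddCommGrpCat.{u})), S.ShortExact →
      (S.map G).Exact ∧ Mono (G.map S.f) := ((Functor.preservesFiniteLimits_tfae G).out 3 0).1 hlim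
  have key : ∀ (S : ShortComplex (Sheaf J AddCommGrpCat.{u})), S.ShortExact →
      (S.map G).Exact ∧ Epi (G.map S.g) := fun S hS =>
    ⟨(key0 S hS).1, hepi _ hS.epi_g⟩
  exact ((Functor.preservesFiniteColimits_tfae G).out 0 3).1 key

lemma projective_freeSheaf (U : C) (hU : CohSite.IsWeaklyContractible J U) :
    Projective (CohCx.freeSheaf J U) := by
  constructor
  intro E X f e he
  obtain ⟨t, ht⟩ := surjective_of_epi J U hU e (CohFree.evalGen J U X f)
  refine ⟨CohFree.ofSect J U E t, ?_⟩
  apply (CohFree.homEquivSect J U X).injective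
  change CohFree.evalGen J U X (CohFree.ofSect J U E t ≫ e) = CohFree.evalGen J U X f
  rw [← ht]
  change (e.hom.app (op U)).hom (CohFree.evalGen J U E (CohFree.ofSect J U E t)) = _
  rw [CohFree.evalGen_ofSect]

lemma subsingleton_HU (U : C) (hU : CohSite.IsWeaklyContractible J U)
    (F : Sheaf J AddCommGrpCat.{u}) (p : ℕ) : Subsingleton (CohSite.HU F (p + 1) U) := by
  have hP := projective_freeSheaf J U hU
  have h0 : ∀ a : Abelian.Ext (CohCx.freeSheaf J U) F (p + 1), a = 0 := fun a =>
    Abelian.Ext.eq_zero_of_projective a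
  refine ⟨fun a b => ?_⟩
  exact (h0 a).trans (h0 b).symm

end Groth.Agent.Lib.helper10.WC
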