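import Mathlib

set_option autoImplicit false
universe w v u
open CategoryTheory CategoryTheory.Limits Opposite

namespace Groth.Agent.Lib.helper10.WCExact

variable {C : Type u} [Category.{v} C] (J : GrothendieckTopology C) [HasSheafify J AddCommGrpCat.{w}]
  [J.WEqualsLocallyBijective AddCommGrpCat.{w}]

/-- sections over `U` of abelian sheaves -/
noncomputable abbrev Γ (U : C) : Sheaf J AddCommGrpCat.{w} ⥤ AddCommGrpCat.{w} :=
  sheafToPresheaf J AddCommGrpCat.{w} ⋙ (evaluation Cᵒᵖ AddCommGrpCat.{w}).obj (op U)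

lemma surjective_of_epi (U : C)
    (hU : ∀ (P Q : Sheaf J (Type w)) (ψ : P ⟶ Q), Epi ψ → Function.Surjective (ψ.hom.app (op U)))
    {A B : Sheaf J AddCommGrpCat.{w}} (g : A ⟶ B) [Epi g] :
    Function.Surjective (g.hom.app (op U)).hom := by
  have h1 : Sheaf.IsLocallySurjective g := (Sheaf.isLocallySurjective_iff_epi' _ g).2 inferInstance
  have h3 : Epi ((sheafCompose J (forget AddCommGrpCat.{w})).map g) := inferInstance
  exact hU _ _ _ h3

instance (U : C) : PreservesFiniteLimits (Γ J U) := by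
  have : PreservesLimitsOfSize.{0, 0} (sheafToPresheaf J AddCommGrpCat.{w}) :=
    (sheafificationAdjunction J AddCommGrpCat.{w}).rightAdjoint_preservesLimits
  infer_instance

instance (U : C) : (Γ J U).Additive := Functor.additive_of_preserves_binary_products _

lemma Γ_preservesFiniteColimits (U : C)
    (hU : ∀ (P Q : Sheaf J (Type w)) (ψ : P ⟶ Q), Epi ψ → Function.Surjective (ψ.hom.app (op U))) :
    PreservesFiniteColimits.{max u w, w, max (max u v) (w + 1), w + 1} (Γ J U) := by
  let G := Γ J U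
  have hlim : PreservesFiniteLimits G := inferInstance
  have hepi : ∀ {A B : Sheaf J AddCommGrpCat.{w}} (g : A ⟶ B), Epi g → Epi (G.map g) := by
    intro A B g hg
    rw [AddCommGrpCat.epi_iff_surjective]
    exact surjective_of_epi J U hU g
  have key0 : ∀ (S : ShortComplex (Sheaf J AddCommGrpCat.{w})), S.ShortExact →
      (S.map G).Exact ∧ Mono (G.map S.f) := ((Functor.preservesFiniteLimits_tfae G).out 3 0).1 hlim
  have key : ∀ (S : ShortComplex (Sheaf J AddCommGrpCat.{w})), S.ShortExact →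
      (S.map G).Exact ∧ Epi (G.map S.g) := fun S hS =>
    ⟨(key0 S hS).1, hepi _ hS.epi_g⟩
  exact ((Functor.preservesFiniteColimits_tfae G).out 0 3).1 key

omit [HasSheafify J AddCommGrpCat.{w}] [J.WEqualsLocallyBijective AddCommGrpCat.{w}] in
/-- a sheaf vanishing on a "basis" is zero -/
lemma isZero_of_basis [J.HasSheafCompose (forget AddCommGrpCat.{w})] (B : C → Prop)
    (hcov : ∀ V : C, ∃ S : Sieve V, S ∈ J V ∧ ∀ ⦃W : C⦄ (f : W ⟶ V), S.arrows f →
      ∃ (U : C) (g : W ⟶ U) (h : U ⟶ V), B U ∧ g ≫ h = f)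
    (X : Sheaf J AddCommGrpCat.{w}) (hX : ∀ U, B U → IsZero (X.obj.obj (op U))) : IsZero X := by
  apply IsZero.of_full_of_faithful_of_isZero (sheafToPresheaf J AddCommGrpCat.{w})
  apply Functor.isZero
  intro ⟨V⟩
  change IsZero (X.obj.obj (op V))
  rw [AddCommGrpCat.isZero_iff_subsingleton] 
  have h0 : ∀ x : X.obj.obj (op V), x = 0 := by
    intro x
    obtain ⟨S, hS, hS'⟩ := hcov V
    refine X.isSeparated V S hS x 0 ?_
    intro W f hf
    obtain ⟨U, g, h, hU, rfl⟩ := hS' f hf
    have hsub : Subsingleton (X.obj.obj (op U)) := (AddCommGrpCat.isZero_iff_subsingleton).1 (hX U hU)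
    change (X.obj.map (g ≫ h).op).hom x = (X.obj.map (g ≫ h).op).hom 0
    rw [op_comp, Functor.map_comp]
    change (X.obj.map g.op).hom ((X.obj.map h.op).hom x) = (X.obj.map g.op).hom ((X.obj.map h.op).hom 0)
    rw [Subsingleton.elim ((X.obj.map h.op).hom x) ((X.obj.map h.op).hom 0)]
  exact ⟨fun a b => (h0 a).trans (h0 b).symm⟩

theorem exact_iff (B : C → Prop)
    (hB : ∀ U : C, B U → ∀ (P Q : Sheaf J (Type w)) (ψ : P ⟶ Q), Epi ψ → Function.Surjective (ψ.hom.app (op U)))
    (hcov : ∀ V : C, ∃ S : Sieve V, S ∈ J V ∧ ∀ ⦃W : C⦄ (f : W ⟶ V), S.arrows f →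
      ∃ (U : C) (g : W ⟶ U) (h : U ⟶ V), B U ∧ g ≫ h = f)
    (S : ShortComplex (Sheaf J AddCommGrpCat.{w})) :
    S.Exact ↔ ∀ U : C, B U → (S.map (Γ J U)).Exact := by
  constructor
  · intro hS U hU
    have := Γ_preservesFiniteColimits J U (hB U hU)
    exact hS.map (Γ J U)
  · intro h
    rw [S.exact_iff_isZero_homology]
    apply isZero_of_basis.{w} J B hcov
    intro U hU
    have := Γ_preservesFiniteColimits J U (hB U hU)
    have h1 := (h U hU)
    rw [ShortComplex.exact_iff_isZero_homology] at h1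
    exact h1.of_iso (S.mapHomologyIso (Γ J U)).symm

end Groth.Agent.Lib.helper10.WCExact
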