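import Mathlib
import Groth.Agent.Lib.helper10.WC

set_option autoImplicit false
universe u
open CategoryTheory CategoryTheory.Limits Opposite

namespace Groth.Agent.Lib.helper10.WCProd

open Groth.Agent.Lib.helper10

variable {C : Type u} [SmallCategory C] (J : GrothendieckTopology C)

/-- sections over `W` as a set-valued functor -/
noncomputable abbrev ΓT (W : C) : Sheaf J AddCommGrpCat.{u} ⥤ Type u :=
  WC.Γ J W ⋙ forget AddCommGrpCat.{u}

instance (W : C) : PreservesLimitsOfSize.{u, u} (ΓT J W) := by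
  have : PreservesLimitsOfSize.{u, u} (sheafToPresheaf J AddCommGrpCat.{u}) :=
    (sheafificationAdjunction J AddCommGrpCat.{u}).rightAdjoint_preservesLimits
  infer_instance

variable {I : Type u}

/-- the bijection between sections of a limit and compatible families -/
noncomputable def secEquiv (Y : Discrete I ⥤ Sheaf J AddCommGrpCat.{u}) (W : C) :
    ((limit Y).obj.obj (op W) : Type u) ≃ (Y ⋙ ΓT J W).sections :=
  Types.isLimitEquivSections (isLimitOfPreserves (ΓT J W) (limit.isLimit Y))

lemma secEquiv_apply (Y : Discrete I ⥤ Sheaf J AddCommGrpCat.{u}) (W : C)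
    (s : ((limit Y).obj.obj (op W) : Type u)) (i : Discrete I) :
    (secEquiv J Y W s).1 i = ((limit.π Y i).hom.app (op W)).hom s := rfl

lemma sec_ext (Y : Discrete I ⥤ Sheaf J AddCommGrpCat.{u}) (W : C)
    (s t : ((limit Y).obj.obj (op W) : Type u))
    (h : ∀ i, ((limit.π Y i).hom.app (op W)).hom s = ((limit.π Y i).hom.app (op W)).hom t) : s = t := by
  apply (secEquiv J Y W).injective
  apply Subtype.ext
  funext i
  exact h i

lemma sections_aux (Y : Discrete I ⥤ Sheaf J AddCommGrpCat.{u}) (W : C)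
    (x : ∀ i : Discrete I, ((Y.obj i).obj.obj (op W) : Type u)) : x ∈ (Y ⋙ ΓT J W).sections := by
  intro i j φ
  obtain rfl : i = j := Discrete.ext (Discrete.eq_of_hom φ)
  have : φ = 𝟙 _ := Subsingleton.elim _ _
  rw [this, CategoryTheory.Functor.map_id]
  rfl

lemma sec_exists (Y : Discrete I ⥤ Sheaf J AddCommGrpCat.{u}) (W : C)
    (x : ∀ i : Discrete I, ((Y.obj i).obj.obj (op W) : Type u)) :
    ∃ s : ((limit Y).obj.obj (op W) : Type u), ∀ i, ((limit.π Y i).hom.app (op W)).hom s = x i := by
  refine ⟨(secEquiv J Y W).symm ⟨x, ?_⟩, ?_⟩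
  · exact sections_aux J Y W x
  · intro i
    have := secEquiv_apply J Y W ((secEquiv J Y W).symm ⟨x, sections_aux J Y W x⟩) i
    rw [Equiv.apply_symm_apply] at this
    exact this.symm

lemma epi_limMap (B : Set C) (hB : ∀ U ∈ B, CohSite.IsWeaklyContractible J U)
    (hcov : ∀ V : C, ∃ (ι : Type u) (U : ι → C) (f : ∀ i, U i ⟶ V),
      (∀ i, U i ∈ B) ∧ Sieve.ofArrows U f ∈ J V)
    {P Q : Discrete I ⥤ Sheaf J AddCommGrpCat.{u}} (α : P ⟶ Q) (hα : ∀ i, Epi (α.app i)) :
    Epi (limMap α) := by
  have : Sheaf.IsLocallySurjective (limMap α) := by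
    constructor
    intro V s
    obtain ⟨ι, U, f, hU, hS⟩ := hcov V
    refine J.superset_covering ?_ hS
    rw [Sieve.ofArrows, Sieve.generate_le_iff]
    rintro W g ⟨j⟩
    have hwc := hB _ (hU j)
    have hx : ∀ i : Discrete I, ∃ x : ((P.obj i).obj.obj (op (U j)) : Type u),
        ((α.app i).hom.app (op (U j))).hom x =
          ((limit.π Q i).hom.app (op (U j))).hom (((limit Q).obj.map (f j).op).hom s) := fun i =>
      WC.surjective_of_epi J (U j) hwc (α.app i) _
    choose x hx using hx
    obtain ⟨t, ht⟩ := sec_exists J P (U j) x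
    refine ⟨t, ?_⟩
    apply sec_ext J Q (U j)
    intro i
    rw [← hx i, ← ht i]
    have := congrArg (fun φ => (φ.hom.app (op (U j))).hom t) (limMap_π α i)
    exact this
  infer_instance

theorem ab4Star (B : Set C) (hB : ∀ U ∈ B, CohSite.IsWeaklyContractible J U)
    (hcov : ∀ V : C, ∃ (ι : Type u) (U : ι → C) (f : ∀ i, U i ⟶ V),
      (∀ i, U i ∈ B) ∧ Sieve.ofArrows U f ∈ J V) :
    AB4Star (Sheaf J AddCommGrpCat.{u}) := by
  constructor
  intro I
  constructor
  let L : (Discrete I ⥤ Sheaf J AddCommGrpCat.{u}) ⥤ Sheaf J AddCommGrpCat.{u} := lim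
  have hlim : PreservesFiniteLimits L := by
    have : PreservesLimitsOfSize.{0, 0} L := constLimAdj.rightAdjoint_preservesLimits
    infer_instance
  have hadd : L.Additive := Functor.additive_of_preserves_binary_products _
  have key0 : ∀ (S : ShortComplex (Discrete I ⥤ Sheaf J AddCommGrpCat.{u})), S.ShortExact →
      (S.map L).Exact ∧ Mono (L.map S.f) := ((Functor.preservesFiniteLimits_tfae L).out 3 0).1 hlim
  have key : ∀ (S : ShortComplex (Discrete I ⥤ Sheaf J AddCommGrpCat.{u})), S.ShortExact →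
      (S.map L).Exact ∧ Epi (L.map S.g) := fun S hS =>
    ⟨(key0 S hS).1, epi_limMap J B hB hcov S.g (fun i => by
      have := hS.epi_g
      exact (NatTrans.epi_iff_epi_app S.g).1 this i)⟩
  exact ((Functor.preservesFiniteColimits_tfae L).out 0 3).1 key

end Groth.Agent.Lib.helper10.WCProd
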