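import Mathlib

set_option autoImplicit false
universe u
open CategoryTheory CategoryTheory.Limits Opposite

namespace Groth.Agent.Lib.helper10.WCtfae

variable {C : Type u} [SmallCategory C] (J : GrothendieckTopology C) (U : C)

/-- index type of the arrows of a sieve -/
abbrev Idx (S : Sieve U) : Type u := Σ V : C, {f : V ⟶ U // S f}

/-- the presheaf coproduct of the representables of the arrows of a sieve -/
noncomputable abbrev P (S : Sieve U) : Cᵒᵖ ⥤ Type u := ∐ fun i : Idx U S => yoneda.obj i.1

/-- the canonical map to `h_U` -/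
noncomputable abbrev d (S : Sieve U) : P U S ⟶ yoneda.obj U :=
  Sigma.desc (fun i : Idx U S => yoneda.map i.2.1)

noncomputable abbrev adj := sheafificationAdjunction J (Type u)

lemma isLocallySurjective_d (S : Sieve U) (hS : S ∈ J U) : Presheaf.IsLocallySurjective J (d U S) := by
  constructor
  intro W y
  refine J.superset_covering ?_ (J.pullback_stable (y : W ⟶ U) hS)
  intro W' h hh
  let i : Idx U S := ⟨W', h ≫ y, hh⟩
  refine ⟨(Sigma.ι (fun i : Idx U S => yoneda.obj i.1) i).app (op W') (𝟙 W'), ?_⟩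
  have := congrArg (fun κ => κ.app (op W') (𝟙 W'))
    (Sigma.ι_desc (fun i : Idx U S => yoneda.map i.2.1) i)
  refine this.trans ?_
  change 𝟙 W' ≫ h ≫ y = h ≫ y
  exact Category.id_comp _

theorem forward
    (hsplit : ∀ S : Sieve U, S ∈ J U → IsSplitEpi ((presheafToSheaf J (Type u)).map (d U S)))
    (F G : Sheaf J (Type u)) (φ : F ⟶ G) (hφ : Epi φ) :
    Function.Surjective (φ.hom.app (op U)) := by
  intro g
  have hloc : Sheaf.IsLocallySurjective φ := (Sheaf.isLocallySurjective_iff_epi φ).2 hφ
  let S : Sieve U := Presheaf.imageSieve φ.hom g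
  have hS : S ∈ J U := Presheaf.imageSieve_mem J φ.hom (U := op U) g
  have hx : ∀ i : Idx U S, ∃ x : F.obj.obj (op i.1), φ.hom.app (op i.1) x = G.obj.map i.2.1.op g :=
    fun i => i.2.2
  choose x hx using hx
  let ψ : P U S ⟶ F.obj := Sigma.desc (fun i => yonedaEquiv.symm (x i))
  let ψ' : (presheafToSheaf J (Type u)).obj (P U S) ⟶ F := ((adj J).homEquiv _ _).symm ψ
  obtain ⟨⟨s, hs⟩⟩ := hsplit S hS
  let gt : (presheafToSheaf J (Type u)).obj (yoneda.obj U) ⟶ G :=
    ((adj J).homEquiv _ _).symm (yonedaEquiv.symm g)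
  have key : ψ' ≫ φ = (presheafToSheaf J (Type u)).map (d U S) ≫ gt := by
    apply ((adj J).homEquiv _ _).injective
    rw [Adjunction.homEquiv_naturality_right, Adjunction.homEquiv_naturality_left,
      Equiv.apply_symm_apply, Equiv.apply_symm_apply]
    apply Sigma.hom_ext
    intro i
    change Sigma.ι _ i ≫ ψ ≫ φ.hom = Sigma.ι _ i ≫ d U S ≫ yonedaEquiv.symm g
    rw [← Category.assoc, ← Category.assoc, Sigma.ι_desc, Sigma.ι_desc,
      yonedaEquiv_symm_naturality_right, yonedaEquiv_symm_naturality_left, hx i]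
  refine ⟨yonedaEquiv ((adj J).unit.app (yoneda.obj U) ≫ (s ≫ ψ').hom), ?_⟩
  have h1 : (adj J).unit.app (yoneda.obj U) ≫ (s ≫ ψ').hom ≫ φ.hom = yonedaEquiv.symm g := by
    have h2 : (s ≫ ψ') ≫ φ = gt := by
      rw [Category.assoc, key, ← Category.assoc, hs, Category.id_comp]
    have h3 := congrArg (fun κ => (adj J).unit.app (yoneda.obj U) ≫ (sheafToPresheaf J _).map κ) h2
    have h4 : (adj J).unit.app (yoneda.obj U) ≫ (sheafToPresheaf J _).map gt = yonedaEquiv.symm g :=
      ((adj J).homEquiv_unit _ _ gt).symm.trans (Equiv.apply_symm_apply _ _)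
    exact (h3.trans h4)
  have h5 := congrArg yonedaEquiv h1
  rw [Equiv.apply_symm_apply, ← Category.assoc, yonedaEquiv_comp] at h5
  exact h5

theorem backward
    (hwc : ∀ (F G : Sheaf J (Type u)) (φ : F ⟶ G), Epi φ → Function.Surjective (φ.hom.app (op U)))
    (S : Sieve U) (hS : S ∈ J U) :
    IsSplitEpi ((presheafToSheaf J (Type u)).map (d U S)) := by
  have hloc : Sheaf.IsLocallySurjective ((presheafToSheaf J (Type u)).map (d U S)) := by
    have := isLocallySurjective_d J U S hS
    exact (Presheaf.isLocallySurjective_presheafToSheaf_map_iff J (d U S)).2 this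
  have hepi : Epi ((presheafToSheaf J (Type u)).map (d U S)) := inferInstance
  let e : ((presheafToSheaf J (Type u)).obj (yoneda.obj U)).obj.obj (op U) :=
    yonedaEquiv ((adj J).unit.app (yoneda.obj U))
  obtain ⟨t, ht⟩ := hwc _ _ _ hepi e
  refine ⟨⟨((adj J).homEquiv _ _).symm (yonedaEquiv.symm t), ?_⟩⟩
  apply ((adj J).homEquiv _ _).injective
  rw [Adjunction.homEquiv_naturality_right, Equiv.apply_symm_apply,
    yonedaEquiv_symm_naturality_right]
  change yonedaEquiv.symm (((presheafToSheaf J (Type u)).map (d U S)).hom.app (op U) t) = _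
  rw [ht, Adjunction.homEquiv_unit, CategoryTheory.Functor.map_id]
  exact (Equiv.symm_apply_apply yonedaEquiv _).trans (Category.comp_id _).symm

end Groth.Agent.Lib.helper10.WCtfae
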