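import Mathlib.Tactic
import Groth.Prelude.Def_AlgSt
import Groth.Agent.Lib.helper10.Yoneda2

/-!
# 2-Yoneda on morphisms, and local equality of morphisms in a prestack (helper10)
-/

set_option autoImplicit false
open CategoryTheory
universe v u
open FibCat

namespace Groth.Agent.Lib.helper10.Yoneda3

open Groth.Agent.Lib.helper10.Yoneda2 Groth.Agent.Lib.helper10.FiberFun

variable {C : Type u} [Category.{v} C] (U : C) {𝒳 : BasedCategory.{v, max u v} C} [𝒳.p.IsFibered]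

variable {a a' : 𝒳.p.Fiber U} (α : a ⟶ a')

instance lift_comp (o : Over U) : 𝒳.p.IsHomLift (𝟙 o.left ≫ o.hom) (pbMap U a o ≫ α.1) := by
  have h1 : 𝒳.p.IsHomLift o.hom (pbMap U a o) := inferInstance
  have h2 : 𝒳.p.IsHomLift (𝟙 U) α.1 := α.2
  have h3 : 𝒳.p.IsHomLift o.hom (pbMap U a o ≫ α.1) :=
    IsHomLift.comp_lift_id_right' 𝒳.p o.hom (pbMap U a o) U α.1
  rw [Category.id_comp]
  exact h3

/-- component of the natural transformation induced by a vertical morphism -/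
noncomputable def yoApp (o : Over U) : pbObj U a o ⟶ pbObj U a' o :=
  Functor.IsStronglyCartesian.map 𝒳.p o.hom (pbMap U a' o) (g := 𝟙 o.left) rfl (pbMap U a o ≫ α.1)

instance yoApp_lift (o : Over U) : 𝒳.p.IsHomLift (𝟙 o.left) (yoApp U α o) :=
  Functor.IsStronglyCartesian.map_isHomLift 𝒳.p o.hom (pbMap U a' o) (g := 𝟙 o.left) rfl
    (pbMap U a o ≫ α.1)

lemma yoApp_fac (o : Over U) : yoApp U α o ≫ pbMap U a' o = pbMap U a o ≫ α.1 :=
  Functor.IsStronglyCartesian.fac 𝒳.p o.hom (pbMap U a' o) (g := 𝟙 o.left) rfl (pbMap U a o ≫ α.1)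

lemma yoApp_naturality {o o' : Over U} (k : o ⟶ o') :
    pbHom U a k ≫ yoApp U α o' = yoApp U α o ≫ pbHom U a' k := by
  have h1 : 𝒳.p.IsHomLift k.left (pbHom U a k ≫ yoApp U α o') :=
    IsHomLift.comp_lift_id_right' 𝒳.p k.left (pbHom U a k) o'.left (yoApp U α o')
  have h2 : 𝒳.p.IsHomLift k.left (yoApp U α o ≫ pbHom U a' k) :=
    IsHomLift.comp_lift_id_left' 𝒳.p o.left (yoApp U α o) k.left (pbHom U a' k)
  apply Functor.IsStronglyCartesian.ext 𝒳.p o'.hom (pbMap U a' o') k.left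
  rw [Category.assoc, yoApp_fac, ← Category.assoc, pbHom_fac, Category.assoc, pbHom_fac, yoApp_fac]

/-- the 2-morphism `yo a ⟶ yo a'` induced by a morphism of the fibre -/
noncomputable def yoMap : yo U a ⟶ yo U a' where
  toNatTrans :=
    { app := fun o => yoApp U α o
      naturality := fun _ _ k => yoApp_naturality U α k }
  isHomLift' := fun o => yoApp_lift U α o

@[simp] lemma yoMap_app (o : Over U) : (yoMap U α).toNatTrans.app o = yoApp U α o := rfl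


omit [𝒳.p.IsFibered] in
/-- morphisms of a prestack which agree locally are equal (fibre version) -/
theorem local_eq_fiber [𝒳.p.IsFibered] (R : Sieve U) [(Stk.resSieve R 𝒳).Faithful] {a a' : 𝒳.p.Fiber U} (α β : a ⟶ a')
    (h : ∀ b : (Stk.sieveCat R).obj, pbMap U a b.obj ≫ α.1 = pbMap U a b.obj ≫ β.1) : α = β := by
  have key : (Stk.resSieve R 𝒳).map (yoMap U α) = (Stk.resSieve R 𝒳).map (yoMap U β) := by
    apply BasedNatTrans.homCategory.ext
    ext b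
    change yoApp U α b.obj = yoApp U β b.obj
    have h1 : 𝒳.p.IsHomLift (𝟙 b.obj.left) (yoApp U α b.obj) := yoApp_lift U α b.obj
    have h2 : 𝒳.p.IsHomLift (𝟙 b.obj.left) (yoApp U β b.obj) := yoApp_lift U β b.obj
    apply Functor.IsStronglyCartesian.ext 𝒳.p b.obj.hom (pbMap U a' b.obj) (𝟙 b.obj.left)
    rw [yoApp_fac, yoApp_fac]
    exact h b
  have key2 : yoMap U α = yoMap U β := (Stk.resSieve R 𝒳).map_injective key
  have key3 : yoApp U α (Over.mk (𝟙 U)) = yoApp U β (Over.mk (𝟙 U)) :=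
    congrArg (fun m => m.toNatTrans.app (Over.mk (𝟙 U))) key2
  have key4 : pbMap U a (Over.mk (𝟙 U)) ≫ α.1 = pbMap U a (Over.mk (𝟙 U)) ≫ β.1 := by
    rw [← yoApp_fac, ← yoApp_fac, key3]
  have hsc : 𝒳.p.IsStronglyCartesian (𝟙 U) (pbMap U a (Over.mk (𝟙 U))) :=
    pbMap_sc U a (Over.mk (𝟙 U))
  have hiso : IsIso (pbMap U a (Over.mk (𝟙 U))) :=
    Functor.IsStronglyCartesian.isIso_of_base_isIso 𝒳.p (𝟙 U) _
  apply Functor.Fiber.hom_ext
  exact (cancel_epi (pbMap U a (Over.mk (𝟙 U)))).1 key4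

omit [𝒳.p.IsFibered] in
/-- morphisms of a prestack which agree locally are equal -/
theorem local_eq [𝒳.p.IsFibered] (R : Sieve U) [(Stk.resSieve R 𝒳).Faithful] {t t' : 𝒳.obj} (α β : t ⟶ t')
    [hα : 𝒳.p.IsHomLift (𝟙 U) α] [hβ : 𝒳.p.IsHomLift (𝟙 U) β]
    (h : ∀ ⦃V : C⦄ (f : V ⟶ U), R f → ∀ (s : 𝒳.obj) (τ : s ⟶ t), 𝒳.p.IsHomLift f τ →
      τ ≫ α = τ ≫ β) : α = β := by
  let a : 𝒳.p.Fiber U := ⟨t, IsHomLift.domain_eq 𝒳.p (𝟙 U) α⟩
  let a' : 𝒳.p.Fiber U := ⟨t', IsHomLift.codomain_eq 𝒳.p (𝟙 U) α⟩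
  let α' : a ⟶ a' := ⟨α, hα⟩
  let β' : a ⟶ a' := ⟨β, hβ⟩
  have := local_eq_fiber U R α' β' (fun b => h b.obj.hom b.property _ (pbMap U a b.obj) inferInstance)
  exact congrArg (fun m => m.1) this

end Groth.Agent.Lib.helper10.Yoneda3
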